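import Cfsg.Agent.EqLemmas
import Mathlib

/-!
# Gorenstein-Walter, dihedral case: the arithmetic of the extraspecial case

Last step of section 5 (ii) of `notes/gw_dihedral_eight.md`, when no reflection centralises the rotation group
`M` (order `e`, and the rotation `σ` of order `2 ^ i` on `D/Z`): `X = 1 ± 2 ^ n p e T`, `n = s + i`, and
`Q = 2 ^ s T ± 1` and `(Q ± 1) / 2` divide the order of `G`.

* `extra_false` : the `PSL(2, Q)` case
* `extra_false_seven` : the `A7` case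
-/

set_option autoImplicit false

namespace Cfsg.Agent.GWDihedral.ExtraArith

/-- Two ways to write a number as a power of two times an odd one. -/
theorem two_pow_mul_inj {a b c d : ℕ} (hc : Odd c) (hd : Odd d) (h : 2 ^ a * c = 2 ^ b * d) :
    a = b ∧ c = d := by
  wlog hab : a ≤ b generalizing a b c d
  · exact (this hd hc h.symm (le_of_not_ge hab)).imp Eq.symm Eq.symm
  obtain ⟨k, rfl⟩ := Nat.exists_eq_add_of_le hab
  rw [pow_add, mul_assoc] at h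
  have h' := mul_left_cancel₀ (pow_ne_zero a two_ne_zero) h
  rcases k with _ | k
  · exact ⟨rfl, by simpa using h'⟩
  · obtain ⟨c', hc'⟩ := hc
    rw [pow_succ] at h'
    have : (2 ^ k * 2 * d) % 2 = 0 := by simp [Nat.mul_mod]
    omega

/-- `2 ^ s T + ε` against a multiple of it of the size of `2 ^ j p e ± 1`. -/
theorem main_step {s j p e T : ℕ} {ε η : ℤ} (hs : 2 ≤ s) (hp3 : 3 ≤ p) (hp : Odd p) (he : Odd e) (hT : Odd T)
    (hpT : p ∣ T) (hj : e * 2 ^ j ≤ p + 1) (hε : ε = 1 ∨ ε = -1) (hη : η = 1 ∨ η = -1)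
    (hdvd : (2 : ℤ) ^ s * T + ε ∣ 2 ^ j * ((p : ℤ) * e) + η) : j = s ∧ T = p * e ∧ η = ε := by
  obtain ⟨m, hm⟩ := hdvd
  have hT0 : p ≤ T := Nat.le_of_dvd hT.pos hpT
  have hQ : 4 * (p : ℤ) - 1 ≤ 2 ^ s * T + ε := by
    have h4 : (4 : ℤ) ≤ 2 ^ s := le_trans (by norm_num) (pow_le_pow_right₀ (by norm_num : (1 : ℤ) ≤ 2) hs)
    have h5 : (p : ℤ) ≤ T := by exact_mod_cast hT0
    have := mul_le_mul h4 h5 (by positivity) (by positivity)
    rcases hε with r | r <;> omega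
  have hP : (1 : ℤ) ≤ 2 ^ j * ((p : ℤ) * e) := by
    have h1 : 1 ≤ 2 ^ j * (p * e) := Nat.one_le_iff_ne_zero.2 (mul_ne_zero (pow_ne_zero _ two_ne_zero)
      (mul_ne_zero (by omega) he.pos.ne'))
    exact_mod_cast h1
  have hP' : 2 ^ j * ((p : ℤ) * e) ≤ (p : ℤ) * (p + 1) := by
    have h1 : (e : ℤ) * 2 ^ j ≤ p + 1 := by exact_mod_cast hj
    calc 2 ^ j * ((p : ℤ) * e) = (p : ℤ) * ((e : ℤ) * 2 ^ j) := by ring
      _ ≤ _ := mul_le_mul_of_nonneg_left h1 (by positivity)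
  have hP2 : (2 : ℤ) ≤ 2 ^ j * ((p : ℤ) * e) := by
    have h1 : (3 : ℤ) ≤ (p : ℤ) * e := by exact_mod_cast le_trans hp3 (Nat.le_mul_of_pos_right p he.pos)
    nlinarith [show (1 : ℤ) ≤ 2 ^ j from one_le_pow₀ (by norm_num)]
  have hp3' : (3 : ℤ) ≤ p := by exact_mod_cast hp3
  have hm0 : 1 ≤ m := by
    by_contra h
    have : (2 ^ s * (T : ℤ) + ε) * m ≤ 0 := mul_nonpos_of_nonneg_of_nonpos (by linarith) (by omega)
    rcases hη with r | r <;> omega
  have hmb : m ≤ (p : ℤ) - 2 := by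
    by_contra h
    have := mul_le_mul hQ (show (p : ℤ) - 1 ≤ m by omega) (by linarith) (by linarith)
    have hη1 : η ≤ 1 := by rcases hη with r | r <;> omega
    nlinarith
  have hdiv : (p : ℤ) ∣ m * ε - η := by
    obtain ⟨T', hT'⟩ := hpT
    refine ⟨2 ^ j * (e : ℤ) - 2 ^ s * T' * m, ?_⟩
    rw [hT'] at hm
    push_cast at hm
    linear_combination -hm
  have h0 : m * ε - η = 0 := Int.eq_zero_of_abs_lt_dvd hdiv (by
    rw [abs_lt]
    rcases hε with r | r <;> rcases hη with r' | r' <;> rw [r, r'] <;> constructor <;> linarith)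
  have hm1 : m = 1 ∧ η = ε := by
    rcases hε with r | r <;> rcases hη with r' | r' <;> rw [r, r'] at h0 ⊢ <;> omega
  obtain ⟨rfl, rfl⟩ := hm1
  have h : 2 ^ s * T = 2 ^ j * (p * e) := by
    have : (2 : ℤ) ^ s * T = 2 ^ j * ((p : ℤ) * e) := by linear_combination -hm
    exact_mod_cast this
  obtain ⟨rfl, rfl⟩ := two_pow_mul_inj hT (hp.mul he) h
  exact ⟨rfl, rfl, rfl⟩

/-- The second congruence for `i = 0`. -/
theorem not_dvd_two {s p e T : ℕ} {ε η : ℤ} (hs : 2 ≤ s) (hp3 : 3 ≤ p) (he : Odd e) (hp : Odd p) (hT : Odd T)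
    (hpT : p ∣ T) (he2 : 2 * e ≤ p + 1) (hε : ε = 1 ∨ ε = -1) (hη : η = 2 ∨ η = -2) :
    ¬ (2 : ℤ) ^ s * T + ε ∣ (p : ℤ) * e + η := by
  rintro ⟨m, hm⟩
  have hQ : 4 * (p : ℤ) - 1 ≤ 2 ^ s * T + ε := by
    have h4 : (4 : ℤ) ≤ 2 ^ s := le_trans (by norm_num) (pow_le_pow_right₀ (by norm_num : (1 : ℤ) ≤ 2) hs)
    have h5 : (p : ℤ) ≤ T := by exact_mod_cast Nat.le_of_dvd hT.pos hpT
    have := mul_le_mul h4 h5 (by positivity) (by positivity)
    rcases hε with r | r <;> omega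
  have hp3' : (3 : ℤ) ≤ p := by exact_mod_cast hp3
  have he1 : (1 : ℤ) ≤ e := by exact_mod_cast he.pos
  have he2' : 2 * (e : ℤ) ≤ p + 1 := by exact_mod_cast he2
  have hodd : Odd m := by
    have h1 : Odd ((p : ℤ) * e + η) := by
      refine Odd.add_even ((Int.odd_coe_nat p).2 hp |>.mul ((Int.odd_coe_nat e).2 he)) ?_
      rcases hη with r | r <;> rw [r] <;> decide
    rw [hm] at h1
    exact (Int.odd_mul.1 h1).2
  have hm0 : 1 ≤ m := by
    by_contra h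
    have : (2 ^ s * (T : ℤ) + ε) * m ≤ 0 := mul_nonpos_of_nonneg_of_nonpos (by linarith) (by omega)
    rcases hη with r | r <;> nlinarith
  have hη1 : η ≤ 2 := by rcases hη with r | r <;> omega
  have hP : (p : ℤ) * e ≤ (p : ℤ) * (p + 1) / 2 := by
    rw [Int.le_ediv_iff_mul_le two_pos]
    nlinarith
  have hP' : 2 * ((p : ℤ) * (p + 1) / 2) ≤ (p : ℤ) * (p + 1) := by omega
  have hmb : m + 2 < p := by
    by_contra h
    rcases (show (p : ℤ) = 3 ∨ (p : ℤ) = 4 ∨ 5 ≤ (p : ℤ) by omega) with r | r | r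
    · have := mul_le_mul hQ hm0 zero_le_one (by linarith)
      rw [r] at this hP hP' hm
      norm_num at hP
      omega
    · have : p = 4 := by exact_mod_cast r
      exact absurd hp (by rw [this]; decide)
    · have := mul_le_mul hQ (show (p : ℤ) - 2 ≤ m by omega) (by linarith) (by linarith)
      nlinarith
  have hdiv : (p : ℤ) ∣ m * ε - η := by
    obtain ⟨T', hT'⟩ := hpT
    refine ⟨(e : ℤ) - 2 ^ s * T' * m, ?_⟩
    rw [hT'] at hm
    push_cast at hm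
    linear_combination -hm
  have h0 : m * ε - η = 0 := Int.eq_zero_of_abs_lt_dvd hdiv (by
    rw [abs_lt]
    rcases hε with r | r <;> rcases hη with r' | r' <;> rw [r, r'] <;> constructor <;> linarith)
  obtain ⟨k, rfl⟩ := hodd
  rcases hε with r | r <;> rcases hη with r' | r' <;> rw [r, r'] at h0 <;> omega

theorem coprime_of_dvd_sub_unit {Q a : ℤ} {ε : ℤ} (hε : ε = 1 ∨ ε = -1) (h : a ∣ Q - ε) : IsCoprime Q a := by
  obtain ⟨c, hc⟩ := h
  rcases hε with r | r <;> rw [r] at hc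
  · exact ⟨1, -c, by linear_combination hc⟩
  · exact ⟨-1, c, by linear_combination -hc⟩

/-- The prime power `Q` divides `X (X + 1)`, and so one of `1 + 2 c`, `1 + c`, `X = 1 + 2 c`. -/
theorem prime_power_dvd {Q e : ℕ} {c : ℤ} (hQp : IsPrimePow Q) (hQo : Odd Q) (heQ : e < Q) (he0 : 0 < e)
    (hec : (e : ℤ) ∣ c) (h : (Q : ℤ) ∣ e * ((1 + 2 * c) * (1 + c))) :
    (Q : ℤ) ∣ 1 + 2 * c ∨ (Q : ℤ) ∣ 1 + c := by
  obtain ⟨l, k, hl, hk, rfl⟩ := hQp
  have hl' := Nat.prime_iff.2 hl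
  have hP : Prime (l : ℤ) := Nat.prime_iff_prime_int.1 hl'
  have hcop : ¬ ((l : ℤ) ∣ 1 + 2 * c ∧ (l : ℤ) ∣ 1 + c) := by
    rintro ⟨h1, h2⟩
    have h3 := dvd_sub (h2.mul_left 2) h1
    rw [show 2 * (1 + c) - (1 + 2 * c) = (1 : ℤ) by ring] at h3
    exact hP.not_dvd_one h3
  by_cases hle : (l : ℤ) ∣ (e : ℤ)
  · exfalso
    have hlc : (l : ℤ) ∣ c := hle.trans hec
    have h1 : ¬ (l : ℤ) ∣ (1 + 2 * c) * (1 + c) := fun h' => by
      rcases hP.dvd_or_dvd h' with h' | h'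
      · exact hP.not_dvd_one (by simpa using dvd_sub h' (hlc.mul_left 2))
      · exact hP.not_dvd_one (by simpa using dvd_sub h' hlc)
    have h2 : ((l : ℤ) ^ k) ∣ (e : ℤ) := hP.pow_dvd_of_dvd_mul_right k h1 (by exact_mod_cast h)
    have h3 : l ^ k ∣ e := by exact_mod_cast h2
    exact absurd (Nat.le_of_dvd he0 h3) (by omega)
  · have h2 : ((l : ℤ) ^ k) ∣ (1 + 2 * c) * (1 + c) := hP.pow_dvd_of_dvd_mul_left k hle (by exact_mod_cast h)
    push_cast
    by_cases h1 : (l : ℤ) ∣ 1 + c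
    · exact Or.inr (hP.pow_dvd_of_dvd_mul_left k (fun h' => hcop ⟨h', h1⟩) h2)
    · exact Or.inl (hP.pow_dvd_of_dvd_mul_right k h1 h2)

/-- The last bullet of section 5 (ii), `PSL(2, Q)` case. -/
theorem extra_false {n s i p e T Q : ℕ} {X δ ε : ℤ} (hs : 2 ≤ s) (hn : s + i = n) (hp3 : 3 ≤ p) (hp : Odd p)
    (he : Odd e) (hT : Odd T) (hpT : p ∣ T) (hrot : e * 2 ^ i ∣ p + 1 ∨ e * 2 ^ i ∣ p - 1)
    (hδ : δ = 1 ∨ δ = -1) (hX : X = 1 + δ * 2 ^ n * ((p : ℤ) * e * T))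
    (hε : ε = 1 ∨ ε = -1) (hQ : (Q : ℤ) = 2 ^ s * T + ε) (hQp : IsPrimePow Q)
    (hQG : (Q : ℤ) ∣ 2 ^ n * ((p : ℤ) ^ 2 * e * T * (X * (X + 1))))
    (hRG : 2 ^ (s - 1) * (T : ℤ) + ε ∣ 2 ^ n * ((p : ℤ) ^ 2 * e * T * (X * (X + 1)))) : False := by
  have hrot' : e * 2 ^ i ≤ p + 1 := by
    rcases hrot with h | h
    · exact Nat.le_of_dvd (by omega) h
    · exact (Nat.le_of_dvd (by omega) h).trans (by omega)
  have h2 : IsCoprime (Q : ℤ) 2 := coprime_of_dvd_sub_unit hε ⟨2 ^ (s - 1) * T, by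
    rw [hQ, show s = s - 1 + 1 by omega, pow_succ, show s - 1 + 1 - 1 = s - 1 by omega]; ring⟩
  have hQT : IsCoprime (Q : ℤ) T := coprime_of_dvd_sub_unit hε ⟨2 ^ s, by rw [hQ]; ring⟩
  have hQP : IsCoprime (Q : ℤ) p := hQT.of_isCoprime_of_dvd_right (Int.natCast_dvd_natCast.2 hpT)
  have hQo : Odd Q := Nat.not_even_iff_odd.1 fun he' => by
    have h' : IsCoprime (2 : ℤ) 2 := h2.of_isCoprime_of_dvd_left (by exact_mod_cast even_iff_two_dvd.1 he')
    rw [isCoprime_self, Int.isUnit_iff] at h'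
    omega
  have heQ : e < Q := by
    have h4 : 4 * p ≤ 2 ^ s * T := Nat.mul_le_mul (le_trans (by norm_num) (Nat.pow_le_pow_right two_pos hs))
      (Nat.le_of_dvd hT.pos hpT)
    have h4' : 4 * (p : ℤ) ≤ 2 ^ s * T := by exact_mod_cast h4
    have he' : e ≤ p + 1 := (Nat.le_mul_of_pos_right e (by positivity)).trans hrot'
    rcases hε with r | r <;> omega
  set c := δ * 2 ^ (n - 1) * ((p : ℤ) * e * T) with hc
  have hXc : X = 1 + 2 * c := by
    rw [hX, hc, show n = n - 1 + 1 by omega, pow_succ, show n - 1 + 1 - 1 = n - 1 by omega]; ring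
  have hQd : (Q : ℤ) ∣ (e : ℤ) * ((1 + 2 * c) * (1 + c)) := by
    rw [show 2 ^ n * ((p : ℤ) ^ 2 * e * T * (X * (X + 1)))
      = (2 ^ (n + 1) * (p : ℤ) ^ 2 * T) * ((e : ℤ) * ((1 + 2 * c) * (1 + c))) by rw [hXc, pow_succ]; ring] at hQG
    exact ((h2.pow_right.mul_right hQP.pow_right).mul_right hQT).dvd_of_dvd_mul_left hQG
  have hcases := prime_power_dvd hQp hQo heQ he.pos ⟨δ * 2 ^ (n - 1) * ((p : ℤ) * T), by rw [hc]; ring⟩ hQd
  have hmul : ∀ x : ℤ, (Q : ℤ) ∣ x → (2 : ℤ) ^ s * T + ε ∣ x := fun x hx => hQ ▸ hx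
  have hδε : δ * ε = 1 ∨ δ * ε = -1 := by
    rcases hδ with r | r <;> rcases hε with r' | r' <;> simp [r, r']
  have hdd : δ * δ = 1 ∧ ε * ε = 1 := by
    constructor <;> [rcases hδ with r | r; rcases hε with r | r] <;> simp [r]
  -- `j` is `i` or `i - 1`, and `δ = -1`
  obtain ⟨j, hjs, hTpe, hδ1, hin⟩ : ∃ j, j = s ∧ T = p * e ∧ δ = -1 ∧ (i = j ∨ i = j + 1) := by
    have key : ∀ j η, e * 2 ^ j ≤ p + 1 → η = -(δ * ε) → (Q : ℤ) ∣ 2 ^ j * ((p : ℤ) * e) + η →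
        j = s ∧ T = p * e ∧ δ = -1 := by
      intro j η hj hη h
      obtain ⟨e1, e2, e3⟩ := main_step (η := η) hs hp3 hp he hT hpT hj hε
        (by rcases hδε with r | r <;> rw [hη, r] <;> simp) (hmul _ h)
      refine ⟨e1, e2, ?_⟩
      rw [hη] at e3
      linear_combination (-ε) * e3 - (δ + 1) * hdd.2
    rcases hcases with h | h
    · refine ⟨i, ?_⟩
      obtain ⟨e1, e2, e3⟩ := key i (-(δ * ε)) hrot' rfl (by
        have h' : (Q : ℤ) ∣ 2 ^ i * ((p : ℤ) * e) * (Q : ℤ) := dvd_mul_left _ _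
        have hh := (dvd_sub (h'.mul_left δ) h).mul_left (δ * ε)
        refine hh.trans (dvd_of_eq ?_)
        rw [← hXc, hX, hQ, ← hn, pow_add]
        linear_combination (2 : ℤ) ^ i * ((p : ℤ) * e) * δ * δ * hdd.2 + 2 ^ i * ((p : ℤ) * e) * hdd.1)
      exact ⟨e1, e2, e3, Or.inl rfl⟩
    · rcases Nat.eq_zero_or_pos i with rfl | hi
      · exfalso
        have he2 : 2 * e ≤ p + 1 := by
          obtain ⟨k, hk⟩ := hp
          have hev : ∀ q, 0 < q → 2 ∣ q → e * 2 ^ 0 ∣ q → 2 * e ≤ q := fun q h0 h2' h3 =>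
            Nat.le_of_dvd h0 (Nat.Coprime.mul_dvd_of_dvd_of_dvd (Nat.coprime_two_left.2 he) h2' (by simpa using h3))
          rcases hrot with h | h
          · exact hev _ (by omega) (by omega) h
          · exact (hev _ (by omega) (by omega) h).trans (by omega)
        refine not_dvd_two (η := -(2 * (δ * ε))) hs hp3 he hp hT hpT he2 hε
          (by rcases hδε with r | r <;> rw [r] <;> simp) (hmul _ ?_)
        have h' : (Q : ℤ) ∣ (p : ℤ) * e * (Q : ℤ) := dvd_mul_left _ _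
        have hh := (dvd_sub (h'.mul_left δ) (h.mul_left 2)).mul_left (δ * ε)
        refine hh.trans (dvd_of_eq ?_)
        have hX2 : 2 * (1 + c) = 1 + X := by rw [hXc]; ring
        rw [hX2, hX, hQ, ← hn, pow_add]
        linear_combination (p : ℤ) * e * δ * δ * hdd.2 + (p : ℤ) * e * hdd.1
      refine ⟨i - 1, ?_⟩
      obtain ⟨e1, e2, e3⟩ := key (i - 1) (-(δ * ε))
        ((Nat.mul_le_mul_left e (Nat.pow_le_pow_right two_pos (Nat.sub_le i 1))).trans hrot') rfl (by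
        have h' : (Q : ℤ) ∣ 2 ^ (i - 1) * ((p : ℤ) * e) * (Q : ℤ) := dvd_mul_left _ _
        have hh := (dvd_sub (h'.mul_left δ) h).mul_left (δ * ε)
        refine hh.trans (dvd_of_eq ?_)
        rw [hc, hQ, show n - 1 = s + (i - 1) by omega, pow_add]
        linear_combination (2 : ℤ) ^ (i - 1) * ((p : ℤ) * e) * δ * δ * hdd.2 +
          2 ^ (i - 1) * ((p : ℤ) * e) * hdd.1)
      exact ⟨e1, e2, e3, Or.inr (by omega)⟩
  subst hjs
  subst hδ1
  subst hTpe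
  push_cast at hX hRG
  set w := (2 : ℤ) ^ (j - 1) * ((p : ℤ) * e) with hw
  have hw2 : w * 2 = 2 ^ j * ((p : ℤ) * e) := by
    rw [hw, show j = j - 1 + 1 by omega, pow_succ, show j - 1 + 1 - 1 = j - 1 by omega]; ring
  -- `R = w + ε` is odd and prime to `p e`
  have hR2 : IsCoprime (w + ε) 2 := coprime_of_dvd_sub_unit hε ⟨2 ^ (j - 2) * ((p : ℤ) * e), by
    rw [hw, show j - 1 = j - 2 + 1 by omega, pow_succ]; ring⟩
  have hRpe : IsCoprime (w + ε) ((p : ℤ) * e) := coprime_of_dvd_sub_unit hε ⟨2 ^ (j - 1), by rw [hw]; ring⟩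
  have hRX : w + ε ∣ X * (X + 1) := by
    rw [show 2 ^ n * ((p : ℤ) ^ 2 * e * ((p : ℤ) * e) * (X * (X + 1)))
      = (2 ^ n * (p : ℤ) * ((p : ℤ) * e) ^ 2) * (X * (X + 1)) by ring] at hRG
    exact ((hR2.pow_right.mul_right hRpe.of_mul_right_left).mul_right hRpe.pow_right).dvd_of_dvd_mul_left hRG
  have hR5 : 5 ≤ w + ε := by
    have h1 : (2 : ℤ) ≤ 2 ^ (j - 1) := le_self_pow₀ (by norm_num) (by omega)
    have h2 : (3 : ℤ) ≤ (p : ℤ) * e := by exact_mod_cast le_trans hp3 (Nat.le_mul_of_pos_right p he.pos)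
    have h3 : 6 ≤ w := by rw [hw]; nlinarith
    rcases hε with r | r <;> omega
  -- a small number that `R` divides
  have reduce : ∀ c₀ : ℤ, w + ε ∣ (1 - 4 * c₀ * w ^ 2) * (2 - 4 * c₀ * w ^ 2) →
      w + ε ∣ (1 - 4 * c₀) * (2 - 4 * c₀) := by
    intro c₀ h
    have h1 : w + ε ∣ (w + ε) * ((w - ε) * (4 * c₀) * (3 - 4 * c₀ * (w ^ 2 + 1))) := dvd_mul_right _ _
    refine (dvd_add h h1).trans (dvd_of_eq ?_)
    linear_combination -(4 * c₀ * (3 - 4 * c₀ * (w ^ 2 + 1))) * hdd.2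
  have hodd : ∀ x : ℤ, w + ε ∣ 2 * x → w + ε ∣ x := fun x hx => hR2.dvd_of_dvd_mul_left hx
  rcases hin with rfl | rfl
  · -- `n = 2 j`: `R ∣ 3`
    have h6 : w + ε ∣ (1 - 4 * 1) * (2 - 4 * 1) := reduce 1 (hRX.trans (dvd_of_eq (show
      X * (X + 1) = (1 - 4 * 1 * w ^ 2) * (2 - 4 * 1 * w ^ 2) by
      rw [hX, ← hn, pow_add]; linear_combination
        (3 - 4 * w ^ 2 - 2 ^ i * 2 ^ i * ((p : ℤ) * e) * ((p : ℤ) * e)) * (w * 2 + 2 ^ i * ((p : ℤ) * e)) * hw2)))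
    norm_num at h6
    have := Int.le_of_dvd (by norm_num) (hodd 3 h6)
    omega
  · -- `n = 2 j + 1`: `R ∣ 21`
    have h42 : w + ε ∣ (1 - 4 * 2) * (2 - 4 * 2) := reduce 2 (hRX.trans (dvd_of_eq (show
      X * (X + 1) = (1 - 4 * 2 * w ^ 2) * (2 - 4 * 2 * w ^ 2) by
      rw [hX, ← hn, pow_add, pow_succ]; linear_combination
        (2 * (3 - 8 * w ^ 2 - 2 * 2 ^ j * 2 ^ j * ((p : ℤ) * e) * ((p : ℤ) * e))) *
          (w * 2 + 2 ^ j * ((p : ℤ) * e)) * hw2)))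
    norm_num at h42
    have h21 := hodd 21 h42
    have hle := Int.le_of_dvd (by norm_num) h21
    have hwe : w + ε = 7 ∨ w + ε = 21 := by
      obtain ⟨d, hd⟩ := h21
      interval_cases hv : (w + ε) <;> omega
    have hwval : w = 6 ∨ w = 8 ∨ w = 20 ∨ w = 22 := by rcases hε with r | r <;> rcases hwe with r' | r' <;> omega
    have hw' : w = ((2 ^ (j - 1) * (p * e) : ℕ) : ℤ) := by rw [hw]; push_cast; ring
    have hwn : 2 ^ (j - 1) * (p * e) = 2 ^ 1 * 3 ∨ 2 ^ (j - 1) * (p * e) = 2 ^ 3 * 1 ∨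
        2 ^ (j - 1) * (p * e) = 2 ^ 2 * 5 ∨ 2 ^ (j - 1) * (p * e) = 2 ^ 1 * 11 := by
      rw [hw'] at hwval
      generalize 2 ^ (j - 1) * (p * e) = v at hwval ⊢
      omega
    have hpeo := hp.mul he
    have hpe3 : 3 ≤ p * e := le_trans hp3 (Nat.le_mul_of_pos_right p he.pos)
    have he1 : ∀ q, q.Prime → p * e = q → p = q ∧ e = 1 := fun q hq h => by
      rcases (Nat.dvd_prime hq).1 (Dvd.intro e h) with r | r
      · omega
      · subst r
        exact ⟨rfl, (Nat.mul_eq_left (by omega)).1 h⟩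
    rcases hwn with r | r | r | r <;> obtain ⟨ej, epe⟩ := two_pow_mul_inj hpeo (by decide) r
    · obtain ⟨rfl, rfl⟩ := he1 3 (by norm_num) epe
      obtain rfl : j = 2 := by omega
      norm_num at hrot
    · omega
    · obtain ⟨rfl, rfl⟩ := he1 5 (by norm_num) epe
      obtain rfl : j = 3 := by omega
      norm_num at hrot
    · obtain ⟨rfl, rfl⟩ := he1 11 (by norm_num) epe
      obtain rfl : j = 2 := by omega
      norm_num at hrot

/-- The last bullet of section 5 (ii) when the centraliser of `y` involves `A7` (`p = T = 3`, `s = 3`). -/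
theorem extra_false_seven {n i e : ℕ} {X δ : ℤ} (hn : i + 3 = n) (hi : 1 ≤ i) (he : Odd e)
    (hrot : e * 2 ^ i ∣ 4 ∨ e * 2 ^ i ∣ 2) (hδ : δ = 1 ∨ δ = -1) (hX : X = 1 + δ * 2 ^ n * (3 * (e : ℤ) * 3))
    (h5 : (5 : ℤ) ∣ 2 ^ n * (3 ^ 2 * (e : ℤ) * 3 * (X * (X + 1))))
    (h7 : (7 : ℤ) ∣ 2 ^ n * (3 ^ 2 * (e : ℤ) * 3 * (X * (X + 1)))) : False := by
  have h4 : e * 2 ^ i ∣ 4 := hrot.elim id fun h => h.trans (by norm_num)
  have hle := Nat.le_of_dvd (by norm_num) h4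
  have hi2 : i ≤ 2 := by
    by_contra h
    have : 8 ≤ 2 ^ i := le_trans (by norm_num) (Nat.pow_le_pow_right two_pos (show 3 ≤ i by omega))
    have := Nat.le_mul_of_pos_left (2 ^ i) he.pos
    omega
  have he2 : e ≤ 2 := by
    have := Nat.le_mul_of_pos_right e (show 0 < 2 ^ 1 by norm_num)
    have := Nat.mul_le_mul_left e (Nat.pow_le_pow_right two_pos hi)
    omega
  obtain rfl : e = 1 := by obtain ⟨k, rfl⟩ := he; omega
  subst hn
  subst hX
  interval_cases i <;> rcases hδ with rfl | rfl <;>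
    first | (norm_num at h5; done) | norm_num at h7

end Cfsg.Agent.GWDihedral.ExtraArith
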