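import Cfsg.Agent.Lib.Solvable.Fitting
import Cfsg.Agent.Lib.Solvable.PiSeparable
import Cfsg.Agent.Lib.Transfer.Criteria
import Cfsg.Agent.Lib.Coprime.Basic
import Cfsg.Agent.Lib.Coprime.Invariant
import Cfsg.Agent.S0205
import Mathlib.GroupTheory.FiniteAbelian.Duality

/-!
# Involutions of groups of odd order with nearly central fixed points

`φ` is an involutory automorphism of a group `W` of odd order fixing some `c ≠ 1`, and for each fixed `c ≠ 1`
the inverted elements of `C(c)` are at most three (`1` and a pair of order `3`). Then `W` is not generated by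
inverted elements, so it has a non-trivial `φ`-invariant linear character.

* `InvolAut`, `InvolAut.exists_decomp` : fixed times inverted
* `central_of_minimal` : a minimal invariant normal subgroup with at most three inverted elements is central
  when `W` is generated by inverted elements
* `exists_invariant_linear_character`

Used for section 3 of `notes/gw_dihedral_eight.md`.
-/

set_option autoImplicit false
set_option linter.style.haveILetI false

namespace Cfsg.Agent.GWDihedral.Fixed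

open Subgroup

universe u

variable {W : Type u} [Group W] [Finite W]

/-- An involutory automorphism of a group of odd order. -/
structure InvolAut (φ : W ≃* W) : Prop where
  sq : ∀ x, φ (φ x) = x
  odd : Odd (Nat.card W)

/-- The inverted elements. -/
def Inv (φ : W ≃* W) (e : W) : Prop := φ e = e⁻¹

variable {φ : W ≃* W}

theorem InvolAut.exists_sqrt (h : InvolAut φ) (e : W) : ∃ f ∈ zpowers e, f * f = e := by
  obtain ⟨k, hk⟩ := h.odd.of_dvd_nat (orderOf_dvd_natCard e)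
  refine ⟨e ^ (k + 1), pow_mem (mem_zpowers e) _, ?_⟩
  rw [← pow_add, show k + 1 + (k + 1) = orderOf e + 1 by omega, pow_succ, pow_orderOf_eq_one, one_mul]

omit [Finite W] in
theorem inv_of_mem_zpowers {e f : W} (he : Inv φ e) (hf : f ∈ zpowers e) : Inv φ f := by
  obtain ⟨i, rfl⟩ := mem_zpowers_iff.1 hf
  rw [Inv, map_zpow, he, inv_zpow]

omit [Finite W] in
theorem inv_diff (h2 : ∀ x, φ (φ x) = x) (g : W) : Inv φ (g⁻¹ * φ g) := by
  rw [Inv, map_mul, map_inv, h2, mul_inv_rev, inv_inv]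

theorem InvolAut.eq_one_of_inverted_eq (h : InvolAut φ) {x : W} (hx : x = x⁻¹) : x = 1 :=
  orderOf_eq_one_iff.1 (Nat.eq_one_of_dvd_coprimes
    (Nat.coprime_two_right.2 (h.odd.of_dvd_nat (orderOf_dvd_natCard x))) dvd_rfl
    (orderOf_dvd_of_pow_eq_one (by rw [pow_two]; nth_rewrite 1 [hx]; exact inv_mul_cancel x)))

theorem InvolAut.commute_of_sq (h : InvolAut φ) {e u : W} (hc : Commute (e * e) u) : Commute e u := by
  obtain ⟨k, hk⟩ := h.odd.of_dvd_nat (orderOf_dvd_natCard e)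
  have : e = (e * e) ^ (k + 1) := by
    rw [← pow_two, ← pow_mul, show 2 * (k + 1) = orderOf e + 1 by omega, pow_succ, pow_orderOf_eq_one, one_mul]
  rw [this]
  exact hc.pow_left _

/-- Fixed times inverted, the inverted factor a power of `g⁻¹ φ g`. -/
theorem InvolAut.exists_decomp (h : InvolAut φ) (g : W) :
    ∃ c e, φ c = c ∧ Inv φ e ∧ e ∈ zpowers (g⁻¹ * φ g) ∧ g = c * e := by
  obtain ⟨f, hf, hff⟩ := h.exists_sqrt (g⁻¹ * φ g)
  have hfi := inv_of_mem_zpowers (inv_diff h.sq g) hf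
  refine ⟨g * f, f⁻¹, ?_, inv_of_mem_zpowers (inv_diff h.sq g) (inv_mem hf), inv_mem hf, by group⟩
  rw [map_mul, show φ g = g * (f * f) by rw [hff, mul_inv_cancel_left], hfi]
  group

/-- Conjugation by an inverted element fixing the elements of a set fixed by `φ`. -/
theorem InvolAut.commute_of_fixed (h : InvolAut φ) {e v : W} (he : Inv φ e) (hv : φ v = v)
    (hv' : φ (e * v * e⁻¹) = e * v * e⁻¹) : Commute e v := by
  rw [map_mul, map_mul, map_inv, he, hv, inv_inv] at hv'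
  refine h.commute_of_sq ?_
  show e * e * v = v * (e * e)
  calc e * e * v = e * (e * v * e⁻¹) * e := by group
    _ = e * (e⁻¹ * v * e) * e := by rw [hv']
    _ = v * (e * e) := by group

section Quotient

variable {N : Subgroup W} [N.Normal]

/-- The automorphism induced on a quotient. -/
noncomputable def quotAut (φ : W ≃* W) (N : Subgroup W) [N.Normal] (hN : N.map φ.toMonoidHom = N) :
    W ⧸ N ≃* W ⧸ N :=
  QuotientGroup.congr N N φ hN

theorem InvolAut.quotient (h : InvolAut φ) (hN : N.map φ.toMonoidHom = N) : InvolAut (quotAut φ N hN) where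
  sq := fun x => by
    obtain ⟨g, rfl⟩ := QuotientGroup.mk_surjective x
    show ((φ (φ g) : W) : W ⧸ N) = g
    rw [h.sq]
  odd := h.odd.of_dvd_nat N.card_quotient_dvd_card

/-- Fixed and inverted elements of a quotient lift. -/
theorem InvolAut.exists_lift (h : InvolAut φ) (hN : N.map φ.toMonoidHom = N) (g : W ⧸ N) :
    (quotAut φ N hN g = g → ∃ c, φ c = c ∧ (c : W ⧸ N) = g) ∧
      (Inv (quotAut φ N hN) g → ∃ e, Inv φ e ∧ (e : W ⧸ N) = g) := by
  obtain ⟨x, rfl⟩ := QuotientGroup.mk_surjective g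
  obtain ⟨c, e, hc, he, -, rfl⟩ := h.exists_decomp x
  refine ⟨fun hg => ⟨c, hc, ?_⟩, fun hg => ⟨e, he, ?_⟩⟩
  · have h1 : ((φ (c * e) : W) : W ⧸ N) = ((c * e : W) : W ⧸ N) := hg
    rw [map_mul, hc, he, QuotientGroup.mk_mul, QuotientGroup.mk_mul, mul_right_inj, QuotientGroup.mk_inv] at h1
    rw [QuotientGroup.mk_mul, (h.quotient hN).eq_one_of_inverted_eq h1.symm, mul_one]
  · have h1 : ((φ (c * e) : W) : W ⧸ N) = ((c * e : W) : W ⧸ N)⁻¹ := hg
    rw [map_mul, hc, he, QuotientGroup.mk_mul, QuotientGroup.mk_mul, QuotientGroup.mk_inv, mul_inv_rev] at h1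
    set C : W ⧸ N := (c : W ⧸ N)
    set E' : W ⧸ N := (e : W ⧸ N)
    have h2 : E' * C * E'⁻¹ = C⁻¹ := by
      calc E' * C * E'⁻¹ = E' * (C * E'⁻¹) := mul_assoc _ _ _
        _ = E' * (E'⁻¹ * C⁻¹) := by rw [h1]
        _ = C⁻¹ := by group
    have h3 : Commute E' C := (h.quotient hN).commute_of_sq (by
      show E' * E' * C = C * (E' * E')
      calc E' * E' * C = E' * (E' * C * E'⁻¹) * E' := by group
        _ = E' * C⁻¹ * E' := by rw [h2]
        _ = E' * C⁻¹ * E'⁻¹ * (E' * E') := by group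
        _ = (E' * C * E'⁻¹)⁻¹ * (E' * E') := by group
        _ = C * (E' * E') := by rw [h2, inv_inv])
    have h4 : C = C⁻¹ := by
      conv_lhs => rw [← mul_inv_cancel_right C E', ← h3.eq, h2]
    rw [QuotientGroup.mk_mul, show (c : W ⧸ N) = 1 from (h.quotient hN).eq_one_of_inverted_eq h4, one_mul]

end Quotient

/-- A subgroup invariant under the involution is mapped onto itself. -/
theorem InvolAut.map_eq (h : InvolAut φ) {N : Subgroup W} (hN : ∀ x ∈ N, φ x ∈ N) :
    N.map φ.toMonoidHom = N := by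
  refine le_antisymm (Subgroup.map_le_iff_le_comap.2 hN) fun x hx => ⟨φ x, hN x hx, h.sq x⟩

/-- `X` is a minimal `φ`-invariant normal subgroup. -/
structure Minimal (φ : W ≃* W) (X : Subgroup W) : Prop where
  normal : X.Normal
  inv : ∀ x ∈ X, φ x ∈ X
  ne_bot : X ≠ ⊥
  min : ∀ N : Subgroup W, N.Normal → (∀ x ∈ N, φ x ∈ N) → N ≤ X → N = ⊥ ∨ N = X

theorem exists_minimal {N : Subgroup W} (hN : N.Normal) (hNi : ∀ x ∈ N, φ x ∈ N) (hne : N ≠ ⊥) :
    ∃ X ≤ N, Minimal φ X := by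
  obtain ⟨X, ⟨hX, hXi, hXN, hX1⟩, hmin⟩ := Set.exists_min_image
    {X : Subgroup W | X.Normal ∧ (∀ x ∈ X, φ x ∈ X) ∧ X ≤ N ∧ X ≠ ⊥} (fun X : Subgroup W => Nat.card X)
    (Set.toFinite _) ⟨N, hN, hNi, le_rfl, hne⟩
  refine ⟨X, hXN, hX, hXi, hX1, fun M hM hMi hMX => ?_⟩
  by_cases hM1 : M = ⊥
  · exact Or.inl hM1
  · exact Or.inr (eq_of_le_of_card_ge hMX (hmin M ⟨hM, hMi, hMX.trans hXN, hM1⟩))

theorem Minimal.commute {X : Subgroup W} (hX : Minimal φ X) (h : InvolAut φ) :
    ∀ a ∈ X, ∀ b ∈ X, Commute a b := by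
  haveI := hX.normal
  haveI : Group.IsSolvable X := S0205.result (h.odd.of_dvd_nat (card_subgroup_dvd_card X))
  rcases hX.min ⁅X, X⁆ inferInstance (fun x hx => by
      have h1 : φ x ∈ (⁅X, X⁆ : Subgroup W).map φ.toMonoidHom := mem_map_of_mem _ hx
      rwa [map_commutator, h.map_eq hX.inv] at h1)
      (Subgroup.commutator_le_right X X) with e | e
  · intro a ha b hb
    exact commutatorElement_eq_one_iff_mul_comm.1 (mem_bot.1 (e ▸ Subgroup.commutator_mem_commutator ha hb))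
  · exfalso
    haveI : Nontrivial X := (Subgroup.nontrivial_iff_ne_bot X).2 hX.ne_bot
    refine (Group.IsSolvable.commutator_lt_top_of_nontrivial X).ne (map_injective X.subtype_injective ?_)
    rw [Subgroup.map_subtype_commutator, e, ← MonoidHom.range_eq_map, range_subtype]

/-- At most three inverted elements: `1` and a pair of elements of order three. -/
def Small (φ : W ≃* W) (S : Set W) : Prop :=
  ∀ e ∈ S, Inv φ e → e ≠ 1 → e ^ 3 = 1 ∧ ∀ e' ∈ S, Inv φ e' → e' ∈ zpowers e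

/-- An inverted element of prime power order `q ^ i`, `q ≥ 5`, centralises an abelian invariant normal
subgroup with at most three inverted elements. -/
theorem InvolAut.commute_of_small (h : InvolAut φ) {X : Subgroup W} [X.Normal]
    (hXi : ∀ x ∈ X, φ x ∈ X) (hXc : ∀ a ∈ X, ∀ b ∈ X, Commute a b) (hs : Small φ (X : Set W))
    {x₀ : W} (hx₀ : x₀ ∈ X) (hx₀i : Inv φ x₀) (hx₀1 : x₀ ≠ 1) (hX3 : ∀ x ∈ X, x ^ 3 = 1)
    {e : W} (he : Inv φ e) {q i : ℕ} [Fact q.Prime] (hq : 5 ≤ q) (heq : e ^ q ^ i = 1)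
    {v : W} (hv : v ∈ X) : Commute e v := by
  obtain ⟨f, hf, hff⟩ := h.exists_sqrt e
  have hfi := inv_of_mem_zpowers he hf
  -- the differences under `φ`
  have hd : ∀ w ∈ X, w⁻¹ * φ w ∈ zpowers x₀ := fun w hw =>
    (hs x₀ hx₀ hx₀i hx₀1).2 _ (mul_mem (inv_mem hw) (hXi w hw)) (inv_diff h.sq w)
  set x₁ := f⁻¹ * x₀ * f
  have hx₁ : x₁ ∈ X := by simpa [x₁] using (inferInstance : X.Normal).conj_mem x₀ hx₀ f⁻¹
  set Xe := zpowers x₀ ⊔ zpowers x₁
  have hXeX : Xe ≤ X := sup_le (zpowers_le.2 hx₀) (zpowers_le.2 hx₁)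
  -- conjugation by `e` is trivial modulo `Xe`
  have hmod : ∀ w ∈ X, w⁻¹ * (e * w * e⁻¹) ∈ Xe := by
    intro w hw
    have hfw : f * w * f⁻¹ ∈ X := (inferInstance : X.Normal).conj_mem w hw f
    obtain ⟨a, ha⟩ := mem_zpowers_iff.1 (hd _ hfw)
    -- `φ' w = f⁻¹ φ(f w f⁻¹) f = w x₁ ^ a`
    have h1 : φ w = e * (w * x₁ ^ a) * e⁻¹ := by
      have h1' : φ (f * w * f⁻¹) = f * w * f⁻¹ * x₀ ^ a := by rw [ha, mul_inv_cancel_left]
      rw [map_mul, map_mul, map_inv, hfi, inv_inv] at h1'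
      have : x₁ ^ a = f⁻¹ * x₀ ^ a * f := by
        rw [show x₁ = f⁻¹ * x₀ * f⁻¹⁻¹ by simp [x₁], conj_zpow, inv_inv]
      rw [this, ← hff]
      calc φ w = f * (f⁻¹ * φ w * f) * f⁻¹ := by group
        _ = f * (f * w * f⁻¹ * x₀ ^ a) * f⁻¹ := by rw [h1']
        _ = f * f * (w * (f⁻¹ * x₀ ^ a * f)) * (f * f)⁻¹ := by group
    obtain ⟨b, hb⟩ := mem_zpowers_iff.1 (hd _ hw)
    obtain ⟨d, hd'⟩ := mem_zpowers_iff.1 (hd _ (zpow_mem hx₁ a))
    have h2 : e * w * e⁻¹ = φ w * (e * x₁ ^ a * e⁻¹)⁻¹ := by rw [h1]; group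
    have h3 : e * x₁ ^ a * e⁻¹ ∈ Xe := by
      -- the same computation for `x₁ ^ a`
      have hw1 : x₁ ^ a ∈ X := zpow_mem hx₁ a
      have h4 : φ (x₁ ^ a) = x₁ ^ a * x₀ ^ d := by rw [hd', mul_inv_cancel_left]
      have h5 : e⁻¹ * φ x₁ * e = x₁⁻¹ := by
        have hφx : φ x₁ = f * x₀⁻¹ * f⁻¹ := by
          show φ (f⁻¹ * x₀ * f) = _
          rw [map_mul, map_mul, map_inv, hfi, inv_inv, hx₀i]
        rw [hφx, ← hff]
        show (f * f)⁻¹ * (f * x₀⁻¹ * f⁻¹) * (f * f) = (f⁻¹ * x₀ * f)⁻¹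
        group
      have h6 : e * (x₁ ^ a)⁻¹ * e⁻¹ = φ (x₁ ^ a) := by
        rw [← inv_zpow, ← h5, map_zpow, ← conj_zpow]
        congr 1
        group
      have : e * x₁ ^ a * e⁻¹ = (φ (x₁ ^ a))⁻¹ := by rw [← h6]; group
      rw [this, h4]
      exact inv_mem (mul_mem (mem_sup_right (zpow_mem (mem_zpowers x₁) a))
        (mem_sup_left (zpow_mem (mem_zpowers x₀) d)))
    rw [h2, show φ w = w * x₀ ^ b by rw [hb, mul_inv_cancel_left]]
    rw [show w⁻¹ * (w * x₀ ^ b * (e * x₁ ^ a * e⁻¹)⁻¹) = x₀ ^ b * (e * x₁ ^ a * e⁻¹)⁻¹ by group]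
    exact mul_mem (mem_sup_left (zpow_mem (mem_zpowers x₀) b)) (inv_mem h3)
  have hXe : ∀ w ∈ Xe, e * w * e⁻¹ ∈ Xe := fun w hw => by
    rw [show e * w * e⁻¹ = w * (w⁻¹ * (e * w * e⁻¹)) by group]
    exact mul_mem hw (hmod w (hXeX hw))
  have hen : zpowers e ≤ normalizer (Xe : Set W) := zpowers_le.2 (Coprime.mem_normalizer_of_forall hXe)
  -- at most nine elements, a `3`-group
  haveI := Fact.mk Nat.prime_three
  have hXp : IsPGroup 3 X := fun x => ⟨1, Subtype.ext (by simpa using hX3 x x.2)⟩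
  have hcard : Nat.card Xe ≤ 9 := by
    have hle : ∀ y ∈ X, Nat.card (zpowers y) ≤ 3 := fun y hy => by
      rw [Nat.card_zpowers]; exact Nat.le_of_dvd (by norm_num) (orderOf_dvd_of_pow_eq_one (hX3 y hy))
    have hn : zpowers x₁ ≤ normalizer (zpowers x₀ : Set W) := zpowers_le.2
      (Coprime.mem_normalizer_of_forall fun y hy => by
        rw [(hXc _ hx₁ _ (zpowers_le.2 hx₀ hy)).eq, mul_inv_cancel_right]; exact hy)
    have h1 := Coprime.card_mul_inf (zpowers x₀) (zpowers x₁)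
    rw [← Subgroup.coe_mul_of_right_le_normalizer_left _ _ hn] at h1
    calc Nat.card Xe ≤ Nat.card Xe * Nat.card (zpowers x₀ ⊓ zpowers x₁ : Subgroup W) :=
          Nat.le_mul_of_pos_right _ Nat.card_pos
      _ = Nat.card (zpowers x₀) * Nat.card (zpowers x₁) := h1
      _ ≤ 3 * 3 := Nat.mul_le_mul (hle _ hx₀) (hle _ hx₁)
  -- hence `e` centralises `Xe`
  have hcent : ∀ w ∈ Xe, Commute e w := by
    let ρ : zpowers e →* MulAut Xe :=
      (MulAut.conjNormal (H := Xe.subgroupOf (normalizer (Xe : Set W)))).comp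
        (Subgroup.inclusion hen) |> fun g => (MulAut.congr (subgroupOfEquivOfLe le_normalizer)).toMonoidHom.comp g
    letI : MulAction (zpowers e) Xe := MulAction.compHom Xe ρ
    have hq' : IsPGroup q (zpowers e) := fun ⟨y, hy⟩ => by
      obtain ⟨j, rfl⟩ := mem_zpowers_iff.1 hy
      refine ⟨i, Subtype.ext ?_⟩
      show (e ^ j) ^ q ^ i = 1
      rw [← zpow_natCast, ← zpow_mul, mul_comm, zpow_mul, zpow_natCast, heq, one_zpow]
    have hfix : ∀ w : Xe, w ∈ MulAction.fixedPoints (zpowers e) Xe ↔ Commute e w := by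
      intro w
      have hact : ∀ g : zpowers e, ((g • w : Xe) : W) = g * w * (g : W)⁻¹ := fun g => rfl
      constructor
      · intro hw
        have := congrArg Subtype.val (hw ⟨e, mem_zpowers e⟩)
        rw [hact] at this
        exact mul_inv_eq_iff_eq_mul.1 this
      · rintro hw ⟨g, hg⟩
        refine Subtype.ext ?_
        rw [hact]
        obtain ⟨j, rfl⟩ := mem_zpowers_iff.1 hg
        rw [(hw.zpow_left j).eq, mul_inv_cancel_right]
    let Fx : Subgroup W := Xe ⊓ centralizer ({e} : Set W)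
    have hFx : Nat.card (MulAction.fixedPoints (zpowers e) Xe) = Nat.card Fx :=
      Nat.card_congr
        { toFun := fun w => ⟨(w.1 : W), w.1.2, mem_centralizer_singleton_iff.2 ((hfix _).1 w.2).symm.eq⟩
          invFun := fun w => ⟨⟨(w : W), w.2.1⟩, (hfix _).2
            (show Commute e (w : W) from (mem_centralizer_singleton_iff.1 w.2.2).symm)⟩
          left_inv := fun w => rfl
          right_inv := fun w => rfl }
    have hm := hq'.card_modEq_card_fixedPoints Xe
    rw [hFx] at hm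
    obtain ⟨A, hA⟩ := IsPGroup.iff_card.1 (hXp.to_le hXeX)
    obtain ⟨B, hB⟩ := IsPGroup.iff_card.1 (hXp.to_le (inf_le_left.trans hXeX : Fx ≤ X))
    have hBA : Nat.card Fx ≤ Nat.card Xe := card_le_of_le inf_le_left
    have heqc : Fx = Xe := by
      refine eq_of_le_of_card_ge inf_le_left (Nat.le_of_eq ?_)
      have hA2 : A ≤ 2 := by
        by_contra hc
        have : 3 ^ 3 ≤ Nat.card Xe := hA ▸ Nat.pow_le_pow_right (by norm_num) (by omega)
        omega
      have hBA' : B ≤ A := (Nat.pow_le_pow_iff_right (by norm_num)).1 (hA ▸ hB ▸ hBA)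
      have hdvd : q ∣ Nat.card Xe - Nat.card Fx := (Nat.modEq_iff_dvd' hBA).1 hm.symm
      rw [hA, hB] at hdvd ⊢
      rcases Nat.lt_or_ge B A with hlt | hge
      · exfalso
        have h24 : 3 ^ A - 3 ^ B ∣ 2 ^ 3 * 3 := by interval_cases A <;> interval_cases B <;> decide
        rcases (Nat.Prime.dvd_mul Fact.out).1 (hdvd.trans h24) with h2 | h3
        · have := Nat.le_of_dvd two_pos ((Fact.out : q.Prime).dvd_of_dvd_pow h2)
          omega
        · have := Nat.le_of_dvd (by norm_num) h3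
          omega
      · rw [le_antisymm hBA' hge]
    exact fun w hw => (mem_centralizer_singleton_iff.1 (heqc.ge hw).2).symm
  -- and acts on `X` as an element of order dividing three
  obtain ⟨a, ha, hva⟩ : ∃ a ∈ Xe, e * v * e⁻¹ = v * a := ⟨_, hmod v hv, by group⟩
  have hiter : ∀ m : ℕ, e ^ m * v * (e ^ m)⁻¹ = v * a ^ m := by
    intro m
    induction m with
    | zero => simp
    | succ m ih =>
      rw [pow_succ', show e * e ^ m * v * (e * e ^ m)⁻¹ = e * (e ^ m * v * (e ^ m)⁻¹) * e⁻¹ by group, ih,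
        show e * (v * a ^ m) * e⁻¹ = e * v * e⁻¹ * (e * a ^ m * e⁻¹) by group, hva,
        ((hcent a ha).pow_right m).eq, mul_inv_cancel_right, mul_assoc, ← pow_succ']
  have h1 := hiter (q ^ i)
  rw [heq, one_mul, inv_one, mul_one, left_eq_mul] at h1
  have ha1 : a = 1 := by
    refine orderOf_eq_one_iff.1 (Nat.eq_one_of_dvd_coprimes (k := orderOf a) ?_
      (orderOf_dvd_of_pow_eq_one (hX3 a (hXeX ha))) (orderOf_dvd_of_pow_eq_one h1))
    exact Nat.Coprime.pow_right i ((Nat.coprime_primes Nat.prime_three Fact.out).2 (by omega))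
  rw [ha1, mul_one] at hva
  exact mul_inv_eq_iff_eq_mul.1 hva

/-- A minimal invariant normal subgroup with at most three inverted elements is central, if the group is
generated by inverted elements. -/
theorem central_of_minimal (h : InvolAut φ) (hgen : closure {e | Inv φ e} = ⊤) {X : Subgroup W}
    (hX : Minimal φ X) (hs : Small φ (X : Set W)) : X ≤ center W := by
  haveI := hX.normal
  have hXc := hX.commute h
  have hcenter : ∀ {Y : Subgroup W}, (∀ e, Inv φ e → ∀ v ∈ Y, Commute e v) → Y ≤ center W := by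
    intro Y hY v hv
    rw [mem_center_iff]
    intro g
    induction (hgen ▸ mem_top g : g ∈ closure {e | Inv φ e}) using closure_induction with
    | mem e he => exact (hY e he v hv).eq
    | one => rw [one_mul, mul_one]
    | mul a b _ _ ha hb => rw [mul_assoc, hb, ← mul_assoc, ha, mul_assoc]
    | inv a _ ha => exact ((show Commute a v from ha).inv_left).eq
  by_cases hfix : ∀ x ∈ X, Inv φ x → x = 1
  · refine hcenter fun e he v hv => ?_
    have hf : ∀ x ∈ X, φ x = x := fun x hx =>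
      (inv_mul_eq_one.1 (hfix _ (mul_mem (inv_mem hx) (hX.inv x hx)) (inv_diff h.sq x))).symm
    exact h.commute_of_fixed he (hf v hv) (hf _ (hX.normal.conj_mem v hv e))
  push Not at hfix
  obtain ⟨x₀, hx₀, hx₀i, hx₀1⟩ := hfix
  have hX3 : ∀ x ∈ X, x ^ 3 = 1 := by
    let X₃ : Subgroup W :=
      { carrier := {x | x ∈ X ∧ x ^ 3 = 1}
        one_mem' := ⟨one_mem _, one_pow _⟩
        mul_mem' := fun {a b} ha hb => ⟨mul_mem ha.1 hb.1, by
          rw [(hXc a ha.1 b hb.1).mul_pow, ha.2, hb.2, one_mul]⟩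
        inv_mem' := fun {a} ha => ⟨inv_mem ha.1, by rw [inv_pow, ha.2, inv_one]⟩ }
    rcases hX.min X₃ ⟨fun x hx g => ⟨hX.normal.conj_mem x hx.1 g, by
        rw [conj_pow, hx.2, mul_one, mul_inv_cancel]⟩⟩
      (fun x hx => ⟨hX.inv x hx.1, by rw [← map_pow, hx.2, map_one]⟩) (fun x hx => hx.1) with e | e
    · exact absurd (mem_bot.1 (e ▸ (⟨hx₀, (hs x₀ hx₀ hx₀i hx₀1).1⟩ : x₀ ∈ X₃))) hx₀1
    · intro x hx
      exact ((e.ge hx : x ∈ X₃)).2
  haveI := Fact.mk Nat.prime_three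
  set K := centralizer (X : Set W) with hK
  haveI hKn : K.Normal := inferInstance
  have hKi : ∀ x ∈ K, φ x ∈ K := fun x hx => mem_centralizer_iff.2 fun v hv => by
    have := congrArg φ (mem_centralizer_iff.1 hx (φ v) (hX.inv v hv))
    rwa [map_mul, map_mul, h.sq] at this
  suffices hKtop : K = ⊤ by
    intro v hv
    rw [mem_center_iff]
    intro g
    exact (mem_centralizer_iff.1 (hKtop ▸ mem_top g : g ∈ K) v hv).symm
  by_contra hKne
  have hmap := h.map_eq hKi
  set ψ := quotAut φ K hmap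
  have hψ : InvolAut ψ := h.quotient hmap
  -- inverted elements modulo `K` are 3-elements
  have hinv3 : ∀ g : W ⧸ K, Inv ψ g → ∃ k, g ^ 3 ^ k = 1 := by
    intro g hg
    obtain ⟨e, he, rfl⟩ := (h.exists_lift hmap g).2 hg
    obtain ⟨k, m, hm, hkm⟩ := Nat.exists_eq_pow_mul_and_not_dvd (orderOf_pos e).ne' 3 (by norm_num)
    refine ⟨k, ?_⟩
    rw [← QuotientGroup.mk_pow, QuotientGroup.eq_one_iff]
    refine Transfer.mem_of_forall_primePow fun q hq y hy ⟨j, hj⟩ => ?_
    haveI := Fact.mk hq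
    have hyi : Inv φ y := inv_of_mem_zpowers (inv_of_mem_zpowers he (pow_mem (mem_zpowers e) _)) hy
    have hd : orderOf y ∣ m := by
      refine (orderOf_dvd_of_mem_zpowers hy).trans ?_
      rw [orderOf_pow_of_dvd (by positivity) ⟨m, hkm⟩, hkm, Nat.mul_div_cancel_left _ (by positivity)]
    rcases Nat.eq_zero_or_pos j with rfl | hjpos
    · rw [show y = 1 from orderOf_eq_one_iff.1 (by simpa using hj)]; exact one_mem _
    have hq2 : q ≠ 2 := by
      rintro rfl
      have := h.odd.of_dvd_nat (orderOf_dvd_natCard y)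
      rw [hj] at this
      exact Nat.not_odd_iff_even.2 (Nat.even_pow.2 ⟨even_two, hjpos.ne'⟩) this
    have hq3 : q ≠ 3 := fun e3 => hm ((dvd_pow_self 3 hjpos.ne').trans ((e3 ▸ hj) ▸ hd))
    have hq5 : 5 ≤ q := by
      have := hq.two_le
      rcases Nat.lt_or_ge q 5 with hlt | hge
      · interval_cases q
        · exact absurd rfl hq2
        · exact absurd rfl hq3
        · exact absurd hq (by norm_num)
      · exact hge
    exact mem_centralizer_iff.2 fun v hv => ((h.commute_of_small hX.inv hXc hs hx₀ hx₀i hx₀1 hX3 hyi hq5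
      (i := j) (by rw [← hj, pow_orderOf_eq_one]) hv).eq).symm
  -- no invariant normal 3-subgroup
  have hO3 : ∀ P : Subgroup (W ⧸ K), P.Normal → IsPGroup 3 P → (∀ x ∈ P, ψ x ∈ P) → P = ⊥ := by
    intro P hP hP3 hPi
    haveI := hP
    set Y := P.comap (QuotientGroup.mk' K) with hY
    obtain ⟨S⟩ : Nonempty (Sylow 3 Y) := inferInstance
    set S' := (S : Subgroup Y).map Y.subtype
    letI : MulAction S' X :=
      MulAction.compHom X ((MulAut.conjNormal : W →* MulAut X).comp S'.subtype)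
    have hS' : IsPGroup 3 S' := S.2.map _
    have hfix : ∀ w : X, w ∈ MulAction.fixedPoints S' X ↔ (w : W) ∈ centralizer (S' : Set W) := by
      intro w
      refine ⟨fun hw => mem_centralizer_iff.2 fun g hg => ?_, fun hw g => Subtype.ext ?_⟩
      · exact mul_inv_eq_iff_eq_mul.1 (congrArg Subtype.val (hw ⟨g, hg⟩))
      · show (g : W) * w * (g : W)⁻¹ = w
        rw [mem_centralizer_iff.1 hw g g.2, mul_inv_cancel_right]
    have hdvd : 3 ∣ Nat.card X := by
      have h3 : orderOf x₀ = 3 := orderOf_eq_prime (hX3 x₀ hx₀) hx₀1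
      exact h3 ▸ orderOf_dvd_natCard X hx₀
    obtain ⟨w, hw, hw1⟩ := hS'.exists_fixed_point_of_prime_dvd_card_of_fixed_point (α := X) hdvd
      (a := 1) (fun g => Subtype.ext (by show (g : W) * ((1 : X) : W) * (g : W)⁻¹ = ((1 : X) : W); simp))
    -- fixed points of the whole preimage
    have hYn : Y.Normal := inferInstance
    have hYK : ∀ y ∈ Y, ∃ s ∈ S', s⁻¹ * y ∈ K := by
      intro y hy
      set f : Y →* P := (QuotientGroup.mk' K).subgroupComap P
      have hf : Function.Surjective f := by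
        rintro ⟨p, hp⟩
        obtain ⟨z, rfl⟩ := QuotientGroup.mk'_surjective K p
        exact ⟨⟨z, hp⟩, rfl⟩
      have htop : ((S.mapSurjective hf : Sylow 3 P) : Subgroup P) = ⊤ := by
        exact ((S.mapSurjective hf).3 (hP3.of_equiv (Subgroup.topEquiv (G := P)).symm) le_top).symm
      obtain ⟨s, hs, hsy⟩ : f ⟨y, hy⟩ ∈ (S : Subgroup Y).map f := by
        rw [← Sylow.coe_mapSurjective hf, htop]; exact mem_top _
      refine ⟨s, ⟨s, hs, rfl⟩, (QuotientGroup.eq_one_iff _).1 ?_⟩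
      have := congrArg Subtype.val hsy
      change QuotientGroup.mk' K (s : W) = QuotientGroup.mk' K y at this
      show QuotientGroup.mk' K ((s : W)⁻¹ * y) = 1
      rw [map_mul, map_inv, this, inv_mul_cancel]
    let Fx : Subgroup W := X ⊓ centralizer (Y : Set W)
    have hwF : (w : W) ∈ Fx := ⟨w.2, mem_centralizer_iff.2 fun y hy => by
      obtain ⟨s, hs, hsy⟩ := hYK y hy
      have h1 : Commute s (w : W) := mem_centralizer_iff.1 ((hfix w).1 hw) s hs
      have h2 : Commute (s⁻¹ * y) (w : W) := (mem_centralizer_iff.1 hsy w w.2).symm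
      have := h1.mul_left h2
      rwa [mul_inv_cancel_left] at this⟩
    have hYi : ∀ y ∈ Y, φ y ∈ Y := fun y hy => hPi _ hy
    rcases hX.min Fx inferInstance (fun x hx => ⟨hX.inv x hx.1, mem_centralizer_iff.2 fun y hy => by
        have := congrArg φ (mem_centralizer_iff.1 hx.2 (φ y) (hYi y hy))
        rwa [map_mul, map_mul, h.sq] at this⟩) inf_le_left with e | e
    · exact absurd (Subtype.ext (mem_bot.1 (e ▸ hwF) : (w : W) = 1)) (Ne.symm hw1)
    · refine le_bot_iff.1 fun p hp => ?_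
      obtain ⟨y, rfl⟩ := QuotientGroup.mk'_surjective K p
      exact (QuotientGroup.eq_one_iff y).2 (mem_centralizer_iff.2 fun v hv =>
        (mem_centralizer_iff.1 (e.ge hv).2 y hp).symm)
  -- the 3'-core is central, so everything
  haveI : Group.IsSolvable (W ⧸ K) := S0205.result hψ.odd
  set O := Cfsg.piCore ({3}ᶜ : Set ℕ) (W ⧸ K) with hO
  have hOi : ∀ x ∈ O, ψ x ∈ O := fun x hx => by
    have := mem_map_of_mem ψ.toMonoidHom hx
    rwa [hO, Cores.piCore_map_mulEquiv] at this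
  have h3O : ¬ 3 ∣ Nat.card O := fun hd => Cores.card_piCore _ Nat.prime_three hd rfl
  have hOfix : ∀ x ∈ O, ψ x = x := fun x hx => by
    obtain ⟨k, hk⟩ := hinv3 _ (inv_diff hψ.sq x)
    refine (inv_mul_eq_one.1 (orderOf_eq_one_iff.1 (Nat.eq_one_of_dvd_coprimes ?_
      (orderOf_dvd_of_pow_eq_one hk) (orderOf_dvd_natCard O (mul_mem (inv_mem hx) (hOi x hx)))))).symm
    exact Nat.Coprime.pow_left k (Nat.prime_three.coprime_iff_not_dvd.2 h3O)
  have hgen' : ∀ g : W ⧸ K, g ∈ closure {e | Inv ψ e} := by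
    intro g
    obtain ⟨x, rfl⟩ := QuotientGroup.mk'_surjective K g
    have : QuotientGroup.mk' K x ∈ (closure {e | Inv φ e}).map (QuotientGroup.mk' K) :=
      mem_map_of_mem _ (hgen ▸ mem_top x)
    rw [MonoidHom.map_closure] at this
    refine closure_mono ?_ this
    rintro _ ⟨e, he, rfl⟩
    show ((φ e : W) : W ⧸ K) = (e : W ⧸ K)⁻¹
    rw [show φ e = e⁻¹ from he, QuotientGroup.mk_inv]
  have hcentO : centralizer (O : Set (W ⧸ K)) = ⊤ := eq_top_iff.2 fun g _ => (closure_le _).2 (fun e he =>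
    mem_centralizer_iff.2 fun v hv => ((hψ.commute_of_fixed he (hOfix v hv)
      (hOfix _ ((inferInstance : O.Normal).conj_mem v hv e))).eq).symm) (hgen' g)
  have h1 : Cfsg.piCore (({3}ᶜ : Set ℕ))ᶜ (W ⧸ K) = ⊥ := by
    refine hO3 _ (inferInstance) ?_ fun x hx => ?_
    · have hne : Nat.card (Cfsg.piCore (({3}ᶜ : Set ℕ))ᶜ (W ⧸ K)) ≠ 0 := Nat.card_pos.ne'
      refine IsPGroup.of_card (n := (Nat.card _).primeFactorsList.length)
        (Nat.eq_prime_pow_of_unique_prime_dvd hne fun {q} hq hd => ?_)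
      simpa using Cores.card_piCore _ hq hd
    · have := mem_map_of_mem ψ.toMonoidHom hx
      rwa [Cores.piCore_map_mulEquiv] at this
  have htop := Solvable.centralizer_piCore_le (Solvable.isPiSeparable_of_isSolvable _) h1
  rw [hcentO, top_le_iff] at htop
  refine hKne (eq_top_iff.2 fun x _ => (QuotientGroup.eq_one_iff x).1 ?_)
  refine mem_bot.1 ((closure_eq_bot_iff.2 fun e he => ?_ : closure {e | Inv ψ e} = ⊥) ▸ hgen' _)
  obtain ⟨k, hk⟩ := hinv3 e he
  refine Set.mem_singleton_iff.2 (orderOf_eq_one_iff.1 (Nat.eq_one_of_dvd_coprimes ?_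
    (orderOf_dvd_of_pow_eq_one hk) (Subgroup.orderOf_dvd_natCard O (show e ∈ O by rw [hO, htop]; exact mem_top e))))
  exact Nat.Coprime.pow_left k (Nat.prime_three.coprime_iff_not_dvd.2 h3O)

/-- A central minimal subgroup has prime order. -/
theorem Minimal.prime_of_central {X : Subgroup W} (hX : Minimal φ X) (h : InvolAut φ) (hc : X ≤ center W) :
    ∃ x ∈ X, x ≠ 1 ∧ X = zpowers x ∧ (φ x = x ∨ Inv φ x) ∧ (orderOf x).Prime := by
  have hnorm : ∀ Y : Subgroup W, Y ≤ X → Y.Normal := fun Y hY => ⟨fun y hy g => by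
    rw [mem_center_iff.1 (hc (hY hy)) g, mul_inv_cancel_right]; exact hy⟩
  obtain ⟨x, hxX, hx1, hxφ⟩ : ∃ x ∈ X, x ≠ 1 ∧ (φ x = x ∨ Inv φ x) := by
    obtain ⟨⟨g, hg⟩, hg1⟩ := Subgroup.ne_bot_iff_exists_ne_one.1 hX.ne_bot
    by_cases hd : g⁻¹ * φ g = 1
    · exact ⟨g, hg, fun e => hg1 (Subtype.ext e), Or.inl (inv_mul_eq_one.1 hd).symm⟩
    · exact ⟨_, mul_mem (inv_mem hg) (hX.inv g hg), hd, Or.inr (inv_diff h.sq g)⟩
  have hzi : ∀ y ∈ zpowers x, φ y ∈ zpowers x := fun y hy => by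
    obtain ⟨i, rfl⟩ := mem_zpowers_iff.1 hy
    rw [map_zpow]
    rcases hxφ with e | e <;> rw [e]
    exacts [zpow_mem (mem_zpowers x) i, zpow_mem (inv_mem (mem_zpowers x)) i]
  have hXx : X = zpowers x := ((hX.min (zpowers x) (hnorm _ (zpowers_le.2 hxX)) hzi (zpowers_le.2 hxX)).resolve_left
    fun e => hx1 (zpowers_eq_bot.1 e)).symm
  refine ⟨x, hxX, hx1, hXx, hxφ, ?_⟩
  obtain ⟨p, hp, hpd⟩ := Nat.exists_prime_and_dvd (fun e => hx1 (orderOf_eq_one_iff.1 e))
  have hy : zpowers (x ^ p) ≤ X := zpowers_le.2 (pow_mem hxX p)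
  rcases hX.min _ (hnorm _ hy) (fun y hy' => by
      obtain ⟨i, rfl⟩ := mem_zpowers_iff.1 hy'
      rw [map_zpow, map_pow]
      rcases hxφ with e | e <;> rw [e]
      · exact zpow_mem (mem_zpowers _) i
      · rw [inv_pow]; exact zpow_mem (inv_mem (mem_zpowers _)) i) hy with e | e
  · have := orderOf_dvd_of_pow_eq_one (zpowers_eq_bot.1 e)
    rwa [(Nat.prime_dvd_prime_iff_eq hp hp).2 rfl |> fun _ => Nat.dvd_antisymm this hpd]
  · exfalso
    have h1 := congrArg (fun Y : Subgroup W => Nat.card Y) e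
    rw [hXx] at h1
    simp only [Nat.card_zpowers, orderOf_pow_of_dvd hp.ne_zero hpd] at h1
    exact (Nat.div_lt_self (orderOf_pos x) hp.one_lt).ne h1

/-- An invariant normal subgroup of inverted elements is central, if the group is generated by inverted
elements. -/
theorem central_of_inverted (h : InvolAut φ) (hgen : closure {e | Inv φ e} = ⊤) {X : Subgroup W}
    (hXn : X.Normal) (hX : ∀ x ∈ X, Inv φ x) : X ≤ center W := by
  intro v hv
  rw [mem_center_iff]
  intro g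
  induction (hgen ▸ mem_top g : g ∈ closure {e | Inv φ e}) using closure_induction with
  | mem a ha =>
    have h1 := hX _ (hXn.conj_mem v hv a)
    rw [Inv, map_mul, map_mul, map_inv, show φ a = a⁻¹ from ha, hX v hv, inv_inv] at h1
    refine (h.commute_of_sq (e := a) ?_).eq
    show a * a * v = v * (a * a)
    have h2 : a⁻¹ * v * a = a * v * a⁻¹ := by
      have := congrArg (·⁻¹) h1
      simpa [mul_assoc] using this
    calc a * a * v = a * (a * v * a⁻¹) * a := by group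
      _ = a * (a⁻¹ * v * a) * a := by rw [h2]
      _ = v * (a * a) := by group
  | one => rw [one_mul, mul_one]
  | mul a b _ _ ha hb => rw [mul_assoc, hb, ← mul_assoc, ha, mul_assoc]
  | inv a _ ha => exact ((show Commute a v from ha).inv_left).eq

/-- The inverted elements of the centraliser of a non-trivial fixed element are at most three. -/
def SmallFixed (φ : W ≃* W) : Prop :=
  ∀ c, φ c = c → c ≠ 1 → Small φ {e | Commute e c}

omit [Finite W] in
theorem commute_conj_of_central {z g : W} (hz : z ∈ center W) : Commute g z := mem_center_iff.1 hz g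

/-- The fixed points are not in the subgroup generated by the inverted elements. -/
theorem closure_inverted_ne_top (h : InvolAut φ) (hs : SmallFixed φ) {c₀ : W} (hc₀ : φ c₀ = c₀)
    (hc₀1 : c₀ ≠ 1) : closure {e | Inv φ e} ≠ ⊤ := by
  intro hgen
  -- no central fixed element
  have hZfix : ∀ z ∈ center W, φ z = z → z = 1 := by
    intro z hz hzf
    by_contra hz1
    have hall : ∀ e, Inv φ e → ∀ e', Inv φ e' → Commute e e' := by
      intro e he e' he'
      by_cases he1 : e = 1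
      · exact he1 ▸ Commute.one_left e'
      obtain ⟨i, rfl⟩ := mem_zpowers_iff.1 ((hs z hzf hz1 e (mem_center_iff.1 hz e) he he1).2 e'
        (mem_center_iff.1 hz e') he')
      exact (Commute.refl e).zpow_right i
    have hinv : ∀ g ∈ closure {e | Inv φ e}, φ g = g⁻¹ ∧ ∀ e, Inv φ e → Commute g e := by
      intro g hg
      induction hg using closure_induction with
      | mem e he => exact ⟨he, fun e' he' => hall e he e' he'⟩
      | one => exact ⟨by simp, fun e _ => Commute.one_left e⟩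
      | mul a b _ _ ha hb => exact ⟨by rw [map_mul, ha.1, hb.1, mul_inv_rev]; exact (ha.2 b hb.1).inv_inv.eq,
          fun e he => (ha.2 e he).mul_left (hb.2 e he)⟩
      | inv a _ ha => exact ⟨by rw [map_inv, ha.1], fun e he => (ha.2 e he).inv_left⟩
    exact hz1 (h.eq_one_of_inverted_eq (hzf.symm.trans (hinv z (hgen ▸ mem_top z)).1))
  -- a minimal subgroup: inverted, central
  obtain ⟨X, -, hX⟩ := exists_minimal (φ := φ) (N := ⊤) inferInstance (fun _ _ => mem_top _) fun e =>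
    hc₀1 (mem_bot.1 (e ▸ mem_top c₀))
  have hXc : X ≤ center W := by
    by_cases hex : ∃ c ∈ X, φ c = c ∧ c ≠ 1
    · obtain ⟨c, hc, hcf, hc1⟩ := hex
      refine central_of_minimal h hgen hX fun e he hei he1 => ?_
      have hcomm := hX.commute h
      obtain ⟨h3, hz⟩ := hs c hcf hc1 e (hcomm e he c hc) hei he1
      exact ⟨h3, fun e' he' he'i => hz e' (hcomm e' he' c hc) he'i⟩
    · push Not at hex
      refine central_of_inverted h hgen hX.normal fun x hx => ?_
      obtain ⟨c, f, hc, hf, hfm, rfl⟩ := h.exists_decomp x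
      have hfX : f ∈ X := zpowers_le.2 (mul_mem (inv_mem hx) (hX.inv _ hx)) hfm
      rw [hex c ((mul_mem_cancel_right hfX).1 hx) hc, one_mul]
      exact hf
  obtain ⟨x, hxX, hx1, -, hxφ, -⟩ := hX.prime_of_central h hXc
  have hxc : x ∈ center W := hXc hxX
  have hxi : Inv φ x := hxφ.resolve_left fun e => hx1 (hZfix x hxc e)
  -- inverted elements of the centraliser of a fixed element are powers of `x`
  have hx3 : x ^ 3 = 1 := (hs c₀ hc₀ hc₀1 x (mem_center_iff.1 hxc c₀).symm hxi hx1).1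
  have hin : ∀ c, φ c = c → c ≠ 1 → ∀ e, Commute e c → Inv φ e → e ∈ zpowers x := fun c hc hc1 e he hei =>
    (hs c hc hc1 x (mem_center_iff.1 hxc c).symm hxi hx1).2 e he hei
  set Z := zpowers x with hZdef
  have hZc : Z ≤ center W := zpowers_le.2 hxc
  haveI hZn : Z.Normal := ⟨fun y hy g => by
    rw [mem_center_iff.1 (hZc hy) g, mul_inv_cancel_right]; exact hy⟩
  have hZinv : ∀ y ∈ Z, Inv φ y := fun y hy => inv_of_mem_zpowers hxi hy
  have hZf : ∀ y ∈ Z, φ y = y → y = 1 := fun y hy hf => h.eq_one_of_inverted_eq (hf.symm.trans (hZinv y hy))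
  have hcenterZ : center W ≤ Z := by
    intro v hv
    obtain ⟨c, f, hc, hf, hfm, rfl⟩ := h.exists_decomp v
    have hφv : φ (c * f) ∈ center W := by
      rw [mem_center_iff] at hv ⊢
      intro g
      have := congrArg φ (hv (φ g))
      rwa [map_mul, map_mul _ (c * f), h.sq] at this
    have hfc : f ∈ center W := zpowers_le.2 (mul_mem (inv_mem hv) hφv) hfm
    rw [hZfix c ((mul_mem_cancel_right hfc).1 hv) hc, one_mul]
    exact hin c₀ hc₀ hc₀1 f (mem_center_iff.1 hfc c₀).symm hf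
  have hmapZ : Z.map φ.toMonoidHom = Z := h.map_eq fun y hy => by rw [hZinv y hy]; exact inv_mem hy
  set ψ := quotAut φ Z hmapZ
  have hψ : InvolAut ψ := h.quotient hmapZ
  set π := QuotientGroup.mk' Z
  have hπφ : ∀ g, ψ (π g) = π (φ g) := fun g => rfl
  have hπZ : ∀ g, π g = 1 ↔ g ∈ Z := fun g => QuotientGroup.eq_one_iff g
  have hgen' : closure {e | Inv ψ e} = ⊤ := by
    refine eq_top_iff.2 fun g _ => ?_
    obtain ⟨y, rfl⟩ := QuotientGroup.mk'_surjective Z g
    have : π y ∈ (closure {e | Inv φ e}).map π := mem_map_of_mem _ (hgen ▸ mem_top y)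
    rw [MonoidHom.map_closure] at this
    refine closure_mono ?_ this
    rintro _ ⟨e, he, rfl⟩
    show ψ (π e) = (π e)⁻¹
    rw [hπφ, show φ e = e⁻¹ from he, map_inv]
  -- a minimal subgroup over `Z`
  obtain ⟨Y, -, hY⟩ := exists_minimal (φ := ψ) (N := ⊤) inferInstance (fun _ _ => mem_top _) fun e =>
    hc₀1 (hZf c₀ ((hπZ c₀).1 (mem_bot.1 (e ▸ mem_top (π c₀)))) hc₀)
  have hYn := hY.normal
  by_cases hex : ∀ g ∈ Y, ψ g = g → g = 1
  · -- then the preimage is inverted and central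
    have hinvY : ∀ v ∈ Y.comap π, Inv φ v := by
      intro v hv
      obtain ⟨c, f, hc, hf, hfm, rfl⟩ := h.exists_decomp v
      have hφv : φ (c * f) ∈ Y.comap π := show π (φ (c * f)) ∈ Y from hπφ (c * f) ▸ hY.inv _ hv
      have hfY : f ∈ Y.comap π := zpowers_le.2 (mul_mem (inv_mem hv) hφv) hfm
      have hcY : c ∈ Y.comap π := (mul_mem_cancel_right hfY).1 hv
      rw [hZf c ((hπZ c).1 (hex _ hcY (by rw [hπφ, hc]))) hc, one_mul]
      exact hf
    refine hY.ne_bot (le_bot_iff.1 fun g hg => ?_)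
    obtain ⟨v, rfl⟩ := QuotientGroup.mk'_surjective Z g
    exact mem_bot.2 ((hπZ v).2 (hcenterZ (central_of_inverted h hgen (hYn.comap π) hinvY hg)))
  push Not at hex
  obtain ⟨gc, hgc, hgcf, hgc1⟩ := hex
  obtain ⟨c, hc, rfl⟩ := (h.exists_lift hmapZ gc).1 hgcf
  have hc1 : c ≠ 1 := fun e => hgc1 (by rw [e]; rfl)
  -- commutators with `c` of elements commuting with it modulo `Z`
  have hcommZ : ∀ e, Commute (π e) (π c) → e * c * e⁻¹ * c⁻¹ ∈ Z := fun e he => by
    rw [← hπZ, map_mul, map_mul, map_mul, map_inv, map_inv, he.eq, mul_inv_cancel_right, mul_inv_cancel]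
  have hcommW : ∀ e, e * c * e⁻¹ * c⁻¹ = 1 → Commute e c := fun e he =>
    mul_inv_eq_iff_eq_mul.1 (mul_inv_eq_one.1 he)
  have hdel : ∀ e e', Commute (π e') (π c) →
      e * e' * c * (e * e')⁻¹ * c⁻¹ = (e * c * e⁻¹ * c⁻¹) * (e' * c * e'⁻¹ * c⁻¹) := by
    intro e e' he'
    have hz := mem_center_iff.1 (hZc (hcommZ e' he'))
    calc e * e' * c * (e * e')⁻¹ * c⁻¹ = e * (e' * c * e'⁻¹ * c⁻¹) * (c * e⁻¹ * c⁻¹) := by group
      _ = e * (c * e⁻¹ * c⁻¹) * (e' * c * e'⁻¹ * c⁻¹) := by rw [mul_assoc, ← hz, ← mul_assoc]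
      _ = _ := by group
  have hdelpow : ∀ e, Commute (π e) (π c) → ∀ i : ℕ,
      e ^ i * c * (e ^ i)⁻¹ * c⁻¹ = (e * c * e⁻¹ * c⁻¹) ^ i := by
    intro e he i
    induction i with
    | zero => simp
    | succ i ih => rw [pow_succ, hdel _ _ he, ih, pow_succ]
  haveI := Fact.mk Nat.prime_three
  have hx3o : orderOf x = 3 := orderOf_eq_prime hx3 hx1
  have hpowZ : ∀ a ∈ Z, a ≠ 1 → ∀ b ∈ Z, ∃ i : ℕ, b = a ^ i := by
    intro a ha ha1 b hb
    have : zpowers a = Z := by
      refine eq_of_le_of_card_ge (zpowers_le.2 ha) (le_of_eq ?_)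
      rw [Nat.card_zpowers, Nat.card_zpowers, hx3o]
      rcases (Nat.dvd_prime Nat.prime_three).1 (hx3o ▸ orderOf_dvd_of_mem_zpowers ha) with e | e
      · exact absurd (orderOf_eq_one_iff.1 e) ha1
      · exact e.symm
    obtain ⟨i, hi⟩ := mem_powers_iff_mem_zpowers.2 (this.symm ▸ hb : b ∈ zpowers a)
    exact ⟨i, hi.symm⟩
  have hsY : Small ψ (Y : Set (W ⧸ Z)) := by
    intro g hg hgi hg1
    obtain ⟨e, he, rfl⟩ := (h.exists_lift hmapZ g).2 hgi
    have hYc : ∀ y ∈ Y, Commute y (π c) := fun y hy => hY.commute hψ y hy _ hgc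
    have hne : e * c * e⁻¹ * c⁻¹ ≠ 1 := fun e0 =>
      hg1 ((hπZ e).2 (hin c hc hc1 e (hcommW e e0) he))
    have hkill : ∀ w, π w ∈ Y → Inv ψ (π w) → w * c * w⁻¹ * c⁻¹ = 1 → π w = 1 := by
      intro w hwY hwi hw
      obtain ⟨f, hf, hfw⟩ := (h.exists_lift hmapZ (π w)).2 hwi
      have hfZ : w⁻¹ * f ∈ Z := (hπZ _).1 (by rw [map_mul, map_inv]; exact inv_mul_eq_one.2 hfw.symm)
      have hfc : Commute f c := by
        rw [show f = w * (w⁻¹ * f) by group]
        exact (hcommW w hw).mul_left (mem_center_iff.1 (hZc hfZ) c).symm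
      exact hfw.symm.trans ((hπZ f).2 (hin c hc hc1 f hfc hf))
    refine ⟨?_, fun g' hg' hg'i => ?_⟩
    · show (π e) ^ 3 = 1
      rw [← map_pow]
      refine hkill _ (by rw [map_pow]; exact pow_mem hg 3) ?_ ?_
      · rw [map_pow]; exact inv_of_mem_zpowers hgi (pow_mem (mem_zpowers _) 3)
      · rw [hdelpow e (hYc _ hg)]
        exact orderOf_dvd_iff_pow_eq_one.1 (hx3o ▸ orderOf_dvd_of_mem_zpowers (hcommZ e (hYc _ hg)))
    · obtain ⟨e', he', rfl⟩ := (h.exists_lift hmapZ g').2 hg'i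
      obtain ⟨i, hi⟩ := hpowZ _ (hcommZ e (hYc _ hg)) hne _ (hcommZ e' (hYc _ hg'))
      have h1 := hdelpow e (hYc _ hg) i
      have hw : π (e' * (e ^ i)⁻¹) = 1 := by
        refine hkill _ (by rw [map_mul, map_inv, map_pow]; exact mul_mem hg' (inv_mem (pow_mem hg i))) ?_ ?_
        · show ψ (π (e' * (e ^ i)⁻¹)) = (π (e' * (e ^ i)⁻¹))⁻¹
          have hcm : Commute (π e') (π e) := hY.commute hψ _ hg' _ hg
          have e1 : ψ (π e') = (π e')⁻¹ := hg'i
          have e2 : ψ (π e) = (π e)⁻¹ := hgi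
          rw [map_mul, map_inv, map_pow, map_mul, map_inv, map_pow, e1, e2, mul_inv_rev, inv_inv,
            inv_pow, inv_inv]
          exact ((hcm.inv_left).pow_right i).eq
        · rw [← mul_left_inj (e ^ i * c * (e ^ i)⁻¹ * c⁻¹), ← hdel, inv_mul_cancel_right, one_mul, h1, ← hi]
          rw [map_pow]
          exact (hYc _ hg).pow_left i
      rw [map_mul, map_inv, mul_inv_eq_one, map_pow] at hw
      show π e' ∈ zpowers (π e)
      rw [hw]
      exact pow_mem (mem_zpowers _) i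
  have hYc := central_of_minimal hψ hgen' hY hsY
  obtain ⟨y, -, -, hYy, -, hyp⟩ := hY.prime_of_central hψ hYc
  have hcπ : ∀ g, Commute g (π c) := fun g => mem_center_iff.1 (hYc hgc) g
  -- some inverted element moves `c`
  obtain ⟨e₁, he₁, he₁c⟩ : ∃ e, Inv φ e ∧ ¬ Commute e c := by
    by_contra hcon
    push Not at hcon
    refine hc1 (hZfix c (mem_center_iff.2 fun g => ?_) hc)
    induction (hgen ▸ mem_top g : g ∈ closure {e | Inv φ e}) using closure_induction with
    | mem a ha => exact (hcon a ha).eq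
    | one => rw [one_mul, mul_one]
    | mul a b _ _ ha hb => rw [mul_assoc, hb, ← mul_assoc, ha, mul_assoc]
    | inv a _ ha => exact ((show Commute a c from ha).inv_left).eq
  have he₁Z : e₁ ∉ Z := fun he => he₁c ((mem_center_iff.1 (hZc he) c).symm)
  set z₁ := e₁ * c * e₁⁻¹ * c⁻¹
  have hz₁ : z₁ ∈ Z := hcommZ e₁ (hcπ _)
  have hz₁1 : z₁ ≠ 1 := fun e => he₁c (hcommW _ e)
  -- the centraliser of `c` is `⟨c⟩ Z`
  have hN : ∀ w, Commute w c → ∃ i : ℕ, c ^ i * w ∈ Z := by
    intro w hw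
    obtain ⟨d, f, hd, hf, hfm, rfl⟩ := h.exists_decomp w
    have hφw : Commute (φ (d * f)) c := by
      have := hw.map φ.toMonoidHom
      rwa [show φ.toMonoidHom c = c from hc] at this
    have hfc : Commute f c := by
      obtain ⟨j, hj⟩ := mem_zpowers_iff.1 hfm
      rw [← hj]
      exact (hw.inv_left.mul_left hφw).zpow_left j
    have hfZ : f ∈ Z := hin c hc hc1 f hfc hf
    have hdc : Commute d c := by
      rw [show d = d * f * f⁻¹ by group]; exact hw.mul_left hfc.inv_left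
    -- `e₁` fixes `d` modulo `Z`
    obtain ⟨d', f', hd', hf', hf'm, hdec⟩ := h.exists_decomp (e₁ * d * e₁⁻¹)
    have hcc : Commute (e₁ * d * e₁⁻¹) c := by
      have h1 : Commute (e₁ * d * e₁⁻¹) (e₁ * c * e₁⁻¹) :=
        hdc.map (MulAut.conj e₁).toMonoidHom
      have h2 : Commute (e₁ * d * e₁⁻¹) z₁⁻¹ := (mem_center_iff.1 (hZc (inv_mem hz₁)) _)
      have := h1.mul_right h2
      rw [show z₁⁻¹ = c * (e₁ * c * e₁⁻¹)⁻¹ by simp [z₁, mul_assoc]] at this
      have e3 : e₁ * c * e₁⁻¹ * (c * (e₁ * c * e₁⁻¹)⁻¹) = c := by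
        rw [← mul_assoc, mul_inv_eq_iff_eq_mul]
        show e₁ * c * e₁⁻¹ * c = c * (e₁ * c * e₁⁻¹)
        rw [show e₁ * c * e₁⁻¹ = z₁ * c by simp [z₁, mul_assoc], ← mul_assoc c, mem_center_iff.1 (hZc hz₁) c]
      rwa [e3] at this
    have hf'Z : f' ∈ Z := by
      refine hin c hc hc1 f' ?_ hf'
      obtain ⟨j, hj⟩ := mem_zpowers_iff.1 hf'm
      rw [← hj]
      refine ((hcc.inv_left).mul_left ?_).zpow_left j
      have := hcc.map φ.toMonoidHom
      rwa [show φ.toMonoidHom c = c from hc] at this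
    have hπe : Commute (π e₁) (π d) := by
      refine hψ.commute_of_fixed (φ := ψ) ?_ (by rw [hπφ, hd]) ?_
      · show ψ (π e₁) = (π e₁)⁻¹
        rw [hπφ, show φ e₁ = e₁⁻¹ from he₁, map_inv]
      · rw [← map_inv, ← map_mul, ← map_mul, hdec, map_mul, (hπZ f').2 hf'Z, mul_one, hπφ, hd']
    have hzd : e₁ * d * e₁⁻¹ * d⁻¹ ∈ Z := by
      rw [← hπZ, map_mul, map_mul, map_mul, map_inv, map_inv, hπe.eq, mul_inv_cancel_right, mul_inv_cancel]
    obtain ⟨i, hi⟩ := hpowZ z₁ hz₁ hz₁1 _ (inv_mem hzd)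
    refine ⟨i, ?_⟩
    by_contra hcd
    have hcd1 : c ^ i * d ≠ 1 := fun e => hcd (by rw [← mul_assoc, e, one_mul]; exact hfZ)
    have hfix : φ (c ^ i * d) = c ^ i * d := by rw [map_mul, map_pow, hc, hd]
    refine he₁Z (hin _ hfix hcd1 e₁ (mul_inv_eq_iff_eq_mul.1 ?_) he₁)
    have hpc : e₁ * c ^ i * e₁⁻¹ = z₁ ^ i * c ^ i := by
      rw [← conj_pow, show e₁ * c * e₁⁻¹ = z₁ * c by simp [z₁, mul_assoc],
        (show Commute z₁ c from (mem_center_iff.1 (hZc hz₁) c).symm).mul_pow]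
    calc e₁ * (c ^ i * d) * e₁⁻¹ = e₁ * c ^ i * e₁⁻¹ * (e₁ * d * e₁⁻¹) := by group
      _ = z₁ ^ i * c ^ i * (e₁ * d * e₁⁻¹) := by rw [hpc]
      _ = c ^ i * z₁ ^ i * (e₁ * d * e₁⁻¹) := by rw [mem_center_iff.1 (hZc (pow_mem hz₁ i)) (c ^ i)]
      _ = c ^ i * d := by rw [← hi]; group
  -- so the inverted elements lie in `⟨e₁⟩ Z`
  set M := zpowers e₁ ⊔ Z with hMdef
  have hMi : ∀ m ∈ M, Inv φ m := by
    intro m hm
    have hn : Z ≤ normalizer (zpowers e₁ : Set W) := fun y hy => Coprime.mem_normalizer_of_forall (fun w hw => by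
      rw [← mem_center_iff.1 (hZc hy) w, mul_inv_cancel_right]; exact hw)
    obtain ⟨a, ha, b, hb, rfl⟩ := (Coprime.mem_sup_iff hn).1 hm
    rw [Inv, map_mul, inv_of_mem_zpowers he₁ ha, hZinv b hb, mul_inv_rev]
    exact (mem_center_iff.1 (hZc (inv_mem hb)) a⁻¹)
  have hgenM : closure {e | Inv φ e} ≤ M := by
    refine (closure_le _).2 fun e he => ?_
    obtain ⟨i, hi⟩ := hpowZ z₁ hz₁ hz₁1 _ (hcommZ e (hcπ _))
    have hw : Commute ((e₁ ^ i)⁻¹ * e) c := hcommW _ (by
      rw [← mul_right_inj (e₁ ^ i * c * (e₁ ^ i)⁻¹ * c⁻¹), ← hdel _ _ (hcπ _), mul_inv_cancel_left, mul_one,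
        hdelpow e₁ (hcπ _), ← hi])
    obtain ⟨j, hj⟩ := hN _ hw
    -- modulo `Z`: `e ≡ e₁ ^ i c ^ (-j)` is inverted
    have hπ : π e = π (e₁ ^ i) * (π (c ^ j))⁻¹ := by
      have := (hπZ _).2 hj
      rw [map_mul, map_mul, map_inv] at this
      calc π e = π (e₁ ^ i) * (π (c ^ j))⁻¹ * (π (c ^ j) * ((π (e₁ ^ i))⁻¹ * π e)) := by group
        _ = _ := by rw [this, mul_one]
    have hcj : c ^ j ∈ Z := by
      have hcm : Commute (π (e₁ ^ i)) (π (c ^ j)) := by
        rw [map_pow π c]; exact (hcπ _).pow_right j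
      have h1 := congrArg ψ hπ
      rw [hπφ, map_mul, map_inv ψ, hπφ, hπφ, show φ e = e⁻¹ from he, map_pow φ, map_pow φ, hc,
        show φ e₁ = e₁⁻¹ from he₁, map_inv, hπ, inv_pow, map_inv, mul_inv_rev, inv_inv,
        ← hcm.inv_left.eq, mul_right_inj] at h1
      exact (hπZ _).1 (hψ.eq_one_of_inverted_eq h1)
    rw [show e = e₁ ^ i * (((c ^ j)⁻¹) * (c ^ j * ((e₁ ^ i)⁻¹ * e))) by group]
    exact mul_mem (mem_sup_left (pow_mem (mem_zpowers _) i)) (mem_sup_right (mul_mem (inv_mem hcj) hj))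
  exact hc1 (h.eq_one_of_inverted_eq (hc.symm.trans (hMi c (hgenM (hgen ▸ mem_top c)))))

/-- A non-trivial linear character fixed by the involution. -/
theorem exists_invariant_linear_character (h : InvolAut φ) (hs : SmallFixed φ) {c₀ : W} (hc₀ : φ c₀ = c₀)
    (hc₀1 : c₀ ≠ 1) : ∃ χ : W →* ℂˣ, χ ≠ 1 ∧ ∀ g, χ (φ g) = χ g := by
  set N := closure {e | Inv φ e} with hNdef
  have hNtop := closure_inverted_ne_top h hs hc₀ hc₀1
  have hmem : ∀ g, g⁻¹ * φ g ∈ N := fun g => subset_closure (inv_diff h.sq g)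
  have hNn : N.Normal := by
    refine ⟨fun m hm g => ?_⟩
    induction hm using closure_induction with
    | mem e he =>
      obtain ⟨f, hf, hff⟩ := h.exists_sqrt e
      have hfi := inv_of_mem_zpowers he (inv_mem hf)
      -- `e = f f` is `(f⁻¹)⁻¹ φ(f⁻¹)`
      have h1 : g * e * g⁻¹ = (f⁻¹ * g⁻¹)⁻¹ * φ (f⁻¹ * g⁻¹) * ((g⁻¹)⁻¹ * φ g⁻¹)⁻¹ := by
        rw [map_mul, hfi, inv_inv, ← hff]; group
      rw [h1]
      exact mul_mem (hmem _) (inv_mem (hmem _))
    | one => simp
    | mul a b _ _ ha hb => rw [show g * (a * b) * g⁻¹ = g * a * g⁻¹ * (g * b * g⁻¹) by group]; exact mul_mem ha hb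
    | inv a _ ha => rw [show g * a⁻¹ * g⁻¹ = (g * a * g⁻¹)⁻¹ by group]; exact inv_mem ha
  haveI := hNn
  haveI : Nontrivial (W ⧸ N) := QuotientGroup.nontrivial_iff.2 hNtop
  haveI : Group.IsSolvable (W ⧸ N) := S0205.result (h.odd.of_dvd_nat N.card_quotient_dvd_card)
  obtain ⟨g, hg⟩ : ∃ g, g ∉ commutator (W ⧸ N) := by
    by_contra hc
    push Not at hc
    exact (Group.IsSolvable.commutator_lt_top_of_nontrivial (W ⧸ N)).ne (eq_top_iff.2 fun x _ => hc x)
  have hne : Abelianization.of g ≠ 1 := fun e => hg (by rwa [← Abelianization.ker_of, MonoidHom.mem_ker])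
  obtain ⟨χ, hχ⟩ := CommGroup.exists_apply_ne_one_of_hasEnoughRootsOfUnity (Abelianization (W ⧸ N)) ℂ hne
  refine ⟨χ.comp (Abelianization.of.comp (QuotientGroup.mk' N)), fun e => hχ ?_, fun g => ?_⟩
  · obtain ⟨y, rfl⟩ := QuotientGroup.mk'_surjective N g
    exact congrArg (fun f : W →* ℂˣ => f y) e
  · simp only [MonoidHom.comp_apply]
    congr 2
    exact (QuotientGroup.eq.2 (hmem g)).symm

end Cfsg.Agent.GWDihedral.Fixed
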