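import Cfsg.Agent.Lib.GWDihedral.SidesDefs
import Cfsg.Agent.Lib.GWKlein.Local

/-!
# Gorenstein-Walter, dihedral Sylow 2-subgroups of order at least eight: the interfaces between the steps

The steps of `notes/gw_dihedral_eight.md`, as propositions that the files prove and consume. `a`, `b` are the
orders of `coreW t r`, `coreW t (r * σ)`; statements on the second class are the same ones for
`t, r * σ, σ⁻¹` (`DHyp.swap`).

* `Ctx` : the setting with induction and the order formula
* `Exc` : the conclusion of section 1, satisfied by a prime for which an invariant group leaves `C(t)`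
* `SideRot` (1.1), `SideExc` (1.2)
* `PrimePowFused`, `OneClass` (2.1), `CoreCentral`, `CentShape` (2.2)
* `NoFusedOver` (3), `Maximal` (MAX), `NoTheta` (theta)
-/

set_option autoImplicit false

namespace Cfsg.Agent.GWDihedral

open Subgroup
open Cfsg.Agent.GWKlein (coreU coreW fourV oddPart)

universe u

variable {G : Type u} [Group G]

/-- A minimal counterexample in the standard notation. -/
structure Ctx (n : ℕ) (t r σ : G) : Prop where
  hyp : DHyp n t r σ
  proper : ProperGWLike G
  formula : DOrderFormula n t r σ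

theorem DOrderFormula.swap {n : ℕ} {t r σ : G} (h : DOrderFormula n t r σ) :
    DOrderFormula n t (r * σ) σ⁻¹ := by
  obtain ⟨X, h1, h2, h3, h4⟩ := h
  exact ⟨X, h1, h2, h3, by rw [mul_inv_cancel_right]; linear_combination h4⟩

theorem Ctx.swap {n : ℕ} {t r σ : G} (h : Ctx n t r σ) : Ctx n t (r * σ) σ⁻¹ :=
  ⟨h.hyp.swap, h.proper, h.formula.swap⟩

/-- `H` has an element permuting the involutions of `⟨t, r⟩` cyclically. -/
def Fused (t r : G) (H : Subgroup G) : Prop := ∃ s ∈ H, Rot t r s

/-- `q` is exceptional: the Sylow `q`-subgroups of `U` are cyclic and non-trivial, `q` is prime to `a b` and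
no subgroup of order `q` of `U` is normal in `C(t)`. -/
def Exc (t r σ : G) (q : ℕ) : Prop :=
  q ∣ Nat.card (coreU t) ∧ ¬ q ∣ Nat.card (coreW t r) ∧ ¬ q ∣ Nat.card (coreW t (r * σ)) ∧
    (∀ P : Subgroup G, P ≤ coreU t → IsPGroup q P → IsCyclic P) ∧
    ∀ E : Subgroup G, E ≤ coreU t → Nat.card E = q → ¬ centralizer ({t} : Set G) ≤ normalizer (E : Set G)

/-- (1.1b) with (1.2): a `q`-group normalised by `⟨t, r⟩` and a rotation of it is centralised by it. -/
def SideRot (t r σ : G) : Prop :=
  ∀ q : ℕ, q.Prime → q ≠ 2 → ∀ Q : Subgroup G, IsPGroup q Q → fourV t r ≤ normalizer (Q : Set G) →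
    Fused t r (normalizer (Q : Set G)) → fourV t r ≤ centralizer (Q : Set G) ∨ Exc t r σ q

/-- (1.2): a side makes its prime exceptional. -/
def SideExc (t r σ : G) : Prop :=
  ∀ q : ℕ, q.Prime → q ≠ 2 → ∀ R : Subgroup G, Side q t r σ R → Exc t r σ q

/-- (2.1): every element of prime power order of `W` is centralised by a rotation of `⟨t, r⟩`. -/
def PrimePowFused (t r : G) : Prop :=
  ∀ y ∈ coreW t r, IsPrimePow (orderOf y) → ∃ s, Rot t r s ∧ Commute s y

/-- (2.1), fusion in the centraliser of a prime power element of `U`: its involutions form one class. -/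
def OneClass (t : G) : Prop :=
  ∀ y ∈ coreU t, IsPrimePow (orderOf y) → ∀ i : G, orderOf i = 2 → Commute i y →
    ∃ c : G, Commute c y ∧ c * t * c⁻¹ = i

/-- (2.2), first part: at the primes of `a` the four-group centralises the invariant subgroups of the core
of the centraliser of a prime power element of `W`. -/
def CoreCentral (t r : G) : Prop :=
  ∀ y ∈ coreW t r, IsPrimePow (orderOf y) → ∀ q : ℕ, q.Prime → q ∣ Nat.card (coreW t r) →
    ∀ Q : Subgroup G, IsPGroup q Q → Q ≤ oddPart (centralizer ({y} : Set G)) →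
      fourV t r ≤ normalizer (Q : Set G) → fourV t r ≤ centralizer (Q : Set G)

/-- (2.2), second part: the elements of `C_U(y)` inverted by `r` form a cyclic group `T`, of order `τ A` with
`A` exceptional, and the centraliser of `y` is as large as its simple section forces. -/
def CentShape (t r σ : G) : Prop :=
  ∀ y ∈ coreW t r, IsPrimePow (orderOf y) → y ≠ 1 → ∃ (T : Subgroup G) (τ A s k : ℕ),
    IsCyclic T ∧ (∀ x, x ∈ T ↔ x ∈ coreU t ∧ Commute x y ∧ r * x * r⁻¹ = x⁻¹) ∧
    Nat.card T = τ * A ∧ (∀ q : ℕ, q.Prime → q ∣ A → Exc t r σ q) ∧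
    s = (Nat.card (centralizer ({y} : Set G))).factorization 2 ∧ 2 ≤ s ∧
    Nat.card (centralizer ({y} : Set G)) = k * Nat.card (centralizer ({y, t} : Set G)) ∧
    ((s = 3 ∧ τ = 3 ∧ 105 * A ^ 2 ≤ k ∧ 35 ∣ Nat.card (centralizer ({y} : Set G))) ∨
      ∃ Q : ℕ, IsPrimePow Q ∧ Q ∣ Nat.card (centralizer ({y} : Set G)) ∧
      ((Q = 2 ^ s * τ + 1 ∧ Q * (Q + 1) * A ^ 2 ≤ 2 * k) ∨
        (Q + 1 = 2 ^ s * τ ∧ Q * (Q - 1) * A ^ 2 ≤ 2 * k)) ∧
      (Q + 1) * (Q - 1) ∣ 2 * Nat.card (centralizer ({y} : Set G)))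

/-- No proper overgroup of `C(t)` is fused on `⟨t, r⟩`. -/
def NoFusedOver (t r : G) : Prop :=
  ∀ M : Subgroup G, M ≠ ⊤ → centralizer ({t} : Set G) ≤ M → ¬ Fused t r M

/-- `C(t)` is a maximal subgroup. -/
def Maximal (t : G) : Prop :=
  ∀ M : Subgroup G, M ≠ ⊤ → centralizer ({t} : Set G) ≤ M → M = centralizer ({t} : Set G)

/-- (theta): a non-trivial linear character of `U` fixed by the Sylow subgroup forces `U` abelian. -/
def NoTheta (t r σ : G) : Prop :=
  ∀ θ : coreU t →* ℂˣ, θ ≠ 1 →
    (∀ z ∈ closure ({σ, r} : Set G), ∀ x y : coreU t, z * x * z⁻¹ = y → θ x = θ y) →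
    ∀ x ∈ coreU t, ∀ y ∈ coreU t, Commute x y

/-- The conclusion of the theorem. -/
def Conclusion (G : Type u) [Group G] : Prop :=
  (∃ (F : Type) (_ : Field F) (_ : Fintype F), Odd (Fintype.card F) ∧
    Nonempty (G ≃* Matrix.ProjectiveSpecialLinearGroup (Fin 2) F)) ∨
  Nonempty (G ≃* alternatingGroup (Fin 7))

end Cfsg.Agent.GWDihedral
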