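import Cfsg.Agent.Lib.GWDihedral.CaseALocal
import Cfsg.Agent.Lib.GWDihedral.CaseAFixed
import Cfsg.Agent.Lib.GWDihedral.Steps

/-!
# Gorenstein-Walter, dihedral Sylow subgroups: a proper overgroup of `C(t)` fused on `⟨t, r⟩`

Section 3 of `notes/gw_dihedral_eight.md`.

* `commR` : the commutators of `U` with `r`; `DHyp.exists_split` : `U = commR ⋊ W`
* `caseA` : such an overgroup forces `W₂ = 1`
-/

set_option autoImplicit false
set_option linter.unusedSectionVars false
set_option linter.style.haveILetI false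

namespace Cfsg.Agent.GWDihedral

open Subgroup
open Cfsg.Agent.GWKlein (coreU coreW fourV oddPart)

universe u

variable {G : Type u} [Group G] [Finite G] {n : ℕ} {t r σ : G}

/-- The subgroup generated by the commutators of `U` with `r`. -/
def commR (t r : G) : Subgroup G := closure {x | ∃ u ∈ coreU t, x = u * r * u⁻¹ * r⁻¹}

namespace DHyp

theorem commR_le_coreU (h : DHyp n t r σ) : commR t r ≤ coreU t :=
  (closure_le _).2 fun _ ⟨_, hu, e⟩ => e ▸ h.commutator_mem_coreU h.sylow_mem_r hu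

theorem mem_commR {u : G} (hu : u ∈ coreU t) : u * r * u⁻¹ * r⁻¹ ∈ commR t r :=
  subset_closure ⟨u, hu, rfl⟩

theorem rσ_mem_normalizer_coreW (h : DHyp n t r σ) (T : TorusData t r σ) :
    r * σ ∈ normalizer (coreW t r : Set G) := by
  refine Coprime.mem_normalizer_of_forall fun w hw => ?_
  have hw' : r * σ * w * (r * σ)⁻¹ ∈ coreU t := h.conj_mem_coreU h.sylow_mem_rσ hw.1
  refine h.mem_coreW.2 ⟨GWKlein.commute_of_mem_coreU hw', ?_, h.odd_orderOf hw'⟩
  have h1 := (h.mem_coreW.1 hw).2.1.map (MulAut.conj (r * σ)).toMonoidHom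
  simp only [MulEquiv.coe_toMonoidHom, MulAut.conj_apply, h.conj_r_eq] at h1
  have := h1.mul_right (T.σ_sq _ hw').inv_right
  rwa [mul_inv_cancel_right] at this

theorem commR_comm (T : TorusData t r σ) {a b : G} (ha : a ∈ commR t r) (hb : b ∈ commR t r) : Commute a b := by
  induction ha using closure_induction with
  | mem x hx =>
    obtain ⟨u, hu, rfl⟩ := hx
    induction hb using closure_induction with
    | mem y hy => obtain ⟨u', hu', rfl⟩ := hy; exact T.comm u hu u' hu'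
    | one => exact Commute.one_right _
    | mul y z _ _ hy hz => exact hy.mul_right hz
    | inv y _ hy => exact hy.inv_right
  | one => exact Commute.one_left _
  | mul x y _ _ hx hy => exact hx.mul_left hy
  | inv x _ hx => exact hx.inv_left

theorem commR_inverted (h : DHyp n t r σ) (T : TorusData t r σ) {a : G} (ha : a ∈ commR t r) :
    r * a * r⁻¹ = a⁻¹ := by
  induction ha using closure_induction with
  | mem x hx =>
    obtain ⟨u, -, rfl⟩ := hx
    rw [Involution.inv_eq h.order_r]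
    simp only [mul_inv_rev, inv_inv, Involution.inv_eq h.order_r, mul_assoc, h.mul_self_r, mul_one]
  | one => simp
  | mul x y hx hy ex ey =>
    rw [← _root_.conj_mul, ex, ey, ← mul_inv_rev]
    exact congrArg _ (commR_comm T hy hx).eq
  | inv x _ ex => rw [← conj_inv, ex]

theorem conj_mem_commR (_h : DHyp n t r σ) {g a : G} (hg : g ∈ coreU t) (ha : a ∈ commR t r) :
    g * a * g⁻¹ ∈ commR t r := by
  induction ha using closure_induction with
  | mem x hx =>
    obtain ⟨u, hu, rfl⟩ := hx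
    rw [show g * (u * r * u⁻¹ * r⁻¹) * g⁻¹ = (g * u * r * (g * u)⁻¹ * r⁻¹) * (g * r * g⁻¹ * r⁻¹)⁻¹ by group]
    exact mul_mem (mem_commR (mul_mem hg hu)) (inv_mem (mem_commR hg))
  | one => simp
  | mul x y _ _ hx hy => rw [← _root_.conj_mul]; exact mul_mem hx hy
  | inv x _ hx => rw [← conj_inv]; exact inv_mem hx

theorem rσ_conj_commR (h : DHyp n t r σ) (T : TorusData t r σ) {a : G} (ha : a ∈ commR t r) :
    r * σ * a * (r * σ)⁻¹ ∈ commR t r := by
  induction ha using closure_induction with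
  | mem x hx =>
    obtain ⟨u, hu, rfl⟩ := hx
    set u' := r * σ * u * (r * σ)⁻¹
    have hu' : u' ∈ coreU t := h.conj_mem_coreU h.sylow_mem_rσ hu
    rw [show r * σ * (u * r * u⁻¹ * r⁻¹) * (r * σ)⁻¹ =
      u' * (r * σ * r * (r * σ)⁻¹) * u'⁻¹ * (r * σ * r * (r * σ)⁻¹)⁻¹ by simp only [u']; group, h.conj_r_eq,
      show u' * (r * σ ^ 2) * u'⁻¹ * (r * σ ^ 2)⁻¹ = u' * r * (σ ^ 2 * u'⁻¹ * (σ ^ 2)⁻¹) * r⁻¹ by group,
      (T.σ_sq u' hu').symm.inv_right.eq, mul_inv_cancel_right]
    exact mem_commR hu'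
  | one => simp
  | mul x y _ _ hx hy => rw [← _root_.conj_mul]; exact mul_mem hx hy
  | inv x _ hx => rw [← conj_inv]; exact inv_mem hx

theorem exists_split (h : DHyp n t r σ) {u : G} (hu : u ∈ coreU t) :
    ∃ a ∈ commR t r, ∃ w ∈ coreW t r, u = a * w := by
  set e := u * r * u⁻¹ * r⁻¹ with he
  have heU : e ∈ coreU t := h.commR_le_coreU (mem_commR hu)
  obtain ⟨k, hk⟩ := h.odd_orderOf heU
  set s := e ^ (k + 1) with hs
  have hss : s * s = e := by
    rw [hs, ← pow_add, show k + 1 + (k + 1) = orderOf e + 1 by omega, pow_succ, pow_orderOf_eq_one, one_mul]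
  have hei : r * e * r⁻¹ = e⁻¹ := by
    rw [he, Involution.inv_eq h.order_r]
    simp only [mul_inv_rev, inv_inv, Involution.inv_eq h.order_r, mul_assoc, h.mul_self_r, mul_one]
  have hsi : r * s * r⁻¹ = s⁻¹ := by rw [hs, ← conj_pow, hei, inv_pow]
  have hsA : s ∈ commR t r := pow_mem (mem_commR hu) _
  refine ⟨s, hsA, s⁻¹ * u, ?_, (mul_inv_cancel_left s u).symm⟩
  have hwU : s⁻¹ * u ∈ coreU t := mul_mem (inv_mem (h.commR_le_coreU hsA)) hu
  refine h.mem_coreW.2 ⟨GWKlein.commute_of_mem_coreU hwU, (mul_inv_eq_iff_eq_mul.1 ?_).symm, h.odd_orderOf hwU⟩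
  rw [← _root_.conj_mul, ← conj_inv, hsi, inv_inv, show r * u * r⁻¹ = e⁻¹ * u by
    rw [he, Involution.inv_eq h.order_r]; simp [mul_assoc, Involution.inv_eq h.order_r], ← hss]
  group

theorem commR_inf_coreW (h : DHyp n t r σ) (T : TorusData t r σ) {a : G} (ha : a ∈ commR t r)
    (haW : a ∈ coreW t r) : a = 1 :=
  eq_one_of_inverted_commute (h.mem_coreW.1 haW).2.2 (h.commR_inverted T ha) (h.mem_coreW.1 haW).2.1.symm

theorem split_unique (h : DHyp n t r σ) (T : TorusData t r σ) {a a' w w' : G} (ha : a ∈ commR t r)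
    (ha' : a' ∈ commR t r) (hw : w ∈ coreW t r) (hw' : w' ∈ coreW t r) (e : a * w = a' * w') :
    w = w' := by
  have e1 : a'⁻¹ * a = w' * w⁻¹ := by rw [eq_mul_inv_iff_mul_eq, mul_assoc, e, inv_mul_cancel_left]
  have h1 := h.commR_inf_coreW T (mul_mem (inv_mem ha') ha) (e1 ▸ mul_mem hw' (inv_mem hw))
  rw [e1] at h1
  exact (mul_inv_eq_one.1 h1).symm

/-- The projection of `U` on `W`. -/
theorem exists_proj (h : DHyp n t r σ) (T : TorusData t r σ) :
    ∃ p : coreU t →* coreW t r, (∀ u : coreU t, ∀ _ : (u : G) ∈ coreW t r, (p u : G) = u) ∧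
      (∀ u v : coreU t, (v : G) = r * u * r⁻¹ → p v = p u) ∧
      ∀ u v : coreU t, (v : G) = r * σ * u * (r * σ)⁻¹ → (p v : G) = r * σ * p u * (r * σ)⁻¹ := by
  have hex : ∀ u : coreU t, ∃ w : coreW t r, ∃ a ∈ commR t r, (u : G) = a * w := fun u => by
    obtain ⟨a, ha, w, hw, e⟩ := h.exists_split u.2
    exact ⟨⟨w, hw⟩, a, ha, e⟩
  choose p a ha hp using hex
  have huniq : ∀ (u : coreU t) (b : G), b ∈ commR t r → ∀ w ∈ coreW t r, (u : G) = b * w → (p u : G) = w :=
    fun u b hb w hw e => h.split_unique T (ha u) hb (p u).2 hw ((hp u).symm.trans e)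
  refine ⟨MonoidHom.mk' p fun u v => Subtype.ext ?_, fun u hu => ?_, fun u v hv => Subtype.ext ?_, fun u v hv => ?_⟩
  · refine huniq (u * v) (a u * ((p u : G) * a v * (p u : G)⁻¹)) (mul_mem (ha u) (h.conj_mem_commR (p u).2.1 (ha v)))
      _ (p u * p v).2 ?_
    rw [Subgroup.coe_mul, Subgroup.coe_mul, hp u, hp v]
    group
  · exact huniq u 1 (one_mem _) _ hu (one_mul _).symm
  · refine huniq v (a u)⁻¹ (inv_mem (ha u)) _ (p u).2 ?_
    rw [hv, hp u, ← _root_.conj_mul, h.commR_inverted T (ha u), (h.mem_coreW.1 (p u).2).2.1.symm.eq,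
      mul_inv_cancel_right]
    rfl
  · refine huniq v _ (h.rσ_conj_commR T (ha u)) _
      ((mem_normalizer_iff.1 (h.rσ_mem_normalizer_coreW T) _).1 (p u).2) ?_
    rw [hv, hp u, ← _root_.conj_mul]
    rfl

/-- No element of prime order of `W ∩ W₂` is centralised by `U`. -/
theorem not_centralized [IsSimpleGroup G] (h : DHyp n t r σ) (h1 : PrimePowFused t r)
    (h2 : PrimePowFused t (r * σ)) {c : G} (hc : c ∈ coreW t r) (hc2 : Commute c (r * σ))
    (hcp : (orderOf c).Prime) : ¬ ∀ u ∈ coreU t, Commute u c := by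
  intro hU
  obtain ⟨hct, hcr, hco⟩ := h.mem_coreW.1 hc
  set H := centralizer ({c} : Set G)
  have hle : centralizer ({t} : Set G) ≤ H := by
    rw [← h.sup_sylow]
    refine sup_le (fun u hu => mem_centralizer_singleton_iff.2 (hU u hu).eq) ((closure_le _).2 ?_)
    rintro g (rfl | rfl)
    · have := hcr.inv_right.mul_right hc2
      rw [inv_mul_cancel_left] at this
      exact mem_centralizer_singleton_iff.2 this.symm.eq
    · exact mem_centralizer_singleton_iff.2 hcr.symm.eq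
  obtain ⟨s, hs, hsc⟩ := h1 c hc hcp.isPrimePow
  obtain ⟨s', hs', hsc'⟩ := h2 c (h.swap.mem_coreW.2 ⟨hct, hc2, hco⟩) hcp.isPrimePow
  exact h.noFusedOvergroup H (h.centralizer_ne_top_caseA fun e => hcp.ne_one (by rw [e, orderOf_one])) hle
    ⟨s, mem_centralizer_singleton_iff.2 hsc.eq, hs.1⟩ ⟨s', mem_centralizer_singleton_iff.2 hsc'.eq, hs'.1⟩

end DHyp

theorem exists_prime_pow_mem {c : G} (hc1 : c ≠ 1) : ∃ k : ℕ, (orderOf (c ^ k)).Prime := by
  have h1 : orderOf c ≠ 1 := fun e => hc1 (orderOf_eq_one_iff.1 e)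
  obtain ⟨p, hp, hpd⟩ := Nat.exists_prime_and_dvd h1
  exact ⟨orderOf c / p, by rw [orderOf_pow_orderOf_div (orderOf_pos c).ne' hpd]; exact hp⟩

/-- Section 3: if a proper subgroup over `C(t)` is fused on `⟨t, r⟩` then `W₂ = 1`. -/
theorem caseA [IsSimpleGroup G] (c : Ctx n t r σ) (hS : SideRot t r σ) (h1 : PrimePowFused t r)
    (h2 : PrimePowFused t (r * σ)) (hθ : NoTheta t r σ) (M : Subgroup G) (hM : M ≠ ⊤)
    (hC : centralizer ({t} : Set G) ≤ M) (hF : Fused t r M) : coreW t (r * σ) = ⊥ := by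
  have h := c.hyp
  have T := h.torusData c.proper hS hM hC hF
  have hn := h.rσ_mem_normalizer_coreW T
  by_contra hb
  obtain ⟨x₀, hx₀, hx₀1⟩ := (Subgroup.bot_or_exists_ne_one _).resolve_left hb
  obtain ⟨k, hk⟩ := exists_prime_pow_mem hx₀1
  have hc₀ : x₀ ^ k ∈ coreW t r := pow_mem (T.le hx₀) k
  have hc₀2 : Commute (x₀ ^ k) (r * σ) := (h.swap.mem_coreW.1 hx₀).2.1.pow_left k
  obtain ⟨p, hpW, hpr, hpr2⟩ := h.exists_proj T
  -- the automorphism of `W` by `r * σ`
  have hconj : ∀ x : coreW t r, r * σ * x * (r * σ)⁻¹ ∈ coreW t r := fun x => (mem_normalizer_iff.1 hn _).1 x.2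
  have hinvol : ∀ x : G, r * σ * (r * σ * x * (r * σ)⁻¹) * (r * σ)⁻¹ = x := fun x => by
    rw [show r * σ * (r * σ * x * (r * σ)⁻¹) * (r * σ)⁻¹ = (r * σ * (r * σ)) * x * (r * σ * (r * σ))⁻¹ by group,
      h.mul_σ_sq]
    simp
  let φ : coreW t r ≃* coreW t r :=
    { toFun := fun x => ⟨_, hconj x⟩
      invFun := fun x => ⟨_, hconj x⟩
      left_inv := fun x => Subtype.ext (hinvol x)
      right_inv := fun x => Subtype.ext (hinvol x)
      map_mul' := fun x y => Subtype.ext (_root_.conj_mul).symm }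
  have hφfix : ∀ x : coreW t r, φ x = x → Commute (x : G) (r * σ) := fun x e =>
    (mul_inv_eq_iff_eq_mul.1 (congrArg Subtype.val e)).symm
  have hIA : Fixed.InvolAut φ := ⟨fun x => Subtype.ext (hinvol x), h.odd_coreW⟩
  have hSF : Fixed.SmallFixed φ := by
    intro d hd hd1 e hec hei he1
    obtain ⟨j, hj⟩ := exists_prime_pow_mem (c := (d : G)) fun e0 => hd1 (Subtype.ext e0)
    have hcom : ∀ e : coreW t r, Commute e d → Commute (e : G) ((d : G) ^ j) := fun e he =>
      (he.map (coreW t r).subtype).pow_right j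
    obtain ⟨h3, hall⟩ := h.small_centralizer c.proper hS h1 h2 hn (pow_mem d.2 j) ((hφfix d hd).pow_left j) hj
      e e.2 (hcom e hec) (congrArg Subtype.val hei) fun e0 => he1 (Subtype.ext e0)
    refine ⟨Subtype.ext h3, fun e' he'c he'i => ?_⟩
    obtain ⟨i, hi⟩ := mem_zpowers_iff.1 (hall e' e'.2 (hcom e' he'c) (congrArg Subtype.val he'i))
    exact mem_zpowers_iff.2 ⟨i, Subtype.ext (by rw [Subgroup.coe_zpow]; exact hi)⟩
  obtain ⟨χ, hχ1, hχ⟩ := Fixed.exists_invariant_linear_character hIA hSF (c₀ := ⟨_, hc₀⟩)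
    (Subtype.ext (mul_inv_eq_iff_eq_mul.2 hc₀2.symm.eq))
    (fun e => hk.ne_one (by rw [show x₀ ^ k = 1 from congrArg Subtype.val e, orderOf_one]))
  -- it gives an invariant character of `U`
  have hθ1 : χ.comp p ≠ 1 := by
    intro e
    refine hχ1 (MonoidHom.ext fun g => ?_)
    have h0 := DFunLike.congr_fun e (⟨g, g.2.1⟩ : coreU t)
    rwa [MonoidHom.comp_apply, show p ⟨g, g.2.1⟩ = g from Subtype.ext (hpW ⟨g, g.2.1⟩ g.2)] at h0
  have hinvθ : ∀ z ∈ closure ({σ, r} : Set G), ∀ x y : coreU t, z * x * z⁻¹ = y → χ.comp p x = χ.comp p y := by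
    have kr : ∀ x y : coreU t, r * x * r⁻¹ = y → χ.comp p x = χ.comp p y := fun x y e => by
      rw [MonoidHom.comp_apply, MonoidHom.comp_apply, hpr x y e.symm]
    have k2 : ∀ x y : coreU t, r * σ * x * (r * σ)⁻¹ = y → χ.comp p x = χ.comp p y := fun x y e => by
      rw [MonoidHom.comp_apply, MonoidHom.comp_apply, show p y = φ (p x) from Subtype.ext (hpr2 x y e.symm), hχ]
    intro z hz
    induction hz using closure_induction with
    | mem g hg =>
      intro x y e
      rcases hg with hg | hg <;> rw [hg] at e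
      · set x' : coreU t := ⟨_, h.conj_mem_coreU h.sylow_mem_rσ x.2⟩ with hx'
        refine (k2 x x' rfl).trans (kr x' y ?_)
        rw [← e, hx', Involution.inv_eq h.order_r]
        show r * (r * σ * x * (r * σ)⁻¹) * r = σ * x * σ⁻¹
        rw [mul_inv_rev, show r * (r * σ * x * (σ⁻¹ * r⁻¹)) * r = (r * r) * σ * x * σ⁻¹ * (r⁻¹ * r) by group,
          h.mul_self_r, inv_mul_cancel, one_mul, mul_one]
      · exact kr x y e
    | one =>
      intro x y e
      rw [show x = y from Subtype.ext (by simpa using e)]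
    | mul g g' _ hg' ih ih' =>
      intro x y e
      refine (ih' x ⟨_, h.conj_mem_coreU hg' x.2⟩ rfl).trans (ih _ y ?_)
      rw [← e]
      show g * (g' * x * g'⁻¹) * g⁻¹ = _
      group
    | inv g _ ih =>
      intro x y e
      refine (ih y x ?_).symm
      rw [← e]
      group
  have hab := hθ _ hθ1 hinvθ
  exact h.not_centralized h1 h2 hc₀ hc₀2 hk fun u hu => hab u hu _ hc₀.1

end Cfsg.Agent.GWDihedral
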