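import Cfsg.Agent.Lib.GWDihedral.SocleFacts
import Cfsg.Agent.Lib.GWKlein.General.L2Facts
import Cfsg.Agent.Lib.SylowLift.Solvable

/-!
# Gorenstein-Walter, dihedral Sylow subgroups: the torus at an involution (helper64)

`exists_hasTorus`: in a finite group whose involutions form one class, with `⟨t, r⟩` its own 2-centraliser and
a socle `PSL(2,q)` or `A7` (or soluble), the elements of odd order centralising `t` and inverted by `r` form a
cyclic group, and its order, the 2-part and the index of `C(t)` satisfy the relations `TorusShape`.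
-/

set_option autoImplicit false
set_option linter.unusedSectionVars false
set_option linter.style.haveILetI false

namespace Cfsg.Agent.GWDihedral

open Subgroup

universe v w

/-- The numerical relations: `s` the 2-exponent, `τ` the order of the torus, `m` the order of the group,
`k` the index of the centraliser of the involution. -/
def TorusShape (s τ m k : ℕ) : Prop :=
  2 ≤ s ∧ ((s = 3 ∧ τ = 3 ∧ 105 ≤ k ∧ 35 ∣ m) ∨ ∃ Q : ℕ, IsPrimePow Q ∧ Q ∣ m ∧
    ((Q = 2 ^ s * τ + 1 ∧ Q * (Q + 1) ≤ 2 * k) ∨ (Q + 1 = 2 ^ s * τ ∧ Q * (Q - 1) ≤ 2 * k)) ∧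
    (Q + 1) * (Q - 1) ∣ 2 * m)

theorem TorusShape.mono {s τ m k m' k' : ℕ} (h : TorusShape s τ m k) (hm : m ∣ m') (hk : k ≤ k') :
    TorusShape s τ m' k' := by
  obtain ⟨hs, ⟨h1, h2, h3, h4⟩ | ⟨Q, hQ, hQm, h', h''⟩⟩ := h
  · exact ⟨hs, Or.inl ⟨h1, h2, h3.trans hk, h4.trans hm⟩⟩
  refine ⟨hs, Or.inr ⟨Q, hQ, hQm.trans hm, ?_, h''.trans (mul_dvd_mul_left 2 hm)⟩⟩
  rcases h' with ⟨a, b⟩ | ⟨a, b⟩
  · exact Or.inl ⟨a, by omega⟩
  · exact Or.inr ⟨a, by omega⟩

/-- The elements of odd order of `C(u)` inverted by `v` form a cyclic group of the right order. -/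
def HasTorus {M : Type v} [Group M] (u v : M) : Prop :=
  ∃ T : Subgroup M, IsCyclic T ∧ (∀ x, x ∈ T ↔ Odd (orderOf x) ∧ Commute x u ∧ v * x * v⁻¹ = x⁻¹) ∧
    TorusShape ((Nat.card M).factorization 2) (Nat.card T) (Nat.card M) (centralizer ({u} : Set M)).index

theorem HasTorus.of_equiv {M : Type v} {N : Type w} [Group M] [Group N] (e : M ≃* N) {u v : M}
    (h : HasTorus (e u) (e v)) : HasTorus u v := by
  obtain ⟨T, hT, hmem, hsh⟩ := h
  refine ⟨T.map e.symm.toMonoidHom, ?_, fun x => ?_, ?_⟩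
  · haveI := hT
    exact isCyclic_of_surjective (T.equivMapOfInjective e.symm.toMonoidHom e.symm.injective).toMonoidHom
      (T.equivMapOfInjective e.symm.toMonoidHom e.symm.injective).surjective
  · rw [mem_map_equiv, MulEquiv.symm_symm, hmem, e.orderOf_eq]
    refine and_congr_right fun _ => and_congr ⟨fun h => e.injective ?_, fun h => h.map e.toMonoidHom⟩ ?_
    · rw [map_mul, map_mul, h.eq]
    · rw [← map_inv, ← map_inv, ← map_mul, ← map_mul, e.injective.eq_iff]
  · have e1 : (centralizer ({u} : Set M)) = (centralizer ({e u} : Set N)).comap e.toMonoidHom := by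
      ext x
      simp only [mem_comap, MulEquiv.coe_toMonoidHom, mem_centralizer_singleton_iff, ← map_mul,
        e.injective.eq_iff]
    rw [card_map_of_injective e.symm.injective, e1, index_comap_of_surjective _ e.surjective,
      Nat.card_congr e.toEquiv]
    exact hsh

section PSL

open Cfsg.Agent.PSL2

variable {F : Type} [Field F] [Finite F]

theorem hasTorus_psl (hodd : Odd (Nat.card F)) (h3 : 3 < Nat.card F) {u v : PSL2 F} (hu : orderOf u = 2)
    (hv : orderOf v = 2) (hne : u ≠ v) (hc : Commute u v) : HasTorus u v := by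
  have hu2 : u ^ 2 = 1 := orderOf_dvd_iff_pow_eq_one.1 hu.dvd
  have hv2 : v * v = 1 := by rw [← pow_two]; exact orderOf_dvd_iff_pow_eq_one.1 hv.dvd
  have hg : Nat.gcd 2 (Nat.card F - 1) = 2 :=
    Nat.gcd_eq_left (by obtain ⟨j, hj⟩ := hodd; omega)
  have hL := card_psl_mul (F := F)
  rw [hg] at hL
  obtain ⟨hC1, hC3⟩ := card_centralizer_involution hodd hu
  obtain ⟨M, k, hCu, hk, hLk, hcase⟩ : ∃ M k, Nat.card (centralizer ({u} : Set (PSL2 F))) = 4 * M ∧
      Odd k ∧ Nat.card (PSL2 F) = 4 * M * k ∧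
      ((4 * M + 1 = Nat.card F ∧ 2 * k = Nat.card F * (Nat.card F + 1)) ∨
        (4 * M = Nat.card F + 1 ∧ 2 * k = Nat.card F * (Nat.card F - 1))) := by
    obtain ⟨j, hj⟩ := hodd
    rcases Nat.even_or_odd j with ⟨i, hi⟩ | ⟨i, hi⟩
    · have e : Nat.card F = 4 * i + 1 := by omega
      refine ⟨i, Nat.card F * (2 * i + 1), by rw [hC1 (by omega), e]; omega,
        (Nat.odd_iff.2 (by omega)).mul ⟨i, rfl⟩, ?_, Or.inl ⟨e.symm, by rw [e]; ring⟩⟩
      refine Nat.eq_of_mul_eq_mul_left two_pos (hL.trans ?_)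
      rw [e, Nat.add_sub_cancel]; ring
    · have e : Nat.card F = 4 * i + 3 := by omega
      refine ⟨i + 1, Nat.card F * (2 * i + 1), by rw [hC3 (by omega), e]; omega,
        (Nat.odd_iff.2 (by omega)).mul ⟨i, rfl⟩, ?_, Or.inr ⟨by omega, ?_⟩⟩
      · refine Nat.eq_of_mul_eq_mul_left two_pos (hL.trans ?_)
        rw [e, show 4 * i + 3 - 1 = 2 * (2 * i + 1) by omega]; ring
      · rw [e, show 4 * i + 3 - 1 = 2 * (2 * i + 1) by omega]; ring
  have hM0 : M ≠ 0 := by rcases hcase with ⟨h, -⟩ | ⟨h, -⟩ <;> omega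
  obtain ⟨s, τ, hτ, hMs⟩ := Nat.exists_eq_two_pow_mul_odd hM0
  have hfac : (Nat.card (PSL2 F)).factorization 2 = s + 2 := by
    rw [hLk, show 4 * M * k = 2 ^ (s + 2) * (τ * k) by rw [hMs]; ring,
      Nat.factorization_mul (by positivity) (Nat.mul_ne_zero hτ.pos.ne' hk.pos.ne'), Finsupp.add_apply,
      Nat.prime_two.factorization_pow, Finsupp.single_eq_same, Nat.factorization_eq_zero_of_not_dvd
        (fun h => Nat.not_even_iff_odd.2 (hτ.mul hk) (even_iff_two_dvd.2 h))]
  -- the torus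
  obtain ⟨y₀, hy₀⟩ := exists_psl_orderOf_torus (F := F) (m := 2 * M) (by
    rw [hg]
    rcases hcase with ⟨h, -⟩ | ⟨h, -⟩
    · exact Or.inl ⟨1, by omega⟩
    · exact Or.inr ⟨1, by omega⟩)
  have hi : orderOf (y₀ ^ M) = 2 := by
    rw [orderOf_pow_of_dvd hM0 (hy₀ ▸ dvd_mul_left M 2), hy₀, Nat.mul_div_cancel _ (Nat.pos_of_ne_zero hM0)]
  obtain ⟨g, hgu⟩ := isConj_iff.1 (involution_isConj hodd hi hu)
  set y := g * y₀ * g⁻¹ with hydef
  have hy : orderOf y = 2 * M := (MulEquiv.orderOf_eq (MulAut.conj g) y₀).trans hy₀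
  have hyu : y ^ M = u := by rw [hydef, conj_pow, hgu]
  have htor : orderOf y = (Nat.card F - 1) / Nat.gcd 2 (Nat.card F - 1) ∨
      orderOf y = (Nat.card F + 1) / Nat.gcd 2 (Nat.card F - 1) := by
    rw [hy, hg]
    rcases hcase with ⟨h, -⟩ | ⟨h, -⟩
    · exact Or.inl (by omega)
    · exact Or.inr (by omega)
  have hyC : zpowers y ≤ centralizer ({u} : Set (PSL2 F)) :=
    zpowers_le.2 (mem_centralizer_singleton_iff.2 (hyu ▸ (Commute.refl y).pow_right M).eq)
  set z := y ^ 2 ^ (s + 1) with hzdef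
  have hz : orderOf z = τ := by
    rw [hzdef, orderOf_pow_of_dvd (by positivity) (hy ▸ ⟨τ, by rw [hMs]; ring⟩), hy, hMs,
      show 2 * (2 ^ s * τ) = 2 ^ (s + 1) * τ by ring, Nat.mul_div_cancel_left _ (by positivity)]
  have hzy : z ∈ zpowers y := pow_mem (mem_zpowers y) _
  have hinT : ∀ x, Odd (orderOf x) → Commute x u → x ∈ zpowers z := by
    intro x hxo hxu
    have hidx : ((zpowers y).subgroupOf (centralizer ({u} : Set (PSL2 F)))).index = 2 := by
      have h := ((zpowers y).subgroupOf (centralizer ({u} : Set (PSL2 F)))).card_mul_index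
      rw [Nat.card_congr (subgroupOfEquivOfLe hyC).toEquiv, Nat.card_zpowers, hy, hCu,
        show 4 * M = 2 * M * 2 by ring] at h
      exact Nat.eq_of_mul_eq_mul_left (by omega) h
    have h2 : x * x ∈ zpowers y :=
      Subgroup.mul_self_mem_of_index_two hidx ⟨x, mem_centralizer_singleton_iff.2 hxu.eq⟩
    have hxy : x ∈ zpowers y := by
      obtain ⟨j, hj⟩ := hxo
      have e : x = (x * x) ^ (j + 1) := by
        rw [← pow_two, ← pow_mul, show 2 * (j + 1) = orderOf x + 1 by omega, pow_succ,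
          pow_orderOf_eq_one, one_mul]
      exact e ▸ pow_mem h2 _
    refine GWKlein.L2.mem_zpowers_of_pow_eq_one hxy hzy (orderOf_dvd_iff_pow_eq_one.1 ?_)
    have h1 : orderOf x ∣ 2 ^ (s + 1) * τ := by
      rw [show 2 ^ (s + 1) * τ = 2 * M by rw [hMs]; ring, ← hy]
      exact orderOf_dvd_of_mem_zpowers hxy
    exact hz ▸ ((Nat.coprime_two_right.2 hxo).pow_right (s + 1)).dvd_of_dvd_mul_left h1
  have hodd' : ∀ x ∈ zpowers z, Odd (orderOf x) ∧ Commute x u := fun x hx =>
    ⟨hτ.of_dvd_nat (hz ▸ orderOf_dvd_of_mem_zpowers hx),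
      mem_centralizer_singleton_iff.1 (hyC ((zpowers_le.2 hzy) hx))⟩
  have hinv : ∀ x ∈ zpowers z, v * x * v⁻¹ = x⁻¹ := by
    intro x hx
    obtain ⟨hxo, hxu⟩ := hodd' x hx
    have hx' : v * x * v⁻¹ ∈ zpowers z := hinT _ (by rw [← MulAut.conj_apply, MulEquiv.orderOf_eq]; exact hxo)
      ((hc.symm.mul_left hxu).mul_left hc.symm.inv_left)
    set w := x * (v * x * v⁻¹) with hw
    have hwz : w ∈ zpowers z := mul_mem hx hx'
    have hcom : Commute (v * x * v⁻¹) x := by
      obtain ⟨i, hi⟩ := hx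
      obtain ⟨j, hj⟩ := hx'
      simp only at hi hj
      rw [← hj, ← hi]
      exact (Commute.refl z).zpow_zpow j i
    have hwv : Commute v w := by
      refine mul_inv_eq_iff_eq_mul.1 ?_
      have hvi : v⁻¹ = v := inv_eq_of_mul_eq_one_right hv2
      calc v * w * v⁻¹ = v * x * v⁻¹ * (v * v * x * (v * v)⁻¹) := by rw [hw]; group
        _ = w := by rw [hv2, one_mul, inv_one, mul_one, hcom.eq]
    by_contra hne1
    have hw1 : w ≠ 1 := fun e => hne1 (eq_inv_of_mul_eq_one_right e)
    have hw3 : 3 ≤ orderOf w := by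
      have h1 : orderOf w ≠ 1 := fun e => hw1 (orderOf_eq_one_iff.1 e)
      obtain ⟨j, hj⟩ := (hodd' w hwz).1
      omega
    have hvy := mem_zpowers_of_commute_torus htor ((zpowers_le.2 hzy) hwz) hw3 hwv
    obtain ⟨j, hj⟩ := GWKlein.L2.mem_zpowers_of_pow_eq_one hvy (hyu ▸ pow_mem (mem_zpowers y) M)
      (by rw [hu, pow_two, hv2])
    simp only at hj
    rcases Int.even_or_odd j with ⟨i, rfl⟩ | ⟨i, rfl⟩
    · rw [show i + i = (2 : ℤ) * i by ring, zpow_mul, zpow_ofNat, hu2, one_zpow] at hj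
      rw [← hj, orderOf_one] at hv
      omega
    · rw [zpow_add, zpow_mul, zpow_ofNat, hu2, one_zpow, one_mul, zpow_one] at hj
      exact hne hj
  refine ⟨zpowers z, inferInstance, fun x => ⟨fun hx => ⟨(hodd' x hx).1, (hodd' x hx).2, hinv x hx⟩,
    fun h => hinT x h.1 h.2.1⟩, ?_⟩
  have hkidx : (centralizer ({u} : Set (PSL2 F))).index = k := by
    refine Nat.eq_of_mul_eq_mul_left (show 0 < 4 * M by omega) ?_
    rw [← hCu, Subgroup.card_mul_index, hLk, hCu]
  have hprime : IsPrimePow (Nat.card F) := by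
    haveI := Fintype.ofFinite F
    rw [Nat.card_eq_fintype_card]
    exact FiniteField.isPrimePow_card F
  rw [hfac, Nat.card_zpowers, hz, hkidx]
  refine ⟨by omega, Or.inr ⟨Nat.card F, hprime, ?_, ?_, hL ▸ Dvd.intro_left _ rfl⟩⟩
  · have h1 : Nat.card F ∣ 2 * Nat.card (PSL2 F) := hL ▸ dvd_mul_right _ _
    exact (Nat.coprime_two_right.2 hodd).dvd_of_dvd_mul_left h1
  · have e : 4 * M = 2 ^ (s + 2) * τ := by rw [hMs]; ring
    rcases hcase with ⟨h, h'⟩ | ⟨h, h'⟩
    · exact Or.inl ⟨by omega, h'.ge⟩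
    · exact Or.inr ⟨by omega, h'.ge⟩

end PSL

section Alt

open Equiv Equiv.Perm

theorem hasTorus_alt {u v : alternatingGroup (Fin 7)} (hu : orderOf u = 2) :
    HasTorus u v := by
  classical
  obtain ⟨hct, hu4⟩ := Socle.card_support_involution hu
  have hu2 : (u : Perm (Fin 7)) * u = 1 := by
    rw [← pow_two, ← orderOf_dvd_iff_pow_eq_one, Subgroup.orderOf_coe, hu]
  let p : Fin 7 → Prop := fun a => a ∉ (u : Perm (Fin 7)).support
  have hp3 : Fintype.card (Subtype p) = 3 := by
    rw [Fintype.card_subtype, show (Finset.univ.filter p) = (u : Perm (Fin 7)).supportᶜ by ext a; simp [p],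
      Finset.card_compl, hu4, Fintype.card_fin]
  haveI : Nontrivial (Subtype p) := Fintype.one_lt_card_iff_nontrivial.1 (by omega)
  let φ : Perm (Subtype p) →* Perm (Fin 7) := ofSubtype
  have hφ : Function.Injective φ := ofSubtype_injective
  set B := (alternatingGroup (Subtype p)).map φ with hB
  have hBA : B ≤ alternatingGroup (Fin 7) := by
    rintro _ ⟨x, hx, rfl⟩
    rw [mem_alternatingGroup]
    exact (sign_ofSubtype x).trans (mem_alternatingGroup.1 hx)
  set T₀ := B.subgroupOf (alternatingGroup (Fin 7))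
  have hT3 : Nat.card T₀ = 3 := by
    rw [Nat.card_congr (subgroupOfEquivOfLe hBA).toEquiv, hB, card_map_of_injective hφ,
      nat_card_alternatingGroup, Nat.card_eq_fintype_card, hp3]
    rfl
  have hT₀ : ∀ x : alternatingGroup (Fin 7), x ∈ T₀ ↔ Odd (orderOf x) ∧ Commute x u := by
    intro x
    constructor
    · intro hx
      refine ⟨(show Odd 3 by decide).of_dvd_nat (hT3 ▸ orderOf_dvd_natCard _ hx), Subtype.ext ?_⟩
      obtain ⟨x', -, hx'⟩ := mem_subgroupOf.1 hx
      refine (Perm.Disjoint.commute fun a => ?_).eq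
      by_cases ha : a ∈ (u : Perm (Fin 7)).support
      · exact Or.inl (by rw [← hx']; exact ofSubtype_apply_of_not_mem x' (not_not.2 ha))
      · exact Or.inr (notMem_support.1 ha)
    · rintro ⟨ho, hxu⟩
      have hxu' : Commute (x : Perm (Fin 7)) u := congrArg Subtype.val hxu.eq
      have h1 : ∀ a, p ((x : Perm (Fin 7)) a) ↔ p a := fun a =>
        not_congr (Socle.apply_mem_iff_of_commute hxu' a)
      have h0 : (x : Perm (Fin 7)).support ∩ (u : Perm (Fin 7)).support = ∅ :=
        Socle.eq_empty (by rwa [Subgroup.orderOf_coe]) hu2 _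
          (fun a => by
            simp only [Finset.mem_inter, Socle.apply_mem_iff_of_commute hxu' a,
              Socle.apply_mem_iff_of_commute (Commute.refl (x : Perm (Fin 7))) a])
          (fun a => by
            simp only [Finset.mem_inter, Socle.apply_mem_iff_of_commute (Commute.refl (u : Perm (Fin 7))) a,
              Socle.apply_mem_iff_of_commute hxu'.symm a])
          (fun a ha => mem_support.1 (Finset.mem_inter.1 ha).1)
          (fun a ha => mem_support.1 (Finset.mem_inter.1 ha).2)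
          ((Finset.card_le_card Finset.inter_subset_right).trans hu4.le)
      have h2 : ∀ a, (x : Perm (Fin 7)) a ≠ a → p a := fun a ha hau =>
        Finset.notMem_empty a (h0 ▸ Finset.mem_inter.2 ⟨mem_support.2 ha, hau⟩)
      refine mem_subgroupOf.2 ⟨(x : Perm (Fin 7)).subtypePerm h1, ?_, ofSubtype_subtypePerm h1 h2⟩
      refine mem_alternatingGroup.2 ?_
      rw [← sign_ofSubtype, ofSubtype_subtypePerm h1 h2]
      exact mem_alternatingGroup.1 x.2
  have hcard : Nat.card (alternatingGroup (Fin 7)) = 2520 := by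
    rw [nat_card_alternatingGroup, Nat.card_fin]; rfl
  have hfac : (Nat.card (alternatingGroup (Fin 7))).factorization 2 = 3 := by
    rw [hcard, show 2520 = 2 ^ 3 * 315 by norm_num, Nat.factorization_mul (by norm_num) (by norm_num),
      Finsupp.add_apply, Nat.prime_two.factorization_pow, Finsupp.single_eq_same,
      Nat.factorization_eq_zero_of_not_dvd (by norm_num)]
  have hidx : 105 ≤ (centralizer ({u} : Set (alternatingGroup (Fin 7)))).index := by
    set C' := centralizer ({(u : Perm (Fin 7))} : Set (Perm (Fin 7)))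
    have h48 : Nat.card C' = 48 := by
      rw [nat_card_centralizer, hct, Fintype.card_fin]; rfl
    set D := (centralizer ({u} : Set (alternatingGroup (Fin 7)))).map (alternatingGroup (Fin 7)).subtype
    have hDC : D ≤ C' := by
      rintro _ ⟨x, hx, rfl⟩
      exact mem_centralizer_singleton_iff.2 (congrArg Subtype.val (mem_centralizer_singleton_iff.1 hx))
    obtain ⟨⟨a, ha⟩, ⟨b, hb⟩, hab⟩ := exists_pair_ne (Subtype p)
    have hab' : a ≠ b := fun e => hab (Subtype.ext e)
    have hne : D ≠ C' := by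
      intro e
      have hs : swap a b ∈ C' := mem_centralizer_singleton_iff.2 (Perm.Disjoint.commute fun c => by
        by_cases hc' : c ∈ (u : Perm (Fin 7)).support
        · exact Or.inl (swap_apply_of_ne_of_ne (fun h => ha (h ▸ hc')) fun h => hb (h ▸ hc'))
        · exact Or.inr (notMem_support.1 hc')).eq
      rw [← e] at hs
      have := mem_alternatingGroup.1 ((map_subtype_le _) hs)
      rw [sign_swap hab'] at this
      exact absurd this (by decide)
    obtain ⟨c, hc'⟩ := h48 ▸ card_dvd_of_le hDC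
    have hc2 : 2 ≤ c := by
      by_contra hlt
      rcases (show c = 0 ∨ c = 1 by omega) with rfl | rfl
      · omega
      · exact hne (eq_of_le_of_card_ge hDC (by omega))
    have hm := (centralizer ({u} : Set (alternatingGroup (Fin 7)))).card_mul_index
    rw [hcard] at hm
    have hDcard : Nat.card D = Nat.card (centralizer ({u} : Set (alternatingGroup (Fin 7)))) :=
      Cores.card_map_subtype (alternatingGroup (Fin 7)) _
    rw [← hDcard] at hm
    have : Nat.card D * 2 ≤ 48 := by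
      rw [hc']; exact Nat.mul_le_mul_left _ hc2
    nlinarith
  by_cases hi : ∀ x ∈ T₀, v * x * v⁻¹ = x⁻¹
  · refine ⟨T₀, isCyclic_of_prime_card (hp := ⟨Nat.prime_three⟩) hT3, fun x => ⟨fun hx => ?_, fun hx => ?_⟩, ?_⟩
    · exact ⟨((hT₀ x).1 hx).1, ((hT₀ x).1 hx).2, hi x hx⟩
    · exact (hT₀ x).2 ⟨hx.1, hx.2.1⟩
    · exact ⟨hfac.ge.trans' (by norm_num), Or.inl ⟨hfac, hT3, hidx, by rw [hcard]; norm_num⟩⟩
  · refine ⟨⊥, inferInstance, fun x => ⟨fun hx => ?_, fun hx => ?_⟩, ?_⟩
    · rw [mem_bot] at hx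
      subst hx
      simp
    · rw [mem_bot]
      by_contra hx1
      refine hi fun y hy => ?_
      have hxT := (hT₀ x).2 ⟨hx.1, hx.2.1⟩
      haveI : Fact (Nat.Prime 3) := ⟨Nat.prime_three⟩
      obtain ⟨i, hyi⟩ := mem_zpowers_of_prime_card (g := (⟨x, hxT⟩ : T₀)) (g' := ⟨y, hy⟩) hT3
        (fun e => hx1 (congrArg Subtype.val e))
      have e : x ^ i = y := congrArg Subtype.val hyi
      rw [← e, ← conj_zpow, hx.2.2, inv_zpow]
    · rw [Subgroup.card_bot, hfac, hcard]
      exact ⟨by norm_num, Or.inr ⟨7, (Nat.prime_iff.1 (by norm_num)).isPrimePow, by norm_num,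
        Or.inr ⟨by norm_num, by omega⟩, by norm_num⟩⟩

end Alt

/-- In `PSL(2,q)` and `A7`. -/
theorem Socle.hasTorus {L : Type v} [Group L] (hL : Socle L) {u v : L} (hu : orderOf u = 2)
    (hv : orderOf v = 2) (hne : u ≠ v) (hc : Commute u v) : HasTorus u v := by
  rcases hL with ⟨F, _, _, hodd, h3, ⟨e⟩⟩ | ⟨⟨e⟩⟩
  · exact HasTorus.of_equiv e (hasTorus_psl (by rwa [Nat.card_eq_fintype_card])
      (by rwa [Nat.card_eq_fintype_card]) (by rw [e.orderOf_eq, hu]) (by rw [e.orderOf_eq, hv])
      (e.injective.ne hne) (hc.map e.toMonoidHom))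
  · exact HasTorus.of_equiv e (hasTorus_alt (by rw [e.orderOf_eq, hu]))

variable {K : Type v} [Group K] [Finite K]

/-- The socle of a group with one class of involutions contains the torus. -/
theorem hasTorus_of_socle {t r : K} (ht : orderOf t = 2) (hr : orderOf r = 2) (hne : t ≠ r)
    (hc : Commute t r) (hone : ∀ i : K, orderOf i = 2 → ∃ c, c * t * c⁻¹ = i)
    (hgen : ∃ P : Sylow 2 K, ∀ x ∈ P, ∃ a b, a * a = 1 ∧ b * b = 1 ∧ x = a * b)
    (L : Subgroup K) [L.Normal] (hL : Socle L) : HasTorus t r := by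
  haveI : Fact (Nat.Prime 2) := ⟨Nat.prime_two⟩
  have hinL : ∀ i : K, i * i = 1 → i ∈ L := by
    intro i hi
    by_cases hi1 : i = 1
    · exact hi1 ▸ one_mem L
    obtain ⟨l, hl⟩ := hL.exists_involution
    obtain ⟨c, hct⟩ := hone (l : K) (by rw [Subgroup.orderOf_coe, hl])
    have htL : t ∈ L := by
      have := ‹L.Normal›.conj_mem _ l.2 c⁻¹
      rw [← hct] at this
      simpa [mul_assoc] using this
    obtain ⟨d, rfl⟩ := hone i (orderOf_eq_prime (by rw [pow_two, hi]) hi1)
    exact ‹L.Normal›.conj_mem t htL d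
  have hsq : ∀ i : K, orderOf i = 2 → i * i = 1 := fun i hi => by
    rw [← pow_two]; exact orderOf_dvd_iff_pow_eq_one.1 hi.dvd
  have htL : t ∈ L := hinL t (hsq t ht)
  have hrL : r ∈ L := hinL r (hsq r hr)
  obtain ⟨T, hT, hmem, hsh⟩ := hL.hasTorus (u := (⟨t, htL⟩ : L)) (v := ⟨r, hrL⟩)
    (by rw [Subgroup.orderOf_mk, ht]) (by rw [Subgroup.orderOf_mk, hr])
    (fun e => hne (congrArg Subtype.val e)) (Subtype.ext hc.eq)
  refine ⟨T.map L.subtype, ?_, fun x => ⟨?_, fun hx => ?_⟩, ?_⟩
  · haveI := hT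
    exact isCyclic_of_surjective (T.equivMapOfInjective L.subtype L.subtype_injective).toMonoidHom
      (T.equivMapOfInjective L.subtype L.subtype_injective).surjective
  · rintro ⟨z, hz, rfl⟩
    obtain ⟨h1, h2, h3⟩ := (hmem z).1 hz
    exact ⟨by rw [Subgroup.coe_subtype, Subgroup.orderOf_coe]; exact h1,
      h2.map L.subtype, congrArg Subtype.val h3⟩
  · obtain ⟨hxo, hxt, hxi⟩ := hx
    have hxx : x * x ∈ L := by
      have : x * r * x⁻¹ * r⁻¹ ∈ L := mul_mem (‹L.Normal›.conj_mem r hrL x) (inv_mem hrL)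
      rwa [show x * r * x⁻¹ * r⁻¹ = x * (r * x * r⁻¹)⁻¹ by group, hxi, inv_inv] at this
    have hxL : x ∈ L := by
      obtain ⟨j, hj⟩ := hxo
      have e : x = (x * x) ^ (j + 1) := by
        rw [← pow_two, ← pow_mul, show 2 * (j + 1) = orderOf x + 1 by omega, pow_succ,
          pow_orderOf_eq_one, one_mul]
      exact e ▸ pow_mem hxx _
    exact ⟨⟨x, hxL⟩, (hmem ⟨x, hxL⟩).2 ⟨by rw [Subgroup.orderOf_mk]; exact hxo, Subtype.ext hxt.eq,
      Subtype.ext hxi⟩, rfl⟩
  · obtain ⟨P, hP⟩ := hgen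
    have hPL : (P : Subgroup K) ≤ L := fun x hx => by
      obtain ⟨a, b, ha, hb, rfl⟩ := hP x hx
      exact mul_mem (hinL a ha) (hinL b hb)
    have hfac : (Nat.card L).factorization 2 = (Nat.card K).factorization 2 := by
      refine le_antisymm
        ((Nat.factorization_le_iff_dvd Nat.card_pos.ne' Nat.card_pos.ne').2 (card_subgroup_dvd_card L) 2) ?_
      refine (Nat.prime_two.pow_dvd_iff_le_factorization Nat.card_pos.ne').1 ?_
      rw [← P.card_eq_multiplicity]
      exact card_dvd_of_le hPL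
    rw [Cores.card_map_subtype, ← hfac]
    refine hsh.mono (card_subgroup_dvd_card L) ?_
    have e : centralizer ({⟨t, htL⟩} : Set L) = (centralizer ({t} : Set K)).subgroupOf L := by
      ext x
      simp only [mem_subgroupOf, mem_centralizer_singleton_iff, Subtype.ext_iff, Subgroup.coe_mul]
    rw [e]
    calc ((centralizer ({t} : Set K)).subgroupOf L).index
        ≤ (centralizer ({t} : Set K)).relIndex ⊤ :=
          relIndex_le_of_le_right le_top (by rw [relIndex_top_right]; exact index_ne_zero_of_finite)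
      _ = (centralizer ({t} : Set K)).index := relIndex_top_right _

/-- A soluble group with trivial odd core and one class of involutions. -/
theorem hasTorus_of_solvable {t r : K} (ht : orderOf t = 2) (hr : orderOf r = 2) (hne : t ≠ r)
    (hc : Commute t r) (hone : ∀ i : K, orderOf i = 2 → ∃ c, c * t * c⁻¹ = i)
    (hmax : ∀ x : K, Commute x t → Commute x r → (∃ k : ℕ, x ^ 2 ^ k = 1) →
      x = 1 ∨ x = t ∨ x = r ∨ x = t * r)
    [Group.IsSolvable K] (hO : Cfsg.oddCore K = ⊥) : HasTorus t r := by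
  haveI : Fact (Nat.Prime 2) := ⟨Nat.prime_two⟩
  set P := Cfsg.pCore 2 K with hPdef
  haveI hPn : P.Normal := Cores.pCore_normal 2 K
  have hP2 : IsPGroup 2 P := Cores.isPGroup_pCore 2 K
  have hcen : centralizer (P : Set K) ≤ P := SylowLift.centralizer_pCore_le_of_solvable hO
  have hsq : ∀ i : K, orderOf i = 2 → i * i = 1 := fun i hi => by
    rw [← pow_two]; exact orderOf_dvd_iff_pow_eq_one.1 hi.dvd
  have htt := hsq t ht
  have hrr := hsq r hr
  have ht1 : t ≠ 1 := fun e => by rw [e, orderOf_one] at ht; omega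
  have hr1 : r ≠ 1 := fun e => by rw [e, orderOf_one] at hr; omega
  have hP1 : P ≠ ⊥ := fun e => ht1 <| mem_bot.1 <| e ▸ hcen (by rw [e]; simp [mem_centralizer_iff])
  -- all involutions are central in `P`
  have hall : ∀ i : K, i * i = 1 → i ∈ P ∧ ∀ x ∈ P, Commute i x := by
    intro i hi
    by_cases hi1 : i = 1
    · exact ⟨hi1 ▸ one_mem P, fun x _ => hi1 ▸ Commute.one_left x⟩
    haveI : Nontrivial P := (nontrivial_iff_ne_bot P).2 hP1
    haveI : Nontrivial (center P) := hP2.center_nontrivial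
    obtain ⟨m, hm0, hm⟩ := (hP2.to_subgroup (center P)).nontrivial_iff_card.1 ‹_›
    obtain ⟨z, hz⟩ := exists_prime_orderOf_dvd_card' (G := center P) 2 (hm ▸ dvd_pow_self 2 hm0.ne')
    have hz2 : orderOf ((z : P) : K) = 2 := by rw [Subgroup.orderOf_coe, Subgroup.orderOf_coe, hz]
    have hzc : ∀ x ∈ P, Commute ((z : P) : K) x := fun x hx =>
      (congrArg Subtype.val (mem_center_iff.1 z.2 ⟨x, hx⟩)).symm
    obtain ⟨c, hct⟩ := hone _ hz2
    obtain ⟨d, hdt⟩ := hone i (orderOf_eq_prime (by rw [pow_two, hi]) hi1)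
    have e : i = d * c⁻¹ * ((z : P) : K) * (d * c⁻¹)⁻¹ := by rw [← hct, ← hdt]; group
    rw [e]
    refine ⟨hPn.conj_mem _ (z : P).2 _, fun x hx => ?_⟩
    have h1 := (hzc _ (hPn.conj_mem x hx (d * c⁻¹)⁻¹)).map (MulAut.conj (d * c⁻¹)).toMonoidHom
    simpa [mul_assoc] using h1
  have hV : ∀ x, Commute x t → Commute x r → x ∈ P → x = 1 ∨ x = t ∨ x = r ∨ x = t * r := fun x h1 h2 hx => by
    obtain ⟨k, hk⟩ := hP2 ⟨x, hx⟩
    exact hmax x h1 h2 ⟨k, congrArg Subtype.val hk⟩
  have hPV : ∀ x ∈ P, x = 1 ∨ x = t ∨ x = r ∨ x = t * r := fun x hx =>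
    hV x ((hall t htt).2 x hx).symm ((hall r hrr).2 x hx).symm hx
  have hself : ∀ x, Commute x t → Commute x r → x = 1 ∨ x = t ∨ x = r ∨ x = t * r := fun x h1 h2 => by
    refine hPV x (hcen (mem_centralizer_iff.2 fun y hy => ?_))
    rcases hPV y hy with rfl | rfl | rfl | rfl
    exacts [by simp, h1.eq.symm, h2.eq.symm, (h1.mul_right h2).eq.symm]
  have htr2 : t * r * (t * r) = 1 := by rw [hc.symm.mul_mul_mul_comm, htt, hrr, one_mul]
  have htr : t * r * t = r := by rw [hc.eq, mul_assoc, htt, mul_one]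
  have hCt : ∀ g, Commute g t → g = 1 ∨ g = t ∨ g = r ∨ g = t * r := by
    intro g hg
    by_cases hgr : Commute g r
    · exact hself g hg hgr
    exfalso
    have h0 : g * r * g⁻¹ * (g * r * g⁻¹) = 1 := by
      rw [show g * r * g⁻¹ * (g * r * g⁻¹) = g * (r * r) * g⁻¹ by group, hrr, mul_one, mul_inv_cancel]
    have hgr' : g * r * g⁻¹ = t * r := by
      rcases hPV _ (hall _ h0).1 with e | e | e | e
      · exact absurd (conj_eq_one_iff.1 e) hr1
      · exact absurd (conj_injective (e.trans (by rw [hg.eq, mul_inv_cancel_right]) :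
          g * r * g⁻¹ = g * t * g⁻¹)).symm hne
      · exact absurd (mul_inv_eq_iff_eq_mul.1 e) hgr
      · exact e
    have hgtr : g * (t * r) * g⁻¹ = r := by
      rw [show g * (t * r) * g⁻¹ = (g * t * g⁻¹) * (g * r * g⁻¹) by group, hgr', hg.eq, mul_inv_cancel_right,
        ← mul_assoc, htt, one_mul]
    have hgg : Commute (g * g) r := by
      refine mul_inv_eq_iff_eq_mul.1 ?_
      rw [show g * g * r * (g * g)⁻¹ = g * (g * r * g⁻¹) * g⁻¹ by group, hgr', hgtr]
    have hinvol : ∀ a : K, a * a = 1 → Commute a r := fun a ha => (hall a ha).2 r (hall r hrr).1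
    rcases hself _ (hg.mul_left hg) hgg with e | e | e | e
    · exact hgr (hinvol g e)
    · refine hgr ?_
      have h1 : g * r * (g * r) = 1 := by
        rw [show g * r * (g * r) = g * g * (g⁻¹ * r * g) * r by group, e,
          show g⁻¹ * r * g = t * r by (conv_lhs => rw [← hgtr]); group, ← mul_assoc, htt, one_mul, hrr]
      have h2 := (hinvol (g * r) h1).mul_left (Commute.refl r).inv_left
      rwa [mul_inv_cancel_right] at h2
    · exact hgr (e ▸ (Commute.refl g).mul_right (Commute.refl g))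
    · refine hgr ?_
      have h1 : Commute g (t * r) := e ▸ (Commute.refl g).mul_right (Commute.refl g)
      have h2 := hg.mul_right h1
      rwa [← mul_assoc, htt, one_mul] at h2
  have hset : ∀ i : K, orderOf i = 2 ↔ i ∈ ({t, r, t * r} : Set K) := by
    intro i
    refine ⟨fun hi => ?_, ?_⟩
    · rcases hPV i (hall i (hsq i hi)).1 with e | e | e | e
      · rw [e, orderOf_one] at hi; omega
      all_goals simp [e]
    · rintro (rfl | rfl | rfl)
      exacts [ht, hr, orderOf_eq_prime (by rw [pow_two, htr2]) fun e => hne (by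
        rw [eq_inv_of_mul_eq_one_left e, inv_eq_of_mul_eq_one_right hrr])]
  have hC : ((centralizer ({t} : Set K) : Subgroup K) : Set K) = {1, t, r, t * r} := by
    ext g
    rw [SetLike.mem_coe, mem_centralizer_singleton_iff]
    refine ⟨fun hg => by simpa using hCt g hg, ?_⟩
    rintro (rfl | rfl | rfl | rfl)
    exacts [by simp, rfl, hc.eq.symm, by rw [htr, ← mul_assoc, htt, one_mul]]
  have h1t : t * r ≠ t := fun e => hr1 (mul_eq_left.1 e)
  have h1r : t * r ≠ r := fun e => ht1 (mul_eq_right.1 e)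
  have h11 : t * r ≠ 1 := fun e => hne (by
    rw [eq_inv_of_mul_eq_one_left e, inv_eq_of_mul_eq_one_right hrr])
  have hc4 : Nat.card (centralizer ({t} : Set K)) = 4 := by
    rw [← SetLike.coe_sort_coe, hC, Nat.card_coe_set_eq, Set.ncard_insert_of_notMem, Set.ncard_insert_of_notMem,
      Set.ncard_pair (Ne.symm h1r)]
    · simp [hne, h1t.symm]
    · simp [ht1.symm, hr1.symm, h11.symm]
  have hk : (centralizer ({t} : Set K)).index = 3 := by
    let f : K ⧸ centralizer ({t} : Set K) → {i : K // orderOf i = 2} := Quotient.lift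
      (fun g => (⟨g * t * g⁻¹, by rw [← MulAut.conj_apply, MulEquiv.orderOf_eq, ht]⟩ : {i : K // orderOf i = 2}))
      (fun a b hab => Subtype.ext <| by
        have h := mem_centralizer_singleton_iff.1 (QuotientGroup.leftRel_apply.1 hab)
        show a * t * a⁻¹ = b * t * b⁻¹
        calc a * t * a⁻¹ = a * (a⁻¹ * b * t * (a⁻¹ * b)⁻¹) * a⁻¹ := by rw [h]; group
          _ = b * t * b⁻¹ := by group)
    have hf : Function.Bijective f := by
      refine ⟨fun a b hab => ?_, fun ⟨i, hi⟩ => ?_⟩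
      · induction a using Quotient.inductionOn with | h a => ?_
        induction b using Quotient.inductionOn with | h b => ?_
        refine Quotient.sound (QuotientGroup.leftRel_apply.2 (mem_centralizer_singleton_iff.2 ?_))
        have h : a * t * a⁻¹ = b * t * b⁻¹ := congrArg Subtype.val hab
        calc a⁻¹ * b * t = a⁻¹ * (b * t * b⁻¹) * b := by group
          _ = t * (a⁻¹ * b) := by rw [← h]; group
      · obtain ⟨c, hct⟩ := hone i hi
        exact ⟨QuotientGroup.mk c, Subtype.ext hct⟩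
    rw [index_eq_card, Nat.card_congr (Equiv.ofBijective f hf),
      Nat.card_congr (Equiv.subtypeEquivRight hset)]
    show Nat.card ({t, r, t * r} : Set K) = 3
    rw [Nat.card_coe_set_eq, Set.ncard_insert_of_notMem, Set.ncard_pair (Ne.symm h1r)]
    simp [hne, h1t.symm]
  have h12 : Nat.card K = 2 ^ 2 * 3 := by
    rw [← (centralizer ({t} : Set K)).card_mul_index, hc4, hk]
    norm_num
  refine ⟨⊥, inferInstance, fun x => ⟨fun hx => ?_, fun hx => ?_⟩, ?_⟩
  · rw [mem_bot] at hx
    subst hx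
    simp
  · rcases hCt x hx.2.1 with e | e | e | e
    · exact mem_bot.2 e
    all_goals
      exfalso
      have h2 : orderOf x = 2 := (hset x).2 (by simp [e])
      rw [h2] at hx
      exact absurd hx.1 (by decide)
  · rw [Subgroup.card_bot, hk, h12, Nat.factorization_mul (by norm_num) (by norm_num), Finsupp.add_apply,
      Nat.prime_two.factorization_pow, Finsupp.single_eq_same,
      Nat.factorization_eq_zero_of_not_dvd (by norm_num : ¬ 2 ∣ 3)]
    exact ⟨by norm_num, Or.inr ⟨3, (Nat.prime_iff.1 Nat.prime_three).isPrimePow, by norm_num,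
      Or.inr ⟨by norm_num, by norm_num⟩, by norm_num⟩⟩

end Cfsg.Agent.GWDihedral
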