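import Cfsg.Agent.EqLemmas
import Cfsg.Agent.Lib.GWKlein.General.SplitRad
import Cfsg.Agent.Lib.Transfer.Criteria
import Cfsg.Agent.S0205
import Mathlib.GroupTheory.SpecificGroups.ZGroup

/-!
# Gorenstein-Walter, dihedral Sylow subgroups: the inverted elements form a cyclic group (helper64)

`exists_cyclic_inverted`: an involutory automorphism `f` of a group `K` of odd order, a normal subgroup `M`
modulo which the inverted elements commute and are comparable primewise, and for each prime `q` either the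
`q`-subgroups are cyclic and fixed point free or `f` inverts no `q`-element of `M`: the inverted elements form a
cyclic subgroup.
-/

set_option autoImplicit false
set_option linter.unusedSectionVars false
set_option linter.style.haveILetI false

namespace Cfsg.Agent.GWDihedral

open Subgroup

universe u

variable {K : Type u} [Group K] [Finite K] (f : K →* K)

namespace InvTorus

variable {f}

theorem inverted_of_mem_zpowers {a b : K} (ha : f a = a⁻¹) (hb : b ∈ zpowers a) : f b = b⁻¹ := by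
  obtain ⟨i, rfl⟩ := hb
  show f (a ^ i) = (a ^ i)⁻¹
  rw [map_zpow, ha, inv_zpow]

variable (hK : Odd (Nat.card K))
include hK

theorem odd (x : K) : Odd (orderOf x) := hK.of_dvd_nat (orderOf_dvd_natCard x)

theorem eq_one_of_sq {x : K} (h : x ^ 2 = 1) : x = 1 :=
  orderOf_eq_one_iff.1 (Nat.eq_one_of_dvd_coprimes (Nat.coprime_two_right.2 (odd hK x)) dvd_rfl
    (orderOf_dvd_of_pow_eq_one h))

theorem commute_of_sq {x m : K} (h : Commute (x ^ 2) m) : Commute x m := by
  obtain ⟨j, hj⟩ := odd hK x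
  have e : x = (x ^ 2) ^ (j + 1) := by
    rw [← pow_mul, show 2 * (j + 1) = orderOf x + 1 by omega, pow_succ, pow_orderOf_eq_one, one_mul]
  rw [e]
  exact h.pow_left _

/-- An inverted element conjugating an inverted or fixed element into one of the same kind commutes with it. -/
theorem commute_of_conj {x m : K} (hx : f x = x⁻¹)
    (h : f m = m ∧ f (x * m * x⁻¹) = x * m * x⁻¹ ∨ f m = m⁻¹ ∧ f (x * m * x⁻¹) = (x * m * x⁻¹)⁻¹) :
    Commute x m := by
  refine commute_of_sq hK (mul_inv_eq_iff_eq_mul.1 ?_)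
  have e : x⁻¹ * m * x = x * m * x⁻¹ := by
    rcases h with ⟨hm, h⟩ | ⟨hm, h⟩
    · rwa [map_mul, map_mul, map_inv, hx, hm, inv_inv] at h
    · rw [map_mul, map_mul, map_inv, hx, hm, inv_inv] at h
      simpa [mul_assoc] using congrArg (·⁻¹) h
  calc x ^ 2 * m * (x ^ 2)⁻¹ = x * (x * m * x⁻¹) * x⁻¹ := by simp [pow_two, mul_assoc]
    _ = m := by rw [← e]; group

variable (h2 : ∀ x, f (f x) = x)
include h2

/-- An invariant subgroup without inverted elements is fixed. -/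
theorem fixed_of_no_inverted {Q : Subgroup K} (hQ : ∀ x ∈ Q, f x ∈ Q)
    (hno : ∀ x ∈ Q, f x = x⁻¹ → x = 1) {x : K} (hx : x ∈ Q) : f x = x :=
  (inv_mul_eq_one.1 (hno _ (mul_mem (inv_mem hx) (hQ x hx)) (by rw [map_mul, map_inv, h2, mul_inv_rev, inv_inv]))).symm

/-- An invariant subgroup without fixed elements is inverted. -/
theorem inverted_of_no_fixed {Q : Subgroup K} (hQ : ∀ x ∈ Q, f x ∈ Q) (hc : ∀ a ∈ Q, ∀ b ∈ Q, a * b = b * a)
    (hno : ∀ x ∈ Q, f x = x → x = 1) {x : K} (hx : x ∈ Q) : f x = x⁻¹ :=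
  eq_inv_of_mul_eq_one_left (by
    rw [hc _ (hQ x hx) _ hx]
    exact hno _ (mul_mem hx (hQ x hx)) (by rw [map_mul, h2]; exact hc _ (hQ x hx) _ hx))

/-- Every element is a fixed one times an inverted one. -/
theorem exists_fixed_mul (g : K) : ∃ c w, f c = c ∧ f w = w⁻¹ ∧ g = c * w := by
  set z := g⁻¹ * f g with hz
  have hzi : f z = z⁻¹ := by rw [hz, map_mul, map_inv, h2, mul_inv_rev, inv_inv]
  obtain ⟨j, hj⟩ := odd hK z
  set w := z ^ (j + 1) with hw
  have hwi : f w = w⁻¹ := inverted_of_mem_zpowers hzi (pow_mem (mem_zpowers z) _)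
  have hww : w * w = z := by
    rw [hw, ← pow_add, show j + 1 + (j + 1) = orderOf z + 1 by omega, pow_succ, pow_orderOf_eq_one, one_mul]
  refine ⟨g * w, w⁻¹, ?_, by rw [map_inv, hwi], by group⟩
  calc f (g * w) = f g * w⁻¹ := by rw [map_mul, hwi]
    _ = g * z * w⁻¹ := by rw [hz]; group
    _ = g * w := by rw [← hww]; group

end InvTorus

open InvTorus in
/-- **The inverted elements form a cyclic subgroup.** -/
theorem exists_cyclic_inverted (hK : Odd (Nat.card K)) (h2 : ∀ x, f (f x) = x) (M : Subgroup K) [M.Normal]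
    (hfM : ∀ x ∈ M, f x ∈ M)
    (habel : ∀ x x', f x = x⁻¹ → f x' = x'⁻¹ → x * x' * x⁻¹ * x'⁻¹ ∈ M)
    (hcyc : ∀ q : ℕ, q.Prime → ∀ x x', f x = x⁻¹ → f x' = x'⁻¹ → (∃ k, orderOf x = q ^ k) →
      (∃ k, orderOf x' = q ^ k) → ∃ j : ℕ, (x' ^ j)⁻¹ * x ∈ M ∨ (x ^ j)⁻¹ * x' ∈ M)
    (hq : ∀ q : ℕ, q.Prime →
      (∀ Q : Subgroup K, IsPGroup q Q → IsCyclic Q ∧ ∀ x ∈ Q, f x = x → x = 1) ∨
      ∀ x ∈ M, f x = x⁻¹ → (∃ k, orderOf x = q ^ k) → x = 1) :
    ∃ T : Subgroup K, IsCyclic T ∧ ∀ x, x ∈ T ↔ f x = x⁻¹ := by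
  classical
  haveI : Group.IsSolvable K := S0205.result hK
  have hord : ∀ {q : ℕ}, q.Prime → ∀ {Q : Subgroup K}, IsPGroup q Q → ∀ x ∈ Q, ∃ k, orderOf x = q ^ k := by
    intro q hqp Q hQ x hx
    haveI := Fact.mk hqp
    obtain ⟨k, hk⟩ := IsPGroup.iff_orderOf.1 hQ ⟨x, hx⟩
    exact ⟨k, by rw [← hk, Subgroup.orderOf_mk]⟩
  -- fixed elements of invariant `q`-subgroups of `M`
  have hfixM : ∀ q : ℕ, q.Prime → (∀ x ∈ M, f x = x⁻¹ → (∃ k, orderOf x = q ^ k) → x = 1) →
      ∀ Q : Subgroup K, IsPGroup q Q → (∀ x ∈ Q, f x ∈ Q) → ∀ m ∈ M ⊓ Q, f m = m := fun q hqp hn Q hQ hfQ m hm =>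
    fixed_of_no_inverted hK h2 (Q := M ⊓ Q) (fun y hy => ⟨hfM y hy.1, hfQ y hy.2⟩)
      (fun y hy hyi => hn y hy.1 hyi (hord hqp hQ y hy.2)) hm
  -- inverted elements of an invariant `q`-subgroup commute
  have pair : ∀ q : ℕ, q.Prime → ∀ Q : Subgroup K, IsPGroup q Q → (∀ x ∈ Q, f x ∈ Q) →
      ∀ x ∈ Q, ∀ x' ∈ Q, f x = x⁻¹ → f x' = x'⁻¹ → Commute x x' := by
    intro q hqp Q hQ hfQ x hx x' hx' hxi hxi'
    rcases hq q hqp with hc | hn
    · haveI := (hc Q hQ).1
      exact congrArg Subtype.val ((IsCyclic.commGroup (α := Q)).mul_comm (⟨x, hx⟩ : Q) ⟨x', hx'⟩)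
    · have key : ∀ a ∈ Q, ∀ b ∈ Q, f a = a⁻¹ → f b = b⁻¹ → ∀ j : ℕ, (b ^ j)⁻¹ * a ∈ M → Commute a b := by
        intro a ha b hb _ hbi j hj
        set m := (b ^ j)⁻¹ * a with hm
        have hmMQ : m ∈ M ⊓ Q := ⟨hj, Q.mul_mem (Q.inv_mem (Q.pow_mem hb j)) ha⟩
        have hbm : Commute b m := commute_of_conj hK hbi (Or.inl ⟨hfixM q hqp hn Q hQ hfQ m hmMQ,
          hfixM q hqp hn Q hQ hfQ _ ⟨‹M.Normal›.conj_mem m hmMQ.1 b, Q.mul_mem (Q.mul_mem hb hmMQ.2) (Q.inv_mem hb)⟩⟩)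
        rw [show a = b ^ j * m by rw [hm, mul_inv_cancel_left]]
        exact ((Commute.refl b).pow_left j).mul_left hbm.symm
      obtain ⟨j, hj | hj⟩ := hcyc q hqp x x' hxi hxi' (hord hqp hQ x hx) (hord hqp hQ x' hx')
      · exact key x hx x' hx' hxi hxi' j hj
      · exact (key x' hx' x hx hxi' hxi j hj).symm
  -- `f` as an automorphism preserves each `O_q`
  let e : K ≃* K := MulEquiv.ofBijective f
    ⟨fun x y h => by rw [← h2 x, h, h2], fun y => ⟨f y, h2 y⟩⟩
  have hfO : ∀ q : ℕ, ∀ x ∈ Cfsg.pCore q K, f x ∈ Cfsg.pCore q K := fun q x hx => by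
    rw [← Cores.pCore_map_mulEquiv e q]
    exact ⟨x, hx, rfl⟩
  have hP1 : ∀ q : ℕ, q.Prime → ∀ x ∈ closure {x : K | x ∈ Cfsg.pCore q K ∧ f x = x⁻¹}, f x = x⁻¹ := by
    intro q hqp x hx
    haveI : IsMulCommutative (closure {x : K | x ∈ Cfsg.pCore q K ∧ f x = x⁻¹}) :=
      isMulCommutative_closure fun a ha b hb =>
        (pair q hqp _ (Cores.isPGroup_pCore q K) (hfO q) a ha.1 b hb.1 ha.2 hb.2).eq
    induction hx using closure_induction with
    | mem y hy => exact hy.2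
    | one => rw [map_one, inv_one]
    | mul a b ha hb hai hbi =>
      rw [map_mul, hai, hbi, ← mul_inv_rev,
        show b * a = a * b from congrArg Subtype.val (IsMulCommutative.is_comm.comm
          (⟨b, hb⟩ : closure {x : K | x ∈ Cfsg.pCore q K ∧ f x = x⁻¹}) ⟨a, ha⟩)]
    | inv a _ ha => rw [map_inv, ha]
  have hfix : ∀ q : ℕ, q.Prime → ∀ x ∈ closure {x : K | x ∈ Cfsg.pCore q K ∧ f x = x⁻¹}, f x = x → x = 1 :=
    fun q hqp x hx hfx => eq_one_of_sq hK (by
      rw [pow_two]; nth_rewrite 1 [← hfx]; rw [hP1 q hqp x hx, inv_mul_cancel])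
  -- inverted elements centralise the inverted elements of `O_q`
  have hcentral : ∀ q : ℕ, q.Prime → ∀ x ∈ Cfsg.pCore q K, f x = x⁻¹ → ∀ w, f w = w⁻¹ → Commute w x := by
    intro q hqp x hx hxi w hw
    refine (mem_centralizer_singleton_iff.1 (?_ : w ∈ centralizer ({x} : Set K)) :)
    refine Transfer.mem_of_forall_primePow fun l hl w' hw' hw'o => mem_centralizer_singleton_iff.2 ?_
    haveI := Fact.mk hqp
    haveI := Fact.mk hl
    have hwi : f w' = w'⁻¹ := inverted_of_mem_zpowers hw hw'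
    have hOn := Cores.pCore_normal q K
    obtain ⟨k, hk⟩ := hw'o
    by_cases hlq : l = q
    · subst hlq
      set Q := zpowers w' ⊔ Cfsg.pCore l K with hQ
      have hQp : IsPGroup l Q := IsPGroup.to_sup_of_normal_right
        (IsPGroup.of_card (n := k) (by rw [Nat.card_zpowers, hk])) (Cores.isPGroup_pCore l K)
      have hfQ : ∀ y ∈ Q, f y ∈ Q := by
        have : Q ≤ Q.comap f := sup_le
          (zpowers_le.2 (mem_comap.2 (hwi ▸ inv_mem (mem_sup_left (mem_zpowers w')))))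
          (fun y hy => mem_comap.2 (mem_sup_right (hfO l y hy)))
        exact fun y hy => this hy
      exact (pair l hl Q hQp hfQ w' (mem_sup_left (mem_zpowers w')) x (mem_sup_right hx) hwi hxi).eq
    rcases hq q hqp with hc | hn
    · have hO := hc _ (Cores.isPGroup_pCore q K)
      haveI := hO.1
      have hinv : ∀ y ∈ Cfsg.pCore q K, f y = y⁻¹ := fun y hy => inverted_of_no_fixed hK h2 (hfO q)
        (fun a ha b hb => congrArg Subtype.val
          ((IsCyclic.commGroup (α := Cfsg.pCore q K)).mul_comm (⟨a, ha⟩ : Cfsg.pCore q K) ⟨b, hb⟩))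
        hO.2 hy
      exact (commute_of_conj hK hwi (Or.inr ⟨hxi, hinv _ (hOn.conj_mem x hx w')⟩)).eq
    · set m := w' * x * w'⁻¹ * x⁻¹ with hm
      have hmM : m ∈ M := habel w' x hwi hxi
      have hmO : m ∈ Cfsg.pCore q K := mul_mem (hOn.conj_mem x hx w') (inv_mem hx)
      have hfm := hfixM q hqp hn _ (Cores.isPGroup_pCore q K) (hfO q)
      have hwm : Commute w' m := commute_of_conj hK hwi (Or.inl ⟨hfm m ⟨hmM, hmO⟩,
        hfm _ ⟨‹M.Normal›.conj_mem m hmM w', hOn.conj_mem m hmO w'⟩⟩)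
      have hstep : ∀ i : ℕ, w' ^ i * x * (w' ^ i)⁻¹ = m ^ i * x := by
        intro i
        induction i with
        | zero => simp
        | succ i ih =>
          calc w' ^ (i + 1) * x * (w' ^ (i + 1))⁻¹ = w' * (w' ^ i * x * (w' ^ i)⁻¹) * w'⁻¹ := by
                rw [pow_succ']; group
            _ = w' * m ^ i * w'⁻¹ * (w' * x * w'⁻¹) := by rw [ih]; group
            _ = m ^ (i + 1) * x := by
              rw [(hwm.pow_right i).eq, mul_inv_cancel_right, show w' * x * w'⁻¹ = m * x by rw [hm]; group,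
                ← mul_assoc, ← pow_succ]
      have h1 : m ^ (l ^ k) = 1 := by
        have := hstep (l ^ k)
        rw [← hk, pow_orderOf_eq_one, one_mul, inv_one, mul_one, hk] at this
        exact mul_eq_right.1 this.symm
      obtain ⟨a, ha⟩ := hord hqp (Cores.isPGroup_pCore q K) m hmO
      have hm1 : m = 1 := orderOf_eq_one_iff.1 (Nat.eq_one_of_dvd_coprimes
        (((Nat.coprime_primes hl hqp).2 hlq).pow k a) (orderOf_dvd_of_pow_eq_one h1) ha.dvd)
      exact mul_inv_eq_iff_eq_mul.1 (mul_inv_eq_one.1 hm1)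
  have hnorm : ∀ q : ℕ, q.Prime → (closure {x : K | x ∈ Cfsg.pCore q K ∧ f x = x⁻¹}).Normal := by
    intro q hqp
    refine ⟨fun y hy g => ?_⟩
    have hle : closure {x : K | x ∈ Cfsg.pCore q K ∧ f x = x⁻¹} ≤
        (closure {x : K | x ∈ Cfsg.pCore q K ∧ f x = x⁻¹}).comap (MulAut.conj g).toMonoidHom := by
      rw [closure_le]
      rintro x ⟨hx, hxi⟩
      obtain ⟨c, w, hc, hw, rfl⟩ := exists_fixed_mul hK h2 g
      show c * w * x * (c * w)⁻¹ ∈ closure {x : K | x ∈ Cfsg.pCore q K ∧ f x = x⁻¹}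
      rw [show c * w * x * (c * w)⁻¹ = c * (w * x * w⁻¹) * c⁻¹ by group,
        (hcentral q hqp x hx hxi w hw).eq, mul_inv_cancel_right]
      exact subset_closure ⟨(Cores.pCore_normal q K).conj_mem x hx c,
        by rw [map_mul, map_mul, map_inv, hc, hxi]; group⟩
    exact hle hy
  obtain ⟨A, -, hA, hcomm, hz⟩ := GWKlein.exists_inverted f h2 hfix hnorm
  have hmem : ∀ x, x ∈ A ↔ f x = x⁻¹ := by
    refine fun x => ⟨fun hx => ((hA x).1 hx).2, fun hx => ?_⟩
    obtain ⟨j, hj⟩ := odd hK x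
    have hi : f ((x ^ (j + 1))⁻¹) = x ^ (j + 1) := by rw [map_inv, map_pow, hx, inv_pow, inv_inv]
    have h1 := hz ((x ^ (j + 1))⁻¹)
    rwa [inv_inv, hi, ← pow_add, show j + 1 + (j + 1) = orderOf x + 1 by omega, pow_succ,
      pow_orderOf_eq_one, one_mul] at h1
  refine ⟨A, ?_, hmem⟩
  haveI : IsMulCommutative A := ⟨⟨fun a b => Subtype.ext (hcomm a a.2 b b.2)⟩⟩
  letI : CommGroup A := { (inferInstance : Group A) with mul_comm := fun a b => Subtype.ext (hcomm a a.2 b b.2) }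
  haveI : IsZGroup A := ⟨fun q hqp P => by
    haveI := Fact.mk hqp
    have hP : IsPGroup q ((P : Subgroup A).map A.subtype) := P.isPGroup'.map _
    rcases hq q hqp with hc | hn
    · haveI := (hc _ hP).1
      let g := (P : Subgroup A).equivMapOfInjective A.subtype A.subtype_injective
      exact isCyclic_of_injective g.toMonoidHom g.injective
    obtain ⟨z, hmax⟩ := Finite.exists_max fun z : (P : Subgroup A) => orderOf z
    refine ⟨z, fun x => ?_⟩
    have hio : ∀ y : (P : Subgroup A), ∃ k, orderOf ((y : A) : K) = q ^ k := fun y => hord hqp hP _ ⟨y, y.2, rfl⟩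
    have hone : ∀ a b : (P : Subgroup A), ∀ j : ℕ, (((b : A) : K) ^ j)⁻¹ * ((a : A) : K) ∈ M → a = b ^ j := by
      intro a b j hj
      have h1 := hn _ hj ((hmem _).1 (mul_mem (inv_mem (pow_mem (b : A).2 j)) (a : A).2)) (by
        obtain ⟨k, hk⟩ := IsPGroup.iff_orderOf.1 P.isPGroup' ((b ^ j)⁻¹ * a)
        exact ⟨k, by rw [← hk, ← Subgroup.orderOf_coe, ← Subgroup.orderOf_coe]; simp⟩)
      exact Subtype.ext (Subtype.ext (by simpa using (inv_mul_eq_one.1 h1).symm))
    obtain ⟨j, hj | hj⟩ := hcyc q hqp _ _ ((hmem _).1 (x : A).2) ((hmem _).1 (z : A).2) (hio x) (hio z)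
    · exact ⟨j, by show z ^ (j : ℤ) = x; rw [zpow_natCast]; exact (hone x z j hj).symm⟩
    · have hzx : z ∈ zpowers x := ⟨j, by show x ^ (j : ℤ) = z; rw [zpow_natCast]; exact (hone z x j hj).symm⟩
      have heq : zpowers z = zpowers x := eq_of_le_of_card_ge (zpowers_le.2 hzx)
        (by rw [Nat.card_zpowers, Nat.card_zpowers]; exact hmax x)
      exact mem_zpowers_iff.1 (heq ▸ mem_zpowers x)⟩
  infer_instance

end Cfsg.Agent.GWDihedral
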