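import Cfsg.Agent.Lib.GWDihedral.RotTools
import Cfsg.Agent.Lib.GWDihedral.CentTorus
import Cfsg.Agent.Lib.GWDihedral.InvertedTorus
import Cfsg.Agent.Lib.GWKlein.General.LocalL2

/-!
# Gorenstein-Walter, dihedral Sylow subgroups of order at least eight: the shape of `C(y)` (helper64)

`centShape`: step (2.2), second part.
-/

set_option autoImplicit false
set_option linter.unusedSectionVars false
set_option linter.style.haveILetI false

namespace Cfsg.Agent.GWDihedral

open Subgroup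
open Cfsg.Agent.GWKlein (coreU coreW fourV oddPart)
open Cfsg.Agent.GWKlein.LocalL2 (bar)

universe u

variable {G : Type u} [Group G] [Finite G] {n : ℕ} {t r σ : G} {H : Subgroup G}

namespace Cent

theorem bar_surjective (H : Subgroup G) : Function.Surjective (bar H) := QuotientGroup.mk'_surjective _

/-- An involution of `H/O(H)` lifts to an involution. -/
theorem exists_lift_involution {i : H ⧸ Cfsg.oddCore H} (hi : orderOf i = 2) :
    ∃ z : H, orderOf z = 2 ∧ bar H z = i := by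
  obtain ⟨z, rfl⟩ := bar_surjective H i
  obtain ⟨k, m, hm, hkm⟩ := Nat.exists_eq_two_pow_mul_odd (orderOf_pos z).ne'
  have hzm : bar H (z ^ m) = bar H z := by
    rw [map_pow, pow_eq_pow_mod m (Local.sq_eq_one hi), Nat.odd_iff.1 hm, pow_one]
  refine ⟨z ^ m, orderOf_eq_prime (Local.eq_one_of_bar (k := k) ?_ ?_) fun e => ?_, hzm⟩
  · rw [← pow_mul, ← pow_mul, show m * (2 * 2 ^ k) = 2 ^ k * m * 2 by ring, ← hkm, pow_mul,
      pow_orderOf_eq_one, one_pow]
  · show bar H ((z ^ m) ^ 2) = 1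
    rw [map_pow, hzm, Local.sq_eq_one hi]
  · rw [e, map_one] at hzm
    rw [← hzm, orderOf_one] at hi
    omega

/-- An element of the centraliser of a 2-subgroup of the quotient lifts. -/
theorem exists_lift_centralizer (S : Set H) (hS : IsPGroup 2 (closure S)) {x : H ⧸ Cfsg.oddCore H}
    (hx : ∀ z ∈ S, Commute x (bar H z)) : ∃ g : H, (∀ z ∈ S, Commute g z) ∧ bar H g = x := by
  haveI : Fact (Nat.Prime 2) := ⟨Nat.prime_two⟩
  obtain ⟨g, rfl⟩ := bar_surjective H x
  have hc : bar H g ∈ centralizer ((closure (bar H '' S) : Subgroup _) : Set (H ⧸ Cfsg.oddCore H)) := by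
    rw [centralizer_closure, mem_centralizer_iff]
    rintro _ ⟨z, hz, rfl⟩
    exact (hx z hz).eq.symm
  obtain ⟨o, ho, hog⟩ := Constrained.exists_mul_mem_centralizer (O := Cfsg.oddCore H) (Local.not_two_dvd_core H)
    hS (x := g) fun z hz => by
      refine (QuotientGroup.eq_one_iff _).1 (show bar H (g * z * g⁻¹ * z⁻¹) = 1 from ?_)
      have hz' : bar H z ∈ closure (bar H '' S) := by
        rw [← MonoidHom.map_closure]; exact mem_map_of_mem _ hz
      rw [map_mul, map_mul, map_mul, map_inv, map_inv, ← mem_centralizer_iff.1 hc _ hz', mul_inv_cancel_right,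
        mul_inv_cancel]
  refine ⟨o * g, fun z hz => (mem_centralizer_iff.1 hog z (subset_closure hz)).symm, ?_⟩
  rw [map_mul, show bar H o = 1 from (QuotientGroup.eq_one_iff o).2 ho, one_mul]

/-- A lift of odd order of an element of odd order commuting with an involution. -/
theorem exists_lift_odd {v : H} (hv : orderOf v = 2) {x : H ⧸ Cfsg.oddCore H} (hxo : Odd (orderOf x))
    (hx : Commute x (bar H v)) : ∃ g : H, Odd (orderOf (g : G)) ∧ Commute g v ∧ bar H g = x := by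
  haveI : Fact (Nat.Prime 2) := ⟨Nat.prime_two⟩
  obtain ⟨g, hg, hgx⟩ := exists_lift_centralizer (H := H) (x := x) {v} (by
    rw [← zpowers_eq_closure]
    exact IsPGroup.of_card (n := 1) (by rw [Nat.card_zpowers, hv, pow_one]))
    (fun z hz => by rw [Set.mem_singleton_iff.1 hz]; exact hx)
  obtain ⟨k, m, hm, hkm⟩ := Nat.exists_eq_two_pow_mul_odd (orderOf_pos g).ne'
  obtain ⟨j, hj⟩ := exists_pow_eq_self_of_coprime (x := x) (n := 2 ^ k) ((Nat.coprime_two_left.2 hxo).pow_left k)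
  refine ⟨g ^ (2 ^ k * j), ?_, (hg v rfl).pow_left _, by rw [map_pow, hgx, pow_mul]; exact hj⟩
  rw [Subgroup.orderOf_coe]
  refine hm.of_dvd_nat (orderOf_dvd_of_pow_eq_one ?_)
  rw [← pow_mul, show 2 ^ k * j * m = 2 ^ k * m * j by ring, ← hkm, pow_mul, pow_orderOf_eq_one, one_pow]

/-- The image of `⟨t, r⟩` is its own 2-centraliser. -/
theorem hmax (h : DHyp n t r σ) (htH : t ∈ H) (hrH : r ∈ H) {x : H ⧸ Cfsg.oddCore H}
    (hxt : Commute x (bar H ⟨t, htH⟩)) (hxr : Commute x (bar H ⟨r, hrH⟩)) (hx2 : ∃ k : ℕ, x ^ 2 ^ k = 1) :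
    x = 1 ∨ x = bar H ⟨t, htH⟩ ∨ x = bar H ⟨r, hrH⟩ ∨ x = bar H ⟨t, htH⟩ * bar H ⟨r, hrH⟩ := by
  haveI : Fact (Nat.Prime 2) := ⟨Nat.prime_two⟩
  have htr : Commute (⟨t, htH⟩ : H) ⟨r, hrH⟩ := Subtype.ext h.comm_t_r.eq
  obtain ⟨g, hg, rfl⟩ := exists_lift_centralizer (H := H) {⟨t, htH⟩, ⟨r, hrH⟩}
    (Local.isPGroup_fourV (G := H) (by rw [Subgroup.orderOf_mk, h.order_t])
      (by rw [Subgroup.orderOf_mk, h.order_r]) htr)
    (fun z hz => by rcases hz with rfl | rfl; exacts [hxt, hxr])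
  obtain ⟨w, hw, v, hv, he⟩ := h.exists_mul_of_commute
    (show Commute (g : G) t from congrArg Subtype.val (hg ⟨t, htH⟩ (Set.mem_insert _ _)).eq)
    (show Commute (g : G) r from congrArg Subtype.val (hg ⟨r, hrH⟩ (Set.mem_insert_of_mem _ rfl)).eq)
  have hvH : v ∈ H := GWKlein.fourV_le_iff.2 ⟨htH, hrH⟩ hv
  have hwH : w ∈ H := by
    rw [show w = (g : G) * v⁻¹ by rw [he, mul_inv_cancel_right]]
    exact H.mul_mem g.2 (H.inv_mem hvH)
  have hg' : g = ⟨w, hwH⟩ * ⟨v, hvH⟩ := Subtype.ext he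
  have hwv : Commute (⟨w, hwH⟩ : H) ⟨v, hvH⟩ :=
    Subtype.ext (mem_centralizer_iff.1 (h.coreW_le_centralizer hw) v hv).symm
  have hv2 : (⟨v, hvH⟩ : H) ^ 2 = 1 := by
    refine Subtype.ext ?_
    show v ^ 2 = 1
    rcases h.mem_fourV_iff.1 hv with rfl | rfl | rfl | rfl
    exacts [one_pow 2, Local.sq_eq_one h.order_t, Local.sq_eq_one h.order_r, Local.sq_eq_one h.order_t_mul_r]
  obtain ⟨k, hk⟩ := hx2
  have hwb : bar H ⟨w, hwH⟩ = 1 := by
    have h1 : bar H ⟨w, hwH⟩ ^ 2 ^ (k + 1) = 1 := by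
      have h2 : bar H g ^ 2 ^ (k + 1) = 1 := by rw [pow_succ, pow_mul, hk, one_pow]
      rw [← map_pow, hg', hwv.mul_pow, map_mul, pow_succ' 2 k, pow_mul (⟨v, hvH⟩ : H), hv2, one_pow,
        map_one, mul_one, ← pow_succ', map_pow] at h2
      exact h2
    refine orderOf_eq_one_iff.1 (Nat.eq_one_of_dvd_coprimes ((Nat.coprime_two_left.2 ?_).pow_left (k + 1))
      (orderOf_dvd_of_pow_eq_one h1) dvd_rfl)
    exact GWKlein.LocalL2.odd_bar (x := (⟨w, hwH⟩ : H)) (h.mem_coreW.1 hw).2.2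
  rw [hg', map_mul, hwb, one_mul]
  rcases h.mem_fourV_iff.1 hv with e | e | e | e
  · exact Or.inl (by rw [show (⟨v, hvH⟩ : H) = 1 from Subtype.ext e, map_one])
  · exact Or.inr (Or.inl (congrArg _ (Subtype.ext e)))
  · exact Or.inr (Or.inr (Or.inl (congrArg _ (Subtype.ext e))))
  · exact Or.inr (Or.inr (Or.inr (by rw [← map_mul]; exact congrArg _ (Subtype.ext e))))

/-- A Sylow 2-subgroup of `H` over `⟨t, r⟩` consists of products of two involutions. -/
theorem exists_gen (h : DHyp n t r σ) (htH : t ∈ H) (hrH : r ∈ H) :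
    ∃ P : Sylow 2 (H ⧸ Cfsg.oddCore H), ∀ x ∈ P, ∃ a b, a * a = 1 ∧ b * b = 1 ∧ x = a * b := by
  haveI : Fact (Nat.Prime 2) := ⟨Nat.prime_two⟩
  obtain ⟨S, hS⟩ := (Local.isPGroup_fourV (G := H) (x := ⟨t, htH⟩) (y := ⟨r, hrH⟩)
    (by rw [Subgroup.orderOf_mk, h.order_t]) (by rw [Subgroup.orderOf_mk, h.order_r])
    (Subtype.ext h.comm_t_r.eq)).exists_le_sylow
  refine ⟨S.mapSurjective (bar_surjective H), ?_⟩
  obtain ⟨P, hP⟩ := h.sylow
  obtain ⟨Q, hQ⟩ := (S.isPGroup'.map H.subtype).exists_le_sylow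
  obtain ⟨g, hg⟩ := MulAction.exists_smul_eq G Q P
  have hmem : ∀ x : H, x ∈ (S : Subgroup H) → g * (x : G) * g⁻¹ ∈ closure ({σ, r} : Set G) := fun x hx => by
    have h1 : MulAut.conj g • (x : G) ∈ ((g • Q : Sylow 2 G) : Subgroup G) := ⟨(x : G), hQ ⟨x, hx, rfl⟩, rfl⟩
    rw [hg] at h1
    rw [← hP]
    exact h1
  obtain ⟨ρ, hρ, i, hρi⟩ : ∃ ρ : H, ρ ∈ (S : Subgroup H) ∧ ∃ i : ℕ, g * (ρ : G) * g⁻¹ = r * σ ^ i := by
    have hto : orderOf (g * t * g⁻¹) = 2 := (Involution.orderOf_conj g t).trans h.order_t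
    have hro : orderOf (g * r * g⁻¹) = 2 := (Involution.orderOf_conj g r).trans h.order_r
    have htS : (⟨t, htH⟩ : H) ∈ (S : Subgroup H) := hS (GWKlein.left_mem_fourV _ _)
    have hrS : (⟨r, hrH⟩ : H) ∈ (S : Subgroup H) := hS (GWKlein.right_mem_fourV _ _)
    rcases h.mem_sylow_cases (hmem _ htS) with ⟨i, hi⟩ | ⟨i, hi⟩
    · rcases h.mem_sylow_cases (hmem _ hrS) with ⟨j, hj⟩ | ⟨j, hj⟩
      · refine absurd ((MulAut.conj g).injective (show g * t * g⁻¹ = g * r * g⁻¹ from ?_)) h.ne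
        rw [show g * t * g⁻¹ = σ ^ i from hi, h.eq_t_of_rotation (by rw [← hi]; exact hto),
          show g * r * g⁻¹ = σ ^ j from hj, h.eq_t_of_rotation (by rw [← hj]; exact hro)]
      · exact ⟨_, hrS, j, hj⟩
    · exact ⟨_, htS, i, hi⟩
  have href : ∀ k : ℕ, r * σ ^ k * (r * σ ^ k) = 1 := fun k => by
    have e := Involution.inverts_pow h.conj_σ k
    rw [Involution.inv_eq h.order_r] at e
    rw [← mul_assoc, e, inv_mul_cancel]
  have hinj : ∀ a : H, g * (a : G) * g⁻¹ * (g * (a : G) * g⁻¹) = 1 → bar H a * bar H a = 1 := fun a ha => by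
    rw [← map_mul, show a * a = 1 from Subtype.ext ?_, map_one]
    rw [show g * (a : G) * g⁻¹ * (g * (a : G) * g⁻¹) = g * ((a : G) * a) * g⁻¹ by group, conj_eq_one_iff] at ha
    exact ha
  rintro _ ⟨x, hx, rfl⟩
  rcases h.mem_sylow_cases (hmem x hx) with ⟨k, hk⟩ | ⟨k, hk⟩
  · refine ⟨bar H ρ, bar H (ρ * x), hinj ρ (hρi ▸ href i), hinj (ρ * x) ?_, ?_⟩
    · rw [show g * ((ρ * x : H) : G) * g⁻¹ = (g * ρ * g⁻¹) * (g * x * g⁻¹) by
        rw [Subgroup.coe_mul]; group, hρi, hk, mul_assoc r, ← pow_add]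
      exact href _
    · rw [map_mul, ← mul_assoc, hinj ρ (hρi ▸ href i), one_mul]
  · exact ⟨bar H x, 1, hinj x (hk ▸ href k), one_mul 1, (mul_one _).symm⟩

/-- The torus of the quotient. -/
theorem hasTorus (h : DHyp n t r σ) (htH : t ∈ H) (hrH : r ∈ H)
    (hcases : Group.IsSolvable H ∨ IsGWLike H)
    (hone : ∀ i : G, i ∈ H → orderOf i = 2 → ∃ c ∈ H, c * t * c⁻¹ = i) :
    HasTorus (bar H ⟨t, htH⟩) (bar H ⟨r, hrH⟩) := by
  haveI : Fact (Nat.Prime 2) := ⟨Nat.prime_two⟩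
  have ht : orderOf (bar H ⟨t, htH⟩) = 2 := Local.orderOf_bar (by rw [Subgroup.orderOf_mk, h.order_t])
  have hr : orderOf (bar H ⟨r, hrH⟩) = 2 := Local.orderOf_bar (by rw [Subgroup.orderOf_mk, h.order_r])
  have hne : bar H ⟨t, htH⟩ ≠ bar H ⟨r, hrH⟩ := by
    intro e
    refine h.t_mul_r_ne_one (congrArg Subtype.val (Local.eq_one_of_bar (x := ⟨t, htH⟩ * ⟨r, hrH⟩) (k := 1) ?_ ?_))
    · exact Subtype.ext (by rw [pow_one]; exact Local.sq_eq_one h.order_t_mul_r)
    · show bar H (⟨t, htH⟩ * ⟨r, hrH⟩) = 1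
      rw [map_mul, e, ← pow_two, Local.sq_eq_one hr]
  have hc : Commute (bar H ⟨t, htH⟩) (bar H ⟨r, hrH⟩) :=
    (show Commute (⟨t, htH⟩ : H) ⟨r, hrH⟩ from Subtype.ext h.comm_t_r.eq).map _
  have hone' : ∀ i : H ⧸ Cfsg.oddCore H, orderOf i = 2 → ∃ c, c * bar H ⟨t, htH⟩ * c⁻¹ = i := by
    intro i hi
    obtain ⟨z, hz, rfl⟩ := exists_lift_involution hi
    obtain ⟨c, hcH, hcz⟩ := hone z z.2 (by rw [Subgroup.orderOf_coe, hz])
    exact ⟨bar H ⟨c, hcH⟩, by rw [← map_inv, ← map_mul, ← map_mul]; exact congrArg _ (Subtype.ext hcz)⟩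
  rcases hcases with hs | ⟨L, hLn, -, hL⟩
  · haveI : Group.IsSolvable (H ⧸ Cfsg.oddCore H) :=
      Group.isSolvable_of_surjective (f := bar H) (bar_surjective H)
    exact hasTorus_of_solvable ht hr hne hc hone' (fun x => hmax h htH hrH) (Cores.pPrimeCore_quotient_self 2)
  · haveI := hLn
    exact hasTorus_of_socle ht hr hne hc hone' (exists_gen h htH hrH) L hL

end Cent

open Cent in
/-- **(2.2), second part.** -/
theorem centShape [IsSimpleGroup G] (c : Ctx n t r σ) (hS : SideRot t r σ) (h1 : PrimePowFused t r)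
    (h2 : PrimePowFused t (r * σ)) (h3 : OneClass t) : CentShape t r σ := by
  intro y hy hypp hy1
  haveI : Fact (Nat.Prime 2) := ⟨Nat.prime_two⟩
  have h := c.hyp
  set H := centralizer ({y} : Set G) with hHdef
  have mem : ∀ {x : G}, x ∈ H ↔ Commute x y := mem_centralizer_singleton_iff
  have hyt : Commute y t := (h.mem_coreW.1 hy).1
  have hyr : Commute y r := (h.mem_coreW.1 hy).2.1
  have htH : t ∈ H := mem.2 hyt.symm
  have hrH : r ∈ H := mem.2 hyr.symm
  have hV : fourV t r ≤ H := GWKlein.fourV_le_iff.2 ⟨htH, hrH⟩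
  have hne : H ≠ ⊤ := by
    intro e
    have hyc : y ∈ center G := mem_center_iff.2 fun g =>
      (mem.1 (show g ∈ H by rw [e]; exact mem_top g)).eq
    rcases (inferInstance : (center G).Normal).eq_bot_or_eq_top with h0 | h0
    · exact hy1 (mem_bot.1 (h0 ▸ hyc))
    · have hσc : σ ∈ center G := by rw [h0]; exact mem_top σ
      have e1 : r * σ * r⁻¹ = σ := by rw [mem_center_iff.1 hσc r, mul_inv_cancel_right]
      rw [h.conj_σ] at e1
      have := Nat.le_of_dvd two_pos (orderOf_dvd_of_pow_eq_one (x := σ) (n := 2)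
        (by rw [sq]; exact mul_eq_one_iff_eq_inv.2 e1.symm))
      have := h.four_le_order
      omega
  obtain ⟨s, hs, hsy⟩ := h1 y hy hypp
  have hF : Fused t r H := ⟨s, mem.2 hsy, hs⟩
  have hone : ∀ i : G, i ∈ H → orderOf i = 2 → ∃ d ∈ H, d * t * d⁻¹ = i := fun i hi hio => by
    obtain ⟨d, hd, hdi⟩ := h3 y hy.1 hypp i hio (mem.1 hi)
    exact ⟨d, mem.2 hd, hdi⟩
  have hcases : Group.IsSolvable H ∨ IsGWLike H := or_iff_not_imp_left.2 (c.proper H hne)
  obtain ⟨Tb, hTbc, hTb, hsh⟩ := Cent.hasTorus h htH hrH hcases hone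
  set O := Cfsg.oddCore H with hOdef
  set OG := oddPart H with hOG
  set tH : H := ⟨t, htH⟩ with htHdef
  set rH : H := ⟨r, hrH⟩ with hrHdef
  have htHo : orderOf tH = 2 := by rw [Subgroup.orderOf_mk, h.order_t]
  have hrr : r * r = 1 := h.mul_self_r
  have hri : r⁻¹ = r := Involution.inv_eq h.order_r
  -- `D = C_U(y)` and conjugation by `r`
  set D := coreU t ⊓ H with hD
  have hDodd : Odd (Nat.card D) := h.odd_coreU.of_dvd_nat (card_dvd_of_le inf_le_left)
  have hDinv : ∀ x ∈ D, r * x * r⁻¹ ∈ D := fun x hx =>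
    ⟨(mem_normalizer_iff.1 (h.sylow_le_normalizer_coreU h.sylow_mem_r) x).1 hx.1,
      H.mul_mem (H.mul_mem hrH hx.2) (H.inv_mem hrH)⟩
  let f : D →* D :=
    { toFun := fun x => ⟨r * x * r⁻¹, hDinv x x.2⟩
      map_one' := Subtype.ext (by simp)
      map_mul' := fun a b => Subtype.ext (by simp [mul_assoc]) }
  have hf : ∀ x : D, ((f x : D) : G) = r * x * r⁻¹ := fun _ => rfl
  have hf2 : ∀ x, f (f x) = x := fun x => Subtype.ext <| by
    show r * (r * (x : G) * r⁻¹) * r⁻¹ = x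
    rw [show r * (r * (x : G) * r⁻¹) * r⁻¹ = r * r * x * (r * r)⁻¹ by group, hrr, one_mul, inv_one, mul_one]
  set M : Subgroup D := OG.subgroupOf D with hM
  haveI hMn : M.Normal := Cores.subgroupOf_normal_of_le_normalizer
    (inf_le_right.trans (GWKlein.le_normalizer_oddPart H))
  have hfM : ∀ x ∈ M, f x ∈ M := fun x hx => mem_subgroupOf.2
    ((mem_normalizer_iff.1 (GWKlein.le_normalizer_oddPart H hrH) _).1 (mem_subgroupOf.1 hx))
  -- inverted elements map into the torus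
  let π : D →* H ⧸ O := (bar H).comp (inclusion (inf_le_right : D ≤ H))
  have hπ : ∀ x : D, x ∈ M ↔ π x = 1 := fun x => by
    rw [hM, mem_subgroupOf]
    exact (GWKlein.LocalL2.bar_eq_one (H := H) (x := inclusion (inf_le_right : D ≤ H) x)).symm
  have himg : ∀ x : D, f x = x⁻¹ → π x ∈ Tb := fun x hx => (hTb (π x)).2
    ⟨(hDodd.of_dvd_nat (orderOf_dvd_natCard x)).of_dvd_nat (orderOf_map_dvd π x),
      (show Commute (inclusion (inf_le_right : D ≤ H) x) tH from
        Subtype.ext (GWKlein.commute_of_mem_coreU x.2.1).eq).map (bar H),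
      by
        show bar H rH * bar H _ * (bar H rH)⁻¹ = (bar H _)⁻¹
        rw [← map_inv, ← map_inv, ← map_mul, ← map_mul]
        exact congrArg _ (Subtype.ext (congrArg (fun z : D => (z : G)) hx))⟩
  haveI := hTbc
  obtain ⟨zb, hzb⟩ := (Subgroup.isCyclic_iff_exists_zpowers_eq_top Tb).1 hTbc
  have habel : ∀ x x' : D, f x = x⁻¹ → f x' = x'⁻¹ → x * x' * x⁻¹ * x'⁻¹ ∈ M := by
    intro x x' hx hx'
    have h1 := himg x hx
    have h2 := himg x' hx'
    rw [← hzb] at h1 h2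
    obtain ⟨i, hi⟩ := h1
    obtain ⟨j, hj⟩ := h2
    have hcom : Commute (π x) (π x') := hi ▸ hj ▸ (Commute.refl zb).zpow_zpow i j
    rw [hπ, map_mul, map_mul, map_mul, map_inv, map_inv, hcom.eq, mul_inv_cancel_right, mul_inv_cancel]
  have hcyc : ∀ q : ℕ, q.Prime → ∀ x x' : D, f x = x⁻¹ → f x' = x'⁻¹ → (∃ k, orderOf x = q ^ k) →
      (∃ k, orderOf x' = q ^ k) → ∃ j : ℕ, (x' ^ j)⁻¹ * x ∈ M ∨ (x ^ j)⁻¹ * x' ∈ M := by
    intro q hq x x' hx hx' ⟨k, hk⟩ ⟨k', hk'⟩
    have hxz : π x ∈ zpowers zb := hzb.symm ▸ himg x hx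
    have hxz' : π x' ∈ zpowers zb := hzb.symm ▸ himg x' hx'
    obtain ⟨a, -, ha⟩ := (Nat.dvd_prime_pow hq).1 ((orderOf_map_dvd π x).trans hk.dvd)
    obtain ⟨b, -, hb⟩ := (Nat.dvd_prime_pow hq).1 ((orderOf_map_dvd π x').trans hk'.dvd)
    rcases le_total a b with hab | hab
    · obtain ⟨j, hj⟩ := mem_powers_iff_mem_zpowers.2 (GWKlein.L2.mem_zpowers_of_pow_eq_one hxz hxz'
        (orderOf_dvd_iff_pow_eq_one.1 (by rw [ha, hb]; exact pow_dvd_pow q hab)))
      simp only at hj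
      exact ⟨j, Or.inl ((hπ _).2 (by rw [map_mul, map_inv, map_pow, hj, inv_mul_cancel]))⟩
    · obtain ⟨j, hj⟩ := mem_powers_iff_mem_zpowers.2 (GWKlein.L2.mem_zpowers_of_pow_eq_one hxz' hxz
        (orderOf_dvd_iff_pow_eq_one.1 (by rw [ha, hb]; exact pow_dvd_pow q hab)))
      simp only at hj
      exact ⟨j, Or.inr ((hπ _).2 (by rw [map_mul, map_inv, map_pow, hj, inv_mul_cancel]))⟩
  -- the alternative at a prime
  have halt : ∀ q : ℕ, q.Prime → q ≠ 2 → Exc t r σ q ∨
      ∀ x ∈ OG, Commute x t → r * x * r⁻¹ = x⁻¹ → (∃ k, orderOf x = q ^ k) → x = 1 := by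
    intro q hq hq2
    haveI := Fact.mk hq
    obtain ⟨X, s', hs'H, hs', hs'X, -, hXK, hXV, hXp, hXc⟩ := h.exists_invariant_rot (q := q) (Q := ⊥)
      (GWKlein.odd_card_oddPart H) (GWKlein.oddPart_le H) (GWKlein.le_normalizer_oddPart H) hV hF bot_le
      IsPGroup.of_bot (fun v _ => Coprime.mem_normalizer_of_forall fun w hw => by
        rw [mem_bot] at hw; rw [hw, mul_one, mul_inv_cancel]; exact one_mem _)
    rcases hS q hq hq2 X hXp hXV ⟨s', hs'X, hs'⟩ with hcen | hexc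
    swap
    · exact Or.inl hexc
    refine Or.inr fun x hxO hxt hxr ⟨k, hk⟩ => ?_
    have hVK : fourV t r ≤ normalizer (OG : Set G) := hV.trans (GWKlein.le_normalizer_oddPart H)
    have hxV : fourV t r ≤ normalizer (zpowers x : Set G) := fourV_le_normalizer
      (fun z hz => by
        obtain ⟨i, rfl⟩ := hz
        show t * x ^ i * t⁻¹ ∈ zpowers x
        rw [← (hxt.zpow_left i).eq, mul_inv_cancel_right]
        exact zpow_mem (mem_zpowers x) i)
      (fun z hz => by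
        obtain ⟨i, rfl⟩ := hz
        show r * x ^ i * r⁻¹ ∈ zpowers x
        rw [← conj_zpow, hxr, inv_zpow]
        exact inv_mem (zpow_mem (mem_zpowers x) i))
    obtain ⟨X', hxX, hX'K, hX'V, -, hX'c⟩ := h.exists_invariant_sylow h.isPGroup_fourV
      (GWKlein.odd_card_oddPart H) hVK (zpowers_le.2 hxO)
      (IsPGroup.of_card (n := k) (by rw [Nat.card_zpowers, hk])) hxV
    obtain ⟨d, hd, hdX⟩ := Coprime.exists_mem_centralizer_conj_of_card hVK
      (h.coprime_card h.isPGroup_fourV (GWKlein.odd_card_oddPart H))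
      (Or.inl (Coprime.isSolvable_of_isPGroup h.isPGroup_fourV)) hX'K hXK hX'V hXV hX'c hXc
    have hx' : x ∈ X' := hxX (mem_zpowers x)
    rw [← hdX, Coprime.mem_conj] at hx'
    have hdr : Commute d r := (commute_of_mem_centralizer_fourV hd.2).2
    have hr' : Commute (d⁻¹ * x * d) r :=
      mem_centralizer_iff.1 (hcen (GWKlein.right_mem_fourV t r)) _ hx'
    have hxc : Commute x r := by
      have := (hdr.mul_left hr').mul_left hdr.inv_left
      simpa [mul_assoc] using this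
    exact eq_one_of_inverted_commute (hk ▸ (hq.odd_of_ne_two hq2).pow) hxr hxc.symm
  have hq : ∀ q : ℕ, q.Prime → (∀ Q : Subgroup D, IsPGroup q Q → IsCyclic Q ∧ ∀ x ∈ Q, f x = x → x = 1) ∨
      ∀ x ∈ M, f x = x⁻¹ → (∃ k, orderOf x = q ^ k) → x = 1 := by
    intro q hqp
    by_cases hq2 : q = 2
    · refine Or.inr fun x _ _ ⟨k, hk⟩ => orderOf_eq_one_iff.1 (Nat.eq_one_of_dvd_coprimes
        ((Nat.coprime_two_left.2 (hDodd.of_dvd_nat (orderOf_dvd_natCard x))).pow_left k) ?_ dvd_rfl)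
      rw [← hq2, ← hk]
    haveI := Fact.mk hqp
    rcases halt q hqp hq2 with hexc | hn
    · refine Or.inl fun Q hQ => ⟨?_, fun x hxQ hfx => ?_⟩
      · haveI := hexc.2.2.2.1 (Q.map D.subtype) ((map_subtype_le _).trans inf_le_left) (hQ.map _)
        exact isCyclic_of_injective (Q.equivMapOfInjective D.subtype D.subtype_injective).toMonoidHom
          (Q.equivMapOfInjective D.subtype D.subtype_injective).injective
      · obtain ⟨k, hk⟩ := IsPGroup.iff_orderOf.1 hQ ⟨x, hxQ⟩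
        rw [Subgroup.orderOf_mk] at hk
        have hxW : (x : G) ∈ coreW t r := h.mem_coreW.2 ⟨GWKlein.commute_of_mem_coreU x.2.1,
          (mul_inv_eq_iff_eq_mul.1 (congrArg (fun z : D => (z : G)) hfx)).symm, h.odd_orderOf x.2.1⟩
        refine orderOf_eq_one_iff.1 (Nat.eq_one_of_dvd_coprimes
          ((hqp.coprime_iff_not_dvd.2 hexc.2.1).pow_left k) hk.dvd ?_)
        rw [← Subgroup.orderOf_coe]
        exact orderOf_dvd_natCard _ hxW
    · refine Or.inr fun x hxM hfx ⟨k, hk⟩ => Subtype.ext (hn x (mem_subgroupOf.1 hxM)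
        (GWKlein.commute_of_mem_coreU x.2.1) ?_ ⟨k, by rw [Subgroup.orderOf_coe, hk]⟩)
      exact congrArg (fun z : D => (z : G)) hfx
  obtain ⟨T0, hT0c, hT0⟩ := exists_cyclic_inverted f hDodd hf2 M hfM habel hcyc hq
  -- the torus of `G`
  set T := T0.map D.subtype with hT
  have hTmem : ∀ x, x ∈ T ↔ x ∈ coreU t ∧ Commute x y ∧ r * x * r⁻¹ = x⁻¹ := by
    intro x
    constructor
    · rintro ⟨z, hz, rfl⟩
      exact ⟨z.2.1, mem.1 z.2.2, congrArg (fun w : D => (w : G)) ((hT0 z).1 hz)⟩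
    · rintro ⟨hxU, hxy, hxr⟩
      exact ⟨⟨x, hxU, mem.2 hxy⟩, (hT0 _).2 (Subtype.ext hxr), rfl⟩
  -- its image is the whole torus
  have hsurj : T0.map π = Tb := by
    refine le_antisymm (fun _ ⟨x, hx, e⟩ => e ▸ himg x ((hT0 x).1 hx)) fun x hx => ?_
    obtain ⟨hxo, hxt, hxr⟩ := (hTb x).1 hx
    obtain ⟨g, hgo, hgt, hgx⟩ := exists_lift_odd htHo hxo hxt
    have hgD : (g : G) ∈ D := ⟨h.mem_coreU.2 ⟨congrArg Subtype.val hgt.eq, hgo⟩, g.2⟩
    set g' : D := ⟨g, hgD⟩
    set w : D := g'⁻¹ * f g' with hw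
    have hwi : f w = w⁻¹ := by rw [hw, map_mul, map_inv, hf2, mul_inv_rev, inv_inv]
    have hg' : π g' = x := hgx
    have hfg : π (f g') = x⁻¹ := by
      rw [← hxr, ← hgx, ← map_inv, ← map_mul, ← map_mul]
      rfl
    have h2 : (x ^ 2)⁻¹ ∈ T0.map π := ⟨w, (hT0 w).2 hwi, by
      rw [hw, map_mul, map_inv, hg', hfg, pow_two, mul_inv_rev]⟩
    rw [inv_mem_iff] at h2
    obtain ⟨j, hj⟩ := hxo
    have e : x = (x ^ 2) ^ (j + 1) := by
      rw [← pow_mul, show 2 * (j + 1) = orderOf x + 1 by omega, pow_succ, pow_orderOf_eq_one, one_mul]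
    exact e ▸ pow_mem h2 _
  set A := Nat.card (T ⊓ OG : Subgroup G) with hA
  have hcardT : Nat.card T = Nat.card Tb * A := by
    have hker : Nat.card (π.ker ⊓ T0 : Subgroup D) = A := by
      rw [hA, ← Cores.card_map_subtype D (π.ker ⊓ T0)]
      have e : (π.ker ⊓ T0).map D.subtype = T ⊓ OG := by
        ext x
        constructor
        · rintro ⟨z, ⟨hz1, hz2⟩, rfl⟩
          exact ⟨⟨z, hz2, rfl⟩, mem_subgroupOf.1 ((hπ z).2 hz1)⟩
        · rintro ⟨⟨z, hz, rfl⟩, hzO⟩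
          exact ⟨z, ⟨(hπ z).1 (mem_subgroupOf.2 hzO), hz⟩, rfl⟩
      rw [e]
    rw [hT, Cores.card_map_subtype, ← hsurj, ← relIndex_ker, ← inf_relIndex_right, relIndex, ← hker,
      ← Nat.card_congr (subgroupOfEquivOfLe (inf_le_right : π.ker ⊓ T0 ≤ T0)).toEquiv, mul_comm, card_mul_index]
  -- exceptional primes
  have hAexc : ∀ q : ℕ, q.Prime → q ∣ A → Exc t r σ q := by
    intro q hqp hqA
    haveI := Fact.mk hqp
    have hodd : Odd A := (GWKlein.odd_card_oddPart H).of_dvd_nat (card_dvd_of_le inf_le_right)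
    have hq2 : q ≠ 2 := fun e => Nat.not_even_iff_odd.2 hodd (even_iff_two_dvd.2 (e ▸ hqA))
    rcases halt q hqp hq2 with hexc | hn
    · exact hexc
    obtain ⟨⟨x, hxT, hxO⟩, hxq⟩ := exists_prime_orderOf_dvd_card' (G := (T ⊓ OG : Subgroup G)) q hqA
    rw [← Subgroup.orderOf_coe] at hxq
    change orderOf x = q at hxq
    obtain ⟨hxU, -, hxr⟩ := (hTmem x).1 hxT
    have := hn x hxO (GWKlein.commute_of_mem_coreU hxU) hxr ⟨1, by rw [pow_one, hxq]⟩
    rw [this, orderOf_one] at hxq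
    exact absurd hxq.symm hqp.ne_one
  -- Wielandt on the core
  set P := OG ⊓ centralizer ({t} : Set G) with hP
  set oV := Nat.card (OG ⊓ centralizer ({t, r} : Set G) : Subgroup G) with hoV
  have hPU : P ≤ coreU t := fun x hx => h.mem_coreU.2
    ⟨mem_centralizer_singleton_iff.1 hx.2,
      (GWKlein.odd_card_oddPart H).of_dvd_nat (orderOf_dvd_natCard _ hx.1)⟩
  have hPo : Nat.card P = oV * A := by
    have hPr : ∀ x ∈ P, r * x * r⁻¹ ∈ P := fun x hx =>
      ⟨(mem_normalizer_iff.1 (GWKlein.le_normalizer_oddPart H hrH) x).1 hx.1, mem_centralizer_singleton_iff.2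
        ((h.comm_t_r.symm.mul_left (mem_centralizer_singleton_iff.1 hx.2)).mul_left h.comm_t_r.symm.inv_left).eq⟩
    have hPrr : ∀ x : G, r * (r * x * r⁻¹) * r⁻¹ = x := fun x => by
      rw [show r * (r * x * r⁻¹) * r⁻¹ = r * r * x * (r * r)⁻¹ by group, hrr, one_mul, inv_one, mul_one]
    let α : MulAut P :=
      { toFun := fun x => ⟨r * x * r⁻¹, hPr x x.2⟩
        invFun := fun x => ⟨r * x * r⁻¹, hPr x x.2⟩
        left_inv := fun x => Subtype.ext (hPrr x)
        right_inv := fun x => Subtype.ext (hPrr x)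
        map_mul' := fun a b => Subtype.ext (by simp [mul_assoc]) }
    have hα : α * α = 1 := MulEquiv.ext fun x => Subtype.ext (hPrr x)
    have key := DegThreeP.card_fix_mul_inverted
      ((GWKlein.odd_card_oddPart H).of_dvd_nat (card_dvd_of_le (inf_le_left : P ≤ OG))) α hα
    have e1 : Nat.card (DegThreeP.fixAut α) = oV := by
      rw [hoV, ← Cores.card_map_subtype P (DegThreeP.fixAut α)]
      congr 2
      ext x
      constructor
      · rintro ⟨z, hz, rfl⟩
        have e := congrArg (fun w : P => (w : G)) (DegThreeP.mem_fixAut.1 hz)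
        refine ⟨z.2.1, mem_centralizer_iff.2 ?_⟩
        rintro w (rfl | rfl)
        exacts [(mem_centralizer_singleton_iff.1 z.2.2).symm, mul_inv_eq_iff_eq_mul.1 e]
      · rintro ⟨hxO, hxc⟩
        refine ⟨⟨x, hxO, mem_centralizer_singleton_iff.2 (mem_centralizer_iff.1 hxc t (Set.mem_insert _ _)).symm⟩,
          DegThreeP.mem_fixAut.2 (Subtype.ext ?_), rfl⟩
        exact mul_inv_eq_iff_eq_mul.2 (mem_centralizer_iff.1 hxc r (Set.mem_insert_of_mem _ rfl))
    have e2 : Nat.card {x : P // α x = x⁻¹} = A := by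
      refine Nat.card_congr
        { toFun := fun x => ⟨(x.1 : G), (hTmem _).2 ⟨hPU x.1.2, mem.1 (GWKlein.oddPart_le H x.1.2.1),
            congrArg (fun w : P => (w : G)) x.2⟩, x.1.2.1⟩
          invFun := fun x => ⟨⟨(x : G), x.2.2, mem_centralizer_singleton_iff.2
            (GWKlein.commute_of_mem_coreU ((hTmem _).1 x.2.1).1).eq⟩, Subtype.ext ((hTmem _).1 x.2.1).2.2⟩
          left_inv := fun _ => rfl
          right_inv := fun _ => rfl }
    rw [← key, e1, e2]
  have hwie : Nat.card O * oV ^ 2 = Nat.card P ^ 3 := by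
    let α : H →* MulAut O := MulAut.conjNormal
    have hfix : ∀ x : H, (DegThreeP.fixAut (α x)).map O.subtype = O ⊓ centralizer ({x} : Set H) := by
      intro x
      ext z
      constructor
      · rintro ⟨w, hw, rfl⟩
        refine ⟨w.2, mem_centralizer_singleton_iff.2 ?_⟩
        have e := congrArg Subtype.val (DegThreeP.mem_fixAut.1 hw)
        rw [MulAut.conjNormal_apply] at e
        exact (mul_inv_eq_iff_eq_mul.1 e).symm
      · rintro ⟨hz, hc⟩
        refine ⟨⟨z, hz⟩, DegThreeP.mem_fixAut.2 (Subtype.ext ?_), rfl⟩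
        rw [MulAut.conjNormal_apply]
        exact mul_inv_eq_iff_eq_mul.2 (mem_centralizer_singleton_iff.1 hc).symm
    have htr : Commute tH rH := Subtype.ext h.comm_t_r.eq
    have hOodd : Odd (Nat.card O) :=
      Nat.not_even_iff_odd.1 fun e => Local.not_two_dvd_core H (even_iff_two_dvd.1 e)
    have key := DegThreeP.wielandt_four hOodd (α tH) (α rH)
      (by rw [← map_mul, show tH * tH = 1 from Subtype.ext h.mul_self_t, map_one])
      (by rw [← map_mul, show rH * rH = 1 from Subtype.ext hrr, map_one]) (htr.map α)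
    have hfc : ∀ x : H, Nat.card (DegThreeP.fixAut (α x)) =
        Nat.card (O ⊓ centralizer ({x} : Set H) : Subgroup H) := fun x => by
      rw [← hfix, Cores.card_map_subtype]
    obtain ⟨sH, hsH1, hsH2⟩ : ∃ sH : H, sH * tH * sH⁻¹ = rH ∧ sH * rH * sH⁻¹ = tH * rH :=
      ⟨⟨s, mem.2 hsy⟩, Subtype.ext hs.1, Subtype.ext hs.2⟩
    have e1 := GWKlein.LocalL2.card_fix_conj sH tH
    have e2 := GWKlein.LocalL2.card_fix_conj sH rH
    rw [hsH1] at e1
    rw [hsH2, e1] at e2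
    have ePt : Nat.card (O ⊓ centralizer ({tH} : Set H) : Subgroup H) = Nat.card P := by
      rw [← Cores.card_map_subtype H]
      congr 2
      ext x
      constructor
      · rintro ⟨z, ⟨hz, hzc⟩, rfl⟩
        exact ⟨⟨z, hz, rfl⟩, mem_centralizer_singleton_iff.2
          (congrArg Subtype.val (mem_centralizer_singleton_iff.1 hzc))⟩
      · rintro ⟨⟨z, hz, rfl⟩, hzc⟩
        exact ⟨z, ⟨hz, mem_centralizer_singleton_iff.2 (Subtype.ext (mem_centralizer_singleton_iff.1 hzc))⟩, rfl⟩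
    have eV : Nat.card (DegThreeP.fixAut (α tH) ⊓ DegThreeP.fixAut (α rH) : Subgroup O) = oV := by
      rw [hoV, ← Cores.card_map_subtype O, Subgroup.map_inf _ _ _ (subtype_injective _), hfix, hfix,
        ← Cores.card_map_subtype H]
      congr 2
      ext x
      constructor
      · rintro ⟨z, ⟨⟨hz, hzt⟩, -, hzr⟩, rfl⟩
        refine ⟨⟨z, hz, rfl⟩, mem_centralizer_iff.2 ?_⟩
        rintro w (rfl | rfl)
        exacts [(congrArg Subtype.val (mem_centralizer_singleton_iff.1 hzt)).symm,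
          (congrArg Subtype.val (mem_centralizer_singleton_iff.1 hzr)).symm]
      · rintro ⟨⟨z, hz, rfl⟩, hzc⟩
        exact ⟨z, ⟨⟨hz, mem_centralizer_singleton_iff.2
            (Subtype.ext (mem_centralizer_iff.1 hzc t (Set.mem_insert _ _)).symm)⟩,
          hz, mem_centralizer_singleton_iff.2
            (Subtype.ext (mem_centralizer_iff.1 hzc r (Set.mem_insert_of_mem _ rfl)).symm)⟩, rfl⟩
    rw [← map_mul, eV, hfc, hfc, hfc, e2, e1, ePt] at key
    rw [key]
    ring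
  -- the index
  set kb := (centralizer ({bar H tH} : Set (H ⧸ O))).index with hkb
  have hcent : Nat.card (centralizer ({y, t} : Set G)) = Nat.card (centralizer ({tH} : Set H)) := by
    rw [← Cores.card_map_subtype H (centralizer ({tH} : Set H))]
    congr 2
    ext x
    constructor
    · intro hx
      exact ⟨⟨x, mem.2 (mem_centralizer_iff.1 hx y (Set.mem_insert _ _)).symm⟩, mem_centralizer_singleton_iff.2
        (Subtype.ext (mem_centralizer_iff.1 hx t (Set.mem_insert_of_mem _ rfl)).symm), rfl⟩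
    · rintro ⟨z, hz, rfl⟩
      refine mem_centralizer_iff.2 ?_
      rintro w (rfl | rfl)
      exacts [(mem.1 z.2).eq.symm, (congrArg Subtype.val (mem_centralizer_singleton_iff.1 hz)).symm]
  have hHcard : Nat.card H = kb * A ^ 2 * Nat.card (centralizer ({y, t} : Set G)) := by
    have hS2 : IsPGroup 2 (closure ({tH} : Set H)) := by
      rw [← zpowers_eq_closure]
      exact IsPGroup.of_card (n := 1) (by rw [Nat.card_zpowers, htHo, pow_one])
    have ePt : Nat.card (O ⊓ centralizer ({tH} : Set H) : Subgroup H) = Nat.card P := by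
      rw [← Cores.card_map_subtype H]
      congr 2
      ext x
      constructor
      · rintro ⟨z, ⟨hz, hzc⟩, rfl⟩
        exact ⟨⟨z, hz, rfl⟩, mem_centralizer_singleton_iff.2
          (congrArg Subtype.val (mem_centralizer_singleton_iff.1 hzc))⟩
      · rintro ⟨⟨z, hz, rfl⟩, hzc⟩
        exact ⟨z, ⟨hz, mem_centralizer_singleton_iff.2 (Subtype.ext (mem_centralizer_singleton_iff.1 hzc))⟩, rfl⟩
    rw [hcent, GWKlein.LocalL2.card_centralizer_lift _ hS2, Set.image_singleton, ePt,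
      card_eq_card_quotient_mul_card_subgroup O, ← (centralizer ({bar H tH} : Set (H ⧸ O))).card_mul_index, ← hkb]
    have hoV0 : 0 < oV := Nat.card_pos
    have hO : Nat.card O = Nat.card P * A ^ 2 := by
      refine Nat.eq_of_mul_eq_mul_right (pow_pos hoV0 2) (hwie.trans ?_)
      rw [hPo]; ring
    rw [hO]
    ring
  have hfac : (Nat.card (H ⧸ O)).factorization 2 = (Nat.card H).factorization 2 := by
    rw [card_eq_card_quotient_mul_card_subgroup O, Nat.factorization_mul Nat.card_pos.ne' Nat.card_pos.ne',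
      Finsupp.add_apply, Nat.factorization_eq_zero_of_not_dvd (Local.not_two_dvd_core H), add_zero]
  rw [hfac] at hsh
  obtain ⟨hs2, hcase⟩ := hsh.mono (card_eq_card_quotient_mul_card_subgroup O ▸ dvd_mul_right _ _ :
    Nat.card (H ⧸ O) ∣ Nat.card H) le_rfl
  refine ⟨T, Nat.card Tb, A, (Nat.card H).factorization 2, kb * A ^ 2, ?_, hTmem, hcardT, hAexc, rfl, hs2, hHcard, ?_⟩
  · haveI := hT0c
    exact isCyclic_of_surjective (T0.equivMapOfInjective D.subtype D.subtype_injective).toMonoidHom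
      (T0.equivMapOfInjective D.subtype D.subtype_injective).surjective
  rcases hcase with ⟨e1, e2, e3, e4⟩ | ⟨Q, hQ, hQd, hQc, hQs⟩
  · exact Or.inl ⟨e1, e2, Nat.mul_le_mul_right _ e3, e4⟩
  refine Or.inr ⟨Q, hQ, hQd, ?_, hQs⟩
  rcases hQc with ⟨e1, e2⟩ | ⟨e1, e2⟩
  · exact Or.inl ⟨e1, (Nat.mul_le_mul_right _ e2).trans_eq (by ring)⟩
  · exact Or.inr ⟨e1, (Nat.mul_le_mul_right _ e2).trans_eq (by ring)⟩

end Cfsg.Agent.GWDihedral
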