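import Cfsg.Agent.Lib.GWDihedral.SidesBasic
import Cfsg.Agent.Lib.GWKlein.Mixed
import Cfsg.Agent.Lib.Transfer.Criteria
import Cfsg.Agent.Lib.Coprime.InvolutionEigen
import Cfsg.Agent.Lib.PLocal.Action

/-!
# Gorenstein-Walter, dihedral Sylow subgroups of order at least eight: growth (section 1, (1.1))

* `DHyp.commutator_mem_oddPart` : `t` is central modulo the core if `C(D)` has no second involution at `t`
* `exists_fullSide_of_side` : a side grows to one meeting `U` in a Sylow subgroup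
* `TwoSides` : the fact about two tori used at a step whose core is centralised
* `exists_fullSide_of_growth` : a `⟨t, r⟩`-invariant `D ≤ U`, moved by `r` or of order at least the `p`-part
  of `|W|`, with the core of its normaliser moved by `t`, gives a full side
-/

set_option autoImplicit false
set_option linter.unusedSectionVars false

namespace Cfsg.Agent.GWDihedral

open Subgroup
open Cfsg.Agent.GWKlein (coreU coreW fourV oddPart)

universe u

variable {G : Type u} [Group G]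

/-- The odd core of `N(D)` has an invariant `p`-subgroup not centralised by `t`. -/
def CoreMoved (p : ℕ) (t r : G) (D : Subgroup G) : Prop :=
  ∃ Q : Subgroup G, IsPGroup p Q ∧ fourV t r ≤ normalizer (Q : Set G) ∧
    Q ≤ oddPart (normalizer (D : Set G)) ∧ ¬ Q ≤ centralizer ({t} : Set G)

/-- Invariant `p`-subgroups of proper overgroups of a Sylow 2-subgroup are centralised by the central
involution modulo the core. -/
def InvariantCoreFixed (p : ℕ) (G : Type u) [Group G] : Prop :=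
  ∀ (n : ℕ) (t r σ : G), DHyp n t r σ → ∀ H : Subgroup G, H ≠ ⊤ → closure ({σ, r} : Set G) ≤ H →
    ∀ X : Subgroup G, IsPGroup p X → X ≤ H → closure ({σ, r} : Set G) ≤ normalizer (X : Set G) →
      ∀ x ∈ X, x * t * x⁻¹ * t⁻¹ ∈ oddPart H

/-- Modulo the core of `H` there are no commuting elements of order `p` inverted by `t`, one fixed and one
inverted by `r`, if a normal subgroup contains a four-group at `t` but not `r`. -/
def TwoSides (p : ℕ) (G : Type u) [Group G] : Prop :=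
  ∀ (n : ℕ) (t r σ : G), DHyp n t r σ → ∀ H N : Subgroup G, H ≠ ⊤ → N ≤ H → H ≤ normalizer (N : Set G) →
    t ∈ N → r ∉ N → r ∈ H → ∀ y ∈ N, orderOf y = 2 → Commute y t → y ≠ t →
      ∀ a b : G, a ∈ H → b ∈ H → a ^ p = 1 → b ^ p = 1 → a * b * a⁻¹ * b⁻¹ ∈ oddPart H → Commute a r →
        t * a * t⁻¹ = a⁻¹ → t * b * t⁻¹ = b⁻¹ → r * b * r⁻¹ = b⁻¹ → a ∈ oddPart H ∨ b ∈ oddPart H

variable [Finite G] {n : ℕ} {t r σ : G} {p : ℕ} [Fact p.Prime]

omit [Fact p.Prime] in
theorem le_oddPart_of_normal {H N : Subgroup G} (hNH : N ≤ H) (hn : H ≤ normalizer (N : Set G))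
    (hodd : Odd (Nat.card N)) : N ≤ oddPart H := fun x hx => by
  have h1 : N.subgroupOf H ≤ Cfsg.pPrimeCore 2 H :=
    Cores.le_pPrimeCore (Cores.subgroupOf_normal_of_le_normalizer hn)
      (by rw [Cores.card_subgroupOf hNH]; exact Nat.coprime_two_right.2 hodd)
  exact ⟨⟨x, hNH hx⟩, h1 (mem_subgroupOf.2 hx), rfl⟩

omit [Fact p.Prime] in
theorem odd_card_sup {A B : Subgroup G} (hB : B ≤ normalizer (A : Set G)) (hA : Odd (Nat.card A))
    (hB' : Odd (Nat.card B)) : Odd (Nat.card (A ⊔ B : Subgroup G)) := by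
  have h1 := Coprime.card_mul_inf A B
  rw [← Subgroup.coe_mul_of_right_le_normalizer_left A B hB] at h1
  exact (hA.mul hB').of_dvd_nat ⟨_, h1.symm⟩

omit [Finite G] [Fact p.Prime] in
theorem not_commute_of_inverted {f : G} (ho : Odd (orderOf f)) (hf : f ≠ 1) (hi : t * f * t⁻¹ = f⁻¹) :
    ¬ Commute f t := fun hc => by
  rw [← hc.eq, mul_inv_cancel_right] at hi
  obtain ⟨k, hk⟩ := ho
  have h2 : f * f = 1 := mul_eq_one_iff_eq_inv.2 hi
  have h3 := pow_orderOf_eq_one f
  rw [hk, pow_succ, pow_mul, pow_two, h2, one_pow, one_mul] at h3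
  exact hf h3

omit [Finite G] in
theorem odd_card_of_isPGroup [Finite G] (hp : p ≠ 2) {Q : Subgroup G} (hQ : IsPGroup p Q) :
    Odd (Nat.card Q) := by
  obtain ⟨k, hk⟩ := IsPGroup.iff_card.1 hQ
  exact hk ▸ ((Fact.out : p.Prime).odd_of_ne_two hp).pow

namespace DHyp

/-- An odd `p`-element commuting with `t` lies in `U`. -/
theorem mem_coreU_of_pgroup (h : DHyp n t r σ) (hp : p ≠ 2) {Q : Subgroup G} (hQ : IsPGroup p Q) :
    Q ⊓ centralizer ({t} : Set G) ≤ coreU t := fun _ hx =>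
  h.mem_coreU.2 ⟨mem_centralizer_t.1 hx.2,
    (odd_card_of_isPGroup hp hQ).of_dvd_nat (orderOf_dvd_natCard _ hx.1)⟩

theorem t_not_mem_odd (h : DHyp n t r σ) {K : Subgroup G} (hK : Odd (Nat.card K)) : t ∉ K := fun ht => by
  have h1 := orderOf_dvd_natCard K ht
  rw [h.order_t] at h1
  exact Nat.not_even_iff_odd.2 hK (even_iff_two_dvd.2 h1)

theorem normalizer_ne_top [IsSimpleGroup G] (h : DHyp n t r σ) (hp : p ≠ 2) {D : Subgroup G}
    (hD : IsPGroup p D) (hne : D ≠ ⊥) : normalizer (D : Set G) ≠ ⊤ := fun e =>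
  ((normalizer_eq_top_iff.1 e).eq_bot_or_eq_top).elim hne fun e1 =>
    h.t_not_mem_odd (odd_card_of_isPGroup hp hD) (e1 ▸ mem_top t)

/-- If `t` is the only involution at `t` of a normal subgroup `K` of `H`, it is central modulo `O(H)`. -/
theorem commutator_mem_oddPart (h : DHyp n t r σ) {H K : Subgroup G} (hKH : K ≤ H)
    (hHK : H ≤ normalizer (K : Set G)) (ht : t ∈ K)
    (huniq : ∀ y ∈ K, orderOf y = 2 → Commute y t → y = t) {x : G} (hx : x ∈ H) :
    x * t * x⁻¹ * t⁻¹ ∈ oddPart H := by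
  haveI := Fact.mk Nat.prime_two
  set tK : K := ⟨t, ht⟩
  have htK : orderOf tK = 2 := by rw [Subgroup.orderOf_mk, h.order_t]
  obtain ⟨P, hP⟩ := (IsPGroup.of_card (n := 1) (by rw [Nat.card_zpowers, htK, pow_one]) :
    IsPGroup 2 (zpowers tK)).exists_le_sylow
  have htP : tK ∈ (P : Subgroup K) := hP (mem_zpowers _)
  -- the Sylow subgroup centralises `t`
  have hPc : ∀ y ∈ (P : Subgroup K), Commute (y : G) t := by
    haveI : Nontrivial (P : Subgroup K) :=
      ⟨⟨⟨tK, htP⟩, 1, fun e => h.ne_one_t (congrArg (fun z : (P : Subgroup K) => ((z : K) : G)) e)⟩⟩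
    haveI := P.2.center_nontrivial
    have hcard : 1 < Nat.card (center (P : Subgroup K)) := Finite.one_lt_card
    obtain ⟨k, hk⟩ := IsPGroup.iff_card.1 (P.2.to_subgroup (center (P : Subgroup K)))
    obtain ⟨z, hz⟩ := exists_prime_orderOf_dvd_card' (G := center (P : Subgroup K)) 2
      (hk ▸ dvd_pow_self 2 (by rintro rfl; rw [hk, pow_zero] at hcard; omega))
    have hzc : ∀ y ∈ (P : Subgroup K), Commute (((z : (P : Subgroup K)) : K) : G) (y : G) := fun y hy =>
      congrArg (fun w : (P : Subgroup K) => ((w : K) : G)) (mem_center_iff.1 z.2 ⟨y, hy⟩).symm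
    have hzt := huniq _ ((z : (P : Subgroup K)) : K).2
      (by rw [Subgroup.orderOf_coe, Subgroup.orderOf_coe, Subgroup.orderOf_coe, hz]) (hzc tK htP)
    intro y hy
    exact (hzt ▸ hzc y hy).symm
  -- hence lies in a cyclic group
  set P' := (P : Subgroup K).map K.subtype
  have hP'C : P' ≤ centralizer ({t} : Set G) := by
    rintro _ ⟨y, hy, rfl⟩
    exact mem_centralizer_t.2 (hPc y hy)
  obtain ⟨c, hct, hc⟩ := h.exists_conj_le (P.2.map K.subtype) hP'C
  have hle : P'.map (MulAut.conj c).toMonoidHom ≤ zpowers σ := by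
    rintro _ ⟨_, ⟨y, hy, rfl⟩, rfl⟩
    rcases h.mem_sylow_cases (hc _ ⟨y, hy, rfl⟩) with ⟨k, hk⟩ | ⟨k, hk⟩
    · show c * (y : G) * c⁻¹ ∈ zpowers σ
      exact (show c * (y : G) * c⁻¹ = σ ^ k from hk) ▸ pow_mem (mem_zpowers σ) k
    · exfalso
      have hk' : c * (y : G) * c⁻¹ = r * σ ^ k := hk
      have hinv : r * σ ^ k * r⁻¹ = (σ ^ k)⁻¹ := Involution.inverts_pow h.conj_σ k
      have h2 : r * σ ^ k * (r * σ ^ k) = 1 := by
        rw [Involution.inv_eq h.order_r] at hinv
        rw [← mul_assoc, hinv, inv_mul_cancel]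
      have hne : r * σ ^ k ≠ 1 := fun e => h.r_not_mem_zpowers
        (eq_inv_of_mul_eq_one_left e ▸ inv_mem (pow_mem (mem_zpowers σ) k))
      have hyo : orderOf (y : G) = 2 := by
        rw [← orderOf_injective (MulAut.conj c).toMonoidHom (MulAut.conj c).injective (y : G)]
        show orderOf (c * (y : G) * c⁻¹) = 2
        rw [hk']
        exact Involution.orderOf_of_sq h2 hne
      rw [huniq _ y.2 hyo (hPc y hy), hct.eq, mul_inv_cancel_right] at hk'
      refine h.r_not_mem_zpowers ?_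
      rw [eq_mul_inv_of_mul_eq hk'.symm]
      exact mul_mem h.t_mem_zpowers (inv_mem (pow_mem (mem_zpowers σ) k))
  haveI hPcyc : IsCyclic (P : Subgroup K) := by
    haveI : IsCyclic (P'.map (MulAut.conj c).toMonoidHom) := Subgroup.isCyclic_of_le hle
    exact isCyclic_of_surjective _ (((P : Subgroup K).equivMapOfInjective K.subtype K.subtype_injective).trans
      (P'.equivMapOfInjective (MulAut.conj c).toMonoidHom (MulAut.conj c).injective)).symm.surjective
  have hmin : (Nat.card K).minFac = 2 :=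
    (Nat.minFac_eq_two_iff _).2 (htK ▸ orderOf_dvd_natCard tK)
  have hcomp := IsCyclic.isComplement' hmin hPcyc
  set φ := MonoidHom.transferSylow P (hPcyc.normalizer_le_centralizer hmin)
  have hnd : ¬ 2 ∣ Nat.card φ.ker := MonoidHom.not_dvd_card_ker_transferSylow P _
  have hkodd : Odd (Nat.card φ.ker) := Nat.not_even_iff_odd.1 fun e => hnd (even_iff_two_dvd.1 e)
  have hne : ∀ z : K, orderOf z = 2 → φ z ≠ 1 := by
    intro z hz e
    have hd := orderOf_dvd_natCard φ.ker (MonoidHom.mem_ker.2 e)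
    rw [hz] at hd
    exact hnd hd
  have hxK : x * t * x⁻¹ ∈ K := (mem_normalizer_iff.1 (hHK hx) t).1 ht
  have hxo : orderOf (⟨x * t * x⁻¹, hxK⟩ : K) = 2 := by
    rw [Subgroup.orderOf_mk]
    exact (orderOf_injective (MulAut.conj x).toMonoidHom (MulAut.conj x).injective t).trans h.order_t
  have heq : φ ⟨x * t * x⁻¹, hxK⟩ = φ tK := by
    have h1 : ∀ z : K, orderOf z = 2 → orderOf (φ z) = 2 := fun z hz =>
      Involution.orderOf_of_sq (by rw [← map_mul, Involution.mul_self hz, map_one]) (hne z hz)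
    have hmem : ∀ z : K, orderOf z = 2 → ((φ z : (P : Subgroup K)) : K) = tK := by
      intro z hz
      have h2 : orderOf (((φ z : (P : Subgroup K)) : K) : G) = 2 := by
        rw [Subgroup.orderOf_coe, Subgroup.orderOf_coe, h1 z hz]
      exact Subtype.ext (huniq _ ((φ z : (P : Subgroup K)) : K).2 h2 (hPc _ (φ z).2))
    exact Subtype.ext ((hmem _ hxo).trans (hmem _ htK).symm)
  have hker : (⟨x * t * x⁻¹, hxK⟩ : K) * tK⁻¹ ∈ Cfsg.pPrimeCore 2 K := by
    refine Cores.le_pPrimeCore (MonoidHom.normal_ker φ) (Nat.coprime_two_right.2 hkodd) ?_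
    rw [MonoidHom.mem_ker, map_mul, map_inv, heq, mul_inv_cancel]
  refine le_oddPart_of_normal (N := oddPart K) ((GWKlein.oddPart_le K).trans hKH) ?_
    (GWKlein.odd_card_oddPart K) ⟨_, hker, rfl⟩
  exact hHK.trans (Cores.normalizer_le_normalizer_map _)

/-- A Sylow-invariant `D ≤ U` with moved core gives a side. -/
theorem exists_side_of_coreMoved (h : DHyp n t r σ) (hp : p ≠ 2) {D : Subgroup G} (hD : IsPGroup p D)
    (hne : D ≠ ⊥) (hDU : D ≤ coreU t) (hS : closure ({σ, r} : Set G) ≤ normalizer (D : Set G))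
    (hm : CoreMoved p t r D) : ∃ R, Side p t r σ R ∧ D ≤ R := by
  obtain ⟨Q, hQ, hQV, hQO, hQt⟩ := hm
  set O := oddPart (normalizer (D : Set G))
  have hOodd : Odd (Nat.card O) := GWKlein.odd_card_oddPart _
  have hDO : D ≤ O := le_oddPart_of_normal le_normalizer le_rfl (odd_card_of_isPGroup hp hD)
  obtain ⟨R, hDR, hRO, hRS, hR, hRc⟩ := h.exists_invariant_sylow h.isPGroup_sylow hOodd
    (hS.trans (GWKlein.le_normalizer_oddPart _)) hDO hD (hS.trans le_rfl)
  refine ⟨R, ⟨hR, hRS, fun hRt => hQt ?_, fun e => hne (le_bot_iff.1 (e ▸ le_inf hDR hDU))⟩, hDR⟩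
  exact h.le_centralizer_of_sylow hOodd
    (h.fourV_le_sylow.trans (hS.trans (GWKlein.le_normalizer_oddPart _))) hRO
    (h.fourV_le_sylow.trans hRS) hRc hRt hQO hQ hQV

end DHyp

/-- A group moved by `t` has a moved commutator part in any subgroup that has all commutators. -/
theorem not_inf_le_centralizer (h : DHyp n t r σ) (hp : p ≠ 2) {N O : Subgroup G} (hN : IsPGroup p N)
    (ht : t ∈ normalizer (N : Set G)) (hcomm : ∀ x ∈ N, x * t * x⁻¹ * t⁻¹ ∈ O)
    (hmoved : ¬ N ≤ centralizer ({t} : Set G)) : ¬ N ⊓ O ≤ centralizer ({t} : Set G) := by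
  intro hle
  refine hmoved fun x hx => mem_centralizer_t.2 ?_
  have hxN : x * t * x⁻¹ * t⁻¹ ∈ N := by
    rw [show x * t * x⁻¹ * t⁻¹ = x * (t * x⁻¹ * t⁻¹) by group]
    exact mul_mem hx ((mem_normalizer_iff.1 ht _).1 (inv_mem hx))
  exact commute_of_commutator_commute h.order_t
    ((odd_card_of_isPGroup hp hN).of_dvd_nat (orderOf_dvd_natCard _ hxN))
    (mem_centralizer_t.1 (hle ⟨hxN, hcomm x hx⟩))

/-- One step of growth: a larger fixed part in the core of `N(D)` extended by `N_U(D)`. -/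
theorem exists_step (h : DHyp n t r σ) (hp : p ≠ 2) {A D P : Subgroup G} (hA : IsPGroup 2 A)
    (hVA : fourV t r ≤ A) (hD : IsPGroup p D) (hP : IsPGroup p P) (hPU : P ≤ coreU t) (hDP : D < P)
    (hAD : A ≤ normalizer (D : Set G)) (hAP : A ≤ normalizer (P : Set G)) (hm : CoreMoved p t r D) :
    ∃ R : Subgroup G, IsPGroup p R ∧ A ≤ normalizer (R : Set G) ∧ ¬ R ≤ centralizer ({t} : Set G) ∧
      D < R ⊓ coreU t := by
  obtain ⟨Q, hQ, hQV, hQO, hQt⟩ := hm
  set O := oddPart (normalizer (D : Set G))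
  set NP := P ⊓ normalizer (D : Set G)
  have hlt : D < NP := GWKlein.lt_inf_normalizer hP hDP
  have hNPn : NP ≤ normalizer (O : Set G) := inf_le_right.trans (GWKlein.le_normalizer_oddPart _)
  have hAO : A ≤ normalizer (O : Set G) := hAD.trans (GWKlein.le_normalizer_oddPart _)
  have hANP : A ≤ normalizer (NP : Set G) :=
    (le_inf hAP (hAD.trans le_normalizer)).trans inf_normalizer_le_normalizer_inf
  have hodd : Odd (Nat.card (O ⊔ NP : Subgroup G)) :=
    odd_card_sup hNPn (GWKlein.odd_card_oddPart _) (odd_card_of_isPGroup hp (hP.to_le inf_le_left))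
  have hAY : A ≤ normalizer ((O ⊔ NP : Subgroup G) : Set G) :=
    (le_inf hAO hANP).trans (GWKlein.normalizer_inf_le_sup _ _)
  obtain ⟨R, hNR, hRY, hAR, hR, hRc⟩ := h.exists_invariant_sylow hA hodd hAY le_sup_right
    (hP.to_le inf_le_left) hANP
  refine ⟨R, hR, hAR, fun hRt => hQt ?_,
    hlt.trans_le (le_inf hNR (inf_le_left.trans hPU))⟩
  exact h.le_centralizer_of_sylow hodd (hVA.trans hAY) hRY (hVA.trans hAR) hRc hRt
    (hQO.trans le_sup_left) hQ hQV

/-- A side grows to one meeting `U` in a Sylow subgroup. -/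
theorem exists_fullSide_of_side [IsSimpleGroup G] (h : DHyp n t r σ) (hp : p ≠ 2)
    (hfix : InvariantCoreFixed p G) {R : Subgroup G} (hR : Side p t r σ R) :
    ∃ R', FullSide p t r σ R' := by
  obtain ⟨k, hk⟩ : ∃ k, k = Nat.card (coreU t) - Nat.card (R ⊓ coreU t : Subgroup G) := ⟨_, rfl⟩
  induction k using Nat.strong_induction_on generalizing R with
  | _ k ih =>
  set D := R ⊓ coreU t
  set S := closure ({σ, r} : Set G)
  have hD : IsPGroup p D := hR.isPGroup.to_le inf_le_left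
  have hSD : S ≤ normalizer (D : Set G) :=
    (le_inf hR.inv h.sylow_le_normalizer_coreU).trans inf_normalizer_le_normalizer_inf
  obtain ⟨P, hDP, hPU, hSP, hP, hPc⟩ := h.exists_invariant_sylow h.isPGroup_sylow h.odd_coreU
    h.sylow_le_normalizer_coreU inf_le_right hD hSD
  rcases hDP.eq_or_lt with heq | hlt
  · exact ⟨R, hR, by rw [← hPc]; exact congrArg (fun X : Subgroup G => Nat.card X) heq⟩
  -- the part of `R` normalising `D` is moved
  have hfixed : R ⊓ centralizer ({t} : Set G) ≤ D :=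
    le_inf inf_le_left (h.mem_coreU_of_pgroup hp hR.isPGroup)
  have hDR : D < R := lt_of_le_of_ne inf_le_left fun e =>
    hR.moved (e ▸ inf_le_right.trans (GWKlein.coreU_le_centralizer t))
  set N := R ⊓ normalizer (D : Set G)
  have hN : IsPGroup p N := hR.isPGroup.to_le inf_le_left
  have hNt : ¬ N ≤ centralizer ({t} : Set G) := fun hle => (GWKlein.lt_inf_normalizer hR.isPGroup hDR).not_ge
    ((le_inf inf_le_left hle).trans hfixed)
  have hSN : S ≤ normalizer (N : Set G) :=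
    (le_inf hR.inv (hSD.trans le_normalizer)).trans inf_normalizer_le_normalizer_inf
  have hne : D ≠ ⊥ := hR.meets
  have hm : CoreMoved p t r D := ⟨N ⊓ oddPart (normalizer (D : Set G)), hN.to_le inf_le_left,
    (le_inf (h.fourV_le_sylow.trans hSN) (h.fourV_le_sylow.trans (hSD.trans
      (GWKlein.le_normalizer_oddPart _)))).trans inf_normalizer_le_normalizer_inf, inf_le_right,
    not_inf_le_centralizer h hp hN (hSN h.sylow_mem_t)
      (hfix n t r σ h _ (h.normalizer_ne_top hp hD hne) hSD N hN inf_le_right hSN) hNt⟩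
  obtain ⟨R', hR', hSR', hR't, hlt'⟩ :=
    exists_step h hp h.isPGroup_sylow h.fourV_le_sylow hD hP hPU hlt hSD hSP hm
  refine ih _ ?_ ⟨hR', hSR', hR't, fun e => ?_⟩ rfl
  · have h1 : Nat.card D < Nat.card (R' ⊓ coreU t : Subgroup G) :=
      lt_of_not_ge fun hge => hlt'.ne (eq_of_le_of_card_ge hlt'.le hge)
    have h2 : Nat.card (R' ⊓ coreU t : Subgroup G) ≤ Nat.card (coreU t) := card_le_of_le inf_le_right
    omega
  · exact hne (le_bot_iff.1 (e ▸ hlt'.le))

/-- A quarter rotation of the four-group spreads the parts at `r` and `t * r`. -/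
theorem exists_fixed_inverted_of_quarter (h : DHyp n t r σ) (hp : p ≠ 2) {X : Subgroup G} (hX : IsPGroup p X)
    (hV : fourV t r ≤ normalizer (X : Set G)) {ρ : G} (hρ : ρ ∈ normalizer (X : Set G)) (hρt : Commute ρ t)
    (hρr : ρ * r * ρ⁻¹ = t * r) (hm : ¬ X ≤ centralizer ({t} : Set G)) :
    ∃ f ∈ X, orderOf f = p ∧ Commute f r ∧ t * f * t⁻¹ = f⁻¹ := by
  haveI : IsMulCommutative (fourV t r) := by
    haveI := h.isKleinFour
    exact ⟨⟨fun a b => mul_comm_of_exponent_two IsKleinFour.exponent_two a b⟩⟩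
  have hnc : ¬ IsCyclic (fourV t r) := fun hc => by
    haveI := h.isKleinFour
    exact IsKleinFour.not_isCyclic hc
  obtain ⟨x, hx, hxr, hxt⟩ : ∃ x ∈ X, Commute x r ∧ ¬ Commute x t := by
    by_contra hno
    push Not at hno
    refine hm (Coprime.le_of_noncyclic hnc hV (h.coprime_card h.isPGroup_fourV (odd_card_of_isPGroup hp hX))
      fun v hv hv1 => ?_)
    rcases h.mem_fourV_iff.1 hv with rfl | rfl | rfl | rfl
    · exact absurd rfl hv1
    · exact inf_le_right
    · exact fun x hx => mem_centralizer_t.2 (hno x hx.1 (mem_centralizer_t.1 hx.2))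
    · intro x hx
      have hx' : ρ⁻¹ * x * ρ ∈ X := by
        have := (mem_normalizer_iff.1 (inv_mem hρ) x).1 hx.1
        rwa [inv_inv] at this
      have hc : Commute (ρ⁻¹ * x * ρ) r := by
        have e : r = ρ⁻¹ * (t * r) * ρ := by rw [← hρr]; group
        have h2 : x * (t * r) = t * r * x := mem_centralizer_singleton_iff.1 hx.2
        show ρ⁻¹ * x * ρ * r = r * (ρ⁻¹ * x * ρ)
        rw [e, show ρ⁻¹ * x * ρ * (ρ⁻¹ * (t * r) * ρ) = ρ⁻¹ * (x * (t * r)) * ρ by group, h2]
        group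
      have h1 := (hρt.mul_left (hno _ hx' hc)).mul_left hρt.inv_left
      rw [show ρ * (ρ⁻¹ * x * ρ) * ρ⁻¹ = x by group] at h1
      exact mem_centralizer_t.2 h1
  set a := (t * x * t⁻¹)⁻¹ * x
  have haX : a ∈ X :=
    mul_mem (inv_mem ((mem_normalizer_iff.1 (hV (GWKlein.left_mem_fourV t r)) x).1 hx)) hx
  have har : Commute a r := ((h.comm_t_r.mul_left hxr).mul_left h.comm_t_r.inv_left).inv_left.mul_left hxr
  have hat : t * a * t⁻¹ = a⁻¹ := by
    calc t * ((t * x * t⁻¹)⁻¹ * x) * t⁻¹ = t * t * x⁻¹ * (t * t)⁻¹ * (t * x * t⁻¹) := by group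
      _ = ((t * x * t⁻¹)⁻¹ * x)⁻¹ := by rw [h.mul_self_t]; group
  have ha1 : a ≠ 1 := fun e => hxt ((mul_inv_eq_iff_eq_mul.1 (inv_mul_eq_one.1 e)).symm)
  obtain ⟨j, hj⟩ := IsPGroup.iff_orderOf.1 hX ⟨a, haX⟩
  rw [Subgroup.orderOf_mk] at hj
  have hj0 : j ≠ 0 := by rintro rfl; exact ha1 (orderOf_eq_one_iff.1 (by rw [hj, pow_zero]))
  refine ⟨a ^ (orderOf a / p), pow_mem haX _,
    orderOf_pow_orderOf_div (orderOf_pos a).ne' (by rw [hj]; exact dvd_pow_self p hj0), har.pow_left _, ?_⟩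
  rw [← conj_pow, hat, inv_pow]

/-- A group whose only elements fixed by `t` lie in the normal subgroup `K` is abelian modulo `K`. -/
theorem commutator_mem_of_fixed_le (h : DHyp n t r σ) {N K : Subgroup G} (hK : N ≤ normalizer (K : Set G))
    (htN : t ∈ normalizer (N : Set G)) (htK : t ∈ normalizer (K : Set G))
    (hfix : ∀ x ∈ N, t * x * t⁻¹ * x⁻¹ ∈ K → x ∈ K) {a b : G} (ha : a ∈ N) (hb : b ∈ N) :
    a * b * a⁻¹ * b⁻¹ ∈ K := by
  haveI : (K.subgroupOf N).Normal := Cores.subgroupOf_normal_of_le_normalizer hK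
  let c : N →* N :=
    { toFun := fun x => ⟨t * x * t⁻¹, (mem_normalizer_iff.1 htN _).1 x.2⟩
      map_one' := Subtype.ext (by simp)
      map_mul' := fun x y => Subtype.ext (by simp [mul_assoc]) }
  have hc : K.subgroupOf N ≤ (K.subgroupOf N).comap c := fun x hx =>
    mem_subgroupOf.2 ((mem_normalizer_iff.1 htK _).1 (mem_subgroupOf.1 hx))
  let f := QuotientGroup.map (K.subgroupOf N) (K.subgroupOf N) c hc
  have h2 : ∀ x, f (f x) = x := by
    intro x
    obtain ⟨y, rfl⟩ := QuotientGroup.mk_surjective x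
    show (QuotientGroup.mk (c (c y)) : N ⧸ K.subgroupOf N) = _
    congr 1
    refine Subtype.ext ?_
    show t * (t * y * t⁻¹) * t⁻¹ = y
    rw [show t * (t * (y : G) * t⁻¹) * t⁻¹ = t * t * y * (t * t)⁻¹ by group, h.mul_self_t]
    group
  have hfp : ∀ x, f x = x → x = 1 := by
    intro x hx
    obtain ⟨y, rfl⟩ := QuotientGroup.mk_surjective x
    have h3 : (c y) * y⁻¹ ∈ K.subgroupOf N := by
      rw [← QuotientGroup.eq_one_iff, QuotientGroup.mk_mul, QuotientGroup.mk_inv, mul_inv_eq_one]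
      exact hx
    exact (QuotientGroup.eq_one_iff y).2 (hfix _ y.2 h3)
  have hinv := InvolutionEigen.inverts_of_fpf f h2 hfp
  have hab := map_mul f (QuotientGroup.mk (⟨a, ha⟩ : N)) (QuotientGroup.mk (⟨b, hb⟩ : N))
  rw [hinv, hinv, hinv, mul_inv_rev] at hab
  have h4 : ((⟨a, ha⟩ : N) * ⟨b, hb⟩ * (⟨a, ha⟩ : N)⁻¹ * (⟨b, hb⟩ : N)⁻¹) ∈ K.subgroupOf N := by
    rw [← QuotientGroup.eq_one_iff]
    simp only [QuotientGroup.mk_mul, QuotientGroup.mk_inv]
    rw [mul_assoc, ← hab, mul_assoc, mul_inv_cancel_left, mul_inv_cancel]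
  exact h4

/-- With a quarter rotation a moved group gives a moved core at its fixed part. -/
theorem coreMoved_of_quarter [IsSimpleGroup G] (h : DHyp n t r σ) (hp : p ≠ 2) (h2 : TwoSides p G)
    {R : Subgroup G} (hR : IsPGroup p R) (hVR : fourV t r ≤ normalizer (R : Set G)) {ρ : G}
    (hρR : ρ ∈ normalizer (R : Set G)) (hρU : ρ ∈ normalizer (coreU t : Set G)) (hρt : Commute ρ t)
    (hρr : ρ * r * ρ⁻¹ = t * r) (hmoved : ¬ R ≤ centralizer ({t} : Set G))
    (hr : ¬ R ⊓ coreU t ≤ centralizer ({r} : Set G)) : CoreMoved p t r (R ⊓ coreU t) := by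
  set D := R ⊓ coreU t
  set H := normalizer (D : Set G)
  set O := oddPart H
  have hD : IsPGroup p D := hR.to_le inf_le_left
  have hne : D ≠ ⊥ := fun e => hr (e ▸ bot_le)
  have hVU : fourV t r ≤ normalizer (coreU t : Set G) := h.fourV_le_sylow.trans h.sylow_le_normalizer_coreU
  have hVD : fourV t r ≤ H := (le_inf hVR hVU).trans inf_normalizer_le_normalizer_inf
  have hρD : ρ ∈ H := inf_normalizer_le_normalizer_inf (H := R) (K := coreU t) ⟨hρR, hρU⟩
  set N := R ⊓ H
  have hN : IsPGroup p N := hR.to_le inf_le_left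
  have hfixed : R ⊓ centralizer ({t} : Set G) ≤ D := le_inf inf_le_left (h.mem_coreU_of_pgroup hp hR)
  have hDR : D < R := lt_of_le_of_ne inf_le_left fun e =>
    hmoved (e ▸ inf_le_right.trans (GWKlein.coreU_le_centralizer t))
  have hNt : ¬ N ≤ centralizer ({t} : Set G) := fun hle => (GWKlein.lt_inf_normalizer hR hDR).not_ge
    ((le_inf inf_le_left hle).trans hfixed)
  have hVN : fourV t r ≤ normalizer (N : Set G) :=
    (le_inf hVR (hVD.trans le_normalizer)).trans inf_normalizer_le_normalizer_inf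
  have hρN : ρ ∈ normalizer (N : Set G) :=
    inf_normalizer_le_normalizer_inf (H := R) (K := H) ⟨hρR, le_normalizer hρD⟩
  by_contra hm
  have hNO : N ⊓ O ≤ centralizer ({t} : Set G) := by
    by_contra hc
    exact hm ⟨N ⊓ O, hN.to_le inf_le_left,
      (le_inf hVN (hVD.trans (GWKlein.le_normalizer_oddPart _))).trans inf_normalizer_le_normalizer_inf,
      inf_le_right, hc⟩
  have htD : t ∈ centralizer (D : Set G) :=
    mem_centralizer_iff.2 fun d hd => (GWKlein.commute_of_mem_coreU hd.2).eq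
  obtain ⟨y, hyK, hyo, hyt, hyne⟩ :
      ∃ y ∈ centralizer (D : Set G), orderOf y = 2 ∧ Commute y t ∧ y ≠ t := by
    by_contra hno
    push Not at hno
    exact not_inf_le_centralizer h hp hN (hVN (GWKlein.left_mem_fourV t r))
      (fun x hx => h.commutator_mem_oddPart (centralizer_le_normalizer _)
        (PLocal.normalizer_le_normalizer_centralizer D) htD hno hx.2) hNt hNO
  obtain ⟨f, hfN, hfo, hfr, hft⟩ := exists_fixed_inverted_of_quarter h hp hN hVN hρN hρt hρr hNt
  have hf1 : f ≠ 1 := fun e => (Fact.out : p.Prime).ne_one (by rw [← hfo, e, orderOf_one])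
  have hfO : f ∉ O := fun hf => not_commute_of_inverted
    (hfo ▸ (Fact.out : p.Prime).odd_of_ne_two hp) hf1 hft (mem_centralizer_t.1 (hNO ⟨hfN, hf⟩))
  set g := ρ * f * ρ⁻¹
  have hgN : g ∈ N := (mem_normalizer_iff.1 hρN f).1 hfN
  have hgO : g ∉ O := fun hg => hfO
    ((mem_normalizer_iff.1 (GWKlein.le_normalizer_oddPart H hρD) f).2 hg)
  have hgt : t * g * t⁻¹ = g⁻¹ := by
    calc t * (ρ * f * ρ⁻¹) * t⁻¹ = (t * ρ) * f * (t * ρ)⁻¹ := by group
      _ = ρ * (t * f * t⁻¹) * ρ⁻¹ := by rw [← hρt.eq]; group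
      _ = g⁻¹ := by rw [hft]; simp only [g]; group
  have hgr : r * g * r⁻¹ = g⁻¹ := by
    have hgc : t * r * g * (t * r)⁻¹ = g := by
      rw [← hρr]
      simp only [g]
      calc ρ * r * ρ⁻¹ * (ρ * f * ρ⁻¹) * (ρ * r * ρ⁻¹)⁻¹ = ρ * (r * f * r⁻¹) * ρ⁻¹ := by group
        _ = ρ * f * ρ⁻¹ := by rw [← hfr.eq, mul_inv_cancel_right]
    calc r * g * r⁻¹ = t⁻¹ * (t * r * g * (t * r)⁻¹) * t := by group
      _ = g⁻¹ := by rw [hgc, Involution.inv_eq h.order_t]; rwa [Involution.inv_eq h.order_t] at hgt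
  have hDO : D ≤ O := le_oddPart_of_normal le_normalizer le_rfl (odd_card_of_isPGroup hp hD)
  have hab : f * g * f⁻¹ * g⁻¹ ∈ O := by
    refine (commutator_mem_of_fixed_le h (K := N ⊓ O) ?_ (hVN (GWKlein.left_mem_fourV t r)) ?_ ?_ hfN hgN).2
    · exact (le_inf le_normalizer (inf_le_right.trans (GWKlein.le_normalizer_oddPart _))).trans
        inf_normalizer_le_normalizer_inf
    · exact inf_normalizer_le_normalizer_inf (H := N) (K := O)
        ⟨hVN (GWKlein.left_mem_fourV t r), GWKlein.le_normalizer_oddPart _ (hVD (GWKlein.left_mem_fourV t r))⟩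
    · intro x hx hxK
      have hc := commute_of_commutator_commute h.order_t (x := x) (v := t) ?_ ?_
      · exact ⟨hx, hDO (hfixed ⟨hx.1, mem_centralizer_t.2 hc⟩)⟩
      · have h5 := (odd_card_of_isPGroup hp hN).of_dvd_nat (orderOf_dvd_natCard _ (inv_mem hxK.1))
        rwa [show (t * x * t⁻¹ * x⁻¹)⁻¹ = x * t * x⁻¹ * t⁻¹ by group] at h5
      · have h5 := (mem_centralizer_t.1 (hNO hxK)).inv_left
        rwa [show (t * x * t⁻¹ * x⁻¹)⁻¹ = x * t * x⁻¹ * t⁻¹ by group] at h5
  rcases h2 n t r σ h H (centralizer (D : Set G)) (h.normalizer_ne_top hp hD hne) (centralizer_le_normalizer _)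
    (PLocal.normalizer_le_normalizer_centralizer D) htD
    (fun hrD => hr fun d hd => mem_centralizer_singleton_iff.2 (mem_centralizer_iff.1 hrD d hd))
    (hVD (GWKlein.right_mem_fourV t r)) y hyK hyo hyt hyne f g hfN.2 hgN.2
    (hfo ▸ pow_orderOf_eq_one f)
    (by rw [conj_pow, ← hfo, pow_orderOf_eq_one, mul_one, mul_inv_cancel]) hab hfr hft hgt hgr with e | e
  · exact hfO e
  · exact hgO e

/-- At a Sylow subgroup of `U` the growth is finished. -/
theorem exists_fullSide_of_sylow [IsSimpleGroup G] (h : DHyp n t r σ) (hp : p ≠ 2) {D : Subgroup G}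
    (hD : IsPGroup p D) (hne : D ≠ ⊥) (hDU : D ≤ coreU t) (hVD : fourV t r ≤ normalizer (D : Set G))
    (hc : Nat.card D = p ^ (Nat.card (coreU t)).factorization p) (hm : CoreMoved p t r D) :
    ∃ R, FullSide p t r σ R := by
  haveI := Fact.mk Nat.prime_two
  have hVU : fourV t r ≤ normalizer (coreU t : Set G) := h.fourV_le_sylow.trans h.sylow_le_normalizer_coreU
  obtain ⟨P₀, -, hP₀U, hSP₀, -, hP₀c⟩ := h.exists_invariant_sylow (p := p) (Q := ⊥) h.isPGroup_sylow h.odd_coreU
    h.sylow_le_normalizer_coreU bot_le IsPGroup.of_bot (by rw [normalizer_eq_top]; exact le_top)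
  obtain ⟨c, hc', hcP⟩ := Coprime.exists_mem_centralizer_conj_of_card hVU
    (h.coprime_card h.isPGroup_fourV h.odd_coreU) (Or.inl (Coprime.isSolvable_of_isPGroup h.isPGroup_fourV))
    hDU hP₀U hVD (h.fourV_le_sylow.trans hSP₀) hc hP₀c
  have hct : Commute c t := (mem_centralizer_iff.1 hc'.2 t (GWKlein.left_mem_fourV t r)).symm
  have hcr : c * r * c⁻¹ = r := by
    rw [← mem_centralizer_iff.1 hc'.2 r (GWKlein.right_mem_fourV t r), mul_inv_cancel_right]
  have h' : DHyp n t r (c * σ * c⁻¹) := hcr ▸ h.conj hct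
  have hS' : closure ({c * σ * c⁻¹, r} : Set G) ≤ normalizer (D : Set G) := by
    rw [← hcP]
    have e := h.map_conj_sylow c
    rw [hcr] at e
    rw [← e]
    exact (map_mono hSP₀).trans (le_normalizer_map _)
  obtain ⟨R, hR, hDR⟩ := h'.exists_side_of_coreMoved hp hD hne hDU hS' hm
  refine FullSide.transfer h h' (R := R) ⟨hR, le_antisymm ?_ (hc ▸ card_le_of_le (le_inf hDR hDU))⟩
  exact Coprime.card_le_of_isPGroup (hR.isPGroup.to_le inf_le_left) inf_le_right

/-- Growth with a quarter rotation never stops. -/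
theorem exists_fullSide_of_quarter [IsSimpleGroup G] (h : DHyp n t r σ) (hp : p ≠ 2) (h2 : TwoSides p G)
    {A : Subgroup G} (hA : IsPGroup 2 A) (hVA : fourV t r ≤ A) (hAC : A ≤ centralizer ({t} : Set G))
    {ρ : G} (hρA : ρ ∈ A) (hρr : ρ * r * ρ⁻¹ = t * r) {D : Subgroup G} (hD : IsPGroup p D)
    (hDU : D ≤ coreU t) (hAD : A ≤ normalizer (D : Set G)) (hr : ¬ D ≤ centralizer ({r} : Set G))
    (hm : CoreMoved p t r D) : ∃ R, FullSide p t r σ R := by
  obtain ⟨k, hk⟩ : ∃ k, k = Nat.card (coreU t) - Nat.card D := ⟨_, rfl⟩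
  induction k using Nat.strong_induction_on generalizing D with
  | _ k ih =>
  have hAU : A ≤ normalizer (coreU t : Set G) := hAC.trans (GWKlein.centralizer_le_normalizer_coreU t)
  obtain ⟨P, hDP, hPU, hAP, hP, hPc⟩ := h.exists_invariant_sylow hA h.odd_coreU hAU hDU hD hAD
  rcases hDP.eq_or_lt with heq | hlt
  · exact exists_fullSide_of_sylow h hp hD (fun e => hr (e ▸ bot_le)) hDU (hVA.trans hAD)
      (heq ▸ hPc) hm
  obtain ⟨R, hR, hAR, hRt, hlt'⟩ := exists_step h hp hA hVA hD hP hPU hlt hAD hAP hm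
  have hr' : ¬ R ⊓ coreU t ≤ centralizer ({r} : Set G) := fun hle => hr (hlt'.le.trans hle)
  refine ih _ ?_ (hR.to_le inf_le_left) inf_le_right
    ((le_inf hAR hAU).trans inf_normalizer_le_normalizer_inf) hr'
    (coreMoved_of_quarter h hp h2 hR (hVA.trans hAR) (hAR hρA) (hAU hρA) (mem_centralizer_t.1 (hAC hρA))
      hρr hRt hr') rfl
  have h1 : Nat.card D < Nat.card (R ⊓ coreU t : Subgroup G) :=
    lt_of_not_ge fun hge => hlt'.ne (eq_of_le_of_card_ge hlt'.le hge)
  have h3 : Nat.card (R ⊓ coreU t : Subgroup G) ≤ Nat.card (coreU t) := card_le_of_le inf_le_right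
  omega

/-- **(1.1)**: growth. -/
theorem exists_fullSide_of_growth [IsSimpleGroup G] (h : DHyp n t r σ) (hp : p ≠ 2) (h2 : TwoSides p G)
    {D : Subgroup G} (hD : IsPGroup p D) (hne : D ≠ ⊥) (hDU : D ≤ coreU t)
    (hVD : fourV t r ≤ normalizer (D : Set G))
    (hbig : p ^ (Nat.card (coreW t r)).factorization p ≤ Nat.card D ∨ ¬ D ≤ centralizer ({r} : Set G))
    (hm : CoreMoved p t r D) : ∃ R, FullSide p t r σ R := by
  haveI := Fact.mk Nat.prime_two
  obtain ⟨k, hk⟩ : ∃ k, k = Nat.card (coreU t) - Nat.card D := ⟨_, rfl⟩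
  induction k using Nat.strong_induction_on generalizing D with
  | _ k ih =>
  have hVU : fourV t r ≤ normalizer (coreU t : Set G) := h.fourV_le_sylow.trans h.sylow_le_normalizer_coreU
  obtain ⟨P, hDP, hPU, hVP, hP, hPc⟩ :=
    h.exists_invariant_sylow h.isPGroup_fourV h.odd_coreU hVU hDU hD hVD
  rcases hDP.eq_or_lt with heq | hlt
  · exact exists_fullSide_of_sylow h hp hD hne hDU hVD (heq ▸ hPc) hm
  obtain ⟨Q, hQ, hVQ, hQt, hlt'⟩ := exists_step h hp h.isPGroup_fourV le_rfl hD hP hPU hlt hVD hVP hm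
  set D' := Q ⊓ coreU t
  have hD' : IsPGroup p D' := hQ.to_le inf_le_left
  have hne' : D' ≠ ⊥ := fun e => hne (le_bot_iff.1 (e ▸ hlt'.le))
  have hVD' : fourV t r ≤ normalizer (D' : Set G) := (le_inf hVQ hVU).trans inf_normalizer_le_normalizer_inf
  have hcard : Nat.card D < Nat.card D' :=
    lt_of_not_ge fun hge => hlt'.ne (eq_of_le_of_card_ge hlt'.le hge)
  have hr' : ¬ D' ≤ centralizer ({r} : Set G) := fun hle => by
    rcases hbig with hb | hb
    · have h1 := Coprime.card_le_of_isPGroup hD' (show D' ≤ coreW t r from le_inf inf_le_right hle)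
      omega
    · exact hb (hlt'.le.trans hle)
  by_cases hm' : CoreMoved p t r D'
  · refine ih _ ?_ hD' hne' inf_le_right hVD' (Or.inr hr') hm' rfl
    have h2 : Nat.card D' ≤ Nat.card (coreU t) := card_le_of_le inf_le_right
    omega
  -- the bad case: a second involution at `t` centralises `D'`
  set K := centralizer (D' : Set G)
  set N := Q ⊓ normalizer (D' : Set G)
  have hD'Q : D' < Q := lt_of_le_of_ne inf_le_left fun e =>
    hQt (e ▸ inf_le_right.trans (GWKlein.coreU_le_centralizer t))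
  have hNt : ¬ N ≤ centralizer ({t} : Set G) := fun hle => (GWKlein.lt_inf_normalizer hQ hD'Q).not_ge
    ((le_inf inf_le_left hle).trans (le_inf inf_le_left (h.mem_coreU_of_pgroup hp hQ)))
  have hVN : fourV t r ≤ normalizer (N : Set G) :=
    (le_inf hVQ (hVD'.trans le_normalizer)).trans inf_normalizer_le_normalizer_inf
  have htK : t ∈ K := mem_centralizer_iff.2 fun d hd => (GWKlein.commute_of_mem_coreU hd.2).eq
  obtain ⟨y₀, hy₀K, hy₀o, hy₀t, hy₀ne⟩ : ∃ y ∈ K, orderOf y = 2 ∧ Commute y t ∧ y ≠ t := by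
    by_contra hno
    push Not at hno
    refine hm' ⟨N ⊓ oddPart (normalizer (D' : Set G)), (hQ.to_le inf_le_left).to_le inf_le_left,
      (le_inf hVN (hVD'.trans (GWKlein.le_normalizer_oddPart _))).trans inf_normalizer_le_normalizer_inf,
      inf_le_right, not_inf_le_centralizer h hp (hQ.to_le inf_le_left) (hVN (GWKlein.left_mem_fourV t r))
        (fun x hx => h.commutator_mem_oddPart (centralizer_le_normalizer _)
          (PLocal.normalizer_le_normalizer_centralizer D') htK hno hx.2) hNt⟩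
  set M := normalizer (D' : Set G) ⊓ centralizer ({t} : Set G)
  have hVM : fourV t r ≤ M := le_inf hVD' h.fourV_le_centralizer_t
  have hy₀M : y₀ ∈ M := ⟨centralizer_le_normalizer _ hy₀K, mem_centralizer_t.2 hy₀t⟩
  obtain ⟨T₁, hT₁⟩ := (h.isPGroup_fourV.of_equiv (subgroupOfEquivOfLe hVM).symm).exists_le_sylow
  obtain ⟨T₂, hT₂⟩ := (IsPGroup.of_card (n := 1) (by
    rw [Nat.card_zpowers, Subgroup.orderOf_mk, hy₀o, pow_one]) :
      IsPGroup 2 (zpowers (⟨y₀, hy₀M⟩ : M))).exists_le_sylow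
  obtain ⟨⟨g, hg⟩, hgT⟩ := MulAction.exists_smul_eq M T₂ T₁
  set T := (T₁ : Subgroup M).map M.subtype
  set y := g * y₀ * g⁻¹
  have hyT : y ∈ T := by
    refine ⟨⟨g, hg⟩ * ⟨y₀, hy₀M⟩ * (⟨g, hg⟩ : M)⁻¹, ?_, rfl⟩
    rw [← hgT, Transfer.sylow_coe_smul]
    exact ⟨_, hT₂ (mem_zpowers _), rfl⟩
  have hrT : r ∈ T := ⟨⟨r, hVM (GWKlein.right_mem_fourV t r)⟩,
    hT₁ (mem_subgroupOf.2 (GWKlein.right_mem_fourV t r)), rfl⟩
  have hTC : T ≤ centralizer ({t} : Set G) := (map_subtype_le _).trans inf_le_right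
  have hyo : orderOf y = 2 :=
    (orderOf_injective (MulAut.conj g).toMonoidHom (MulAut.conj g).injective y₀).trans hy₀o
  have hgt : Commute g t := mem_centralizer_t.1 hg.2
  have hyne : y ≠ t := fun e => hy₀ne (conj_injective (x := g) (e.trans (by
    show t = g * t * g⁻¹; rw [hgt.eq, mul_inv_cancel_right])))
  have hyK : y ∈ K := (mem_normalizer_iff.1 (PLocal.normalizer_le_normalizer_centralizer D' hg.1) y₀).1 hy₀K
  have hrK : r ∉ K := fun hrK => hr' fun d hd => mem_centralizer_singleton_iff.2 (mem_centralizer_iff.1 hrK d hd)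
  have hyr : y ≠ r := fun e => hrK (e ▸ hyK)
  have hytr : y ≠ t * r := fun e => hrK (by
    have := mul_mem (inv_mem htK) (e ▸ hyK : t * r ∈ K)
    rwa [inv_mul_cancel_left] at this)
  obtain ⟨ρ, hρ, hρt, hρr, hρρ⟩ := h.exists_quarter_of_pair (T₁.2.map _) hTC hrT hyT h.order_r hyo
    (Ne.symm h.ne) hyne hyr hytr
  -- climb again from `D'` or `D` with the rotation
  have hAT : closure ({r, y} : Set G) ≤ T := (closure_le _).2 (by
    rintro z (rfl | rfl)
    · exact hrT
    · exact hyT)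
  have hr_mem : r ∈ closure ({r, y} : Set G) := subset_closure (Set.mem_insert _ _)
  have hVA : fourV t r ≤ closure ({r, y} : Set G) :=
    GWKlein.fourV_le_iff.2 ⟨hρρ ▸ mul_mem hρ hρ, hr_mem⟩
  have hAD' : closure ({r, y} : Set G) ≤ normalizer (D' : Set G) := (closure_le _).2 (by
    rintro z (rfl | rfl)
    · exact hVD' (GWKlein.right_mem_fourV t _)
    · exact centralizer_le_normalizer _ hyK)
  have hAD : closure ({r, y} : Set G) ≤ normalizer (D : Set G) := (closure_le _).2 (by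
    rintro z (rfl | rfl)
    · exact hVD (GWKlein.right_mem_fourV t _)
    · exact centralizer_le_normalizer _
        (mem_centralizer_iff.2 fun d hd => mem_centralizer_iff.1 hyK d (hlt'.le hd)))
  have hA : IsPGroup 2 (closure ({r, y} : Set G)) := ((T₁.2.map M.subtype)).to_le hAT
  have hAU := (hAT.trans hTC).trans (GWKlein.centralizer_le_normalizer_coreU t)
  by_cases hrD : D ≤ centralizer ({r} : Set G)
  · -- `D` is fixed by `r`: one step with the rotation
    obtain ⟨P', hDP', hP'U, hAP', hP', hP'c⟩ := h.exists_invariant_sylow hA h.odd_coreU hAU hDU hD hAD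
    rcases hDP'.eq_or_lt with heq' | hlt2
    · exact exists_fullSide_of_sylow h hp hD hne hDU hVD (heq' ▸ hP'c) hm
    obtain ⟨R, hR, hAR, hRt, hlt3⟩ := exists_step h hp hA hVA hD hP' hP'U hlt2 hAD hAP' hm
    have hr2 : ¬ R ⊓ coreU t ≤ centralizer ({r} : Set G) := fun hle => by
      rcases hbig with hb | hb
      · have h1 := Coprime.card_le_of_isPGroup (hR.to_le (inf_le_left : R ⊓ coreU t ≤ R))
          (show R ⊓ coreU t ≤ coreW t r from le_inf inf_le_right hle)
        have h2' : Nat.card D < Nat.card (R ⊓ coreU t : Subgroup G) :=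
          lt_of_not_ge fun hge => hlt3.ne (eq_of_le_of_card_ge hlt3.le hge)
        omega
      · exact hb hrD
    exact exists_fullSide_of_quarter h hp h2 hA hVA (hAT.trans hTC) hρ hρr (hR.to_le inf_le_left) inf_le_right
      ((le_inf hAR hAU).trans inf_normalizer_le_normalizer_inf) hr2
      (coreMoved_of_quarter h hp h2 hR (hVA.trans hAR) (hAR hρ) (hAU hρ) hρt hρr hRt hr2)
  · exact exists_fullSide_of_quarter h hp h2 hA hVA (hAT.trans hTC) hρ hρr hD hDU hAD hrD hm

end Cfsg.Agent.GWDihedral
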