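import Cfsg.Agent.Lib.GWDihedral.Defs
import Cfsg.Agent.Lib.GWReduce.Main
import Cfsg.Agent.Lib.RankOneSylow.Dihedral
import Cfsg.Agent.Lib.Involves.Basic
import Cfsg.Agent.Lib.Frobenius.Residual
import Cfsg.Agent.Lib.PairsCyclic.Basic

/-!
# Gorenstein-Walter, dihedral Sylow 2-subgroups of order at least eight: the induction layer

* `DHyp.exists_equiv` : a Sylow 2-subgroup is the dihedral group `⟨σ, r⟩`
* `isGWLike_of_embed` : a non-solvable group whose Sylow 2-subgroups embed in a dihedral 2-group is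
  `IsGWLike`, if the Gorenstein-Walter theorem holds for simple groups no larger than it
* `DHyp.properGWLike` : hence proper non-solvable subgroups are `IsGWLike`
-/

set_option autoImplicit false
set_option linter.style.haveILetI false

namespace Cfsg.Agent.GWDihedral

open Subgroup

universe u

section

variable {X : Type u} [Group X] [Finite X]

/-- A non-solvable group has no cyclic Sylow 2-subgroup. -/
theorem not_isCyclic_sylow (hns : ¬ Group.IsSolvable X) (W : Sylow 2 X) :
    ¬ IsCyclic (W : Subgroup X) := by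
  intro hW
  haveI := Fact.mk Nat.prime_two
  obtain ⟨P, N, hN, hcompl⟩ := PairsCyclic.hasNormalPComplement_two W hW rfl
  haveI := hN
  refine hns ?_
  haveI : Group.IsSolvable N := OddOrderTheorem.solvable (by
    rw [← hcompl.index_eq_card, Nat.odd_iff, ← Nat.two_dvd_ne_zero]
    exact P.not_dvd_index)
  haveI : Group.IsSolvable (X ⧸ N) := by
    haveI := (P.2.of_equiv hcompl.symm.QuotientMulEquiv.symm).isNilpotent
    infer_instance
  exact Group.isSolvable_of_ker_le_range N.subtype (QuotientGroup.mk' N) (by simp)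

/-- A core-free non-solvable group with dihedral Sylow 2-subgroups is of Gorenstein-Walter type, if
the theorem holds for simple groups no larger than it. -/
theorem exists_socle_of_coreFree (hns : ¬ Group.IsSolvable X) (hO : Cfsg.oddCore X = ⊥) (U : Sylow 2 X)
    {a : ℕ} (ha : 1 ≤ a) (eU : (U : Subgroup X) ≃* DihedralGroup (2 ^ a))
    (hind : ∀ (Y : Type u) [Group Y] [Finite Y], Nat.card Y ≤ Nat.card X → IsSimpleGroup Y →
      ¬ IsMulCommutative Y → ∀ (S : Sylow 2 Y) (m : ℕ), 2 ≤ m →
      Nonempty ((S : Subgroup Y) ≃* DihedralGroup m) →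
      (∃ (F : Type) (_ : Field F) (_ : Fintype F), Odd (Fintype.card F) ∧
        Nonempty (Y ≃* Matrix.ProjectiveSpecialLinearGroup (Fin 2) F)) ∨
      Nonempty (Y ≃* alternatingGroup (Fin 7))) :
    ∃ L : Subgroup X, L.Normal ∧ centralizer (L : Set X) = ⊥ ∧
      ((∃ (F : Type) (_ : Field F) (_ : Fintype F), Odd (Fintype.card F) ∧ 3 < Fintype.card F ∧
          Nonempty (L ≃* Matrix.ProjectiveSpecialLinearGroup (Fin 2) F)) ∨
        Nonempty (L ≃* alternatingGroup (Fin 7))) := by
  haveI := Fact.mk Nat.prime_two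
  obtain ⟨L, hLn, hLL, -, hL1⟩ := Frobenius.exists_perfect_residual X
  haveI := hLn
  have hLne : L ≠ ⊥ := fun h => hns (hL1 h)
  haveI : Nontrivial L := (nontrivial_iff_ne_bot L).2 hLne
  haveI hperf : Group.IsPerfect L := Subgroup.isPerfect_iff.2 hLL
  have hLns : ¬ Group.IsSolvable L := Group.IsPerfect.not_isSolvable L
  have hLcore : Cfsg.pPrimeCore 2 L = ⊥ := by
    have h := Cores.pPrimeCore_map_subtype (p := 2) L
    rw [show Cfsg.pPrimeCore 2 X = ⊥ from hO] at h
    exact (map_eq_bot_iff_of_injective _ L.subtype_injective).1 (le_bot_iff.1 (h.le.trans inf_le_left))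
  -- a Sylow 2-subgroup of `L`
  obtain ⟨W⟩ := (inferInstance : Nonempty (Sylow 2 L))
  obtain ⟨U', hWU⟩ := (W.2.map L.subtype).exists_le_sylow
  let eU' : (U' : Subgroup X) ≃* DihedralGroup (2 ^ a) := (U'.equiv U).trans eU
  let eW : (W : Subgroup L) ≃* ((W : Subgroup L).map L.subtype) :=
    (W : Subgroup L).equivMapOfInjective L.subtype L.subtype_injective
  have hWnc : ¬ IsCyclic ((W : Subgroup L).map L.subtype) := fun hc =>
    not_isCyclic_sylow hLns W (haveI := hc; isCyclic_of_injective eW.toMonoidHom eW.injective)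
  obtain ⟨b, hb, ⟨eb⟩⟩ := RankOneSylow.exists_dihedral_of_le eU' hWU hWnc
  have h2b : 2 ≤ 2 ^ b := (le_of_eq (pow_one 2).symm).trans (Nat.pow_le_pow_right two_pos hb)
  obtain ⟨hs, hna⟩ := GWReduce.isSimpleGroup_of_coreFree W h2b (eW.trans eb) hLcore
  have hL := hind L (card_le_card_group L) hs hna W (2 ^ b) h2b ⟨eW.trans eb⟩
  refine ⟨L, hLn, ?_, ?_⟩
  · haveI hCn : (centralizer (L : Set X)).Normal := Subgroup.normal_centralizer
    have hinf : centralizer (L : Set X) ⊓ L = ⊥ := eq_bot_iff.2 fun x hx => mem_bot.2 (by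
      by_contra hx1
      have hc : center L = ⊤ := by
        haveI := hs
        refine (IsSimpleGroup.eq_bot_or_eq_top_of_normal (center L) inferInstance).resolve_left fun h => ?_
        have : (⟨x, hx.2⟩ : L) ∈ center L := mem_center_iff.2 fun l =>
          Subtype.ext (mem_centralizer_iff.1 hx.1 l l.2)
        rw [h, mem_bot] at this
        exact hx1 (congrArg Subtype.val this)
      exact hna ⟨⟨fun p q => mem_center_iff.1 (hc.ge (mem_top q)) p⟩⟩)
    have hodd : ¬ 2 ∣ Nat.card (centralizer (L : Set X)) := by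
      intro h2
      obtain ⟨c, hc⟩ := exists_prime_orderOf_dvd_card' 2 h2
      have hcW : (c : X) ∈ centralizer (((W : Subgroup L).map L.subtype : Subgroup X) : Set X) :=
        mem_centralizer_iff.2 fun w hw => mem_centralizer_iff.1 c.2 w (map_subtype_le _ hw)
      obtain ⟨V, hV⟩ := ((IsPGroup.of_card (n := 1) (p := 2) (G := zpowers (c : X))
        (by rw [pow_one, Nat.card_zpowers, Subgroup.orderOf_coe, hc])).to_sup_of_normal_right'
        (W.2.map L.subtype) ((zpowers_le.2 hcW).trans (centralizer_le_normalizer _))).exists_le_sylow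
      have hmem := RankOneSylow.inf_centralizer_le ha ((V.equiv U).trans eU) (le_sup_right.trans hV) hWnc
        ⟨hV (le_sup_left (α := Subgroup X) (mem_zpowers _)), hcW⟩
      have h1 : (c : X) = 1 := mem_bot.1 (hinf ▸ ⟨c.2, map_subtype_le _ hmem⟩)
      rw [← Subgroup.orderOf_coe, h1, orderOf_one] at hc
      omega
    exact le_bot_iff.1 ((Cores.le_pPrimeCore hCn
      ((Nat.prime_two.coprime_iff_not_dvd.2 hodd).symm)).trans hO.le)
  · rcases hL with ⟨F, hF1, hF2, hodd, ⟨g⟩⟩ | h
    · refine Or.inl ⟨F, hF1, hF2, hodd, ?_, ⟨g⟩⟩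
      by_contra h3
      have h1 : 1 < Fintype.card F := Fintype.one_lt_card
      have hc : Fintype.card F = 3 := by obtain ⟨k, hk⟩ := hodd; omega
      have hsl : Group.IsSolvable (Matrix.SpecialLinearGroup (Fin 2) F) := by
        refine CharApp.isSolvable_of_card_eq_prime_pow_mul 2 3 Nat.prime_two Nat.prime_three _ _ rfl 3 1 ?_
        rw [GLOrder.card_SL, Nat.card_eq_fintype_card, hc]
        rfl
      haveI : Group.IsSolvable (Matrix.ProjectiveSpecialLinearGroup (Fin 2) F) :=
        Group.isSolvable_of_surjective (f := QuotientGroup.mk' _) (QuotientGroup.mk'_surjective _)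
      exact hLns (Group.isSolvable_of_surjective (f := g.symm.toMonoidHom) g.symm.surjective)
    · exact Or.inr h

/-- A non-solvable group whose Sylow 2-subgroups embed in a dihedral 2-group is of Gorenstein-Walter
type, if the theorem holds for simple groups no larger than it. -/
theorem isGWLike_of_embed (hns : ¬ Group.IsSolvable X) (S : Sylow 2 X) {a : ℕ}
    (f : (S : Subgroup X) →* DihedralGroup (2 ^ a)) (hf : Function.Injective f)
    (hind : ∀ (Y : Type u) [Group Y] [Finite Y], Nat.card Y ≤ Nat.card X → IsSimpleGroup Y →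
      ¬ IsMulCommutative Y → ∀ (S : Sylow 2 Y) (m : ℕ), 2 ≤ m →
      Nonempty ((S : Subgroup Y) ≃* DihedralGroup m) →
      (∃ (F : Type) (_ : Field F) (_ : Fintype F), Odd (Fintype.card F) ∧
        Nonempty (Y ≃* Matrix.ProjectiveSpecialLinearGroup (Fin 2) F)) ∨
      Nonempty (Y ≃* alternatingGroup (Fin 7))) : IsGWLike X := by
  haveI := Fact.mk Nat.prime_two
  have e1 : (S : Subgroup X) ≃* f.range := MonoidHom.ofInjective hf
  obtain ⟨b, hb, ⟨e2⟩⟩ := RankOneSylow.exists_dihedral_equiv rfl f.range fun h =>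
    not_isCyclic_sylow hns S (haveI := h; isCyclic_of_injective e1.toMonoidHom e1.injective)
  set π := QuotientGroup.mk' (Cfsg.oddCore X) with hπ
  let Sb : Sylow 2 (X ⧸ Cfsg.oddCore X) := S.mapSurjective (QuotientGroup.mk'_surjective _)
  let g : (S : Subgroup X) →* (Sb : Subgroup (X ⧸ Cfsg.oddCore X)) :=
    (π.comp (S : Subgroup X).subtype).codRestrict _ fun x => ⟨x, x.2, rfl⟩
  have hg : Function.Bijective g := by
    refine ⟨(injective_iff_map_eq_one g).2 fun x hx => ?_, fun y => ?_⟩
    · have hxc : (x : X) ∈ Cfsg.oddCore X := (QuotientGroup.eq_one_iff _).1 (congrArg Subtype.val hx)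
      obtain ⟨i, hi⟩ := IsPGroup.iff_orderOf.1 S.2 x
      have h1 : orderOf (x : X) ∣ Nat.card (Cfsg.oddCore X) := orderOf_dvd_natCard _ hxc
      rw [Subgroup.orderOf_coe, hi] at h1
      have h2 : 2 ^ i = 1 := Nat.eq_one_of_dvd_coprimes
        (Nat.Coprime.pow_right i (Cores.coprime_card_pPrimeCore (G := X) 2)) h1 dvd_rfl
      exact orderOf_eq_one_iff.1 (hi.trans h2)
    · obtain ⟨x, hx, hxy⟩ := y.2
      exact ⟨⟨x, hx⟩, Subtype.ext hxy⟩
  have eb : (Sb : Subgroup (X ⧸ Cfsg.oddCore X)) ≃* DihedralGroup (2 ^ b) :=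
    (MulEquiv.ofBijective g hg).symm.trans (e1.trans e2)
  haveI : Group.IsSolvable (Cfsg.oddCore X) :=
    OddOrderTheorem.solvable (Nat.coprime_two_right.1 (Cores.coprime_card_pPrimeCore 2))
  have hns' : ¬ Group.IsSolvable (X ⧸ Cfsg.oddCore X) := fun _ =>
    hns (Group.isSolvable_of_ker_le_range (Cfsg.oddCore X).subtype π (by simp [hπ]))
  exact exists_socle_of_coreFree hns' (Cores.pPrimeCore_quotient_self 2) Sb hb eb
    fun Y _ _ hY => hind Y (hY.trans
      (Nat.le_of_dvd Nat.card_pos (card_quotient_dvd_card (Cfsg.oddCore X))))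

end

variable {G : Type u} [Group G] [Finite G] {n : ℕ} {t r σ : G}

/-- The Sylow 2-subgroup `⟨σ, r⟩` is dihedral. -/
theorem DHyp.exists_equiv (h : DHyp n t r σ) :
    ∃ P : Sylow 2 G, (P : Subgroup G) = closure {σ, r} ∧
      Nonempty ((P : Subgroup G) ≃* DihedralGroup (2 ^ (n - 1))) := by
  obtain ⟨P, hP⟩ := h.sylow
  refine ⟨P, hP, ?_⟩
  haveI : NeZero (2 ^ (n - 1)) := ⟨by positivity⟩
  have hσ : σ ^ 2 ^ (n - 1) = 1 := by rw [← h.order_σ, pow_orderOf_eq_one]
  have hr : r * r = 1 := by rw [← pow_two, ← h.order_r, pow_orderOf_eq_one]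
  let φ := Involves.dihedralHom hσ hr h.conj_σ
  have hφr : ∀ i : ZMod (2 ^ (n - 1)), φ (DihedralGroup.r i) = σ ^ i.val :=
    Involves.dihedralHom_r hσ hr h.conj_σ
  have hφsr : ∀ i : ZMod (2 ^ (n - 1)), φ (DihedralGroup.sr i) = r * σ ^ i.val :=
    Involves.dihedralHom_sr hσ hr h.conj_σ
  have hinj : Function.Injective φ := (injective_iff_map_eq_one φ).2 fun d hd => by
    rcases d with i | i
    · rw [hφr] at hd
      have h0 := orderOf_dvd_of_pow_eq_one hd
      rw [h.order_σ] at h0
      have h1 := Nat.eq_zero_of_dvd_of_lt h0 (ZMod.val_lt i)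
      rw [(ZMod.val_eq_zero i).1 h1, ← DihedralGroup.one_def]
    · exfalso
      rw [hφsr] at hd
      have hc := h.conj_σ
      rw [eq_inv_of_mul_eq_one_left hd] at hc
      have h2 : σ = σ⁻¹ := by
        refine Eq.trans ?_ hc
        group
      have h3 : orderOf σ ∣ 2 :=
        orderOf_dvd_of_pow_eq_one (by rw [pow_two]; exact eq_inv_iff_mul_eq_one.1 h2)
      rw [h.order_σ] at h3
      have h4 : 2 ^ 2 ≤ 2 ^ (n - 1) := Nat.pow_le_pow_right two_pos (by have := h.three_le; omega)
      have := Nat.le_of_dvd two_pos h3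
      omega
  have hrange : φ.range = (P : Subgroup G) := by
    rw [hP]
    refine le_antisymm ?_ ((closure_le _).2 ?_)
    · rintro _ ⟨d, rfl⟩
      rcases d with i | i
      · rw [hφr]; exact pow_mem (subset_closure (by simp)) _
      · rw [hφsr]; exact mul_mem (subset_closure (by simp)) (pow_mem (subset_closure (by simp)) _)
    · rintro x (rfl | rfl)
      · refine ⟨DihedralGroup.r 1, ?_⟩
        have hv : (1 : ZMod (2 ^ (n - 1))).val = 1 := ZMod.val_one'' (by
          have : 2 ^ 1 ≤ 2 ^ (n - 1) := Nat.pow_le_pow_right two_pos (by have := h.three_le; omega)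
          omega)
        rw [hφr, hv, pow_one]
      · exact ⟨DihedralGroup.sr 0, by rw [hφsr, ZMod.val_zero, pow_zero, mul_one]⟩
  exact ⟨(MulEquiv.subgroupCongr hrange.symm).trans (MonoidHom.ofInjective hinj).symm⟩

/-- Proper non-solvable subgroups are of Gorenstein-Walter type, by induction. -/
theorem DHyp.properGWLike [IsSimpleGroup G] (h : DHyp n t r σ)
    (hind : ∀ (X : Type u) [Group X] [Finite X], Nat.card X < Nat.card G → IsSimpleGroup X →
      ¬ IsMulCommutative X → ∀ (S : Sylow 2 X) (m : ℕ), 2 ≤ m →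
      Nonempty ((S : Subgroup X) ≃* DihedralGroup m) →
      (∃ (F : Type) (_ : Field F) (_ : Fintype F), Odd (Fintype.card F) ∧
        Nonempty (X ≃* Matrix.ProjectiveSpecialLinearGroup (Fin 2) F)) ∨
      Nonempty (X ≃* alternatingGroup (Fin 7))) : ProperGWLike G := by
  intro H hH hns
  haveI := Fact.mk Nat.prime_two
  obtain ⟨P, -, ⟨e⟩⟩ := h.exists_equiv
  obtain ⟨S⟩ := (inferInstance : Nonempty (Sylow 2 H))
  obtain ⟨P', hP'⟩ := (S.2.map H.subtype).exists_le_sylow
  let f : (S : Subgroup H) →* DihedralGroup (2 ^ (n - 1)) :=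
    (((P'.equiv P).trans e).toMonoidHom.comp (inclusion hP')).comp
      ((S : Subgroup H).equivMapOfInjective H.subtype H.subtype_injective).toMonoidHom
  have hf : Function.Injective f :=
    (((P'.equiv P).trans e).injective.comp (inclusion_injective hP')).comp
      ((S : Subgroup H).equivMapOfInjective H.subtype H.subtype_injective).injective
  have hlt : Nat.card H < Nat.card G :=
    lt_of_le_of_ne (card_le_card_group H) fun hc => hH (eq_top_of_card_eq H hc)
  exact isGWLike_of_embed hns S f hf fun Y _ _ hY => hind Y (hY.trans_lt hlt)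

end Cfsg.Agent.GWDihedral
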