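import Cfsg.Agent.Lib.GWDihedral.Steps
import Cfsg.Agent.Lib.GWDihedral.Growth
import Cfsg.Agent.Lib.GWDihedral.Induction
import Cfsg.Agent.Lib.FusionZStar.Center
import Cfsg.Agent.Lib.GWKlein.Endgame

/-!
# Gorenstein-Walter, dihedral Sylow 2-subgroups of order at least eight: the end, `a = b = 1`

Section 4 of `notes/gw_dihedral_eight.md`. With trivial cores of the two four-groups the reflections invert `U`
and the rotations centralise it. An overgroup `N(Y)`, `1 < Y ≤ U`, of `C(t)` fixes `t` in the Sylow subgroup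
(a reflection does not centralise `Y`), so by `Z*` an element outside `C(t)` gives a Sylow subgroup of the core
moved by `t`; its prime divides `|U|`, so there is a side, and (1.2) contradicts that subgroups of `U` are
normal in `C(t)`. Hence the theorem of Brauer, Suzuki and Wall applies.

* `DHyp.trivialCores_inverts`, `DHyp.conclusion_of_trivial_cores`
-/

set_option autoImplicit false
set_option linter.style.haveILetI false

namespace Cfsg.Agent.GWDihedral

open Subgroup
open Cfsg.Agent.GWKlein (coreU coreW fourV oddPart)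

universe u

variable {G : Type u} [Group G] [Finite G] {n : ℕ} {t r σ : G}

namespace DHyp

theorem inverts_of_coreW_eq_bot (h : DHyp n t r σ) (ha : coreW t r = ⊥) :
    (∀ x ∈ coreU t, r * x * r⁻¹ = x⁻¹) ∧ ∀ x ∈ coreU t, ∀ y ∈ coreU t, x * y = y * x :=
  GWKlein.inverts_of_fpf h.order_r (h.sylow_le_normalizer_coreU h.sylow_mem_r) fun x hx hf => by
    rw [← mem_bot, ← ha]
    exact h.mem_coreW.2 ⟨GWKlein.commute_of_mem_coreU hx,
      (mul_inv_eq_iff_eq_mul.1 hf).symm, h.odd_orderOf hx⟩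

/-- The rotations centralise `U`. -/
theorem σ_centralizes (h : DHyp n t r σ) (ha : coreW t r = ⊥) (hb : coreW t (r * σ) = ⊥) :
    ∀ y ∈ coreU t, Commute σ y := fun y hy => by
  obtain ⟨h1, -⟩ := h.inverts_of_coreW_eq_bot ha
  obtain ⟨h2, -⟩ := h.swap.inverts_of_coreW_eq_bot hb
  refine mul_inv_eq_iff_eq_mul.1 ?_
  calc σ * y * σ⁻¹ = r * (r * σ * y * (r * σ)⁻¹) * r⁻¹ := by
        rw [show r * (r * σ * y * (r * σ)⁻¹) * r⁻¹ = (r * r) * (σ * y * σ⁻¹) * (r * r)⁻¹ by group,
          h.mul_self_r, one_mul, inv_one, mul_one]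
    _ = y := by rw [h2 y hy, h1 _ (inv_mem hy), inv_inv]

/-- Every element of the Sylow subgroup centralises `U` or is a reflection inverting it. -/
theorem trivialCores_inverts (h : DHyp n t r σ) (ha : coreW t r = ⊥) (hb : coreW t (r * σ) = ⊥)
    {x : G} (hx : x ∈ closure ({σ, r} : Set G)) :
    (x ∈ zpowers σ ∧ ∀ y ∈ coreU t, Commute x y) ∨ ∀ y ∈ coreU t, x * y * x⁻¹ = y⁻¹ := by
  obtain ⟨h1, -⟩ := h.inverts_of_coreW_eq_bot ha
  have hσ := h.σ_centralizes ha hb
  rcases h.mem_sylow_cases hx with ⟨k, rfl⟩ | ⟨k, rfl⟩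
  · exact Or.inl ⟨pow_mem (mem_zpowers σ) k, fun y hy => (hσ y hy).pow_left k⟩
  · refine Or.inr fun y hy => ?_
    rw [show r * σ ^ k * y * (r * σ ^ k)⁻¹ = r * (σ ^ k * y * (σ ^ k)⁻¹) * r⁻¹ by group,
      ((hσ y hy).pow_left k).eq, mul_inv_cancel_right, h1 y hy]

/-- `C(t)` normalises every subgroup of `U`. -/
theorem centralizer_le_normalizer_of_le (h : DHyp n t r σ) (ha : coreW t r = ⊥)
    (hb : coreW t (r * σ) = ⊥) {Y : Subgroup G} (hY : Y ≤ coreU t) :
    centralizer ({t} : Set G) ≤ normalizer (Y : Set G) := by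
  rw [← h.sup_sylow]
  refine sup_le (fun u hu => ?_) (fun x hx => ?_) <;>
    refine Coprime.mem_normalizer_of_forall fun y hy => ?_
  · rw [(h.inverts_of_coreW_eq_bot ha).2 u hu y (hY hy), mul_inv_cancel_right]
    exact hy
  · rcases h.trivialCores_inverts ha hb hx with ⟨-, e⟩ | e
    · rw [(e y (hY hy)).eq, mul_inv_cancel_right]; exact hy
    · rw [e y (hY hy)]; exact inv_mem hy

omit [Finite G] in
theorem eq_one_of_inverted_odd {y : G} (hy : Odd (orderOf y)) (h : y = y⁻¹) : y = 1 :=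
  orderOf_eq_one_iff.1 (Nat.eq_one_of_dvd_coprimes (Nat.coprime_two_right.2 hy) dvd_rfl
    (orderOf_dvd_of_pow_eq_one (by rw [pow_two]; nth_rewrite 1 [h]; exact inv_mul_cancel y)))

/-- The normaliser of a non-trivial subgroup of `U` lies in `C(t)`, if no side is normal in `U`. -/
theorem normalizer_le_centralizer_of_trivial_cores [IsSimpleGroup G] (h : DHyp n t r σ) (hS : SideExc t r σ)
    (ha : coreW t r = ⊥) (hb : coreW t (r * σ) = ⊥) {Y : Subgroup G} (hY : Y ≤ coreU t) (hY1 : Y ≠ ⊥) :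
    normalizer (Y : Set G) ≤ centralizer ({t} : Set G) := by
  haveI := Fact.mk Nat.prime_two
  have hCN := h.centralizer_le_normalizer_of_le ha hb hY
  set N := normalizer (Y : Set G)
  have htN : t ∈ N := hCN (mem_centralizer_t.2 (Commute.refl t))
  obtain ⟨P, hP⟩ := h.sylow
  have hPN : (P : Subgroup G) ≤ N := hP ▸ h.sylow_le_centralizer.trans hCN
  intro x hx
  by_contra hxt
  -- `t` is isolated in the Sylow subgroup, inside `N`
  have hiso : ∀ m : N, (m : G) * t * (m : G)⁻¹ ∈ (P : Subgroup G) → (m : G) * t * (m : G)⁻¹ = t := by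
    intro m hm
    have ho : orderOf ((m : G) * t * (m : G)⁻¹) = 2 :=
      (orderOf_injective (MulAut.conj (m : G)).toMonoidHom (MulAut.conj (m : G)).injective t).trans h.order_t
    rcases h.trivialCores_inverts ha hb (hP ▸ hm) with ⟨hrot, -⟩ | hinv
    · obtain ⟨k, hk⟩ := mem_powers_iff_mem_zpowers.2 hrot
      simp only at hk
      rw [← hk] at ho ⊢
      exact h.eq_t_of_rotation ho
    · exfalso
      obtain ⟨⟨y, hy⟩, hy1⟩ := Subgroup.ne_bot_iff_exists_ne_one.1 hY1
      refine hy1 (Subtype.ext (eq_one_of_inverted_odd (h.odd_orderOf (hY hy)) ?_))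
      have hm' : (m : G)⁻¹ * y * (m : G) ∈ Y := by
        simpa using (mem_normalizer_iff.1 (inv_mem m.2) y).1 hy
      calc y = (m : G) * (t * ((m : G)⁻¹ * y * (m : G)) * t⁻¹) * (m : G)⁻¹ := by
            rw [← (GWKlein.commute_of_mem_coreU (hY hm')).eq, mul_inv_cancel_right]; group
        _ = (m : G) * t * (m : G)⁻¹ * y * ((m : G) * t * (m : G)⁻¹)⁻¹ := by group
        _ = y⁻¹ := hinv y (hY hy)
  -- hence the core of `N` is moved by `t`
  set K := oddPart N
  have hKodd := GWKlein.odd_card_oddPart N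
  have hk : t * x * t⁻¹ * x⁻¹ ∈ K := by
    have h1 := FusionZStar.central_mod_odd 1 N (P.subtype hPN) ⟨t, htN⟩
      (show t ∈ (P : Subgroup G) from hP ▸ h.sylow_mem_t)
      (Subtype.ext (by show t ^ 2 ^ 1 = 1; rw [pow_one, pow_two, h.mul_self_t]))
      (fun k m hm => by
        refine Subtype.ext ?_
        show (m : G) * t ^ k * (m : G)⁻¹ = t ^ k
        rcases Nat.even_or_odd k with ⟨j, rfl⟩ | ⟨j, rfl⟩
        · rw [← two_mul, pow_mul, pow_two, h.mul_self_t, one_pow, mul_one, mul_inv_cancel]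
        · have hm' : (m : G) * t ^ (2 * j + 1) * (m : G)⁻¹ ∈ (P : Subgroup G) := hm
          rw [pow_succ, pow_mul, pow_two, h.mul_self_t, one_pow, one_mul] at hm' ⊢
          exact hiso m hm') ⟨x, hx⟩
    exact ⟨_, h1, rfl⟩
  have hKnC : ¬ K ≤ centralizer ({t} : Set G) := fun hle =>
    by
    have hk' : x * t * x⁻¹ * t⁻¹ ∈ K := by simpa [mul_assoc] using inv_mem hk
    exact hxt (mem_centralizer_t.2 (commute_of_commutator_commute h.order_t
      (hKodd.of_dvd_nat (orderOf_dvd_natCard _ hk')) (mem_centralizer_t.1 (hle hk'))))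
  set S := closure ({σ, r} : Set G)
  have hSN : S ≤ N := h.sylow_le_centralizer.trans hCN
  have hSK : S ≤ normalizer (K : Set G) := hSN.trans (GWKlein.le_normalizer_oddPart N)
  have hS2 := h.isPGroup_sylow
  have hcopK := h.coprime_card hS2 hKodd
  -- a prime with a moved invariant Sylow subgroup
  obtain ⟨q, hq, X, hXK, hSX, hXp, hXc, hXnC⟩ : ∃ q : ℕ, q.Prime ∧ ∃ X : Subgroup G, X ≤ K ∧
      S ≤ normalizer (X : Set G) ∧ IsPGroup q X ∧ Nat.card X = q ^ (Nat.card K).factorization q ∧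
      ¬ X ≤ centralizer ({t} : Set G) := by
    by_contra hcon
    push Not at hcon
    refine hKnC (inf_eq_left.1 (eq_of_le_of_card_ge inf_le_left (Nat.le_of_dvd Nat.card_pos ?_)))
    rw [← Nat.factorization_le_iff_dvd Nat.card_pos.ne' Nat.card_pos.ne']
    intro q
    by_cases hq : q.Prime
    swap
    · simp [Nat.factorization_eq_zero_of_not_prime _ hq]
    haveI := Fact.mk hq
    obtain ⟨X, -, hXK, hSX, hXp, hXc⟩ := h.exists_invariant_sylow (p := q) hS2 hKodd hSK (Q := ⊥) bot_le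
      IsPGroup.of_bot (fun g _ => Coprime.mem_normalizer_of_forall fun z hz => by
        rw [mem_bot] at hz ⊢; simp [hz])
    exact (hq.pow_dvd_iff_le_factorization Nat.card_pos.ne').1
      (hXc ▸ card_dvd_of_le (le_inf hXK (hcon q hq X hXK hSX hXp hXc)))
  haveI := Fact.mk hq
  have hXodd : Odd (Nat.card X) := hKodd.of_dvd_nat (card_dvd_of_le hXK)
  have hq2 : q ≠ 2 := by
    rintro rfl
    refine hXnC ?_
    obtain ⟨k, hk⟩ := IsPGroup.iff_card.1 hXp
    rw [eq_bot_of_card_eq X (hk.trans ?_)]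
    · exact bot_le
    · rcases k with _ | k
      · rfl
      · rw [hk] at hXodd
        exact absurd hXodd (Nat.not_odd_iff_even.2 (Nat.even_pow.2 ⟨even_two, Nat.succ_ne_zero k⟩))
  -- `q` divides `|U|`
  have hqU : q ∣ Nat.card (coreU t) := by
    haveI : IsKleinFour (fourV t r) := h.isKleinFour
    haveI : IsMulCommutative (fourV t r) := IsKleinFour.isMulCommutative
    by_contra hndvd
    refine hXnC (Coprime.le_of_noncyclic IsKleinFour.not_isCyclic (h.fourV_le_sylow.trans hSX)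
      (h.coprime_card h.isPGroup_fourV hXodd) fun a ha ha1 => fun z ⟨hz, hza⟩ => ?_)
    by_contra hzt
    have hz1 : z ≠ 1 := fun e => hzt (e ▸ one_mem _)
    have ha2 : orderOf a = 2 := by
      refine Involution.orderOf_of_sq ?_ ha1
      exact congrArg Subtype.val (IsKleinFour.mul_self (⟨a, ha⟩ : fourV t r))
    obtain ⟨g, hg⟩ := isConj_iff.1 (h.isConj_t ha2)
    refine hndvd (dvd_trans ?_ (orderOf_dvd_natCard (coreU t) (x := g⁻¹ * z * g) (h.mem_coreU.2 ⟨?_, ?_⟩)))
    · rw [show g⁻¹ * z * g = (MulAut.conj g⁻¹).toMonoidHom z by simp,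
        orderOf_injective (MulAut.conj g⁻¹).toMonoidHom (MulAut.conj g⁻¹).injective z]
      obtain ⟨k, hk⟩ := IsPGroup.iff_orderOf.1 hXp ⟨z, hz⟩
      rw [← orderOf_coe] at hk
      rcases k with _ | k
      · exact absurd (orderOf_eq_one_iff.1 (hk.trans (pow_zero q))) hz1
      · exact hk ▸ dvd_pow_self q (Nat.succ_ne_zero k)
    · have hza' : Commute z a := mem_centralizer_singleton_iff.1 hza
      rw [← hg] at hza'
      show g⁻¹ * z * g * t = t * (g⁻¹ * z * g)
      calc g⁻¹ * z * g * t = g⁻¹ * (z * (g * t * g⁻¹)) * g := by group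
        _ = g⁻¹ * (g * t * g⁻¹ * z) * g := by rw [hza'.eq]
        _ = t * (g⁻¹ * z * g) := by group
    · rw [show g⁻¹ * z * g = (MulAut.conj g⁻¹).toMonoidHom z by simp,
        orderOf_injective (MulAut.conj g⁻¹).toMonoidHom (MulAut.conj g⁻¹).injective z]
      exact hXodd.of_dvd_nat (orderOf_dvd_natCard _ hz)
  -- a side
  set L := K ⊔ coreU t
  have hUK : coreU t ≤ normalizer (K : Set G) :=
    ((GWKlein.coreU_le_centralizer t).trans hCN).trans (GWKlein.le_normalizer_oddPart N)
  have hLodd : Odd (Nat.card L) := odd_card_sup hUK hKodd h.odd_coreU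
  have hSL : S ≤ normalizer (L : Set G) :=
    (le_inf hSK h.sylow_le_normalizer_coreU).trans (normalizer_inf_normalizer_le_normalizer_sup K (coreU t))
  obtain ⟨R, hXR, hRL, hSR, hRp, hRc⟩ := h.exists_invariant_sylow hS2 hLodd hSL (hXK.trans le_sup_left) hXp hSX
  have hmeets : R ⊓ coreU t ≠ ⊥ := fun e => by
    have h1 := Coprime.card_inf_centralizer_eq hSL (h.coprime_card hS2 hLodd) hRL hSR hRc h.sylow_mem_t
    rw [le_bot_iff.1 ((le_inf inf_le_left (h.mem_coreU_of_pgroup hq2 hRp)).trans e.le), card_bot] at h1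
    have h2 : q ∣ Nat.card (L ⊓ centralizer ({t} : Set G) : Subgroup G) :=
      hqU.trans (card_dvd_of_le (le_inf le_sup_right (GWKlein.coreU_le_centralizer t)))
    exact (hq.factorization_pos_of_dvd Nat.card_pos.ne' h2).ne'
      ((Nat.pow_eq_one.1 h1.symm).resolve_left hq.ne_one)
  obtain ⟨-, -, -, -, hE⟩ := hS q hq hq2 R ⟨hRp, hSR, fun hle => hXnC (hXR.trans hle), hmeets⟩
  obtain ⟨z, hz⟩ := exists_prime_orderOf_dvd_card' (G := coreU t) q hqU
  refine hE (zpowers (z : G)) (zpowers_le.2 z.2) ?_ (h.centralizer_le_normalizer_of_le ha hb (zpowers_le.2 z.2))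
  rw [Nat.card_zpowers, orderOf_coe, hz]

/-- **Section 4**: with trivial cores of both four-groups the theorem of Brauer, Suzuki and Wall applies. -/
theorem conclusion_of_trivial_cores [IsSimpleGroup G] (h : DHyp n t r σ) (hS : SideExc t r σ)
    (ha : coreW t r = ⊥) (hb : coreW t (r * σ) = ⊥) : Conclusion G := by
  obtain ⟨P, hP, ⟨e⟩⟩ := h.exists_equiv
  refine Or.inl (S0508.result P (2 ^ (n - 1)) ?_ ⟨e⟩ t h.order_t (hP ▸ h.sylow_mem_t)
    (fun s hs => mem_centralizer_t.1 (h.sylow_le_centralizer (hP ▸ hs))) (coreU t) rfl (fun hne => ?_)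
    (fun s hs hsc => ?_) fun Y hY hY1 => h.normalizer_le_centralizer_of_trivial_cores hS ha hb hY hY1)
  · exact Nat.le_self_pow (by have := h.three_le; omega) 2
  · obtain ⟨⟨y, hy⟩, hy1⟩ := Subgroup.ne_bot_iff_exists_ne_one.1 hne
    have heq : (P : Subgroup G) ⊓ centralizer (coreU t : Set G) = zpowers σ := by
      refine le_antisymm (fun x ⟨hx, hc⟩ => ?_) (zpowers_le.2 ⟨hP ▸ h.sylow_mem_σ, ?_⟩)
      · rcases h.trivialCores_inverts ha hb (hP ▸ hx) with e | e
        · exact e.1
        · exfalso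
          refine hy1 (Subtype.ext (eq_one_of_inverted_odd (h.odd_orderOf hy) ?_))
          rw [← e y hy, ← mem_centralizer_iff.1 hc y hy, mul_inv_cancel_right]
      · exact mem_centralizer_iff.2 fun z hz => (h.σ_centralizes ha hb z hz).eq.symm
    rw [heq]
    refine ⟨inferInstance, ?_⟩
    have h2 := relIndex_mul_relIndex ⊥ (zpowers σ) (P : Subgroup G) bot_le (zpowers_le.2 (hP ▸ h.sylow_mem_σ))
    rw [relIndex_bot_left, relIndex_bot_left, Nat.card_zpowers, h.order_σ, hP, h.card_sylow] at h2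
    obtain ⟨a, ha'⟩ := h.exists_add
    subst ha'
    rw [hP]
    rw [show a + 3 - 1 = a + 2 by omega, pow_succ 2 (a + 2)] at h2
    exact Nat.eq_of_mul_eq_mul_left (by positivity) h2
  · rcases h.trivialCores_inverts ha hb (hP ▸ hs) with e | e
    · exact absurd (mem_centralizer_iff.2 fun z hz => (e.2 z hz).eq.symm) hsc
    · exact e

end DHyp

end Cfsg.Agent.GWDihedral
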