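import Cfsg.Agent.Lib.Coprime.InvolutionEigen
import Cfsg.Agent.Lib.Involution.Basic
import Mathlib.GroupTheory.Nilpotent
import Mathlib.GroupTheory.Sylow

/-!
# Gorenstein-Walter, dihedral Sylow subgroups of order at least eight: no invariant Sylow subgroup
of the odd core is centralised by a reflection

See `notes/gw_dihedral_gamma.md`, section G. `r` and `r'` are two commuting-with-`t` reflections with
`r' r r'⁻¹ = t r`, `P` a `p`-subgroup centralised by `r` and normalised by `r'`. The input `htorus` is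
the fact that an element of `N_P(C_P(r'))` inverted by `r'` lies, modulo elements fixed by `r'`, in a
torus inverted by every reflection.

* `scalar_of_torus` : `r'` centralises or inverts `P`
* `commutator_mem_centralizer` : then `⁅s, r'⁆` centralises `P` for `s` in the normaliser of `P`
* `exists_moving_of_scalar` : so some element centralising `P` moves `t`
* `exists_mem_normalizer_moving` : Frattini, the element `s` can be taken in the normaliser of `P`
* `false_of_beta` : a subgroup of `P` has normaliser outside `C(t)`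
-/

set_option autoImplicit false
set_option linter.style.haveILetI false

namespace Cfsg.Agent.GWDihedral

open Subgroup
open scoped commutatorElement

variable {G : Type*} [Group G] [Finite G] {p : ℕ} {P : Subgroup G} {t r r' : G}

omit [Finite G] in
theorem conj_conj_self (hr' : r' * r' = 1) (x : G) : r' * (r' * x * r'⁻¹) * r'⁻¹ = x := by
  rw [inv_eq_of_mul_eq_one_right hr', show r' * (r' * x * r') * r' = r' * r' * x * (r' * r') by group,
    hr', one_mul, mul_one]

/-- An involution fixing nothing on an invariant subgroup inverts it. -/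
theorem inverts_of_fixed_eq_one (hr' : r' * r' = 1) (hn : r' ∈ normalizer (P : Set G))
    (hf : ∀ x ∈ P, Commute r' x → x = 1) : ∀ x ∈ P, r' * x * r'⁻¹ = x⁻¹ := by
  let φ : P →* P :=
    { toFun := fun x => ⟨r' * x * r'⁻¹, (mem_normalizer_iff.1 hn x).1 x.2⟩
      map_one' := Subtype.ext (by simp)
      map_mul' := fun x y => Subtype.ext (by simp [mul_assoc]) }
  intro x hx
  exact congrArg Subtype.val (InvolutionEigen.inverts_of_fpf φ
    (fun y => Subtype.ext (conj_conj_self hr' y))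
    (fun y hy => Subtype.ext (hf y y.2 (mul_inv_eq_iff_eq_mul.1 (congrArg Subtype.val hy)))) ⟨x, hx⟩)

/-- `r'` centralises `P` or inverts it. -/
theorem scalar_of_torus [Fact p.Prime] (hP : IsPGroup p P) (hodd : Odd (Nat.card P))
    (hr' : r' * r' = 1) (hfix : ∀ x ∈ P, Commute r x) (hn : r' ∈ normalizer (P : Set G))
    (htorus : P ⊓ centralizer ({r'} : Set G) ≠ ⊥ → ∀ x ∈ P,
      x ∈ normalizer ((P ⊓ centralizer ({r'} : Set G) : Subgroup G) : Set G) →
      r' * x * r'⁻¹ = x⁻¹ → r * x * r⁻¹ = x⁻¹) :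
    (∀ x ∈ P, Commute r' x) ∨ ∀ x ∈ P, r' * x * r'⁻¹ = x⁻¹ := by
  set F := P ⊓ centralizer ({r'} : Set G) with hF
  rcases eq_or_ne F ⊥ with hF0 | hF0
  · exact Or.inr (inverts_of_fixed_eq_one hr' hn fun x hx hc => by
      have : x ∈ F := mem_inf.2 ⟨hx, mem_centralizer_singleton_iff.2 hc.eq.symm⟩
      rwa [hF0, mem_bot] at this)
  left
  have hnF : r' ∈ normalizer (F : Set G) := by
    refine mem_normalizer_iff.2 fun x => ?_
    have key : ∀ y ∈ F, r' * y * r'⁻¹ = y := fun y hy =>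
      mul_inv_eq_iff_eq_mul.2 (mem_centralizer_singleton_iff.1 (mem_inf.1 hy).2).symm
    refine ⟨fun hx => by rw [key x hx]; exact hx, fun hx => ?_⟩
    have h1 := key _ hx
    rw [conj_conj_self hr'] at h1
    rwa [← h1] at hx
  -- every element of `N_P(F)` is fixed by `r'`
  have hN : ∀ x ∈ P, x ∈ normalizer (F : Set G) → x ∈ F := by
    intro x hx hxF
    set y := x⁻¹ * (r' * x * r'⁻¹) with hy
    have hyP : y ∈ P := mul_mem (inv_mem hx) ((mem_normalizer_iff.1 hn x).1 hx)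
    have hyF : y ∈ normalizer (F : Set G) :=
      mul_mem (inv_mem hxF) (mul_mem (mul_mem hnF hxF) (inv_mem hnF))
    have hinv : r' * y * r'⁻¹ = y⁻¹ := by
      rw [hy, show r' * (x⁻¹ * (r' * x * r'⁻¹)) * r'⁻¹
        = (r' * x * r'⁻¹)⁻¹ * (r' * (r' * x * r'⁻¹) * r'⁻¹) by group, conj_conj_self hr']
      group
    have hy' := htorus hF0 y hyP hyF hinv
    rw [mul_inv_eq_iff_eq_mul.2 (hfix y hyP).eq, eq_inv_iff_mul_eq_one, ← pow_two] at hy'
    have hy1 : y = 1 := by
      have h1 := orderOf_dvd_of_pow_eq_one hy'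
      have h2 : orderOf y ∣ Nat.card P := orderOf_dvd_natCard P hyP
      have h3 : Nat.Coprime (Nat.card P) 2 := Nat.coprime_two_right.2 hodd
      exact orderOf_eq_one_iff.1 (Nat.eq_one_of_dvd_coprimes h3 h2 h1)
    rw [hy, inv_mul_eq_one, eq_comm, mul_inv_eq_iff_eq_mul] at hy1
    exact mem_inf.2 ⟨hx, mem_centralizer_singleton_iff.2 hy1.symm⟩
  haveI : Group.IsNilpotent P := hP.isNilpotent
  have hFtop : F.subgroupOf P = ⊤ := by
    by_contra hne
    obtain ⟨x, hxN, hx⟩ := SetLike.exists_of_lt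
      (Group.normalizerCondition_of_isNilpotent (G := P) _ (lt_top_iff_ne_top.2 hne))
    refine hx (mem_subgroupOf.2 (hN x x.2 ?_))
    refine mem_normalizer_iff.2 fun y => ?_
    constructor
    · intro hy
      exact mem_subgroupOf.1 ((mem_normalizer_iff.1 hxN ⟨y, (mem_inf.1 hy).1⟩).1 (mem_subgroupOf.2 hy))
    · intro hy
      have hyP : y ∈ P := by
        have h1 := mul_mem (mul_mem (inv_mem x.2) (mem_inf.1 hy).1) x.2
        rwa [show (x : G)⁻¹ * ((x : G) * y * (x : G)⁻¹) * x = y by group] at h1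
      exact mem_subgroupOf.1 ((mem_normalizer_iff.1 hxN ⟨y, hyP⟩).2 (mem_subgroupOf.2 hy))
  intro x hx
  exact (mem_centralizer_singleton_iff.1 (mem_inf.1 (mem_subgroupOf.1
    (show (⟨x, hx⟩ : P) ∈ F.subgroupOf P by rw [hFtop]; exact mem_top _))).2).symm

omit [Finite G] in
/-- A scalar commutes with every automorphism of `P`. -/
theorem commutator_mem_centralizer (hn : r' ∈ normalizer (P : Set G))
    (hsc : (∀ x ∈ P, Commute r' x) ∨ ∀ x ∈ P, r' * x * r'⁻¹ = x⁻¹) {s : G}
    (hs : s ∈ normalizer (P : Set G)) : ⁅s, r'⁆ ∈ centralizer (P : Set G) := by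
  have hr'inv : ∀ x ∈ P, r'⁻¹ * x * r' = r' * x * r'⁻¹ := by
    intro x hx
    have hx' : r' * x * r'⁻¹ ∈ P := (mem_normalizer_iff.1 hn x).1 hx
    rcases hsc with h | h
    · rw [(h x hx).eq, mul_inv_cancel_right, mul_assoc, ← (h x hx).eq, inv_mul_cancel_left]
    · have h1 := h x⁻¹ (inv_mem hx)
      rw [inv_inv] at h1
      rw [h x hx]
      conv_lhs => rw [← h1]
      group
  refine mem_centralizer_iff.2 fun x hx => ?_
  have hsx : s⁻¹ * x * s ∈ P := by
    have h1 := (mem_normalizer_iff.1 (inv_mem hs) x).1 hx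
    rwa [inv_inv] at h1
  have key : ⁅s, r'⁆⁻¹ * x * ⁅s, r'⁆ = x := by
    rw [commutatorElement_def,
      show (s * r' * s⁻¹ * r'⁻¹)⁻¹ * x * (s * r' * s⁻¹ * r'⁻¹)
        = r' * (s * (r'⁻¹ * (s⁻¹ * x * s) * r') * s⁻¹) * r'⁻¹ by group, hr'inv _ hsx]
    rcases hsc with h | h
    · rw [(h _ hsx).eq, mul_inv_cancel_right, show s * (s⁻¹ * x * s) * s⁻¹ = x by group, (h x hx).eq,
        mul_inv_cancel_right]
    · rw [h _ hsx, show s * (s⁻¹ * x * s)⁻¹ * s⁻¹ = x⁻¹ by group, h _ (inv_mem hx), inv_inv]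
  calc x * ⁅s, r'⁆ = ⁅s, r'⁆ * (⁅s, r'⁆⁻¹ * x * ⁅s, r'⁆) := by group
    _ = ⁅s, r'⁆ * x := by rw [key]

omit [Finite G] in
/-- If `s` moves `t` inside `⟨t, r⟩` then some element centralising `P` moves `t`. -/
theorem exists_moving_of_scalar (ht : t * t = 1) (hr1 : r ≠ 1) (htr : Commute t r)
    (hn : r' ∈ normalizer (P : Set G))
    (hsc : (∀ x ∈ P, Commute r' x) ∨ ∀ x ∈ P, r' * x * r'⁻¹ = x⁻¹)
    (hr't : Commute r' t) (hr'r : r' * r * r'⁻¹ = t * r) {s : G}
    (hs : s ∈ normalizer (P : Set G)) (hst : s * t * s⁻¹ = r)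
    (hsr : s * r * s⁻¹ = t ∨ s * r * s⁻¹ = t * r) :
    ∃ m ∈ centralizer (P : Set G), ¬ Commute m t := by
  refine ⟨⁅s, r'⁆, commutator_mem_centralizer hn hsc hs, fun hc => ?_⟩
  have hr'2 : r'⁻¹ * t * r' = t := by
    rw [mul_assoc, ← hr't.eq, inv_mul_cancel_left]
  have hstr : s * (t * r) * s⁻¹ = r * (s * r * s⁻¹) := by rw [← hst]; group
  have h1 : ⁅s, r'⁆ * t * ⁅s, r'⁆⁻¹ = t := by rw [hc.eq, mul_inv_cancel_right]
  rw [commutatorElement_def, show s * r' * s⁻¹ * r'⁻¹ * t * (s * r' * s⁻¹ * r'⁻¹)⁻¹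
    = s * (r' * (s⁻¹ * (r'⁻¹ * t * r') * s) * r'⁻¹) * s⁻¹ by group, hr'2] at h1
  -- so `r'` fixes `s⁻¹ t s`
  have h2 : r' * (s⁻¹ * t * s) * r'⁻¹ = s⁻¹ * t * s := by
    calc r' * (s⁻¹ * t * s) * r'⁻¹ = s⁻¹ * (s * (r' * (s⁻¹ * t * s) * r'⁻¹) * s⁻¹) * s := by group
      _ = s⁻¹ * t * s := by rw [h1]
  have hs' : s⁻¹ * t * s = r ∨ s⁻¹ * t * s = t * r := by
    rcases hsr with h | h
    · left; rw [← h]; group
    · right
      have e : s * (t * r) * s⁻¹ = t := by rw [hstr, h, ← mul_assoc, ← htr.eq, mul_assoc, ← hst,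
        show s * t * s⁻¹ * (s * t * s⁻¹) = s * (t * t) * s⁻¹ by group, ht, mul_one, mul_inv_cancel, mul_one]
      conv_lhs => rw [← e]
      group
  rcases hs' with h | h <;> rw [h] at h2
  · rw [hr'r] at h2
    have ht1 : t = 1 := mul_eq_right.1 h2
    exact hr1 (by rw [← hst, ht1, mul_one, mul_inv_cancel])
  · rw [show r' * (t * r) * r'⁻¹ = (r' * t * r'⁻¹) * (r' * r * r'⁻¹) by group, hr't.eq,
      mul_inv_cancel_right, hr'r, ← mul_assoc, ht, one_mul] at h2
    have ht1 : t = 1 := mul_eq_right.1 h2.symm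
    exact hr1 (by rw [← hst, ht1, mul_one, mul_inv_cancel])

/-- Frattini in a subgroup normalised by `s` and centralising `⟨t, r⟩`. -/
theorem exists_mem_normalizer_moving [Fact p.Prime] {W : Subgroup G} {s : G}
    (hsW : s ∈ normalizer (W : Set G)) (hP : P ≤ W)
    (hsyl : IsPGroup p P) (hmax : ∀ Q : Subgroup G, Q ≤ W → IsPGroup p Q → P ≤ Q → Q = P) :
    ∃ w ∈ W, w * s ∈ normalizer (P : Set G) ∧ (w * s) * t * (w * s)⁻¹ = w * (s * t * s⁻¹) * w⁻¹ ∧
      (w * s) * r * (w * s)⁻¹ = w * (s * r * s⁻¹) * w⁻¹ := by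
  let S : Sylow p W :=
    { toSubgroup := P.subgroupOf W
      isPGroup' := hsyl.of_equiv (subgroupOfEquivOfLe hP).symm
      is_maximal' := fun {Q} hQ hle => by
        have h1 : Q.map W.subtype = P := hmax _ (map_subtype_le Q) (hQ.map _) (by
          have := map_mono (f := W.subtype) hle
          rwa [map_subgroupOf_eq_of_le hP] at this)
        rw [← h1, subgroupOf, comap_map_eq_self_of_injective W.subtype_injective] }
  let φ : W →* W :=
    { toFun := fun x => ⟨s * x * s⁻¹, (mem_normalizer_iff.1 hsW x).1 x.2⟩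
      map_one' := Subtype.ext (by simp)
      map_mul' := fun x y => Subtype.ext (by simp [mul_assoc]) }
  have hinj : Function.Injective φ := fun x y h => Subtype.ext (by
    have h' : s * (x : G) * s⁻¹ = s * y * s⁻¹ := congrArg Subtype.val h
    exact mul_left_cancel (mul_right_cancel h'))
  let S' : Sylow p W :=
    { toSubgroup := (S : Subgroup W).map φ
      isPGroup' := S.isPGroup'.map φ
      is_maximal' := fun {Q} hQ hle => by
        have hbij : Function.Bijective φ := ⟨hinj, Finite.surjective_of_injective hinj⟩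
        have h1 := S.is_maximal' (hQ.comap_of_injective φ hinj)
          ((le_comap_map φ _).trans (comap_mono hle))
        rw [← h1, map_comap_eq_self_of_surjective hbij.2] }
  obtain ⟨w, hw⟩ := MulAction.exists_smul_eq W S' S
  refine ⟨(w : G), w.2, ?_, by group, by group⟩
  have hfwd : ∀ x ∈ P, (w : G) * s * x * ((w : G) * s)⁻¹ ∈ P := by
    intro x hx
    have hmem : (w * φ ⟨x, hP hx⟩ * w⁻¹ : W) ∈ (S : Subgroup W) := by
      rw [← hw]
      exact ⟨φ ⟨x, hP hx⟩, ⟨⟨x, hP hx⟩, mem_subgroupOf.2 hx, rfl⟩, rfl⟩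
    rw [show (w : G) * s * x * ((w : G) * s)⁻¹ = (w : G) * (s * x * s⁻¹) * (w : G)⁻¹ by group]
    exact mem_subgroupOf.1 hmem
  refine mem_normalizer_iff.2 fun x => ⟨hfwd x, fun hx => ?_⟩
  obtain ⟨y, hy⟩ := Finite.surjective_of_injective
    (f := fun y : P => (⟨_, hfwd y y.2⟩ : P)) (fun y z e => Subtype.ext
      (mul_left_cancel (mul_right_cancel (congrArg Subtype.val e)))) ⟨_, hx⟩
  have e : (w : G) * s * y * ((w : G) * s)⁻¹ = (w : G) * s * x * ((w : G) * s)⁻¹ := congrArg Subtype.val hy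
  rw [← mul_left_cancel (mul_right_cancel e)]
  exact y.2

/-- **Section G.** A non-trivial subgroup with normaliser in `C(t)` is not inside `P`. -/
theorem false_of_beta [Fact p.Prime] {W P0 : Subgroup G} {s : G} (ht : t * t = 1) (hr1 : r ≠ 1)
    (htr : Commute t r) (hr' : r' * r' = 1) (hr't : Commute r' t)
    (hr'r : r' * r * r'⁻¹ = t * r) (hW : W ≤ centralizer ({t, r} : Set G))
    (hsW : s ∈ normalizer (W : Set G)) (hst : s * t * s⁻¹ = r)
    (hsr : s * r * s⁻¹ = t ∨ s * r * s⁻¹ = t * r)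
    (hPW : P ≤ W) (hP : IsPGroup p P) (hodd : Odd (Nat.card P))
    (hmax : ∀ Q : Subgroup G, Q ≤ W → IsPGroup p Q → P ≤ Q → Q = P)
    (hn : r' ∈ normalizer (P : Set G))
    (htorus : P ⊓ centralizer ({r'} : Set G) ≠ ⊥ → ∀ x ∈ P,
      x ∈ normalizer ((P ⊓ centralizer ({r'} : Set G) : Subgroup G) : Set G) →
      r' * x * r'⁻¹ = x⁻¹ → r * x * r⁻¹ = x⁻¹)
    (hP0 : P0 ≤ P) (hC : normalizer (P0 : Set G) ≤ centralizer ({t} : Set G)) : False := by
  obtain ⟨w, hw, hN, e1, e2⟩ := exists_mem_normalizer_moving (t := t) (r := r) hsW hPW hP hmax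
  have hwt := mem_centralizer_iff.1 (hW hw) t (Set.mem_insert _ _)
  have hwr := mem_centralizer_iff.1 (hW hw) r (Set.mem_insert_of_mem _ rfl)
  have hwtr : w * (t * r) * w⁻¹ = t * r := by
    rw [← mul_assoc, ← hwt, mul_assoc, mul_assoc, ← mul_assoc w r, ← hwr, mul_inv_cancel_right]
  rw [hst, show w * r * w⁻¹ = r by rw [← hwr, mul_inv_cancel_right]] at e1
  have hsr' : w * s * r * (w * s)⁻¹ = t ∨ w * s * r * (w * s)⁻¹ = t * r := by
    rcases hsr with h | h <;> rw [h] at e2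
    · left; rw [e2, ← hwt, mul_inv_cancel_right]
    · right; rw [e2, hwtr]
  have hfix : ∀ x ∈ P, Commute r x := fun x hx =>
    mem_centralizer_iff.1 (hW (hPW hx)) r (Set.mem_insert_of_mem _ rfl)
  obtain ⟨m, hm, hmt⟩ := exists_moving_of_scalar ht hr1 htr hn
    (scalar_of_torus hP hodd hr' hfix hn htorus) hr't hr'r hN e1 hsr'
  refine hmt (mem_centralizer_singleton_iff.1 (hC ?_))
  have hfix' : ∀ x ∈ P, m * x * m⁻¹ = x := fun x hx => by
    rw [(mem_centralizer_iff.1 hm x hx).symm, mul_inv_cancel_right]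
  refine mem_normalizer_iff.2 fun x => ⟨fun hx => by rwa [hfix' x (hP0 hx)], fun hx => ?_⟩
  have h3 : m * x * m⁻¹ = x := by
    have h4 := hfix' _ (hP0 hx)
    exact mul_left_cancel (mul_right_cancel h4)
  rwa [h3] at hx

end Cfsg.Agent.GWDihedral
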