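import Cfsg.Agent.Lib.GWDihedral.SidesDefs
import Cfsg.Agent.Lib.GWKlein.Local
import Cfsg.Agent.Lib.Coprime.Factorization

/-!
# Gorenstein-Walter, dihedral Sylow subgroups of order at least eight: tools for section 1

* `DHyp.mem_sylow_cases`, `DHyp.conj`, `DHyp.exists_quarter_of_pair` : rotations inside `⟨x, y⟩`
* `DHyp.exists_invariant_core` : invariant Sylow subgroups of odd cores
* `Side.conj`, `FullSide.conj` : transport between the Sylow subgroups of `C(t)`
-/

set_option autoImplicit false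
set_option linter.unusedSectionVars false

namespace Cfsg.Agent.GWDihedral

open Subgroup
open Cfsg.Agent.GWKlein (coreU coreW fourV oddPart)

variable {G : Type*} [Group G]

theorem mem_centralizer_t {t x : G} : x ∈ centralizer ({t} : Set G) ↔ Commute x t :=
  mem_centralizer_singleton_iff

/-- An element moved by the involution `v` has its commutator with `v` moved by it as well. -/
theorem commute_of_commutator_commute {x v : G} (hv : orderOf v = 2)
    (hodd : Odd (orderOf (x * v * x⁻¹ * v⁻¹))) (hc : Commute (x * v * x⁻¹ * v⁻¹) v) : Commute x v := by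
  have hvv := Involution.inv_eq hv
  have e1 : v * (x * v * x⁻¹ * v⁻¹) * v⁻¹ = (x * v * x⁻¹ * v⁻¹)⁻¹ := by
    simp only [mul_inv_rev, inv_inv, hvv, mul_assoc]
    rw [Involution.mul_self hv, mul_one]
  rw [← hc.eq, mul_inv_cancel_right] at e1
  obtain ⟨k, hk⟩ := hodd
  have h1 : x * v * x⁻¹ * v⁻¹ = 1 := by
    have h2 : (x * v * x⁻¹ * v⁻¹) * (x * v * x⁻¹ * v⁻¹) = 1 := mul_eq_one_iff_eq_inv.2 e1
    have h3 := pow_orderOf_eq_one (x * v * x⁻¹ * v⁻¹)
    rw [hk, pow_succ, pow_mul, pow_two, h2, one_pow, one_mul] at h3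
    exact h3
  exact mul_inv_eq_iff_eq_mul.1 (mul_inv_eq_one.1 h1)

theorem fourV_le_normalizer {t r : G} [Finite G] {K : Subgroup G} (h1 : ∀ x ∈ K, t * x * t⁻¹ ∈ K)
    (h2 : ∀ x ∈ K, r * x * r⁻¹ ∈ K) : fourV t r ≤ normalizer (K : Set G) :=
  GWKlein.fourV_le_iff.2 ⟨Coprime.mem_normalizer_of_forall h1, Coprime.mem_normalizer_of_forall h2⟩

variable {n : ℕ} {t r σ : G}

theorem exists_mid_of_orderOf {G : Type*} [Group G] {z : G} {k : ℕ} (hz : orderOf z = 2 ^ (k + 2)) :
    ∃ w, w = z ^ 2 ^ k ∧ orderOf (w * w) = 2 := by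
  refine ⟨_, rfl, ?_⟩
  rw [← pow_add, ← two_mul, ← pow_succ', orderOf_pow' _ (by positivity), hz, pow_succ 2 (k + 1),
    Nat.gcd_mul_right_left, Nat.mul_div_cancel_left _ (by positivity)]

theorem conj_quarter {G : Type*} [Group G] {c x w t : G} (hct : Commute c t)
    (hwi : c * x * c⁻¹ * w * (c * x * c⁻¹)⁻¹ = w⁻¹) (hww : w * w = t) :
    c⁻¹ * w * c * x * (c⁻¹ * w * c)⁻¹ = t * x := by
  calc c⁻¹ * w * c * x * (c⁻¹ * w * c)⁻¹
      = c⁻¹ * (w * ((c * x * c⁻¹) * w⁻¹ * (c * x * c⁻¹)⁻¹) * (c * x * c⁻¹)) * c := by group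
    _ = c⁻¹ * (w * w) * c * x := by
        rw [show c * x * c⁻¹ * w⁻¹ * (c * x * c⁻¹)⁻¹ = (c * x * c⁻¹ * w * (c * x * c⁻¹)⁻¹)⁻¹ by group, hwi,
          inv_inv]
        group
    _ = t * x := by rw [hww, hct.inv_left.eq, inv_mul_cancel_right]

namespace DHyp

/-- The elements of the Sylow subgroup are rotations and reflections. -/
theorem mem_sylow_cases [Finite G] (h : DHyp n t r σ) {x : G} (hx : x ∈ closure ({σ, r} : Set G)) :
    (∃ k : ℕ, x = σ ^ k) ∨ ∃ k : ℕ, x = r * σ ^ k := by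
  have hn : zpowers r ≤ normalizer (zpowers σ : Set G) := zpowers_le.2 <|
    Coprime.mem_normalizer_of_forall fun y hy => by
      obtain ⟨i, rfl⟩ := mem_zpowers_iff.1 hy
      rw [← conj_zpow, h.conj_σ, inv_zpow]
      exact inv_mem hy
  have hle : closure ({σ, r} : Set G) ≤ zpowers r ⊔ zpowers σ := (closure_le _).2 <| by
    rintro y (rfl | rfl)
    · exact mem_sup_right (mem_zpowers _)
    · exact mem_sup_left (mem_zpowers _)
  have hx' := hle hx
  rw [sup_comm, Coprime.mem_sup_iff hn] at hx'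
  obtain ⟨a, ha, b, hb, rfl⟩ := hx'
  obtain ⟨k, rfl⟩ := mem_powers_iff_mem_zpowers.2 ha
  have hb' : b = 1 ∨ b = r := by
    obtain ⟨j, rfl⟩ := mem_powers_iff_mem_zpowers.2 hb
    rcases Nat.even_or_odd j with ⟨i, rfl⟩ | ⟨i, rfl⟩
    · exact Or.inl (by show r ^ (i + i) = 1; rw [← two_mul, pow_mul, pow_two, h.mul_self_r, one_pow])
    · exact Or.inr (by show r ^ (2 * i + 1) = r; rw [pow_succ, pow_mul, pow_two, h.mul_self_r, one_pow, one_mul])
  rcases hb' with rfl | hbr
  · exact Or.inl ⟨k, mul_one _⟩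
  · obtain ⟨l, hl⟩ := mem_powers_iff_mem_zpowers.2 (inv_mem (pow_mem (mem_zpowers σ) k))
    refine Or.inr ⟨l, ?_⟩
    simp only at hl
    rw [hl, hbr]
    have e := Involution.inverts_pow h.conj_σ k
    rw [← e]
    show σ ^ k * r = r * (r * σ ^ k * r⁻¹)
    rw [Involution.inv_eq h.order_r, ← mul_assoc, ← mul_assoc, h.mul_self_r, one_mul]

/-- The rotations other than `1` and `t` are no involutions. -/
theorem eq_t_of_rotation [Finite G] (h : DHyp n t r σ) {k : ℕ} (hk : orderOf (σ ^ k) = 2) : σ ^ k = t := by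
  obtain ⟨a, rfl⟩ := h.exists_add
  obtain ⟨P, -, D, hm⟩ := h.exists_data
  rcases D.eq_one_or_mid (pow_mem (mem_zpowers σ) k) (Involution.mul_self hk) with e | e
  · exact absurd e (Involution.ne_one hk)
  · exact e.trans hm

/-- Transport of the setting by an element of `C(t)`. -/
theorem conj (h : DHyp n t r σ) {c : G} (hc : Commute c t) :
    DHyp n t (c * r * c⁻¹) (c * σ * c⁻¹) where
  three_le := h.three_le
  order_σ := (orderOf_injective (MulAut.conj c).toMonoidHom (MulAut.conj c).injective σ).trans h.order_σ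
  order_r := (orderOf_injective (MulAut.conj c).toMonoidHom (MulAut.conj c).injective r).trans h.order_r
  conj_σ := by
    rw [show c * r * c⁻¹ * (c * σ * c⁻¹) * (c * r * c⁻¹)⁻¹ = c * (r * σ * r⁻¹) * c⁻¹ by group, h.conj_σ]
    group
  t_eq := by rw [conj_pow, ← h.t_eq, hc.eq, mul_inv_cancel_right]
  sylow := by
    obtain ⟨P, hP⟩ := h.sylow
    refine ⟨c • P, ?_⟩
    rw [Sylow.coe_subgroup_smul, hP]
    show (closure ({σ, r} : Set G)).map (MulAut.conj c).toMonoidHom = _
    rw [MonoidHom.map_closure, Set.image_pair]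
    rfl

theorem map_conj_sylow (h : DHyp n t r σ) (c : G) :
    (closure ({σ, r} : Set G)).map (MulAut.conj c).toMonoidHom =
      closure ({c * σ * c⁻¹, c * r * c⁻¹} : Set G) := by
  rw [MonoidHom.map_closure, Set.image_pair]
  rfl

theorem sylow_mem_σ (_h : DHyp n t r σ) : σ ∈ closure ({σ, r} : Set G) :=
  subset_closure (Set.mem_insert _ _)

theorem sylow_mem_r (_h : DHyp n t r σ) : r ∈ closure ({σ, r} : Set G) :=
  subset_closure (Set.mem_insert_of_mem _ rfl)

theorem sylow_mem_t (h : DHyp n t r σ) : t ∈ closure ({σ, r} : Set G) :=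
  h.t_eq ▸ pow_mem h.sylow_mem_σ _

theorem isPGroup_sylow (h : DHyp n t r σ) : IsPGroup 2 (closure ({σ, r} : Set G)) := by
  obtain ⟨P, hP⟩ := h.sylow
  exact hP ▸ P.isPGroup'

variable [Finite G]

/-- A 2-subgroup of `C(t)` is conjugate into the Sylow subgroup by an element of `C(t)`. -/
theorem exists_conj_le (h : DHyp n t r σ) {T : Subgroup G} (hT : IsPGroup 2 T)
    (hTC : T ≤ centralizer ({t} : Set G)) :
    ∃ c, Commute c t ∧ ∀ x ∈ T, c * x * c⁻¹ ∈ closure ({σ, r} : Set G) := by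
  haveI := Fact.mk Nat.prime_two
  obtain ⟨P, hP⟩ := h.sylow
  set C := centralizer ({t} : Set G)
  have hPC : (P : Subgroup G) ≤ C := hP ▸ h.sylow_le_centralizer
  obtain ⟨Q, hQ⟩ := (hT.of_equiv (subgroupOfEquivOfLe hTC).symm).exists_le_sylow
  obtain ⟨c, hc⟩ := MulAction.exists_smul_eq C Q (P.subtype hPC)
  refine ⟨c, mem_centralizer_t.1 c.2, fun x hx => hP ▸ ?_⟩
  have h2 : c * ⟨x, hTC hx⟩ * c⁻¹ ∈ ((P.subtype hPC : Sylow 2 C) : Subgroup C) := by
    rw [← hc, Transfer.sylow_coe_smul]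
    exact ⟨_, hQ (mem_subgroupOf.2 hx), rfl⟩
  exact h2

/-- Two reflections of a 2-subgroup of `C(t)` that do not commute generate a group containing an element
that fixes `t` and moves `x` to `t * x`. -/
theorem exists_quarter_of_pair (h : DHyp n t r σ) {T : Subgroup G} (hT : IsPGroup 2 T)
    (hTC : T ≤ centralizer ({t} : Set G)) {x y : G} (hx : x ∈ T) (hy : y ∈ T) (hxo : orderOf x = 2)
    (hyo : orderOf y = 2) (hxt : x ≠ t) (hyt : y ≠ t) (hyx : y ≠ x) (hytx : y ≠ t * x) :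
    ∃ ρ ∈ closure ({x, y} : Set G), Commute ρ t ∧ ρ * x * ρ⁻¹ = t * x ∧ ρ * ρ = t := by
  obtain ⟨c, hct, hc⟩ := h.exists_conj_le hT hTC
  have refl : ∀ z ∈ T, orderOf z = 2 → z ≠ t → ∃ k : ℕ, c * z * c⁻¹ = r * σ ^ k := by
    intro z hz hzo hzt
    rcases h.mem_sylow_cases (hc z hz) with ⟨k, hk⟩ | hk
    · refine absurd ?_ hzt
      have ho : orderOf (σ ^ k) = 2 := by
        rw [← hk]; exact (orderOf_injective (MulAut.conj c).toMonoidHom (MulAut.conj c).injective z).trans hzo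
      have e : c * z * c⁻¹ = c * t * c⁻¹ := by rw [hk, h.eq_t_of_rotation ho, hct.eq, mul_inv_cancel_right]
      exact conj_injective e
    · exact hk
  obtain ⟨i, hi⟩ := refl x hx hxo hxt
  obtain ⟨j, hj⟩ := refl y hy hyo hyt
  obtain ⟨l, hl⟩ := mem_powers_iff_mem_zpowers.2
    (mul_mem (inv_mem (pow_mem (mem_zpowers σ) i)) (pow_mem (mem_zpowers σ) j))
  simp only at hl
  have hl' : c * x * c⁻¹ * σ ^ l = c * y * c⁻¹ := by
    rw [hi, hj, hl, mul_assoc, mul_inv_cancel_left]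
  have hinv : ∀ k : ℕ, c * x * c⁻¹ * σ ^ k * (c * x * c⁻¹)⁻¹ = (σ ^ k)⁻¹ := by
    intro k
    rw [hi, mul_inv_rev, show r * σ ^ i * σ ^ k * ((σ ^ i)⁻¹ * r⁻¹) = r * (σ ^ i * σ ^ k * (σ ^ i)⁻¹) * r⁻¹ by
      group, ((Commute.refl σ).pow_pow i k).eq, mul_inv_cancel_right]
    exact Involution.inverts_pow h.conj_σ k
  haveI := Fact.mk Nat.prime_two
  obtain ⟨m, hm, hm'⟩ := (Nat.dvd_prime_pow Nat.prime_two).1 (h.order_σ ▸ orderOf_pow_dvd l :
    orderOf (σ ^ l) ∣ 2 ^ (n - 1))
  have hm2 : 2 ≤ m := by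
    by_contra hlt
    interval_cases m
    · rw [orderOf_eq_one_iff.1 (hm'.trans (pow_zero 2)), mul_one] at hl'
      exact hyx (conj_injective (x := c) hl').symm
    · rw [h.eq_t_of_rotation (hm'.trans (pow_one 2))] at hl'
      refine hytx (conj_injective (x := c) ?_)
      show c * y * c⁻¹ = c * (t * x) * c⁻¹
      rw [← hl']
      calc c * x * c⁻¹ * t = c * x * (c⁻¹ * t) := by group
        _ = c * (t * x) * c⁻¹ := by
          rw [hct.inv_left.eq, ← mul_assoc, mul_assoc c x t, (mem_centralizer_t.1 (hTC hx)).eq]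
  obtain ⟨k, rfl⟩ : ∃ k, m = k + 2 := ⟨m - 2, by omega⟩
  have hz := exists_mid_of_orderOf hm'
  obtain ⟨w, hw, hwo⟩ := hz
  obtain ⟨K, hwσ⟩ : ∃ K : ℕ, w = σ ^ K := ⟨l * 2 ^ k, by rw [hw, ← pow_mul]⟩
  have hww : w * w = t := by
    have h2 : σ ^ (K + K) = w * w := by rw [hwσ, pow_add]
    rw [← h2] at hwo ⊢
    exact h.eq_t_of_rotation hwo
  have e1 : x⁻¹ * y = c⁻¹ * σ ^ l * c⁻¹⁻¹ := by
    rw [show σ ^ l = (c * x * c⁻¹)⁻¹ * (c * y * c⁻¹) by rw [← hl', inv_mul_cancel_left]]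
    group
  have e2 : (x⁻¹ * y) ^ 2 ^ k = c⁻¹ * w * c := by rw [e1, conj_pow, inv_inv, ← hw]
  have hxy : x⁻¹ * y ∈ closure ({x, y} : Set G) :=
    mul_mem (inv_mem (subset_closure (Set.mem_insert x _))) (subset_closure (Set.mem_insert_of_mem _ rfl))
  have hmem : (x⁻¹ * y) ^ 2 ^ k ∈ closure ({x, y} : Set G) := Subgroup.pow_mem _ hxy (2 ^ k)
  have hcomm : Commute ((x⁻¹ * y) ^ 2 ^ k) t :=
    (((mem_centralizer_t.1 (hTC hx)).inv_left).mul_left (mem_centralizer_t.1 (hTC hy))).pow_left _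
  have hwi : c * x * c⁻¹ * w * (c * x * c⁻¹)⁻¹ = w⁻¹ := by rw [hwσ]; exact hinv K
  refine ⟨_, hmem, hcomm, ?_, ?_⟩
  · rw [e2]
    exact conj_quarter hct hwi hww
  · rw [e2]
    calc c⁻¹ * w * c * (c⁻¹ * w * c) = c⁻¹ * (w * w) * c := by group
      _ = t := by rw [hww, hct.inv_left.eq, inv_mul_cancel_right]

/-- A 2-group and a subgroup of odd order have coprime orders. -/
theorem coprime_card (_h : DHyp n t r σ) {A K : Subgroup G} (hA : IsPGroup 2 A) (hK : Odd (Nat.card K)) :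
    (Nat.card A).Coprime (Nat.card K) := by
  haveI := Fact.mk Nat.prime_two
  obtain ⟨k, hk⟩ := IsPGroup.iff_card.1 hA
  rw [hk]
  exact (Nat.coprime_two_left.2 hK).pow_left k

theorem isPGroup_fourV (h : DHyp n t r σ) : IsPGroup 2 (fourV t r) :=
  h.isPGroup_sylow.to_le h.fourV_le_sylow

variable {p : ℕ} [Fact p.Prime]

/-- An invariant Sylow subgroup of an odd subgroup over a given invariant `p`-subgroup. -/
theorem exists_invariant_sylow (h : DHyp n t r σ) {A K Q : Subgroup G} (hA : IsPGroup 2 A)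
    (hK : Odd (Nat.card K)) (hAK : A ≤ normalizer (K : Set G)) (hQK : Q ≤ K) (hQ : IsPGroup p Q)
    (hQA : A ≤ normalizer (Q : Set G)) :
    ∃ X : Subgroup G, Q ≤ X ∧ X ≤ K ∧ A ≤ normalizer (X : Set G) ∧ IsPGroup p X ∧
      Nat.card X = p ^ (Nat.card K).factorization p := by
  haveI := Fact.mk Nat.prime_two
  obtain ⟨X, h1, h2, h3, h4⟩ := Coprime.exists_invariant_card hAK (h.coprime_card hA hK)
    (Or.inl (Coprime.isSolvable_of_isPGroup hA)) p hQK hQ hQA
  exact ⟨X, h1, h2, h3, Coprime.isPGroup_of_card h4, h4⟩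

/-- If an invariant Sylow subgroup of an odd subgroup is centralised by `t`, so is every invariant
`p`-subgroup. -/
theorem le_centralizer_of_sylow (h : DHyp n t r σ) {K X Q : Subgroup G} (hK : Odd (Nat.card K))
    (hVK : fourV t r ≤ normalizer (K : Set G)) (hXK : X ≤ K) (hXV : fourV t r ≤ normalizer (X : Set G))
    (hXc : Nat.card X = p ^ (Nat.card K).factorization p) (hXt : X ≤ centralizer ({t} : Set G))
    (hQK : Q ≤ K) (hQ : IsPGroup p Q) (hQV : fourV t r ≤ normalizer (Q : Set G)) :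
    Q ≤ centralizer ({t} : Set G) := by
  obtain ⟨X', hQX, hX'K, hX'V, -, hX'c⟩ := h.exists_invariant_sylow h.isPGroup_fourV hK hVK hQK hQ hQV
  haveI := Fact.mk Nat.prime_two
  obtain ⟨c, hc, hcX⟩ := Coprime.exists_mem_centralizer_conj_of_card hVK (h.coprime_card h.isPGroup_fourV hK)
    (Or.inl (Coprime.isSolvable_of_isPGroup h.isPGroup_fourV)) hX'K hXK hX'V hXV hX'c hXc
  refine hQX.trans fun x hx => ?_
  rw [← hcX, Coprime.mem_conj] at hx
  have hct : c ∈ centralizer ({t} : Set G) :=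
    mem_centralizer_t.2 (mem_centralizer_iff.1 hc.2 t (GWKlein.left_mem_fourV t r)).symm
  have := mul_mem (mul_mem hct (hXt hx)) (inv_mem hct)
  simpa [mul_assoc] using this

end DHyp

variable [Finite G] {p : ℕ}

/-- Transport of a side along an element of `C(t)`. -/
theorem Side.conj {R : Subgroup G} (hR : Side p t r σ R) {c : G} (hc : Commute c t) :
    Side p t (c * r * c⁻¹) (c * σ * c⁻¹) (R.map (MulAut.conj c).toMonoidHom) where
  isPGroup := hR.isPGroup.map _
  inv := by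
    refine le_trans (le_of_eq ?_) (le_trans (map_mono hR.inv) (le_normalizer_map _))
    rw [MonoidHom.map_closure, Set.image_pair]
    rfl
  moved hle := hR.moved fun x hx => by
    have h1 := mem_centralizer_t.1 (hle ⟨x, hx, rfl⟩)
    have h2 : c * x * c⁻¹ * t = t * (c * x * c⁻¹) := h1.eq
    refine mem_centralizer_t.2 ?_
    calc x * t = c⁻¹ * (c * x * c⁻¹ * t) * c := by
          rw [show c⁻¹ * (c * x * c⁻¹ * t) * c = x * (c⁻¹ * t * c) by group, hc.inv_left.eq,
            mul_assoc, inv_mul_cancel, mul_one]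
      _ = t * x := by
          rw [h2, show c⁻¹ * (t * (c * x * c⁻¹)) * c = c⁻¹ * t * c * x by group, hc.inv_left.eq,
            mul_assoc t, inv_mul_cancel, mul_one]
  meets := by
    have e : (coreU t).map (MulAut.conj c).toMonoidHom = coreU t :=
      Coprime.conj_eq_of_mem_normalizer
        (GWKlein.centralizer_le_normalizer_coreU t (mem_centralizer_t.2 hc))
    rw [← e, ← map_inf_eq _ _ _ (MulAut.conj c).injective]
    exact fun e0 => hR.meets ((map_eq_bot_iff_of_injective _ (MulAut.conj c).injective).1 e0)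

theorem FullSide.conj {R : Subgroup G} (hR : FullSide p t r σ R) {c : G} (hc : Commute c t) :
    FullSide p t (c * r * c⁻¹) (c * σ * c⁻¹) (R.map (MulAut.conj c).toMonoidHom) where
  toSide := hR.toSide.conj hc
  card := by
    have e : (coreU t).map (MulAut.conj c).toMonoidHom = coreU t :=
      Coprime.conj_eq_of_mem_normalizer
        (GWKlein.centralizer_le_normalizer_coreU t (mem_centralizer_t.2 hc))
    conv_lhs => rw [← e, ← map_inf_eq _ _ _ (MulAut.conj c).injective,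
      card_map_of_injective (MulAut.conj c).injective]
    exact hR.card

/-- All choices of the Sylow subgroup of `C(t)` give the same sides up to conjugation. -/
theorem FullSide.transfer {r' σ' : G} (h : DHyp n t r σ) (h' : DHyp n t r' σ') {R : Subgroup G}
    (hR : FullSide p t r' σ' R) : ∃ R', FullSide p t r σ R' := by
  obtain ⟨c, hct, hc⟩ := h.exists_conj_le h'.isPGroup_sylow h'.sylow_le_centralizer
  have hle : (closure ({σ', r'} : Set G)).map (MulAut.conj c).toMonoidHom = closure {σ, r} := by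
    refine eq_of_le_of_card_ge ?_ ?_
    · rintro _ ⟨x, hx, rfl⟩; exact hc x hx
    · rw [card_map_of_injective (MulAut.conj c).injective, h.card_sylow, h'.card_sylow]
  have hR' := hR.conj hct
  refine ⟨_, ⟨hR'.isPGroup, ?_, hR'.moved, hR'.meets⟩, hR'.card⟩
  rw [← hle, h'.map_conj_sylow]
  exact hR'.inv

end Cfsg.Agent.GWDihedral
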