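import Cfsg.Agent.Lib.GWDihedral.StepsB
import Cfsg.Agent.Lib.GWDihedral.Beta
import Cfsg.Agent.Lib.GWDihedral.SidesBasic
import Cfsg.Agent.Lib.PGroup.Power
import Cfsg.Agent.Lib.PGroup.UniqueOrderP
import Cfsg.Agent.Lib.Products.Nilpotent

/-!
# Gorenstein-Walter, dihedral Sylow subgroups of order at least eight: a mixed normal subgroup

Paragraph (D) of section 5 of `notes/gw_dihedral_eight.md`. If every elementary subgroup of `U` normal in
`C(t)` is inverted by both reflections, then it is central in `U` (theta), so those inside a core of `U` not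
inverted by `r` have order at most `p`, and the elements of order `p` of the second centre form `p ^ (1 + 2)`.

* `commute_of_inverted` : normal subgroups inverted by both reflections are central in a non-abelian `U`
* `exists_core_not_inverted` : some `O_p(U)` is not inverted
* `mixedExtraspecial_of_core` : the extraspecial subgroup
* `exists_mixed` : the conclusion of (D)
-/

set_option autoImplicit false
set_option linter.unusedSectionVars false
set_option linter.style.haveILetI false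

namespace Cfsg.Agent.GWDihedral

open Subgroup
open scoped commutatorElement
open Cfsg.Agent.GWKlein (coreU coreW fourV)

universe u

variable {G : Type u} [Group G] [Finite G] {n : ℕ} {t r σ : G}

/-- On a subgroup inverted by both reflections an element of the Sylow subgroup acts as a sign. -/
theorem sylow_sign {X : Subgroup G} (h1 : ∀ x ∈ X, r * x * r⁻¹ = x⁻¹)
    (h2 : ∀ x ∈ X, r * σ * x * (r * σ)⁻¹ = x⁻¹) {z : G} (hz : z ∈ closure ({σ, r} : Set G)) :
    (∀ x ∈ X, z * x * z⁻¹ = x) ∨ ∀ x ∈ X, z * x * z⁻¹ = x⁻¹ := by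
  induction hz using closure_induction with
  | mem z hz =>
    rcases hz with rfl | rfl
    · refine Or.inl fun x hx => ?_
      have e1 := h2 x hx
      rw [show r * z * x * (r * z)⁻¹ = r * (z * x * z⁻¹) * r⁻¹ by group, ← h1 x hx] at e1
      exact mul_left_cancel (mul_right_cancel e1)
    · exact Or.inr h1
  | one => exact Or.inl fun x _ => by group
  | mul a b _ _ ha hb =>
    have e : ∀ x, a * b * x * (a * b)⁻¹ = a * (b * x * b⁻¹) * a⁻¹ := fun x => by group
    rcases ha with ha | ha <;> rcases hb with hb | hb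
    · exact Or.inl fun x hx => by rw [e, hb x hx, ha x hx]
    · exact Or.inr fun x hx => by rw [e, hb x hx, ha _ (inv_mem hx)]
    · exact Or.inr fun x hx => by rw [e, hb x hx, ha x hx]
    · exact Or.inl fun x hx => by rw [e, hb x hx, ha _ (inv_mem hx), inv_inv]
  | inv a _ ha =>
    rcases ha with ha | ha
    · refine Or.inl fun x hx => ?_
      nth_rw 1 [← ha x hx]
      group
    · refine Or.inr fun x hx => ?_
      have e := ha _ (inv_mem hx)
      rw [inv_inv] at e
      nth_rw 1 [← e]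
      group

/-- The commutator of an element of the Sylow subgroup with one of the normaliser centralises such a
subgroup. -/
theorem commutator_commute_of_sign {X : Subgroup G} (h1 : ∀ x ∈ X, r * x * r⁻¹ = x⁻¹)
    (h2 : ∀ x ∈ X, r * σ * x * (r * σ)⁻¹ = x⁻¹) {z u : G} (hz : z ∈ closure ({σ, r} : Set G))
    (hu : u ∈ normalizer (X : Set G)) : ∀ x ∈ X, Commute (u⁻¹ * (z * u * z⁻¹)) x := by
  intro x hx
  have hux : u * x * u⁻¹ ∈ X := (mem_normalizer_iff.1 hu x).1 hx
  have e : z * u * z⁻¹ * x * (z * u * z⁻¹)⁻¹ = u * x * u⁻¹ := by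
    have e0 : z * u * z⁻¹ * x * (z * u * z⁻¹)⁻¹ = z * (u * (z⁻¹ * x * z) * u⁻¹) * z⁻¹ := by group
    rcases sylow_sign h1 h2 hz with hs | hs
    · have e1 : z⁻¹ * x * z = x := by nth_rw 1 [← hs x hx]; group
      rw [e0, e1, hs _ hux]
    · have e1 : z⁻¹ * x * z = x⁻¹ := by
        have := hs _ (inv_mem hx)
        rw [inv_inv] at this
        nth_rw 1 [← this]; group
      rw [e0, e1, show u * x⁻¹ * u⁻¹ = (u * x * u⁻¹)⁻¹ by group, hs _ (inv_mem hux), inv_inv]
  refine mul_inv_eq_iff_eq_mul.1 ?_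
  calc u⁻¹ * (z * u * z⁻¹) * x * (u⁻¹ * (z * u * z⁻¹))⁻¹
      = u⁻¹ * (z * u * z⁻¹ * x * (z * u * z⁻¹)⁻¹) * u := by group
    _ = x := by rw [e]; group

/-- (theta) in quotient form: a proper normal subgroup of `U` with the Sylow subgroup trivial on the
quotient forces `U` abelian. -/
theorem abelian_of_stable_quotient (hd : Odd (Nat.card (coreU t))) (hθ : NoTheta t r σ)
    (N : Subgroup (coreU t)) [N.Normal] (hN : N ≠ ⊤)
    (hs : ∀ z ∈ closure ({σ, r} : Set G), ∀ x y : coreU t, z * x * z⁻¹ = y → x⁻¹ * y ∈ N) :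
    ∀ x ∈ coreU t, ∀ y ∈ coreU t, Commute x y := by
  haveI : Nontrivial (coreU t ⧸ N) := QuotientGroup.nontrivial_iff.2 hN
  haveI : Group.IsSolvable (coreU t ⧸ N) := S0205.result (hd.of_dvd_nat N.card_quotient_dvd_card)
  obtain ⟨g, hg⟩ : ∃ g, g ∉ commutator (coreU t ⧸ N) := by
    by_contra hc
    push Not at hc
    exact (Group.IsSolvable.commutator_lt_top_of_nontrivial (coreU t ⧸ N)).ne (eq_top_iff.2 fun x _ => hc x)
  have hne : Abelianization.of g ≠ 1 := fun e => hg (by rwa [← Abelianization.ker_of, MonoidHom.mem_ker])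
  obtain ⟨χ, hχ⟩ := CommGroup.exists_apply_ne_one_of_hasEnoughRootsOfUnity (Abelianization (coreU t ⧸ N)) ℂ hne
  refine hθ (χ.comp (Abelianization.of.comp (QuotientGroup.mk' N))) (fun e => hχ ?_) fun z hz x y e => ?_
  · obtain ⟨w, rfl⟩ := QuotientGroup.mk'_surjective N g
    exact congrArg (fun f : coreU t →* ℂˣ => f w) e
  · simp only [MonoidHom.comp_apply]
    congr 2
    exact QuotientGroup.eq.2 (hs z hz x y e)

/-- A normal subgroup inverted by both reflections is central in a non-abelian `U`. -/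
theorem commute_of_inverted (h : DHyp n t r σ) (hθ : NoTheta t r σ)
    (hnab : ¬ ∀ x ∈ coreU t, ∀ y ∈ coreU t, Commute x y) {X : Subgroup G}
    (hn : centralizer ({t} : Set G) ≤ normalizer (X : Set G)) (h1 : ∀ x ∈ X, r * x * r⁻¹ = x⁻¹)
    (h2 : ∀ x ∈ X, r * σ * x * (r * σ)⁻¹ = x⁻¹) : ∀ u ∈ coreU t, ∀ x ∈ X, Commute u x := by
  have hUn : coreU t ≤ normalizer (X : Set G) := (GWKlein.coreU_le_centralizer t).trans hn
  set N : Subgroup (coreU t) := (centralizer (X : Set G)).subgroupOf (coreU t)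
  haveI : N.Normal := ⟨fun w hw g => by
    rw [mem_subgroupOf, mem_centralizer_iff] at hw ⊢
    intro x hx
    have hgx : (g : G)⁻¹ * x * g ∈ X := by
      have := (mem_normalizer_iff.1 (inv_mem (hUn g.2)) x).1 hx
      rwa [inv_inv] at this
    have e := hw _ hgx
    simp only [Subgroup.coe_mul, Subgroup.coe_inv]
    calc x * ((g : G) * w * (g : G)⁻¹) = (g : G) * ((g : G)⁻¹ * x * g * w) * (g : G)⁻¹ := by group
      _ = _ := by rw [e]; group⟩
  rcases eq_or_ne N ⊤ with hN | hN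
  · intro u hu x hx
    exact (mem_centralizer_iff.1 (mem_subgroupOf.1 (hN ▸ mem_top (⟨u, hu⟩ : coreU t))) x hx).symm
  · refine absurd (abelian_of_stable_quotient h.odd_coreU hθ N hN fun z hz x y e => ?_) hnab
    rw [mem_subgroupOf, mem_centralizer_iff]
    intro v hv
    rw [Subgroup.coe_mul, Subgroup.coe_inv, ← e]
    exact (commutator_commute_of_sign h1 h2 hz (hUn x.2) v hv).symm.eq

/-- The subgroups `O_q(U)` are normal in `C(t)`. -/
theorem centralizer_le_normalizer_core (t : G) (q : ℕ) :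
    centralizer ({t} : Set G) ≤ normalizer (Products.coreIn q (coreU t) : Set G) :=
  (GWKlein.centralizer_le_normalizer_coreU t).trans (Cores.normalizer_le_normalizer_map _)

/-- If both classes of reflections invert every core of `U`, both centralisers in `U` are trivial. -/
theorem exists_core_not_inverted (h : DHyp n t r σ) (hθ : NoTheta t r σ)
    (hne : coreW t r ≠ ⊥ ∨ coreW t (r * σ) ≠ ⊥) :
    ∃ q : ℕ, q.Prime ∧ ∃ v ∈ Products.coreIn q (coreU t),
      r * v * r⁻¹ ≠ v⁻¹ ∨ r * σ * v * (r * σ)⁻¹ ≠ v⁻¹ := by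
  by_contra hall
  push Not at hall
  set U := coreU t
  haveI hsolv : Group.IsSolvable U := h.isSolvable_coreU
  set F := Cfsg.fittingSubgroup U
  haveI : F.Normal := Subgroup.sSup_normal _ fun _ h => h.1
  have hab : ∀ q, q.Prime → ∀ a ∈ Products.coreIn q U, ∀ b ∈ Products.coreIn q U, Commute a b := by
    intro q hq a ha b hb
    have e := (hall q hq (a * b) (mul_mem ha hb)).1
    rw [← _root_.conj_mul, (hall q hq a ha).1, (hall q hq b hb).1, mul_inv_rev] at e
    exact (Commute.inv_inv_iff.1 e)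
  have hFab : ∀ a ∈ F.map U.subtype, ∀ b ∈ F.map U.subtype, Commute a b := by
    have h1 : ∀ q, q.Prime → F.map U.subtype ≤ centralizer (Products.coreIn q U : Set G) := fun q hq =>
      Products.map_fitting_le fun l hl x hx => mem_centralizer_iff.2 fun v hv => by
        rcases eq_or_ne q l with rfl | hne'
        · exact (hab q hq v hv x hx).eq
        · obtain ⟨v', hv', rfl⟩ := hv
          obtain ⟨x', hx', rfl⟩ := hx
          haveI := Fact.mk hq
          haveI := Fact.mk hl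
          exact congrArg Subtype.val (commute_of_normal_of_disjoint _ _ inferInstance inferInstance
            (IsPGroup.disjoint_of_ne q l hne' (Cfsg.pCore q U) (Cfsg.pCore l U)
              (Cores.isPGroup_pCore q U) (Cores.isPGroup_pCore l U)) v' x' hv' hx').eq
    have h2 : F.map U.subtype ≤ centralizer (F.map U.subtype : Set G) :=
      Products.map_fitting_le fun l hl x hx => mem_centralizer_iff.2 fun v hv =>
        (mem_centralizer_iff.1 (h1 l hl hv) x hx).symm
    exact fun a ha b hb => (mem_centralizer_iff.1 (h2 ha) b hb).symm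
  have hab' : ∀ x ∈ U, ∀ y ∈ U, Commute x y := by
    rcases eq_or_ne F ⊤ with hF | hF
    · intro x hx y hy
      exact hFab x ⟨⟨x, hx⟩, hF ▸ mem_top _, rfl⟩ y ⟨⟨y, hy⟩, hF ▸ mem_top _, rfl⟩
    · refine abelian_of_stable_quotient h.odd_coreU hθ F hF fun z hz x y e => ?_
      have hm : ((x⁻¹ * y : U) : G) ∈ F.map U.subtype :=
        Products.centralizer_map_fitting_le (x⁻¹ * y : U).2 fun q hq v hv => by
          rw [Subgroup.coe_mul, Subgroup.coe_inv, ← e]
          exact (commutator_commute_of_sign (fun w hw => (hall q hq w hw).1) (fun w hw => (hall q hq w hw).2)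
            hz (Products.le_normalizer_coreIn q U x.2) v hv).symm.eq
      obtain ⟨w, hw, hwe⟩ := hm
      exact (Subtype.ext hwe : w = x⁻¹ * y) ▸ hw
  have key : ∀ r' : G, (∀ q, q.Prime → ∀ v ∈ Products.coreIn q U, r' * v * r'⁻¹ = v⁻¹) →
      coreW t r' = ⊥ := by
    intro r' hr'
    let K : Subgroup G :=
      { carrier := {v | v ∈ U ∧ r' * v * r'⁻¹ = v⁻¹}
        one_mem' := ⟨one_mem U, by group⟩
        mul_mem' := fun {a b} ha hb => ⟨mul_mem ha.1 hb.1, by
          rw [← _root_.conj_mul, ha.2, hb.2, mul_inv_rev, (hab' _ (inv_mem ha.1) _ (inv_mem hb.1)).eq]⟩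
        inv_mem' := fun {a} ha => ⟨inv_mem ha.1, by rw [← conj_inv, ha.2]⟩ }
    rw [eq_bot_iff]
    intro c hc
    obtain ⟨hcU, hcr⟩ := mem_inf.1 hc
    have hcK : c ∈ K := Products.map_fitting_le (W := K)
      (fun q hq v hv => show v ∈ K from ⟨Products.coreIn_le q U hv, hr' q hq v hv⟩)
      (Products.centralizer_map_fitting_le hcU fun q hq v hv => (hab' v (Products.coreIn_le q U hv) c hcU).eq)
    have e : c = c⁻¹ := by
      have e1 := hcK.2
      rwa [← (mem_centralizer_singleton_iff.1 hcr), mul_inv_cancel_right] at e1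
    rw [mem_bot, ← orderOf_eq_one_iff]
    have h2 : orderOf c ∣ 2 := orderOf_dvd_of_pow_eq_one (by rw [sq]; exact mul_eq_one_iff_eq_inv.2 e)
    rcases (Nat.dvd_prime Nat.prime_two).1 h2 with h2 | h2
    · exact h2
    · exact absurd (h.odd_orderOf hcU) (by rw [h2]; decide)
  rcases hne with hne | hne
  · exact hne (key r fun q hq v hv => (hall q hq v hv).1)
  · exact hne (key (r * σ) fun q hq v hv => (hall q hq v hv).2)

/-- An element of order dividing `p` that `r` both centralises and inverts is trivial. -/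
theorem eq_one_of_fixed_inverted {p : ℕ} [Fact p.Prime] (hp : p ≠ 2) {v : G} (hv : v ^ p = 1)
    (hc : Commute r v) (hi : r * v * r⁻¹ = v⁻¹) : v = 1 := by
  rw [hc.eq, mul_inv_cancel_right] at hi
  by_contra h1
  have h2 : orderOf v ∣ 2 := orderOf_dvd_of_pow_eq_one (by rw [sq]; exact mul_eq_one_iff_eq_inv.2 hi)
  rw [orderOf_eq_prime hv h1] at h2
  exact hp ((Nat.prime_dvd_prime_iff_eq Fact.out Nat.prime_two).1 h2)

/-- A core of `U` not inverted by `r`, whose normal elementary subgroups are inverted and central, contains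
a normal mixed extraspecial subgroup of order `p ^ 3`. -/
theorem mixedExtraspecial_of_core (h : DHyp n t r σ) (hcs : CentShape t r σ) {p : ℕ} [Fact p.Prime]
    (hp : p ≠ 2) {P : Subgroup G} (hPp : IsPGroup p P) (hPU : P ≤ coreU t)
    (hPn : centralizer ({t} : Set G) ≤ normalizer (P : Set G)) (hPr : ∃ v ∈ P, r * v * r⁻¹ ≠ v⁻¹)
    (hinv : ∀ X : Subgroup G, Cfsg.IsElementaryAbelian p X → X ≤ P →
      centralizer ({t} : Set G) ≤ normalizer (X : Set G) → ∀ x ∈ X, r * x * r⁻¹ = x⁻¹)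
    (hcent : ∀ X : Subgroup G, Cfsg.IsElementaryAbelian p X → X ≤ P →
      centralizer ({t} : Set G) ≤ normalizer (X : Set G) →
      (¬ ∀ a ∈ P, ∀ b ∈ P, Commute a b) → ∀ u ∈ coreU t, ∀ x ∈ X, Commute u x) :
    ∃ (D : Subgroup G) (y x z : G), MixedExtraspecial p t r y x z D := by
  have hrC : r ∈ centralizer ({t} : Set G) := h.fourV_le_centralizer_t (GWKlein.right_mem_fourV t r)
  have hPcen : ∀ {a : G}, a ∈ P → Commute r a → a ∈ coreW t r := fun {a} ha hc =>
    h.mem_coreW.2 ⟨GWKlein.commute_of_mem_coreU (hPU ha), hc.symm, h.odd_orderOf (hPU ha)⟩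
  -- the elements of order dividing `p` of the second centre
  let D : Subgroup G :=
    { carrier := {a | a ∈ P ∧ a ^ p = 1 ∧ ∀ g ∈ P, ∀ k ∈ P, Commute ⁅a, g⁆ k}
      one_mem' := ⟨one_mem P, one_pow p, fun g _ k _ => by simp⟩
      mul_mem' := fun {a b} ha hb => by
        refine ⟨mul_mem ha.1 hb.1, ?_, fun g hg k hk => ?_⟩
        · rw [PGroup.mul_pow_prime_eq Fact.out hp (hb.2.2 a ha.1 a ha.1).symm (hb.2.2 a ha.1 b hb.1).symm,
            ha.2.1, hb.2.1, one_mul]
          rw [← PGroup.commutator_pow_left (hb.2.2 a ha.1 b hb.1).symm, hb.2.1, commutatorElement_one_left]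
        · rw [commutatorElement_mul_left_eq_conj_mul,
            show a * ⁅b, g⁆ * a⁻¹ = ⁅b, g⁆ by rw [← (hb.2.2 g hg a ha.1).eq, mul_inv_cancel_right]]
          exact (hb.2.2 g hg k hk).mul_left (ha.2.2 g hg k hk)
      inv_mem' := fun {a} ha => by
        refine ⟨inv_mem ha.1, by rw [inv_pow, ha.2.1, inv_one], fun g hg k hk => ?_⟩
        have e : ⁅a⁻¹, g⁆ = ⁅a, g⁆⁻¹ := by
          have h1 : a⁻¹ * ⁅a, g⁆⁻¹ * a = ⁅a, g⁆⁻¹ := by
            rw [mul_assoc, ((ha.2.2 g hg a ha.1).inv_left).eq, inv_mul_cancel_left]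
          rw [← h1, commutatorElement_def, commutatorElement_def]
          group
        rw [e]
        exact (ha.2.2 g hg k hk).inv_left }
  have hDP : D ≤ P := fun a ha => ha.1
  have hDn : centralizer ({t} : Set G) ≤ normalizer (D : Set G) := fun c hc =>
    Coprime.mem_normalizer_of_forall fun a ha => by
      have hcP := mem_normalizer_iff.1 (hPn hc)
      refine ⟨(hcP a).1 ha.1, by rw [conj_pow, ha.2.1]; group, fun g hg k hk => ?_⟩
      have hg' := (hcP (c⁻¹ * g * c)).2 (by rw [show c * (c⁻¹ * g * c) * c⁻¹ = g by group]; exact hg)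
      have hk' := (hcP (c⁻¹ * k * c)).2 (by rw [show c * (c⁻¹ * k * c) * c⁻¹ = k by group]; exact hk)
      have := (ha.2.2 _ hg' _ hk').map (MulAut.conj c)
      simpa [commutatorElement_def, mul_assoc] using this
  have hrD : r ∈ normalizer (D : Set G) := hDn hrC
  -- `P` is not abelian
  have hPnab : ¬ ∀ a ∈ P, ∀ b ∈ P, Commute a b := by
    intro hab
    have hDe : Cfsg.IsElementaryAbelian p D :=
      ⟨⟨⟨fun a b => Subtype.ext (hab _ a.2.1 _ b.2.1).eq⟩⟩, fun a ha => ha.2.1⟩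
    obtain ⟨v, hv, hvr⟩ := hPr
    refine hvr (inverts_of_fixed_eq_one h.mul_self_r (hPn hrC) (fun a ha hc => ?_) v hv)
    by_contra ha1
    obtain ⟨i, hi⟩ := IsPGroup.iff_orderOf.1 hPp ⟨a, ha⟩
    rw [Subgroup.orderOf_mk] at hi
    obtain ⟨j, rfl⟩ : ∃ j, i = j + 1 := ⟨i - 1, by
      rcases i with _ | i
      · exact absurd (orderOf_eq_one_iff.1 (by rw [hi, pow_zero])) ha1
      · omega⟩
    have hb : (a ^ p ^ j) ^ p = 1 := by rw [← pow_mul, ← pow_succ, ← hi, pow_orderOf_eq_one]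
    have hbD : a ^ p ^ j ∈ D := ⟨pow_mem ha _, hb, fun g hg k _ => by
      rw [commutatorElement_eq_one_iff_commute.2 (hab _ (pow_mem ha _) g hg)]
      exact Commute.one_left k⟩
    have h1 := eq_one_of_fixed_inverted hp hb (hc.pow_right _) (hinv D hDe hDP hDn _ hbD)
    have h2 := Nat.le_of_dvd (by have := (Fact.out : p.Prime).pos; positivity)
      (hi ▸ orderOf_dvd_of_pow_eq_one h1)
    exact absurd ((Nat.pow_le_pow_iff_right (Fact.out : p.Prime).one_lt).1 h2) (by omega)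
  -- the cyclic groups of inverted elements
  have hfix : ∃ a ∈ P, a ≠ 1 ∧ Commute r a := by
    by_contra! hc
    obtain ⟨v, hv, hvr⟩ := hPr
    exact hvr (inverts_of_fixed_eq_one h.mul_self_r (hPn hrC) (fun a ha hca => by_contra fun h1 => hc a ha h1 hca) v hv)
  have hline : ∀ y ∈ P, y ≠ 1 → Commute r y → ∃ T : Subgroup G, IsCyclic T ∧
      ∀ x, x ∈ coreU t → Commute x y → r * x * r⁻¹ = x⁻¹ → x ∈ T := by
    intro y hy hy1 hyr
    obtain ⟨i, hi⟩ := IsPGroup.iff_orderOf.1 hPp ⟨y, hy⟩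
    rw [Subgroup.orderOf_mk] at hi
    have hpp : IsPrimePow (orderOf y) := by
      rw [hi]
      refine (Fact.out : p.Prime).isPrimePow.pow ?_
      rintro rfl
      exact hy1 (orderOf_eq_one_iff.1 (by rw [hi, pow_zero]))
    obtain ⟨T, _, _, _, _, hT, hmem, -⟩ := hcs y (hPcen hy hyr) hpp hy1
    exact ⟨T, hT, fun x h1 h2 h3 => (hmem x).2 ⟨h1, h2, h3⟩⟩
  have hcard : ∀ {A T : Subgroup G}, IsCyclic T → A ≤ T → (∀ a ∈ A, a ^ p = 1) → Nat.card A ∣ p := by
    intro A T hT hAT hexp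
    haveI : IsCyclic A := isCyclic_of_injective (inclusion hAT) (inclusion_injective hAT)
    rw [← IsCyclic.exponent_eq_card]
    exact Monoid.exponent_dvd_of_forall_pow_eq_one fun a => Subtype.ext (hexp a a.2)
  have hsmall : ∀ X : Subgroup G, Cfsg.IsElementaryAbelian p X → X ≤ P →
      centralizer ({t} : Set G) ≤ normalizer (X : Set G) → Nat.card X ∣ p := by
    intro X hX hXP hXn
    obtain ⟨y, hy, hy1, hyr⟩ := hfix
    obtain ⟨T, hT, hTmem⟩ := hline y hy hy1 hyr
    exact hcard hT (fun x hx => hTmem x (hPU (hXP hx)) (hcent X hX hXP hXn hPnab y (hPU hy) x hx).symm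
      (hinv X hX hXP hXn x hx)) hX.2
  -- `D` is not abelian
  have hDnab : ¬ ∀ a ∈ D, ∀ b ∈ D, Commute a b := by
    intro hab
    have h1 := hsmall D ⟨⟨⟨fun a b => Subtype.ext (hab _ a.2 _ b.2).eq⟩⟩, fun a ha => ha.2.1⟩ hDP hDn
    have hPc : ¬ IsCyclic (⊤ : Subgroup P) := fun hc => hPnab fun a ha b hb =>
      show a * b = b * a from by
        haveI : IsCyclic P := topEquiv.isCyclic.1 hc
        exact congrArg Subtype.val (IsCyclic.commGroup.mul_comm (⟨a, ha⟩ : P) ⟨b, hb⟩)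
    obtain ⟨E, -, hEn, hE, hEc⟩ := PGroup.exists_normal_elementary_sq hp hPp hPc
    haveI := hEn
    have hEbot : E ≠ ⊥ := fun e => by
      rw [e, card_bot] at hEc
      exact absurd hEc (Nat.one_lt_pow two_ne_zero (Fact.out : p.Prime).one_lt).ne
    have hlt := PGroup.commutator_lt_of_ne_bot hPp hEbot
    have hEZ : ⁅E, (⊤ : Subgroup P)⁆ ≤ center P := by
      obtain ⟨i, hi, hi'⟩ := (Nat.dvd_prime_pow Fact.out).1 (hEc ▸ card_dvd_of_le hlt.le)
      rcases (by omega : i = 0 ∨ i = 1 ∨ i = 2) with rfl | rfl | rfl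
      · rw [show ⁅E, (⊤ : Subgroup P)⁆ = ⊥ from eq_bot_of_card_eq _ (by rw [hi', pow_zero])]; exact bot_le
      · exact PGroup.le_center_of_card_eq hPp (by rw [hi', pow_one])
      · exact absurd (eq_of_le_of_card_ge hlt.le (by rw [hi', hEc])) hlt.ne
    have hED : E.map P.subtype ≤ D := by
      rintro _ ⟨e, he, rfl⟩
      refine ⟨e.2, by simpa using congrArg Subtype.val (hE.2 e he), fun g hg k hk => ?_⟩
      have := mem_center_iff.1 (hEZ (commutator_mem_commutator he (mem_top (⟨g, hg⟩ : P)))) ⟨k, hk⟩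
      exact (congrArg Subtype.val this).symm
    have h2 := Nat.le_of_dvd (Fact.out : p.Prime).pos ((card_dvd_of_le hED).trans h1)
    rw [card_map_of_injective P.subtype_injective, hEc] at h2
    exact absurd h2 (not_le.2 (by nlinarith [(Fact.out : p.Prime).two_le]))
  -- commutators in `D` are central of order dividing `p` and inverted
  set Z := D ⊓ centralizer (D : Set G) with hZdef
  have hZe : Cfsg.IsElementaryAbelian p Z :=
    ⟨⟨⟨fun a b => Subtype.ext (mem_centralizer_iff.1 (mem_inf.1 b.2).2 a (mem_inf.1 a.2).1)⟩⟩,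
      fun a ha => (mem_inf.1 ha).1.2.1⟩
  have hZP : Z ≤ P := inf_le_left.trans hDP
  have hZn : centralizer ({t} : Set G) ≤ normalizer (Z : Set G) := fun c hc =>
    Coprime.mem_normalizer_of_forall fun a ha => by
      obtain ⟨haD, haC⟩ := mem_inf.1 ha
      refine mem_inf.2 ⟨(mem_normalizer_iff.1 (hDn hc) a).1 haD, mem_centralizer_iff.2 fun d hd => ?_⟩
      have hd' : c⁻¹ * d * c ∈ D := by
        have := (mem_normalizer_iff.1 (inv_mem (hDn hc)) d).1 hd
        rwa [inv_inv] at this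
      have e := mem_centralizer_iff.1 haC _ hd'
      calc d * (c * a * c⁻¹) = c * (c⁻¹ * d * c * a) * c⁻¹ := by group
        _ = c * a * c⁻¹ * d := by rw [e]; group
  have hcomm : ∀ a ∈ D, ∀ b ∈ D, ⁅a, b⁆ ∈ Z := by
    intro a ha b hb
    refine mem_inf.2 ⟨?_, mem_centralizer_iff.2 fun d hd => (ha.2.2 b hb.1 d hd.1).eq.symm⟩
    rw [commutatorElement_def]
    exact mul_mem (mul_mem (mul_mem ha hb) (inv_mem ha)) (inv_mem hb)
  have hcmr : ∀ a ∈ D, ∀ b ∈ D, ∀ c ∈ D, ⁅a, b * c⁆ = ⁅a, b⁆ * ⁅a, c⁆ := by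
    intro a ha b hb c hc
    rw [commutatorElement_mul_right_eq_mul_conj]
    have e : Commute ⁅a, c⁆ b := ha.2.2 c hc.1 b hb.1
    rw [mul_assoc ⁅a, b⁆ b, ← e.eq, ← mul_assoc, mul_inv_cancel_right]
  have hcml : ∀ a ∈ D, ∀ b ∈ D, ∀ c ∈ D, ⁅a * b, c⁆ = ⁅a, c⁆ * ⁅b, c⁆ := by
    intro a ha b hb c hc
    rw [commutatorElement_mul_left_eq_conj_mul,
      show a * ⁅b, c⁆ * a⁻¹ = ⁅b, c⁆ by rw [← (hb.2.2 c hc.1 a ha.1).eq, mul_inv_cancel_right]]
    exact (hb.2.2 c hc.1 _ (hDP (mem_inf.1 (hcomm a ha c hc)).1)).eq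
  have hcir : ∀ a ∈ D, ∀ b ∈ D, ⁅a, b⁻¹⁆ = ⁅a, b⁆⁻¹ := fun a ha b hb =>
    (inv_eq_of_mul_eq_one_right (by rw [← hcmr a ha b hb _ (inv_mem hb), mul_inv_cancel,
      commutatorElement_one_right])).symm
  have hcil : ∀ a ∈ D, ∀ b ∈ D, ⁅a⁻¹, b⁆ = ⁅a, b⁆⁻¹ := fun a ha b hb =>
    (inv_eq_of_mul_eq_one_right (by rw [← hcml a ha _ (inv_mem ha) b hb, mul_inv_cancel,
      commutatorElement_one_left])).symm
  have hconj : ∀ a b : G, r * ⁅a, b⁆ * r⁻¹ = ⁅r * a * r⁻¹, r * b * r⁻¹⁆ := fun a b => by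
    rw [commutatorElement_def, commutatorElement_def]; group
  have hZ1 : ∀ a ∈ D, ∀ b ∈ D, Commute r ⁅a, b⁆ → ⁅a, b⁆ = 1 := fun a ha b hb hc =>
    eq_one_of_fixed_inverted hp (hZe.2 _ (hcomm a ha b hb)) hc (hinv Z hZe hZP hZn _ (hcomm a ha b hb))
  have hfixed : ∀ a ∈ D, ∀ b ∈ D, Commute r a → Commute r b → Commute a b := fun a ha b hb hra hrb =>
    commutatorElement_eq_one_iff_commute.1 <| hZ1 a ha b hb <| mul_inv_eq_iff_eq_mul.1 (by
      rw [hconj, hra.eq, mul_inv_cancel_right, hrb.eq, mul_inv_cancel_right])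
  have hinverted : ∀ a ∈ D, ∀ b ∈ D, r * a * r⁻¹ = a⁻¹ → r * b * r⁻¹ = b⁻¹ → Commute a b :=
    fun a ha b hb hra hrb =>
      commutatorElement_eq_one_iff_commute.1 <| hZ1 a ha b hb <| mul_inv_eq_iff_eq_mul.1 (by
        rw [hconj, hra, hrb, hcil a ha _ (inv_mem hb), hcir a ha b hb, inv_inv])
  -- every element is a fixed one times an inverted one
  have hdec : ∀ d ∈ D, ∃ f ∈ D, ∃ i ∈ D, Commute r f ∧ r * i * r⁻¹ = i⁻¹ ∧ d = f * i := by
    intro d hd
    obtain ⟨k, hk⟩ := (Fact.out : p.Prime).odd_of_ne_two hp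
    set c := d⁻¹ * (r * d * r⁻¹)
    have hcD : c ∈ D := mul_mem (inv_mem hd) ((mem_normalizer_iff.1 hrD d).1 hd)
    have hrc : r * c * r⁻¹ = c⁻¹ := by
      simp only [c, mul_inv_rev, inv_inv, Involution.inv_eq h.order_r]
      calc r * (d⁻¹ * (r * d * r)) * r = r * d⁻¹ * r * d * (r * r) := by group
        _ = r * (d⁻¹ * r) * d := by rw [h.mul_self_r]; group
        _ = _ := by group
    have hp' : c ^ p = 1 := hcD.2.1
    have hh : c ^ (k + 1) * c ^ (k + 1) = c := by
      rw [← pow_add, show k + 1 + (k + 1) = p + 1 by omega, pow_succ, hp', one_mul]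
    have hri : r * c ^ (k + 1) * r⁻¹ = (c ^ (k + 1))⁻¹ := by rw [← conj_pow, hrc, inv_pow]
    refine ⟨d * c ^ (k + 1), mul_mem hd (pow_mem hcD _), (c ^ (k + 1))⁻¹, inv_mem (pow_mem hcD _), ?_, ?_,
      by group⟩
    · refine mul_inv_eq_iff_eq_mul.1 ?_
      rw [← _root_.conj_mul, hri, show r * d * r⁻¹ = d * c by simp only [c]; group]
      nth_rw 1 [← hh]
      group
    · rw [← conj_inv, hri]
  -- the fixed element, the inverted ones
  obtain ⟨y, hyD, hy1, hyr⟩ : ∃ y ∈ D, y ≠ 1 ∧ Commute r y := by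
    by_contra! hc
    have hi := inverts_of_fixed_eq_one h.mul_self_r hrD fun a ha hca => by_contra fun h1 => hc a ha h1 hca
    exact hDnab fun a ha b hb => hinverted a ha b hb (hi a ha) (hi b hb)
  have hyZ : y ∉ Z := fun hm => hy1 (eq_one_of_fixed_inverted hp hyD.2.1 hyr (hinv Z hZe hZP hZn y hm))
  obtain ⟨x, hxD, hxr, hxy⟩ : ∃ x ∈ D, r * x * r⁻¹ = x⁻¹ ∧ ¬ Commute y x := by
    by_contra! hc
    refine hyZ (mem_inf.2 ⟨hyD, mem_centralizer_iff.2 fun d hd => ?_⟩)
    obtain ⟨f, hf, i, hi, hrf, hri, rfl⟩ := hdec d hd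
    exact ((hfixed y hyD f hf hyr hrf).mul_right (hc i hi hri)).eq.symm
  set z := ⁅y, x⁆ with hzdef
  have hzZ : z ∈ Z := hcomm y hyD x hxD
  have hz1 : z ≠ 1 := fun e => hxy (commutatorElement_eq_one_iff_commute.1 e)
  have hzr : r * z * r⁻¹ = z⁻¹ := hinv Z hZe hZP hZn z hzZ
  have hzgen : zpowers z = Z := by
    refine eq_of_le_of_card_ge (zpowers_le.2 hzZ) ?_
    rw [Nat.card_zpowers, orderOf_eq_prime (hZe.2 z hzZ) hz1]
    exact Nat.le_of_dvd (Fact.out : p.Prime).pos (hsmall Z hZe hZP hZn)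
  have hzo : orderOf z = p := orderOf_eq_prime (hZe.2 z hzZ) hz1
  -- inverted elements commuting with a fixed one lie in `⟨z⟩`
  have hkey : ∀ f ∈ D, f ≠ 1 → Commute r f → ∀ i ∈ D, r * i * r⁻¹ = i⁻¹ → Commute i f → i ∈ zpowers z := by
    intro f hf hf1 hrf i hi hri hif
    obtain ⟨T, hT, hTm⟩ := hline f (hDP hf) hf1 hrf
    have hle : closure ({z, i} : Set G) ≤ T ⊓ D := (closure_le _).2 (by
      rintro w (rfl | rfl)
      · exact mem_inf.2 ⟨hTm z (hPU (hZP hzZ)) (mem_centralizer_iff.1 (mem_inf.1 hzZ).2 f hf).symm hzr,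
          (mem_inf.1 hzZ).1⟩
      · exact mem_inf.2 ⟨hTm w (hPU (hDP hi)) hif hri, hi⟩)
    have h1 := hcard hT (hle.trans inf_le_left) fun a ha => (mem_inf.1 (hle ha)).2.2.1
    have h2 : zpowers z = closure ({z, i} : Set G) := eq_of_le_of_card_ge
      (zpowers_le.2 (subset_closure (Set.mem_insert _ _))) (by
        rw [Nat.card_zpowers, hzo]; exact Nat.le_of_dvd (Fact.out : p.Prime).pos h1)
    rw [h2]
    exact subset_closure (Set.mem_insert_of_mem _ rfl)
  have hpow : ∀ v ∈ Z, ∃ j : ℕ, v = z ^ j := fun v hv => by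
    obtain ⟨j, hj⟩ := mem_powers_iff_mem_zpowers.2 (hzgen.ge hv)
    exact ⟨j, hj.symm⟩
  -- counting
  have hsub : ∀ d ∈ D, ∃ a ∈ zpowers z, ∃ b ∈ zpowers x, ∃ c ∈ zpowers y, c * (a * b) = d := by
    intro d hd
    obtain ⟨f, hf, i, hi, hrf, hri, rfl⟩ := hdec d hd
    obtain ⟨j, hj⟩ := hpow _ (hcomm f hf x hxD)
    obtain ⟨l, hl⟩ := hpow _ (hcomm y hyD i hi)
    have hfy : f = y ^ j := by
      have hg : f * (y ^ j)⁻¹ ∈ D := mul_mem hf (inv_mem (pow_mem hyD j))
      have hgr : Commute r (f * (y ^ j)⁻¹) := hrf.mul_right (hyr.pow_right j).inv_right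
      have hgx : Commute x (f * (y ^ j)⁻¹) := by
        refine (commutatorElement_eq_one_iff_commute.1 ?_).symm
        rw [hcml f hf _ (inv_mem (pow_mem hyD j)) x hxD, hcil _ (pow_mem hyD j) x hxD,
          PGroup.commutator_pow_left (hyD.2.2 x hxD.1 y hyD.1).symm, hj, ← hzdef, mul_inv_cancel]
      by_contra hne
      exact hxy (commutatorElement_eq_one_iff_commute.1 (by
        have hxz := hkey _ hg (fun e => hne (mul_inv_eq_one.1 e)) hgr x hxD hxr hgx
        rw [hzgen] at hxz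
        rw [commutatorElement_eq_one_iff_commute]
        exact (mem_centralizer_iff.1 (mem_inf.1 hxz).2 y hyD : y * x = x * y)))
    have hiz : i * (x ^ l)⁻¹ ∈ zpowers z := by
      refine hkey y hyD hy1 hyr _ (mul_mem hi (inv_mem (pow_mem hxD l))) ?_ ?_
      · rw [← _root_.conj_mul, hri, ← conj_inv, ← conj_pow, hxr, inv_pow, inv_inv, mul_inv_rev, inv_inv]
        exact ((hinverted i hi x hxD hri hxr).inv_left.pow_right l).eq
      · refine (commutatorElement_eq_one_iff_commute.1 ?_).symm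
        rw [hcmr y hyD i hi _ (inv_mem (pow_mem hxD l)), hcir y hyD _ (pow_mem hxD l),
          PGroup.commutator_pow_right (hyD.2.2 x hxD.1 x hxD.1).symm, hl, ← hzdef, mul_inv_cancel]
    exact ⟨_, hiz, x ^ l, pow_mem (mem_zpowers x) l, y ^ j, pow_mem (mem_zpowers y) j, by rw [← hfy]; group⟩
  have hub : Nat.card D ≤ p ^ 3 := by
    have hzm : zpowers z ≤ D := zpowers_le.2 (mem_inf.1 hzZ).1
    have h1 := Nat.card_le_card_of_surjective
      (fun w : zpowers z × zpowers x × zpowers y =>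
        (⟨w.2.2 * (w.1 * w.2.1), mul_mem (zpowers_le.2 hyD w.2.2.2)
          (mul_mem (hzm w.1.2) (zpowers_le.2 hxD w.2.1.2))⟩ : D)) (by
        rintro ⟨d, hd⟩
        obtain ⟨a, ha, b, hb, c, hc, rfl⟩ := hsub d hd
        exact ⟨(⟨a, ha⟩, ⟨b, hb⟩, ⟨c, hc⟩), rfl⟩)
    rw [Nat.card_prod, Nat.card_prod, Nat.card_zpowers, Nat.card_zpowers, Nat.card_zpowers] at h1
    refine h1.trans ?_
    have hle : ∀ w ∈ D, orderOf w ≤ p := fun w hw =>
      Nat.le_of_dvd (Fact.out : p.Prime).pos (orderOf_dvd_of_pow_eq_one hw.2.1)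
    calc orderOf z * (orderOf x * orderOf y) ≤ p * (p * p) :=
          Nat.mul_le_mul (hle z (mem_inf.1 hzZ).1) (Nat.mul_le_mul (hle x hxD) (hle y hyD))
      _ = p ^ 3 := by ring
  have hDc : Nat.card D = p ^ 3 := by
    obtain ⟨i, hi⟩ := (hPp.to_le hDP).exists_card_eq
    rw [hi] at hub ⊢
    have h3 : i ≤ 3 := (Nat.pow_le_pow_iff_right (Fact.out : p.Prime).one_lt).1 hub
    rcases (by omega : i = 0 ∨ i = 1 ∨ i = 2 ∨ i = 3) with rfl | rfl | rfl | rfl
    · have e : D = ⊥ := eq_bot_of_card_eq D (by rw [hi, pow_zero])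
      exact absurd (mem_bot.1 (e ▸ hyD)) hy1
    · exfalso
      haveI : IsCyclic D := isCyclic_of_prime_card (p := p) (by rw [hi, pow_one])
      exact hDnab fun a ha b hb => congrArg Subtype.val (IsCyclic.commGroup.mul_comm (⟨a, ha⟩ : D) ⟨b, hb⟩)
    · exfalso
      haveI := PGroup.isMulCommutative_of_card_sq (p := p) hi
      exact hDnab fun a ha b hb => congrArg Subtype.val (mul_comm' (⟨a, ha⟩ : D) ⟨b, hb⟩)
    · rfl
  exact ⟨D, y, x, z, ⟨Fact.out, hp, hDc, fun d hd => hd.2.1, hDP.trans hPU, hDn, hyD, hxD,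
    (commutatorElement_def y x).symm, hz1, hyr, hxr, hzr⟩⟩

/-- (D): one of the two classes of reflections has a mixed normal subgroup of order `p ^ 2` or an
extraspecial one of order `p ^ 3`. -/
theorem exists_mixed (B : CaseB n t r σ)
    (hE : ∀ (p : ℕ) (X : Subgroup G), p.Prime → Cfsg.IsElementaryAbelian p X → X ≤ coreU t →
      centralizer ({t} : Set G) ≤ normalizer (X : Set G) → (∃ x ∈ X, r * x * r⁻¹ ≠ x⁻¹) →
      ∃ (X' : Subgroup G) (y l : G), MixedPair p t r y l X')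
    (hE' : ∀ (p : ℕ) (X : Subgroup G), p.Prime → Cfsg.IsElementaryAbelian p X → X ≤ coreU t →
      centralizer ({t} : Set G) ≤ normalizer (X : Set G) → (∃ x ∈ X, r * σ * x * (r * σ)⁻¹ ≠ x⁻¹) →
      ∃ (X' : Subgroup G) (y l : G), MixedPair p t (r * σ) y l X') :
    (∃ (p : ℕ) (X : Subgroup G) (y l : G), MixedPair p t r y l X ∨ MixedPair p t (r * σ) y l X) ∨
      ∃ (p : ℕ) (D : Subgroup G) (y x z : G),
        MixedExtraspecial p t r y x z D ∨ MixedExtraspecial p t (r * σ) y x z D := by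
  by_cases hmix : ∃ (p : ℕ) (X : Subgroup G) (y l : G), MixedPair p t r y l X ∨ MixedPair p t (r * σ) y l X
  · exact Or.inl hmix
  right
  have h := B.ctx.hyp
  obtain ⟨p, hp, v, hv, hvne⟩ := exists_core_not_inverted h B.noTheta B.nontrivial
  haveI := Fact.mk hp
  set P := Products.coreIn p (coreU t)
  have hPp : IsPGroup p P := Products.isPGroup_coreIn p _
  have hPU : P ≤ coreU t := Products.coreIn_le p _
  have hPn := centralizer_le_normalizer_core t p
  have hp2 : p ≠ 2 := by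
    rintro rfl
    have hv1 : v = 1 := by
      obtain ⟨i, hi⟩ := IsPGroup.iff_orderOf.1 hPp ⟨v, hv⟩
      rw [Subgroup.orderOf_mk] at hi
      have ho := h.odd_orderOf (hPU hv)
      rcases i with _ | i
      · exact orderOf_eq_one_iff.1 (by rw [hi, pow_zero])
      · rw [hi, pow_succ] at ho
        exact absurd ho (Nat.not_odd_iff_even.2 (even_iff_two_dvd.2 (dvd_mul_left 2 _)))
    rcases hvne with e | e <;> exact e (by rw [hv1]; group)
  have inv1 : ∀ X : Subgroup G, Cfsg.IsElementaryAbelian p X → X ≤ P →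
      centralizer ({t} : Set G) ≤ normalizer (X : Set G) → ∀ x ∈ X, r * x * r⁻¹ = x⁻¹ := by
    intro X hX hXP hXn
    by_contra! hc
    obtain ⟨X', y, l, hm⟩ := hE p X hp hX (hXP.trans hPU) hXn hc
    exact hmix ⟨p, X', y, l, Or.inl hm⟩
  have inv2 : ∀ X : Subgroup G, Cfsg.IsElementaryAbelian p X → X ≤ P →
      centralizer ({t} : Set G) ≤ normalizer (X : Set G) → ∀ x ∈ X, r * σ * x * (r * σ)⁻¹ = x⁻¹ := by
    intro X hX hXP hXn
    by_contra! hc
    obtain ⟨X', y, l, hm⟩ := hE' p X hp hX (hXP.trans hPU) hXn hc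
    exact hmix ⟨p, X', y, l, Or.inr hm⟩
  have hcent : ∀ X : Subgroup G, Cfsg.IsElementaryAbelian p X → X ≤ P →
      centralizer ({t} : Set G) ≤ normalizer (X : Set G) →
      (¬ ∀ a ∈ P, ∀ b ∈ P, Commute a b) → ∀ u ∈ coreU t, ∀ x ∈ X, Commute u x :=
    fun X hX hXP hXn hnab => commute_of_inverted h B.noTheta
      (fun hab => hnab fun a ha b hb => hab a (hPU ha) b (hPU hb)) hXn (inv1 X hX hXP hXn) (inv2 X hX hXP hXn)
  rcases hvne with hvne | hvne
  · obtain ⟨D, y, x, z, hD⟩ :=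
      mixedExtraspecial_of_core h B.centShape hp2 hPp hPU hPn ⟨v, hv, hvne⟩ inv1 hcent
    exact ⟨p, D, y, x, z, Or.inl hD⟩
  · obtain ⟨D, y, x, z, hD⟩ :=
      mixedExtraspecial_of_core h.swap B.centShape' hp2 hPp hPU hPn ⟨v, hv, hvne⟩ inv2 hcent
    exact ⟨p, D, y, x, z, Or.inr hD⟩

end Cfsg.Agent.GWDihedral
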