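import Cfsg.Agent.Lib.GWDihedral.Steps
import Cfsg.Agent.Lib.GWDihedral.SidesBasic
import Cfsg.Agent.Lib.Involution.KleinFour

/-!
# Gorenstein-Walter, dihedral Sylow subgroups of order at least eight: one class of involutions in `C(y)`

* `DHyp.exists_conj_refl` : an involution of `C(t)` other than `t` is conjugate in `C(t)` to `r` or `r * σ`
* `DHyp.conj_of_commute` : commuting involutions of `C(y)` are conjugate in `C(y)`
* `oneClass` : fusion of both four-groups gives `OneClass`
-/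

set_option autoImplicit false
set_option linter.unusedSectionVars false
set_option linter.style.haveILetI false

namespace Cfsg.Agent.GWDihedral

open Subgroup
open Cfsg.Agent.GWKlein (coreU coreW fourV)

variable {G : Type*} [Group G] [Finite G] {n : ℕ} {t r σ : G}

namespace DHyp

/-- An involution of `C(t)` other than `t` is conjugate in `C(t)` to one of the two reflections. -/
theorem exists_conj_refl (h : DHyp n t r σ) {j : G} (hj : orderOf j = 2) (hjt : Commute j t) (hne : j ≠ t) :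
    ∃ c, Commute c t ∧ (c * j * c⁻¹ = r ∨ c * j * c⁻¹ = r * σ) := by
  haveI := Fact.mk Nat.prime_two
  obtain ⟨c, hct, hc⟩ := h.exists_conj_le (T := zpowers j)
    (IsPGroup.of_card (n := 1) (by rw [Nat.card_zpowers, hj, pow_one]))
    (zpowers_le.2 (mem_centralizer_t.2 hjt))
  have ho : orderOf (c * j * c⁻¹) = 2 := (Involution.orderOf_conj c j).trans hj
  rcases h.mem_sylow_cases (hc j (mem_zpowers j)) with ⟨k, hk⟩ | ⟨k, hk⟩
  · refine absurd ?_ hne
    have e : c * j * c⁻¹ = c * t * c⁻¹ := by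
      rw [hk, h.eq_t_of_rotation (hk ▸ ho), hct.eq, mul_inv_cancel_right]
    exact conj_injective e
  · have key : ∀ m : ℕ, σ ^ m * r * σ ^ m = r := fun m => by
      rw [mul_assoc, mul_inv_eq_iff_eq_mul.1 (Involution.inverts_pow h.conj_σ m), mul_inv_cancel_left]
    rcases Nat.even_or_odd k with ⟨m, rfl⟩ | ⟨m, rfl⟩
    · refine ⟨σ ^ m * c, (h.comm_t_σ.symm.pow_left m).mul_left hct, Or.inl ?_⟩
      calc σ ^ m * c * j * (σ ^ m * c)⁻¹ = σ ^ m * (c * j * c⁻¹) * (σ ^ m)⁻¹ := by group
        _ = σ ^ m * r * σ ^ m := by rw [hk, pow_add]; group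
        _ = r := key m
    · refine ⟨σ ^ m * c, (h.comm_t_σ.symm.pow_left m).mul_left hct, Or.inr ?_⟩
      calc σ ^ m * c * j * (σ ^ m * c)⁻¹ = σ ^ m * (c * j * c⁻¹) * (σ ^ m)⁻¹ := by group
        _ = σ ^ m * r * σ ^ m * σ := by rw [hk, pow_succ, two_mul, pow_add]; group
        _ = r * σ := by rw [key m]

/-- Commuting involutions of the centraliser of an element of odd prime power order are conjugate in it. -/
theorem conj_of_commute [IsSimpleGroup G] (h : DHyp n t r σ) (h1 : PrimePowFused t r)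
    (h2 : PrimePowFused t (r * σ)) {y z j : G} (hy : IsPrimePow (orderOf y)) (hyo : Odd (orderOf y))
    (hz : orderOf z = 2) (hj : orderOf j = 2) (hjz : Commute j z) (hzy : Commute z y) (hjy : Commute j y) :
    ∃ c, Commute c y ∧ c * z * c⁻¹ = j := by
  by_cases hne : j = z
  · exact ⟨1, Commute.one_left y, by rw [hne]; group⟩
  obtain ⟨g, hg⟩ := isConj_iff.1 (h.isConj_t hz).symm
  have hjt : Commute (g * j * g⁻¹) t := hg ▸ hjz.map (MulAut.conj g)
  obtain ⟨u, hut, hu⟩ := h.exists_conj_refl ((Involution.orderOf_conj g j).trans hj) hjt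
    fun e => hne (conj_injective (e.trans hg.symm))
  have hez : u * g * z * (u * g)⁻¹ = t := by
    rw [show u * g * z * (u * g)⁻¹ = u * (g * z * g⁻¹) * u⁻¹ by group, hg, hut.eq, mul_inv_cancel_right]
  have key : ∀ r' σ' : G, DHyp n t r' σ' → PrimePowFused t r' → u * (g * j * g⁻¹) * u⁻¹ = r' →
      ∃ c, Commute c y ∧ c * z * c⁻¹ = j := by
    intro r' σ' h' hf hr'
    replace hr' : u * g * j * (u * g)⁻¹ = r' := by rw [← hr']; group
    have hyW : u * g * y * (u * g)⁻¹ ∈ coreW t r' := h'.mem_coreW.2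
      ⟨hez ▸ hzy.symm.map (MulAut.conj (u * g)), hr' ▸ hjy.symm.map (MulAut.conj (u * g)), by
        rw [Involution.orderOf_conj]; exact hyo⟩
    obtain ⟨s, ⟨hs, -⟩, hsy⟩ := hf _ hyW (by rwa [Involution.orderOf_conj])
    refine ⟨(u * g)⁻¹ * s * (u * g), ?_, ?_⟩
    · simpa [MulAut.conj_apply, mul_assoc] using hsy.map (MulAut.conj (u * g)⁻¹)
    · calc (u * g)⁻¹ * s * (u * g) * z * ((u * g)⁻¹ * s * (u * g))⁻¹
          = (u * g)⁻¹ * (s * (u * g * z * (u * g)⁻¹) * s⁻¹) * (u * g) := by group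
        _ = j := by rw [hez, hs, ← hr']; group
  rcases hu with hu | hu
  · exact key r σ h h1 hu
  · exact key (r * σ) σ⁻¹ h.swap h2 hu

end DHyp

/-- If both four-groups are fused in the centralisers of their prime power elements, the centraliser of a
prime power element of `U` has one class of involutions. -/
theorem oneClass [IsSimpleGroup G] (c : Ctx n t r σ) (h1 : PrimePowFused t r)
    (h2 : PrimePowFused t (r * σ)) : OneClass t := by
  intro y hyU hy i hi hiy
  haveI := Fact.mk Nat.prime_two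
  have h := c.hyp
  have hyo := h.odd_orderOf hyU
  set C := centralizer ({y} : Set G)
  have mem : ∀ {x : G}, x ∈ C ↔ Commute x y := mem_centralizer_singleton_iff
  have htC : t ∈ C := mem.2 (GWKlein.commute_of_mem_coreU hyU).symm
  have htp : IsPGroup 2 (zpowers (⟨t, htC⟩ : C)) :=
    IsPGroup.of_card (n := 1) (by rw [Nat.card_zpowers, Subgroup.orderOf_mk, h.order_t, pow_one])
  obtain ⟨P, hP⟩ := htp.exists_le_sylow
  have htP : (⟨t, htC⟩ : C) ∈ (P : Subgroup C) := hP (mem_zpowers _)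
  obtain ⟨d, hd⟩ := Involution.exists_conj_mem_sylow P (t := (⟨i, mem.2 hiy⟩ : C))
    (by rw [Subgroup.orderOf_mk, hi])
  -- a central involution of the Sylow subgroup
  haveI : Nontrivial (P : Subgroup C) := ⟨⟨⟨_, htP⟩, 1, fun e => h.ne_one_t
    (congrArg (fun x : (P : Subgroup C) => ((x : C) : G)) e)⟩⟩
  haveI : Nontrivial (center (P : Subgroup C)) := P.isPGroup'.center_nontrivial
  obtain ⟨k, hk0, hk⟩ := (P.isPGroup'.to_subgroup (center (P : Subgroup C))).nontrivial_iff_card.1 ‹_›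
  obtain ⟨z, hz⟩ := exists_prime_orderOf_dvd_card' (G := center (P : Subgroup C)) 2
    (hk ▸ dvd_pow_self 2 hk0.ne')
  have hzo : orderOf (((z : (P : Subgroup C)) : C) : G) = 2 := by
    rw [Subgroup.orderOf_coe, Subgroup.orderOf_coe, Subgroup.orderOf_coe, hz]
  have fus : ∀ x : C, x ∈ (P : Subgroup C) → orderOf (x : G) = 2 →
      ∃ e, Commute e y ∧ e * (((z : (P : Subgroup C)) : C) : G) * e⁻¹ = x := fun x hx hxo =>
    h.conj_of_commute h1 h2 hy hyo hzo hxo
      (congrArg (fun w : (P : Subgroup C) => ((w : C) : G)) (mem_center_iff.1 z.2 ⟨x, hx⟩))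
      (mem.1 (z : (P : Subgroup C)).1.2) (mem.1 x.2)
  obtain ⟨a, hay, ha⟩ := fus _ htP h.order_t
  obtain ⟨b, hby, hb⟩ := fus _ hd (by
    rw [Subgroup.orderOf_coe, Involution.orderOf_conj, Subgroup.orderOf_mk, hi])
  refine ⟨(d : G)⁻¹ * b * a⁻¹, (((mem.1 d.2).inv_left).mul_left hby).mul_left hay.inv_left, ?_⟩
  simp only [Subgroup.coe_mul, Subgroup.coe_inv] at ha hb
  calc (d : G)⁻¹ * b * a⁻¹ * t * ((d : G)⁻¹ * b * a⁻¹)⁻¹
      = (d : G)⁻¹ * (b * (a⁻¹ * t * a) * b⁻¹) * d := by group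
    _ = (d : G)⁻¹ * ((d : G) * i * (d : G)⁻¹) * d := by
      rw [← hb, show a⁻¹ * t * a = (((z : (P : Subgroup C)) : C) : G) by rw [← ha]; group]
    _ = i := by group

end Cfsg.Agent.GWDihedral
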