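import Cfsg.Agent.EqLemmas
import Cfsg.Agent.Lib.PSL2.Centralizers
import Cfsg.Agent.Lib.PSL2.KleinCentre
import Cfsg.Agent.Lib.PSL2.Existence
import Cfsg.Agent.Lib.PSL2.Soluble
import Cfsg.Agent.Lib.PSL2.Involutions
import Mathlib.GroupTheory.SpecificGroups.Alternating.Simple

/-!
# Gorenstein-Walter, dihedral Sylow subgroups: facts about `PSL(2,q)` and `A7` (helper64)

`Socle L`: `L` is `PSL(2,q)`, `q > 3` odd, or `A7`.

* `Socle.eq_one_of_commute` : the odd part of `C(a)`, `a` an odd element of `C(u)`, has no element inverted by `u`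
* `Socle.isSimpleGroup`, `Socle.isConj`, `Socle.exists_pair` : simplicity, one class of involutions, a four-group
-/

set_option autoImplicit false
set_option linter.unusedSectionVars false
set_option linter.style.haveILetI false

namespace Cfsg.Agent.GWDihedral

universe v

/-- `L` is `PSL(2,q)` with `q > 3` odd, or `A7`. -/
def Socle (L : Type v) [Group L] : Prop :=
  (∃ (F : Type) (_ : Field F) (_ : Fintype F), Odd (Fintype.card F) ∧ 3 < Fintype.card F ∧
      Nonempty (L ≃* Matrix.ProjectiveSpecialLinearGroup (Fin 2) F)) ∨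
    Nonempty (L ≃* alternatingGroup (Fin 7))

/-- An element of odd order inverted by an element commuting with it is trivial. -/
theorem eq_one_of_inverted_commute {G : Type v} [Group G] {u b : G} (hb : Odd (orderOf b))
    (hi : u * b * u⁻¹ = b⁻¹) (hc : Commute u b) : b = 1 := by
  rw [hc.eq, mul_inv_cancel_right] at hi
  refine orderOf_eq_one_iff.1 (Nat.eq_one_of_dvd_coprimes (Nat.coprime_two_right.2 hb) dvd_rfl ?_)
  exact orderOf_dvd_of_pow_eq_one (by rw [pow_two]; nth_rewrite 1 [hi]; exact inv_mul_cancel b)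

namespace Socle

section Perm

open Equiv Equiv.Perm

variable {α : Type*} [Fintype α] [DecidableEq α]

/-- An element of odd order moving every point of a set of at most four points, invariant under it and
under an involution moving every point of it: the set is empty. -/
theorem eq_empty {a u : Perm α} (ha : Odd (orderOf a)) (hu : u * u = 1) (M : Finset α)
    (haM : ∀ x, a x ∈ M ↔ x ∈ M) (huM : ∀ x, u x ∈ M ↔ x ∈ M) (hafix : ∀ x ∈ M, a x ≠ x)
    (hufix : ∀ x ∈ M, u x ≠ x) (hcard : M.card ≤ 4) : M = ∅ := by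
  by_contra hne
  set a' : Perm {x // x ∈ M} := a.subtypePerm haM
  set u' : Perm {x // x ∈ M} := u.subtypePerm huM
  have h2 : 2 ∣ M.card := by
    have hu' : u' ^ 2 = 1 := Equiv.ext fun x => Subtype.ext (by
      show u (u x.1) = x.1
      rw [← Perm.mul_apply, hu, Perm.one_apply])
    have hs : u'.support = Finset.univ := Finset.eq_univ_of_forall fun x =>
      Perm.mem_support.2 fun e => hufix x.1 x.2 (congrArg Subtype.val e)
    have := two_dvd_card_support hu'
    rwa [hs, Finset.card_univ, Fintype.card_coe] at this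
  have ha' : Odd (orderOf a') := ha.of_dvd_nat (orderOf_dvd_of_pow_eq_one (Equiv.ext fun x => Subtype.ext (by
    rw [Perm.subtypePerm_pow]
    show (a ^ orderOf a) x.1 = x.1
    rw [pow_orderOf_eq_one, Perm.one_apply])))
  have h3 : orderOf a' ∣ 3 := by
    have h1 : orderOf a' ∣ Nat.factorial M.card := by
      have := orderOf_dvd_natCard a'
      rwa [Nat.card_eq_fintype_card, Fintype.card_perm, Fintype.card_coe] at this
    have h4 : orderOf a' ∣ 8 * 3 := h1.trans (Nat.factorial_dvd_factorial hcard)
    exact (Nat.Coprime.pow_right 3 (Nat.coprime_two_right.2 ha')).dvd_of_dvd_mul_left h4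
  have hn3 : ¬ 3 ∣ Fintype.card {x // x ∈ M} := by
    rw [Fintype.card_coe]
    have : M.card ≠ 0 := fun e => hne (Finset.card_eq_zero.1 e)
    omega
  haveI := Fact.mk Nat.prime_three
  obtain ⟨x, hx⟩ := exists_fixed_point_of_prime (n := 1) hn3
    (show a' ^ 3 ^ 1 = 1 from orderOf_dvd_iff_pow_eq_one.1 (by rwa [pow_one]))
  exact hafix x.1 x.2 (congrArg Subtype.val hx)

theorem apply_mem_iff_of_commute {a u : Perm α} (h : Commute a u) (x : α) :
    a x ∈ u.support ↔ x ∈ u.support := by
  rw [mem_support, mem_support, ← Perm.mul_apply, ← h.eq, Perm.mul_apply, not_iff_not]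
  exact a.injective.eq_iff

theorem card_support_involution {u : alternatingGroup (Fin 7)} (hu : orderOf u = 2) :
    (u : Perm (Fin 7)).cycleType = {2, 2} ∧ (u : Perm (Fin 7)).support.card = 4 := by
  have ho : orderOf (u : Perm (Fin 7)) = 2 := by rwa [Subgroup.orderOf_coe]
  obtain ⟨k, hk⟩ := cycleType_prime_order (σ := (u : Perm (Fin 7))) (by rw [ho]; exact Nat.prime_two)
  rw [ho] at hk
  have hs := sum_cycleType (u : Perm (Fin 7))
  rw [hk, Multiset.sum_replicate, smul_eq_mul] at hs
  have hle := Finset.card_le_univ (u : Perm (Fin 7)).support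
  rw [Fintype.card_fin] at hle
  have hsg := sign_of_cycleType (u : Perm (Fin 7))
  rw [Equiv.Perm.mem_alternatingGroup.1 u.2, hk, Multiset.sum_replicate, Multiset.card_replicate,
    smul_eq_mul] at hsg
  obtain rfl : k = 1 := by
    rcases (show k = 0 ∨ k = 1 ∨ k = 2 by omega) with rfl | rfl | rfl
    · exact absurd hsg (by decide)
    · rfl
    · exact absurd hsg (by decide)
  exact ⟨hk, by omega⟩

theorem alt_seven_eq_one {u a b : alternatingGroup (Fin 7)} (hu : orderOf u = 2) (ha1 : a ≠ 1)
    (ha : Odd (orderOf a)) (hau : Commute a u) (hb : Odd (orderOf b)) (hba : Commute b a)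
    (hbi : u * b * u⁻¹ = b⁻¹) : b = 1 := by
  obtain ⟨-, hu4⟩ := card_support_involution hu
  set u' := (u : Perm (Fin 7))
  set a' := (a : Perm (Fin 7))
  set b' := (b : Perm (Fin 7))
  have hau' : Commute a' u' := congrArg Subtype.val hau.eq
  have hba' : Commute b' a' := congrArg Subtype.val hba.eq
  have hbi' : u' * b' * u'⁻¹ = b'⁻¹ := congrArg Subtype.val hbi
  have hao : Odd (orderOf a') := by rwa [Subgroup.orderOf_coe]
  have hbo : Odd (orderOf b') := by rwa [Subgroup.orderOf_coe]
  have hu2 : u' * u' = 1 := by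
    rw [← pow_two, ← orderOf_dvd_iff_pow_eq_one, Subgroup.orderOf_coe, hu]
  -- `a` fixes the points moved by `u`
  have h1 : a'.support ∩ u'.support = ∅ := eq_empty hao hu2 _
    (fun x => by
      simp only [Finset.mem_inter, apply_mem_iff_of_commute hau' x, apply_mem_iff_of_commute (Commute.refl a') x])
    (fun x => by
      simp only [Finset.mem_inter, apply_mem_iff_of_commute (Commute.refl u') x,
        apply_mem_iff_of_commute hau'.symm x])
    (fun x hx => mem_support.1 (Finset.mem_inter.1 hx).1)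
    (fun x hx => mem_support.1 (Finset.mem_inter.1 hx).2)
    ((Finset.card_le_card Finset.inter_subset_right).trans hu4.le)
  -- so it moves exactly the others
  have h2 : a'.support = u'.supportᶜ := by
    refine Finset.eq_of_subset_of_card_le (fun x hx => Finset.mem_compl.2 fun hxu => ?_) ?_
    · exact Finset.notMem_empty x (h1 ▸ Finset.mem_inter.2 ⟨hx, hxu⟩)
    rw [Finset.card_compl, Fintype.card_fin, hu4]
    by_contra hlt
    have h0 : a'.support.card ≠ 0 := by
      rw [Ne, Finset.card_eq_zero, support_eq_empty_iff]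
      exact fun e => ha1 (Subtype.ext e)
    have h1' : a'.support.card ≠ 1 := card_support_ne_one a'
    have h2' : a'.support.card = 2 := by omega
    rw [(card_support_eq_two.1 h2').orderOf] at hao
    exact absurd hao (by decide)
  -- `b` fixes the points fixed by `u`
  have h3 : ∀ x, x ∉ u'.support → b' x = x := by
    intro x hx
    have hbx : b' x ∉ u'.support := by
      rw [← Finset.mem_compl, ← h2, apply_mem_iff_of_commute hba', h2, Finset.mem_compl]
      exact hx
    have e : b' x = b'⁻¹ x := by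
      rw [← hbi', Perm.mul_apply, Perm.mul_apply, inv_eq_iff_eq.2 (notMem_support.1 hx).symm,
        notMem_support.1 hbx]
    have e2 : (b' ^ 2) x = x := by
      rw [pow_two, Perm.mul_apply]
      exact (congrArg b' e).trans (b'.apply_symm_apply x)
    obtain ⟨j, hj⟩ := hbo
    have e3 : (b' ^ (2 * j)) x = x := by
      rw [pow_mul]
      exact (show Function.IsFixedPt (⇑(b' ^ 2)) x from e2).perm_pow j
    calc b' x = b' ((b' ^ (2 * j)) x) := by rw [e3]
      _ = (b' ^ (2 * j + 1)) x := by rw [pow_succ', Perm.mul_apply]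
      _ = x := by rw [← hj, pow_orderOf_eq_one, Perm.one_apply]
  -- so it moves an invariant subset of the four
  have h4 : b'.support = ∅ := eq_empty hbo hu2 _ (fun x => apply_mem_iff_of_commute (Commute.refl b') x)
    (fun x => by
      have e : (u' * b' * u'⁻¹).support = b'.support := by rw [hbi', support_inv]
      rw [support_conj] at e
      conv_lhs => rw [← e]
      simp)
    (fun x hx => mem_support.1 hx)
    (fun x hx hfix => mem_support.1 hx (h3 x (notMem_support.2 hfix)))
    ((Finset.card_le_card fun x hx => by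
      by_contra hxu
      exact mem_support.1 hx (h3 x hxu)).trans hu4.le)
  exact Subtype.ext (support_eq_empty_iff.1 h4)

/-- A four-group in `A7`. -/
theorem alt_seven_exists_pair : ∃ x y : alternatingGroup (Fin 7),
    orderOf x = 2 ∧ orderOf y = 2 ∧ x ≠ y ∧ Commute x y := by
  refine ⟨⟨swap 0 1 * swap 2 3, ?_⟩, ⟨swap 0 2 * swap 1 3, ?_⟩, ?_, ?_, ?_, ?_⟩
  · simp [Equiv.Perm.mem_alternatingGroup]
  · simp [Equiv.Perm.mem_alternatingGroup]
  · exact orderOf_eq_prime (Subtype.ext (by decide)) (fun e => absurd (congrArg Subtype.val e) (by decide))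
  · exact orderOf_eq_prime (Subtype.ext (by decide)) (fun e => absurd (congrArg Subtype.val e) (by decide))
  · exact fun e => absurd (congrArg Subtype.val e) (by decide)
  · exact Subtype.ext (by decide)

theorem alt_seven_isConj {x y : alternatingGroup (Fin 7)} (hx : orderOf x = 2) (hy : orderOf y = 2) :
    IsConj x y :=
  alternatingGroup.isConj_of
    (isConj_iff_cycleType_eq.2 ((card_support_involution hx).1.trans (card_support_involution hy).1.symm))
    (by rw [(card_support_involution hx).2, Fintype.card_fin]; omega)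

end Perm

open Cfsg.Agent.PSL2

variable {L : Type v} [Group L]

theorem finite (hL : Socle L) : Finite L := by
  rcases hL with ⟨F, _, _, -, -, ⟨e⟩⟩ | ⟨⟨e⟩⟩
  · exact Finite.of_equiv _ e.toEquiv.symm
  · exact Finite.of_equiv _ e.toEquiv.symm

/-- An element of odd order commuting with `a` and inverted by `u` is trivial. -/
theorem eq_one_of_commute (hL : Socle L) {u a b : L} (hu : orderOf u = 2) (ha1 : a ≠ 1)
    (ha : Odd (orderOf a)) (hau : Commute a u) (hb : Odd (orderOf b)) (hba : Commute b a)
    (hbi : u * b * u⁻¹ = b⁻¹) : b = 1 := by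
  rcases hL with ⟨F, _, _, -, -, ⟨e⟩⟩ | ⟨⟨e⟩⟩
  · refine eq_one_of_inverted_commute hb hbi (e.injective ?_)
    have h3 : 3 ≤ orderOf (e a) := by
      rw [e.orderOf_eq]
      have h1 : orderOf a ≠ 1 := fun h => ha1 (orderOf_eq_one_iff.1 h)
      obtain ⟨j, hj⟩ := ha
      omega
    have := commute_of_commute_mk h3 (hau.symm.map e.toMonoidHom) (hba.map e.toMonoidHom)
    rw [map_mul, map_mul]
    exact this.eq
  · refine e.injective ((alt_seven_eq_one (u := e u) (a := e a) (b := e b) ?_ (fun h => ha1 ?_) ?_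
      (hau.map e.toMonoidHom) ?_ (hba.map e.toMonoidHom) ?_).trans (map_one e).symm)
    · rw [e.orderOf_eq, hu]
    · exact e.injective (h.trans (map_one e).symm)
    · rwa [e.orderOf_eq]
    · rwa [e.orderOf_eq]
    · rw [← map_inv, ← map_mul, ← map_mul, hbi, map_inv]

theorem isSimpleGroup (hL : Socle L) : IsSimpleGroup L := by
  rcases hL with ⟨F, _, _, -, h3, ⟨e⟩⟩ | ⟨⟨e⟩⟩
  · haveI := isSimpleGroup_psl (L := F) (by rw [Nat.card_eq_fintype_card]; omega)
    exact MulEquiv.isSimpleGroup e
  · haveI := alternatingGroup.isSimpleGroup (α := Fin 7) (by simp)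
    exact MulEquiv.isSimpleGroup e

/-- Two distinct commuting involutions, one of them prescribed. -/
theorem exists_commuting (hL : Socle L) {x : L} (hx : orderOf x = 2) :
    ∃ y : L, orderOf y = 2 ∧ y ≠ x ∧ Commute x y := by
  have key : ∀ (M : Type v) [Group M], (∀ a b : M, orderOf a = 2 → orderOf b = 2 → IsConj a b) →
      (∃ a b : M, orderOf a = 2 ∧ orderOf b = 2 ∧ a ≠ b ∧ Commute a b) →
      ∀ x : M, orderOf x = 2 → ∃ y : M, orderOf y = 2 ∧ y ≠ x ∧ Commute x y := by
    rintro M _ hc ⟨a, b, ha, hb, hne, hab⟩ x hx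
    obtain ⟨g, rfl⟩ := isConj_iff.1 (hc a x ha hx)
    exact ⟨g * b * g⁻¹, ((MulAut.conj g).orderOf_eq b).trans hb, fun h => hne ((MulAut.conj g).injective h).symm,
      hab.map (MulAut.conj g).toMonoidHom⟩
  refine key L (fun a b ha hb => ?_) ?_ x hx
  · rcases hL with ⟨F, _, _, hodd, -, ⟨e⟩⟩ | ⟨⟨e⟩⟩
    · obtain ⟨g, hg⟩ := isConj_iff.1 (involution_isConj (F := F) (by rwa [Nat.card_eq_fintype_card])
        (e.orderOf_eq a ▸ ha) (e.orderOf_eq b ▸ hb))
      exact isConj_iff.2 ⟨e.symm g, e.injective (by simp [hg])⟩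
    · obtain ⟨g, hg⟩ := isConj_iff.1 (alt_seven_isConj (x := e a) (y := e b)
        (by rw [e.orderOf_eq, ha]) (by rw [e.orderOf_eq, hb]))
      exact isConj_iff.2 ⟨e.symm g, e.injective (by simp [hg])⟩
  · rcases hL with ⟨F, _, _, hodd, -, ⟨e⟩⟩ | ⟨⟨e⟩⟩
    · have hq : Odd (Nat.card F) := by rwa [Nat.card_eq_fintype_card]
      obtain ⟨H, ⟨g⟩⟩ := exists_dihedral_sub (F := F) (n := 2) le_rfl (by
        obtain ⟨j, hj⟩ := hq
        rw [Nat.gcd_eq_left (show 2 ∣ Nat.card F - 1 by omega)]
        omega)
      have hsq : ∀ d : DihedralGroup 2, d * d = 1 := by decide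
      let φ : DihedralGroup 2 →* L := e.symm.toMonoidHom.comp (H.subtype.comp g.symm.toMonoidHom)
      have hinj : Function.Injective φ := e.symm.injective.comp (H.subtype_injective.comp g.symm.injective)
      refine ⟨φ (DihedralGroup.r 1), φ (DihedralGroup.sr 0), ?_, ?_, fun h => absurd (hinj h) (by decide),
        (show Commute (DihedralGroup.r (1 : ZMod 2)) (DihedralGroup.sr 0) from by
          rw [commute_iff_eq]; decide).map φ⟩
      · rw [orderOf_injective φ hinj]
        exact orderOf_eq_prime (by rw [pow_two, hsq]) (by decide)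
      · rw [orderOf_injective φ hinj]
        exact orderOf_eq_prime (by rw [pow_two, hsq]) (by decide)
    · obtain ⟨x, y, hx, hy, hne, hc⟩ := alt_seven_exists_pair
      exact ⟨e.symm x, e.symm y, by rw [e.symm.orderOf_eq, hx], by rw [e.symm.orderOf_eq, hy],
        fun h => hne (e.symm.injective h), hc.map e.symm.toMonoidHom⟩

theorem exists_involution (hL : Socle L) : ∃ x : L, orderOf x = 2 := by
  haveI := hL.finite
  rcases hL with ⟨F, _, _, hodd, -, ⟨e⟩⟩ | ⟨⟨e⟩⟩
  · obtain ⟨H, ⟨g⟩⟩ := exists_dihedral_sub (F := F) (n := 2) le_rfl (by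
      obtain ⟨j, hj⟩ := hodd
      rw [Nat.card_eq_fintype_card, hj, Nat.gcd_eq_left (show 2 ∣ 2 * j + 1 - 1 by omega)]
      omega)
    haveI := Fact.mk Nat.prime_two
    refine exists_prime_orderOf_dvd_card' 2 ?_
    rw [Nat.card_congr e.toEquiv]
    refine dvd_trans ?_ (Subgroup.card_subgroup_dvd_card H)
    rw [Nat.card_congr g.toEquiv, DihedralGroup.nat_card]
    norm_num
  · obtain ⟨x, -, hx, -⟩ := alt_seven_exists_pair
    exact ⟨e.symm x, by rw [e.symm.orderOf_eq, hx]⟩

end Socle

end Cfsg.Agent.GWDihedral
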