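import Cfsg.Agent.Lib.GWDihedral.SidesDefs
import Cfsg.Agent.Lib.GWDihedral.SocleFacts
import Cfsg.Agent.Lib.Constrained.Basic
import Cfsg.Agent.Lib.SylowLift.Solvable

/-!
# Gorenstein-Walter, dihedral Sylow subgroups: invariant p-groups in local subgroups (helper64)

* `exists_inSocle`, `DHyp.inSocle_fourV_or` : four-groups in the socle
* `exists_fixing` : an invariant `p`-group is centralised, modulo the core, by an involution of such a four-group
* `DHyp.sylow_invariant_le` : an `⟨σ, r⟩`-invariant `p`-group is centralised by `t` modulo the core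
-/

set_option autoImplicit false
set_option linter.unusedSectionVars false
set_option linter.style.haveILetI false

namespace Cfsg.Agent.GWDihedral

open Subgroup
open Cfsg.Agent.GWKlein (coreU coreW fourV oddPart)

universe u

namespace Local

theorem sq_eq_one {M : Type*} [Monoid M] {x : M} (hx : orderOf x = 2) : x ^ 2 = 1 :=
  orderOf_dvd_iff_pow_eq_one.1 hx.dvd

variable {K : Type u} [Group K] [Finite K]

/-- A four-group of the socle fixes, in one of its involutions, each invariant `p`-group. -/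
theorem exists_centralising {L : Subgroup K} [L.Normal] (hL : Socle L) {t r : K} (htL : t ∈ L) (hrL : r ∈ L)
    (ht : orderOf t = 2) (hr : orderOf r = 2) (hne : t ≠ r) (hc : Commute t r) {p : ℕ} (hp : p.Prime)
    (hp2 : p ≠ 2) {X : Subgroup K} (hX : IsPGroup p X) (hXt : ∀ x ∈ X, t * x * t⁻¹ ∈ X)
    (hXr : ∀ x ∈ X, r * x * r⁻¹ ∈ X) :
    (∀ x ∈ X, Commute x t) ∨ (∀ x ∈ X, Commute x r) ∨ ∀ x ∈ X, Commute x (t * r) := by
  haveI := Fact.mk hp
  have hodd : ∀ x ∈ X, Odd (orderOf x) := fun x hx => by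
    obtain ⟨k, hk⟩ := hX ⟨x, hx⟩
    exact ((hp.odd_of_ne_two hp2).pow).of_dvd_nat (orderOf_dvd_of_pow_eq_one (congrArg Subtype.val hk))
  have htt : t * t = 1 := by rw [← pow_two, sq_eq_one ht]
  have hrr : r * r = 1 := by rw [← pow_two, sq_eq_one hr]
  have hti : t⁻¹ = t := inv_eq_of_mul_eq_one_right htt
  have hri : r⁻¹ = r := inv_eq_of_mul_eq_one_right hrr
  -- from `X ⊓ L` to `X`
  have lift : ∀ v ∈ L, orderOf v = 2 → (∀ x ∈ X, v * x * v⁻¹ ∈ X) →
      (∀ y ∈ X ⊓ L, Commute y v) → ∀ x ∈ X, Commute x v := by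
    intro v hv hv2 hXv hY x hx
    have hvi : v⁻¹ = v := inv_eq_of_mul_eq_one_right (by rw [← pow_two, sq_eq_one hv2])
    set y := x⁻¹ * (v * x * v⁻¹) with hy
    have hyX : y ∈ X := mul_mem (inv_mem hx) (hXv x hx)
    have hyL : y ∈ L := by
      rw [hy, show x⁻¹ * (v * x * v⁻¹) = x⁻¹ * v * x⁻¹⁻¹ * v⁻¹ by group]
      exact mul_mem (‹L.Normal›.conj_mem v hv _) (inv_mem hv)
    have hi : v * y * v⁻¹ = y⁻¹ := by
      rw [hy, hvi, show v * (x⁻¹ * (v * x * v)) * v = v * x⁻¹ * v * x * (v * v) by group, ← pow_two,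
        sq_eq_one hv2, mul_one]
      conv_rhs => rw [mul_inv_rev, inv_inv, mul_inv_rev, mul_inv_rev, hvi]
      group
    have hy1 : y = 1 := eq_one_of_inverted_commute (hodd y hyX) hi (hY y ⟨hyX, hyL⟩).symm
    rw [hy, inv_mul_eq_one] at hy1
    exact ((mul_inv_eq_iff_eq_mul.1 hy1.symm).symm : x * v = v * x)
  by_cases hY1 : X ⊓ L = ⊥
  · refine Or.inl (lift t htL ht hXt fun y hy => ?_)
    rw [hY1, mem_bot] at hy
    rw [hy]
    exact Commute.one_left t
  set Y := X ⊓ L with hYdef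
  have hYt : ∀ y ∈ Y, t * y * t⁻¹ ∈ Y := fun y hy => ⟨hXt y hy.1, ‹L.Normal›.conj_mem y hy.2 t⟩
  have hYr : ∀ y ∈ Y, r * y * r⁻¹ ∈ Y := fun y hy => ⟨hXr y hy.1, ‹L.Normal›.conj_mem y hy.2 r⟩
  haveI : Nontrivial Y := (nontrivial_iff_ne_bot Y).2 hY1
  have hYp : IsPGroup p Y := hX.to_le inf_le_left
  obtain ⟨z, hz, hz1⟩ := Subgroup.bot_or_exists_ne_one (center Y) |>.resolve_left
    (ne_of_gt hYp.bot_lt_center)
  have hzY : ∀ y ∈ Y, Commute (z : K) y := fun y hy =>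
    (congrArg Subtype.val (mem_center_iff.1 hz ⟨y, hy⟩)).symm
  have hz1' : (z : K) ≠ 1 := fun h => hz1 (Subtype.ext h)
  -- an element of `Z(Y)` fixed by an involution
  obtain ⟨v, hv, hvL, hv2, hXv, a, ha, ha1, hav, haY⟩ : ∃ v, (v = t ∨ v = r ∨ v = t * r) ∧ v ∈ L ∧
      orderOf v = 2 ∧ (∀ x ∈ X, v * x * v⁻¹ ∈ X) ∧
      ∃ a ∈ Y, a ≠ 1 ∧ Commute a v ∧ ∀ y ∈ Y, Commute a y := by
    have fix : ∀ v : K, v * v = 1 → (∀ y ∈ Y, v * y * v⁻¹ ∈ Y) → (z : K) * (v * z * v⁻¹) ≠ 1 →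
        ∃ a ∈ Y, a ≠ 1 ∧ Commute a v ∧ ∀ y ∈ Y, Commute a y := by
      intro v hvv hYv hne1
      have hvi : v⁻¹ = v := inv_eq_of_mul_eq_one_right hvv
      refine ⟨z * (v * z * v⁻¹), mul_mem z.2 (hYv z z.2), hne1, ?_, fun y hy => ?_⟩
      · refine (mul_inv_eq_iff_eq_mul.1 ?_).symm
        calc v * ((z : K) * (v * z * v⁻¹)) * v⁻¹ = v * z * v⁻¹ * ((v * v) * z * (v * v)⁻¹) := by group
          _ = v * z * v⁻¹ * z := by rw [hvv, one_mul, inv_one, mul_one]
          _ = z * (v * z * v⁻¹) := (hzY _ (hYv z z.2)).eq.symm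
      · refine (hzY y hy).mul_left ?_
        have hy' : v⁻¹ * y * v ∈ Y := by
          have := hYv y hy
          rwa [hvi] at this ⊢
        have := (hzY _ hy').map (MulAut.conj v).toMonoidHom
        simpa [mul_assoc] using this
    by_cases h1 : (z : K) * (t * z * t⁻¹) = 1
    · by_cases h2 : (z : K) * (r * z * r⁻¹) = 1
      · refine ⟨t * r, Or.inr (Or.inr rfl), mul_mem htL hrL, ?_, fun x hx => ?_, z, z.2, hz1', ?_, hzY⟩
        · refine orderOf_eq_prime (by rw [pow_two, hc.symm.mul_mul_mul_comm, htt, hrr, one_mul]) fun e => hne ?_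
          rw [eq_inv_of_mul_eq_one_left e, hri]
        · rw [show t * r * x * (t * r)⁻¹ = t * (r * x * r⁻¹) * t⁻¹ by group]
          exact hXt _ (hXr x hx)
        · refine (mul_inv_eq_iff_eq_mul.1 ?_).symm
          rw [show t * r * (z : K) * (t * r)⁻¹ = t * (r * z * r⁻¹) * t⁻¹ by group,
            eq_inv_of_mul_eq_one_right h2, ← conj_inv, eq_inv_of_mul_eq_one_right h1, inv_inv]
      · exact ⟨r, Or.inr (Or.inl rfl), hrL, hr, hXr, fix r hrr hYr h2⟩
    · exact ⟨t, Or.inl rfl, htL, ht, hXt, fix t htt hYt h1⟩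
  have hYv : ∀ y ∈ Y, Commute y v := by
    intro y hy
    set b := y⁻¹ * (v * y * v⁻¹) with hb
    have hvi : v⁻¹ = v := inv_eq_of_mul_eq_one_right (by rw [← pow_two, sq_eq_one hv2])
    have hbY : b ∈ Y := mul_mem (inv_mem hy) ⟨hXv y hy.1, ‹L.Normal›.conj_mem y hy.2 v⟩
    have hi : v * b * v⁻¹ = b⁻¹ := by
      rw [hb, hvi, show v * (y⁻¹ * (v * y * v)) * v = v * y⁻¹ * v * y * (v * v) by group, ← pow_two,
        sq_eq_one hv2, mul_one]
      conv_rhs => rw [mul_inv_rev, inv_inv, mul_inv_rev, mul_inv_rev, hvi]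
      group
    have hb1 := hL.eq_one_of_commute (u := ⟨v, hvL⟩) (a := ⟨a, ha.2⟩) (b := ⟨b, hbY.2⟩)
      (by rw [Subgroup.orderOf_mk, hv2]) (fun h => ha1 (congrArg Subtype.val h))
      (by rw [Subgroup.orderOf_mk]; exact hodd a ha.1) (Subtype.ext hav.eq)
      (by rw [Subgroup.orderOf_mk]; exact hodd b hbY.1) (Subtype.ext (haY b hbY).symm.eq) (Subtype.ext hi)
    have hb1' : b = 1 := congrArg Subtype.val hb1
    rw [hb, inv_mul_eq_one] at hb1'
    exact ((mul_inv_eq_iff_eq_mul.1 hb1'.symm).symm : y * v = v * y)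
  rcases hv with rfl | rfl | rfl
  exacts [Or.inl (lift _ hvL hv2 hXv hYv), Or.inr (Or.inl (lift _ hvL hv2 hXv hYv)),
    Or.inr (Or.inr (lift _ hvL hv2 hXv hYv))]

end Local

variable {G : Type u} [Group G] [Finite G] {H : Subgroup G} {n : ℕ} {t r σ : G}

namespace Local

theorem bar_eq_one {x : H} :
    QuotientGroup.mk' (Cfsg.oddCore H) x = 1 ↔ (x : G) ∈ oddPart H := by
  rw [QuotientGroup.mk'_apply, QuotientGroup.eq_one_iff, oddPart]
  exact ⟨fun h => ⟨x, h, rfl⟩, fun ⟨y, hy, e⟩ => Subtype.ext e ▸ hy⟩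

theorem commutator_mem {x v : G} (hx : x ∈ H) (hv : v ∈ H)
    (hc : Commute (QuotientGroup.mk' (Cfsg.oddCore H) ⟨x, hx⟩) (QuotientGroup.mk' (Cfsg.oddCore H) ⟨v, hv⟩)) :
    x * v * x⁻¹ * v⁻¹ ∈ oddPart H := by
  refine (bar_eq_one (x := ⟨x, hx⟩ * ⟨v, hv⟩ * ⟨x, hx⟩⁻¹ * ⟨v, hv⟩⁻¹)).1 ?_
  rw [map_mul, map_mul, map_mul, map_inv, map_inv, hc.eq, mul_inv_cancel_right, mul_inv_cancel]

theorem not_two_dvd_core (H : Subgroup G) : ¬ 2 ∣ Nat.card (Cfsg.oddCore H) := by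
  haveI : Fact (Nat.Prime 2) := ⟨Nat.prime_two⟩
  exact Cores.not_dvd_card_pPrimeCore

/-- An element of 2-power order in the core is trivial. -/
theorem eq_one_of_bar {x : H} {k : ℕ} (hx : x ^ 2 ^ k = 1)
    (h1 : QuotientGroup.mk' (Cfsg.oddCore H) x = 1) : x = 1 := by
  refine orderOf_eq_one_iff.1 (Nat.eq_one_of_dvd_coprimes ?_ (orderOf_dvd_of_pow_eq_one hx)
    (orderOf_dvd_natCard _ ((QuotientGroup.eq_one_iff x).1 h1)))
  exact Nat.Coprime.pow_left k (Nat.prime_two.coprime_iff_not_dvd.2 (not_two_dvd_core H))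

theorem orderOf_bar {x : H} (hx : orderOf x = 2) : orderOf (QuotientGroup.mk' (Cfsg.oddCore H) x) = 2 :=
  orderOf_eq_prime (by rw [← map_pow, sq_eq_one hx, map_one]) fun e =>
    Involution.ne_one hx (eq_one_of_bar (k := 1) (by rw [pow_one, sq_eq_one hx]) e)

/-- Two commuting involutions generate a 2-group. -/
theorem isPGroup_fourV {x y : G} (hx : orderOf x = 2) (hy : orderOf y = 2) (hc : Commute x y) :
    IsPGroup 2 (fourV x y) := by
  have e : fourV x y = zpowers x ⊔ zpowers y := by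
    rw [fourV, zpowers_eq_closure, zpowers_eq_closure, ← Subgroup.closure_union, Set.singleton_union]
  rw [e]
  haveI : Fact (Nat.Prime 2) := ⟨Nat.prime_two⟩
  refine IsPGroup.to_sup_of_normal_right' (IsPGroup.of_card (n := 1) ?_) (IsPGroup.of_card (n := 1) ?_)
    (zpowers_le.2 (Coprime.mem_normalizer_of_forall fun w hw => ?_))
  · rw [Nat.card_zpowers, hx, pow_one]
  · rw [Nat.card_zpowers, hy, pow_one]
  · obtain ⟨i, rfl⟩ := hw
    show x * y ^ i * x⁻¹ ∈ zpowers y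
    rw [(hc.zpow_right i).eq, mul_inv_cancel_right]
    exact zpow_mem_zpowers y i

/-- The socle contains an involution, so its preimage has even order. -/
theorem mem_of_inSocle {L : Subgroup (H ⧸ Cfsg.oddCore H)} [L.Normal] (hL : Socle L) {V : Subgroup G}
    (hV : InSocle V H) {x : H} (hx : (x : G) ∈ V) : QuotientGroup.mk' (Cfsg.oddCore H) x ∈ L := by
  refine hV.2 (L.comap (QuotientGroup.mk' (Cfsg.oddCore H))) inferInstance ?_ (mem_subgroupOf.2 hx)
  obtain ⟨l, hl⟩ := hL.exists_involution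
  obtain ⟨z, hz⟩ := QuotientGroup.mk'_surjective (Cfsg.oddCore H) (l : H ⧸ Cfsg.oddCore H)
  have h2 : 2 ∣ orderOf z := by
    have := orderOf_map_dvd (QuotientGroup.mk' (Cfsg.oddCore H)) z
    rwa [hz, Subgroup.orderOf_coe, hl] at this
  exact even_iff_two_dvd.2 (h2.trans (orderOf_dvd_natCard _ (by rw [mem_comap, hz]; exact l.2)))

/-- A 2-subgroup mapping into the socle lies in every normal subgroup of even order. -/
theorem inSocle_of_mem {L : Subgroup (H ⧸ Cfsg.oddCore H)} [L.Normal] (hL : Socle L)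
    (hC : centralizer (L : Set (H ⧸ Cfsg.oddCore H)) = ⊥) {V : Subgroup G} (hVH : V ≤ H)
    (hV2 : IsPGroup 2 V) (hx : ∀ x : H, (x : G) ∈ V → QuotientGroup.mk' (Cfsg.oddCore H) x ∈ L) :
    InSocle V H := by
  set π := QuotientGroup.mk' (Cfsg.oddCore H) with hπ
  refine ⟨hVH, fun N hN hNe x hxV => ?_⟩
  haveI := hN
  haveI : (N.map π).Normal := hN.map π (QuotientGroup.mk'_surjective _)
  have hLN : L ≤ N.map π := by
    haveI := hL.isSimpleGroup
    rcases (inferInstance : ((N.map π).subgroupOf L).Normal).eq_bot_or_eq_top with h | h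
    · exfalso
      have hd : ∀ y : H ⧸ Cfsg.oddCore H, y ∈ L → y ∈ N.map π → y = 1 := by
        intro y hy hy'
        have h0 : (⟨y, hy⟩ : L) ∈ (N.map π).subgroupOf L := mem_subgroupOf.2 hy'
        rw [h, mem_bot] at h0
        exact congrArg (fun w : L => (w : H ⧸ Cfsg.oddCore H)) h0
      have hle : N.map π ≤ centralizer (L : Set (H ⧸ Cfsg.oddCore H)) := fun m hm =>
        mem_centralizer_iff.2 fun l hl => by
          have h1 : l * m * l⁻¹ * m⁻¹ ∈ L := by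
            rw [show l * m * l⁻¹ * m⁻¹ = l * (m * l⁻¹ * m⁻¹) by group]
            exact mul_mem hl (‹L.Normal›.conj_mem _ (inv_mem hl) m)
          have h2 := hd _ h1 (mul_mem (‹(N.map π).Normal›.conj_mem m hm l) (inv_mem hm))
          exact mul_inv_eq_iff_eq_mul.1 (mul_inv_eq_one.1 h2)
      rw [hC, le_bot_iff, Subgroup.map_eq_bot_iff, QuotientGroup.ker_mk'] at hle
      exact not_two_dvd_core H ((even_iff_two_dvd.1 hNe).trans (card_dvd_of_le hle))
    · exact subgroupOf_eq_top.1 h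
  obtain ⟨m, hm, hmx⟩ := hLN (hx x hxV)
  obtain ⟨k, hk⟩ := hV2 ⟨(x : G), hxV⟩
  have ho : m⁻¹ * x ∈ Cfsg.oddCore H := (QuotientGroup.eq_one_iff _).1 (show π (m⁻¹ * x) = 1 by
    rw [map_mul, map_inv, hmx, inv_mul_cancel])
  rw [← QuotientGroup.eq_one_iff (N := N)]
  refine orderOf_eq_one_iff.1 (Nat.eq_one_of_dvd_coprimes
    ((Nat.prime_two.coprime_iff_not_dvd.2 (not_two_dvd_core H)).pow_left k)
    (orderOf_dvd_of_pow_eq_one ?_) ?_)
  · rw [← QuotientGroup.mk_pow, show x ^ 2 ^ k = 1 from Subtype.ext (by simpa using congrArg Subtype.val hk)]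
    rfl
  · have e : (x : H ⧸ N) = QuotientGroup.mk' N (m⁻¹ * x) := by
      rw [map_mul, map_inv, QuotientGroup.mk'_apply, QuotientGroup.mk'_apply,
        (QuotientGroup.eq_one_iff m).2 hm, inv_one, one_mul]
    rw [e]
    exact (orderOf_map_dvd _ _).trans (orderOf_dvd_natCard _ ho)

/-- A commuting involution of the socle lifts. -/
theorem exists_lift {x : H} (hx : orderOf x = 2) {y : H ⧸ Cfsg.oddCore H} (hy : orderOf y = 2)
    (hne : y ≠ QuotientGroup.mk' (Cfsg.oddCore H) x) (hc : Commute (QuotientGroup.mk' (Cfsg.oddCore H) x) y) :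
    ∃ y' : H, orderOf y' = 2 ∧ y' ≠ x ∧ Commute x y' ∧ QuotientGroup.mk' (Cfsg.oddCore H) y' = y := by
  haveI : Fact (Nat.Prime 2) := ⟨Nat.prime_two⟩
  set π := QuotientGroup.mk' (Cfsg.oddCore H) with hπ
  obtain ⟨z, rfl⟩ := QuotientGroup.mk'_surjective (Cfsg.oddCore H) y
  obtain ⟨o, ho, hoz⟩ := Constrained.exists_mul_mem_centralizer (O := Cfsg.oddCore H) (not_two_dvd_core H)
    (T := zpowers x) (IsPGroup.of_card (n := 1) (by rw [Nat.card_zpowers, hx, pow_one])) (x := z) fun w hw => by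
      obtain ⟨i, rfl⟩ := hw
      refine (QuotientGroup.eq_one_iff _).1 (show π (z * x ^ i * z⁻¹ * (x ^ i)⁻¹) = 1 from ?_)
      rw [map_mul, map_mul, map_mul, map_inv, map_inv, map_zpow, (hc.symm.zpow_right i).eq,
        mul_inv_cancel_right, mul_inv_cancel]
  have hcx : Commute x (o * z) := mem_centralizer_iff.1 hoz x (mem_zpowers x)
  have hb : π (o * z) = π z := by
    rw [map_mul, show π o = 1 from (QuotientGroup.eq_one_iff o).2 ho, one_mul]
  obtain ⟨k, m, hm, hkm⟩ := Nat.exists_eq_two_pow_mul_odd (orderOf_pos (o * z)).ne'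
  have hbm : π ((o * z) ^ m) = π z := by
    rw [map_pow, hb, pow_eq_pow_mod m (sq_eq_one hy),
      Nat.odd_iff.1 hm, pow_one]
  have hk : ((o * z) ^ m) ^ 2 ^ k = 1 := by rw [← pow_mul, mul_comm, ← hkm, pow_orderOf_eq_one]
  refine ⟨(o * z) ^ m, orderOf_eq_prime ?_ fun e => ?_, fun e => hne ?_, hcx.pow_right m, hbm⟩
  · refine eq_one_of_bar (k := k) ?_ ?_
    · rw [← pow_mul, mul_comm, pow_mul, hk, one_pow]
    · show π (((o * z) ^ m) ^ 2) = 1
      rw [map_pow, hbm, sq_eq_one hy]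
  · rw [e, map_one] at hbm
    rw [← hbm, orderOf_one] at hy
    omega
  · rw [← hbm, e]

theorem mem_closure_iff (h : DHyp n t r σ) {x : G} (hx : x ∈ closure ({σ, r} : Set G)) :
    ∃ i : ℤ, x = σ ^ i ∨ x = r * σ ^ i := by
  have hri : r⁻¹ = r := Involution.inv_eq h.order_r
  have hn : zpowers r ≤ normalizer (zpowers σ : Set G) :=
    zpowers_le.2 (Coprime.mem_normalizer_of_forall fun w hw => by
      obtain ⟨i, rfl⟩ := hw
      show r * σ ^ i * r⁻¹ ∈ zpowers σ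
      rw [← conj_zpow, h.conj_σ]
      exact zpow_mem (inv_mem (mem_zpowers σ)) i)
  have e : closure ({σ, r} : Set G) = zpowers r ⊔ zpowers σ := by
    rw [zpowers_eq_closure, zpowers_eq_closure, ← Subgroup.closure_union, Set.singleton_union, Set.pair_comm]
  have hx' : x ∈ ((zpowers r ⊔ zpowers σ : Subgroup G) : Set G) := e ▸ hx
  rw [coe_mul_of_left_le_normalizer_right _ _ hn] at hx'
  obtain ⟨_, ⟨j, rfl⟩, _, ⟨i, rfl⟩, rfl⟩ := hx'
  refine ⟨i, ?_⟩
  rcases Int.even_or_odd j with ⟨l, rfl⟩ | ⟨l, rfl⟩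
  · left
    show r ^ (l + l) * σ ^ i = σ ^ i
    rw [zpow_add, ← (Commute.refl r).mul_zpow, h.mul_self_r, one_zpow, one_mul]
  · right
    show r ^ (2 * l + 1) * σ ^ i = r * σ ^ i
    rw [zpow_add, zpow_mul, zpow_ofNat, pow_two, h.mul_self_r, one_zpow, one_mul, zpow_one]

/-- The only involution among the rotations. -/
theorem eq_t (h : DHyp n t r σ) {a : G} (ha : orderOf a = 2) (i : ℤ) (e : a = σ ^ i) : a = t := by
  obtain ⟨m, rfl⟩ := h.exists_add
  have hd : (orderOf σ : ℤ) ∣ 2 * i := by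
    rw [orderOf_dvd_iff_zpow_eq_one, mul_comm, zpow_mul, ← e, zpow_ofNat, sq_eq_one ha]
  rw [h.order_σ, show m + 3 - 1 = m + 1 + 1 by omega, pow_succ', Nat.cast_mul,
    Nat.cast_ofNat, mul_dvd_mul_iff_left (by norm_num : (2 : ℤ) ≠ 0)] at hd
  obtain ⟨l, hl⟩ := hd
  rw [hl, zpow_mul, zpow_natCast] at e
  have ht : t = σ ^ 2 ^ (m + 1) := by rw [h.t_eq, show m + 3 - 2 = m + 1 by omega]
  rw [← ht] at e
  rcases Int.even_or_odd l with ⟨k, rfl⟩ | ⟨k, rfl⟩
  · rw [zpow_add, ← (Commute.refl t).mul_zpow, h.mul_self_t, one_zpow] at e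
    exact absurd e (Involution.ne_one ha)
  · rwa [zpow_add, zpow_mul, zpow_ofNat, pow_two, h.mul_self_t, one_zpow, one_mul, zpow_one] at e

end Local

/-- An involution in all normal subgroups of even order lies in a four-group with the same property. -/
theorem exists_inSocle (hH : IsGWLike H) {x : G} (hxH : x ∈ H) (hx : orderOf x = 2)
    (hall : ∀ N : Subgroup H, N.Normal → Even (Nat.card N) → (⟨x, hxH⟩ : H) ∈ N) :
    ∃ y ∈ H, orderOf y = 2 ∧ y ≠ x ∧ Commute x y ∧ InSocle (fourV x y) H := by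
  obtain ⟨L, hLn, hC, hL'⟩ := hH
  have hL : Socle L := hL'
  haveI := hLn
  set π := QuotientGroup.mk' (Cfsg.oddCore H) with hπ
  have hxo : orderOf (⟨x, hxH⟩ : H) = 2 := by rw [Subgroup.orderOf_mk, hx]
  have hxz : InSocle (zpowers x) H := ⟨zpowers_le.2 hxH, fun N hN hNe w hw => by
    obtain ⟨i, hi⟩ := mem_subgroupOf.1 hw
    rw [show w = (⟨x, hxH⟩ : H) ^ i from Subtype.ext (by rw [← hi]; rfl)]
    exact zpow_mem (hall N hN hNe) i⟩
  have hxL : π ⟨x, hxH⟩ ∈ L := Local.mem_of_inSocle hL hxz (mem_zpowers x)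
  obtain ⟨y, hy2, hyne, hxy⟩ := hL.exists_commuting (x := ⟨_, hxL⟩)
    (by rw [Subgroup.orderOf_mk]; exact Local.orderOf_bar hxo)
  obtain ⟨y', hy', hne', hc', hby⟩ := Local.exists_lift hxo (y := (y : H ⧸ Cfsg.oddCore H))
    (by rw [Subgroup.orderOf_coe, hy2]) (fun e => hyne (Subtype.ext e)) (congrArg Subtype.val hxy.eq)
  refine ⟨y', y'.2, by rw [Subgroup.orderOf_coe, hy'], fun e => hne' (Subtype.ext e),
    congrArg Subtype.val hc'.eq, Local.inSocle_of_mem hL hC (GWKlein.fourV_le_iff.2 ⟨hxH, y'.2⟩)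
    (Local.isPGroup_fourV hx (by rw [Subgroup.orderOf_coe, hy']) (congrArg Subtype.val hc'.eq)) ?_⟩
  intro w hw
  have hle : fourV x (y' : G) ≤ (L.comap π).map H.subtype := GWKlein.fourV_le_iff.2
    ⟨⟨⟨x, hxH⟩, hxL, rfl⟩, ⟨y', show π y' ∈ L from hby ▸ y.2, rfl⟩⟩
  obtain ⟨w', hw', e⟩ := hle hw
  exact Subtype.ext e ▸ hw'

/-- A four-group in the socle fixes, modulo the core, each invariant `p`-group in one of its involutions. -/
theorem exists_fixing (hH : IsGWLike H) (ht : orderOf t = 2) (hr : orderOf r = 2) (hne : t ≠ r)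
    (hc : Commute t r) (hV : InSocle (fourV t r) H) {p : ℕ} (hp : p.Prime) (hp2 : p ≠ 2) {X : Subgroup G}
    (hX : IsPGroup p X) (hXH : X ≤ H) (hXt : t ∈ normalizer (X : Set G)) (hXr : r ∈ normalizer (X : Set G)) :
    ∃ v, (v = t ∨ v = r ∨ v = t * r) ∧ ∀ x ∈ X, x * v * x⁻¹ * v⁻¹ ∈ oddPart H := by
  obtain ⟨L, hLn, hC, hL'⟩ := hH
  have hL : Socle L := hL'
  haveI := hLn
  set π := QuotientGroup.mk' (Cfsg.oddCore H) with hπ
  have htH : t ∈ H := hV.1 (GWKlein.left_mem_fourV t r)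
  have hrH : r ∈ H := hV.1 (GWKlein.right_mem_fourV t r)
  have hto : orderOf (⟨t, htH⟩ : H) = 2 := by rw [Subgroup.orderOf_mk, ht]
  have hro : orderOf (⟨r, hrH⟩ : H) = 2 := by rw [Subgroup.orderOf_mk, hr]
  have hne' : π ⟨t, htH⟩ ≠ π ⟨r, hrH⟩ := fun e => by
    have h1 := Local.eq_one_of_bar (H := H) (x := ⟨t, htH⟩⁻¹ * ⟨r, hrH⟩) (k := 1) (Subtype.ext ?_)
      (by rw [map_mul, map_inv]; exact inv_mul_eq_one.2 e)
    · exact hne (congrArg Subtype.val (inv_mul_eq_one.1 h1))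
    · show (t⁻¹ * r) ^ 2 ^ 1 = (1 : G)
      rw [pow_one, (hc.inv_left).mul_pow, inv_pow, Local.sq_eq_one ht, inv_one, one_mul,
        Local.sq_eq_one hr]
  set X' := (X.subgroupOf H).map π
  have hX' : IsPGroup p X' := (hX.of_equiv (subgroupOfEquivOfLe hXH).symm).map _
  have hconj : ∀ v (hv : v ∈ H), v ∈ normalizer (X : Set G) → ∀ y ∈ X', π ⟨v, hv⟩ * y * (π ⟨v, hv⟩)⁻¹ ∈ X' := by
    rintro v hv hvn _ ⟨x, hx, rfl⟩
    refine ⟨⟨v, hv⟩ * x * ⟨v, hv⟩⁻¹, mem_subgroupOf.2 ((mem_normalizer_iff.1 hvn _).1 (mem_subgroupOf.1 hx)), ?_⟩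
    rw [map_mul, map_mul, map_inv]
  have hcc : Commute (⟨t, htH⟩ : H) ⟨r, hrH⟩ := Subtype.ext hc.eq
  rcases Local.exists_centralising hL (Local.mem_of_inSocle hL hV (GWKlein.left_mem_fourV t r))
      (Local.mem_of_inSocle hL hV (x := ⟨r, hrH⟩) (GWKlein.right_mem_fourV t r)) (Local.orderOf_bar hto)
      (Local.orderOf_bar hro) hne' (hcc.map π) hp hp2 hX' (hconj t htH hXt) (hconj r hrH hXr) with h | h | h
  · exact ⟨t, Or.inl rfl, fun x hx =>
      Local.commutator_mem (hXH hx) htH (h _ ⟨⟨x, hXH hx⟩, mem_subgroupOf.2 hx, rfl⟩)⟩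
  · exact ⟨r, Or.inr (Or.inl rfl), fun x hx =>
      Local.commutator_mem (hXH hx) hrH (h _ ⟨⟨x, hXH hx⟩, mem_subgroupOf.2 hx, rfl⟩)⟩
  · refine ⟨t * r, Or.inr (Or.inr rfl), fun x hx => Local.commutator_mem (hXH hx) (mul_mem htH hrH) ?_⟩
    have h1 := h _ ⟨⟨x, hXH hx⟩, mem_subgroupOf.2 hx, rfl⟩
    rwa [← map_mul] at h1

/-- Over the Sylow subgroup one of the two four-groups lies in the socle. -/
theorem DHyp.inSocle_fourV_or (h : DHyp n t r σ) (hH : IsGWLike H) (hS : closure ({σ, r} : Set G) ≤ H) :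
    InSocle (fourV t r) H ∨ InSocle (fourV t (r * σ)) H := by
  obtain ⟨L, hLn, hC, hL'⟩ := hH
  have hL : Socle L := hL'
  haveI := hLn
  haveI : Fact (Nat.Prime 2) := ⟨Nat.prime_two⟩
  set π := QuotientGroup.mk' (Cfsg.oddCore H) with hπ
  -- the elements of the Sylow subgroup over the socle
  set M : Subgroup G := closure ({σ, r} : Set G) ⊓ (L.comap π).map H.subtype with hM
  have hMS : M ≤ closure ({σ, r} : Set G) := inf_le_left
  have hMn : ∀ g ∈ closure ({σ, r} : Set G), ∀ w ∈ M, g * w * g⁻¹ ∈ M := by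
    rintro g hg w ⟨hw, w', hw', rfl⟩
    refine ⟨(closure ({σ, r} : Set G)).mul_mem ((closure ({σ, r} : Set G)).mul_mem hg hw) (inv_mem hg), ⟨g, hS hg⟩ * w' * ⟨g, hS hg⟩⁻¹, ?_, rfl⟩
    exact (inferInstance : (L.comap π).Normal).conj_mem _ hw' _
  -- two commuting involutions over the socle, in the Sylow subgroup
  obtain ⟨a, b, ha, hb, ha2, hb2, hab⟩ : ∃ a b : G, a ∈ M ∧ b ∈ M ∧ orderOf a = 2 ∧ orderOf b = 2 ∧ a ≠ b := by
    obtain ⟨l, hl⟩ := hL.exists_involution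
    obtain ⟨z, hz⟩ := QuotientGroup.mk'_surjective (Cfsg.oddCore H) (l : H ⧸ Cfsg.oddCore H)
    obtain ⟨k, m, hm, hkm⟩ := Nat.exists_eq_two_pow_mul_odd (orderOf_pos z).ne'
    have hzm : π (z ^ m) = l := by
      rw [map_pow, hz, pow_eq_pow_mod m (Local.sq_eq_one (show orderOf (l : H ⧸ Cfsg.oddCore H) = 2 by rw [Subgroup.orderOf_coe, hl])), Nat.odd_iff.1 hm, pow_one]
    have hzo : orderOf (z ^ m) = 2 := by
      refine orderOf_eq_prime (Local.eq_one_of_bar (k := k) ?_ ?_) fun e => ?_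
      · rw [← pow_mul, ← pow_mul, show m * (2 * 2 ^ k) = 2 ^ k * m * 2 by ring, ← hkm, pow_mul,
          pow_orderOf_eq_one, one_pow]
      · show π ((z ^ m) ^ 2) = 1
        rw [map_pow, hzm, Local.sq_eq_one (show orderOf (l : H ⧸ Cfsg.oddCore H) = 2 by rw [Subgroup.orderOf_coe, hl])]
      · rw [e, map_one] at hzm
        rw [← Subgroup.orderOf_coe, ← hzm, orderOf_one] at hl
        omega
    obtain ⟨y, hy2, hyne, hly⟩ := hL.exists_commuting hl
    obtain ⟨y', hy', hne', hc', hby⟩ := Local.exists_lift hzo (y := (y : H ⧸ Cfsg.oddCore H))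
      (by rw [Subgroup.orderOf_coe, hy2]) (fun e => hyne (Subtype.ext (e.trans hzm)))
      (by rw [show QuotientGroup.mk' (Cfsg.oddCore H) (z ^ m) = (l : H ⧸ Cfsg.oddCore H) from hzm]
          exact congrArg Subtype.val hly.eq)
    obtain ⟨P, hP⟩ := h.sylow
    let T : Sylow 2 H := P.subtype (hP ▸ hS)
    obtain ⟨Q, hQ⟩ := (Local.isPGroup_fourV (G := H) hzo hy' hc').exists_le_sylow
    obtain ⟨g, hg⟩ := MulAction.exists_smul_eq H Q T
    have hmem : ∀ w ∈ fourV (z ^ m) y', ((g * w * g⁻¹ : H) : G) ∈ closure ({σ, r} : Set G) := fun w hw => by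
      have h1 : MulAut.conj g • w ∈ ((g • Q : Sylow 2 H) : Subgroup H) := ⟨w, hQ hw, rfl⟩
      rw [hg] at h1
      rw [← hP]
      exact h1
    have hin : ∀ w : H, π w ∈ L → π (g * w * g⁻¹) ∈ L := fun w hw => by
      rw [map_mul, map_mul, map_inv]; exact ‹L.Normal›.conj_mem _ hw _
    refine ⟨((g * z ^ m * g⁻¹ : H) : G), ((g * y' * g⁻¹ : H) : G),
      ⟨hmem _ (GWKlein.left_mem_fourV _ _), _, hin _ (hzm ▸ l.2), rfl⟩,
      ⟨hmem _ (GWKlein.right_mem_fourV _ _), _, hin _ (show π y' ∈ L from hby ▸ y.2), rfl⟩, ?_, ?_,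
      fun e => hne' ((MulAut.conj g).injective (Subtype.ext e)).symm⟩
    · rw [Subgroup.orderOf_coe]; exact ((MulAut.conj g).orderOf_eq _).trans hzo
    · rw [Subgroup.orderOf_coe]; exact ((MulAut.conj g).orderOf_eq _).trans hy'
  -- one of them is a reflection
  obtain ⟨i, hi⟩ : ∃ i : ℤ, r * σ ^ i ∈ M := by
    obtain ⟨i, e | e⟩ := Local.mem_closure_iff h (hMS ha)
    · obtain ⟨j, e' | e'⟩ := Local.mem_closure_iff h (hMS hb)
      · exfalso
        exact hab ((Local.eq_t h ha2 i e).trans (Local.eq_t h hb2 j e').symm)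
      · exact ⟨j, e' ▸ hb⟩
    · exact ⟨i, e ▸ ha⟩
  have hσS : σ ∈ closure ({σ, r} : Set G) := subset_closure (Set.mem_insert _ _)
  have hσr : ∀ k : ℤ, σ * (r * σ ^ k) * σ⁻¹ = r * σ ^ (k - 2) := fun k => by
    have e : σ * r = r * σ⁻¹ := by
      rw [eq_mul_inv_iff_mul_eq, mul_assoc, mul_inv_eq_iff_eq_mul.1 h.conj_σ, mul_inv_cancel_left]
    rw [← mul_assoc, e, show r * σ⁻¹ * σ ^ k * σ⁻¹ = r * (σ⁻¹ * σ ^ k * σ⁻¹) by group]
    group
  have hσ2 : σ ^ (2 : ℤ) ∈ M := by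
    have h1 : r * σ ^ (i - 2) ∈ M := hσr i ▸ hMn σ hσS _ hi
    have h2 := mul_mem (inv_mem h1) hi
    rwa [mul_inv_rev, mul_assoc, inv_mul_cancel_left, ← zpow_neg, ← zpow_add,
      show -(i - 2) + i = 2 by ring] at h2
  have hev : ∀ k : ℤ, σ ^ (2 * k) ∈ M := fun k => by
    rw [zpow_mul]; exact zpow_mem hσ2 k
  have htM : t ∈ M := by
    rw [h.t_eq, ← zpow_natCast]
    obtain ⟨a', rfl⟩ := h.exists_add
    rw [show a' + 3 - 2 = a' + 1 by omega, pow_succ', Nat.cast_mul]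
    exact hev _
  have fin : ∀ ρ : G, orderOf ρ = 2 → Commute t ρ → ρ ∈ M → InSocle (fourV t ρ) H := fun ρ hρ hcρ hρM => by
    have hle : fourV t ρ ≤ (L.comap π).map H.subtype := GWKlein.fourV_le_iff.2 ⟨htM.2, hρM.2⟩
    refine Local.inSocle_of_mem hL hC (hle.trans (map_subtype_le _))
      (Local.isPGroup_fourV h.order_t hρ hcρ) fun w hw => ?_
    obtain ⟨w', hw', e⟩ := hle hw
    exact Subtype.ext e ▸ hw'
  rcases Int.even_or_odd i with ⟨l, rfl⟩ | ⟨l, rfl⟩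
  · refine Or.inl (fin r h.order_r h.comm_t_r ?_)
    have := mul_mem hi (inv_mem (hev l))
    rwa [show l + l = 2 * l by ring, mul_inv_cancel_right] at this
  · refine Or.inr (fin (r * σ) h.order_r_mul_σ (h.comm_t_r.mul_right h.comm_t_σ) ?_)
    have := mul_mem hi (inv_mem (hev l))
    rwa [show (2 : ℤ) * l + 1 = 1 + 2 * l by ring, zpow_add, zpow_one, ← mul_assoc,
      mul_inv_cancel_right] at this

/-- A `⟨σ, r⟩`-invariant `p`-group is centralised by `t` modulo the core. -/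
theorem DHyp.sylow_invariant_le (h : DHyp n t r σ) (hind : ProperGWLike G) (hne : H ≠ ⊤)
    (hS : closure ({σ, r} : Set G) ≤ H) {p : ℕ} (hp : p.Prime) (hp2 : p ≠ 2) {X : Subgroup G}
    (hX : IsPGroup p X) (hXS : closure ({σ, r} : Set G) ≤ normalizer (X : Set G)) (hXH : X ≤ H) :
    ∀ x ∈ X, x * t * x⁻¹ * t⁻¹ ∈ oddPart H := by
  haveI : Fact (Nat.Prime 2) := ⟨Nat.prime_two⟩
  have htS : t ∈ closure ({σ, r} : Set G) := h.fourV_le_sylow (GWKlein.left_mem_fourV t r)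
  set π := QuotientGroup.mk' (Cfsg.oddCore H) with hπ
  by_cases hs : Group.IsSolvable H
  · intro x hx
    obtain ⟨P, hP⟩ := h.sylow
    let T : Sylow 2 H := P.subtype (hP ▸ hS)
    let T' : Sylow 2 (H ⧸ Cfsg.oddCore H) := T.mapSurjective (QuotientGroup.mk'_surjective _)
    haveI : Group.IsSolvable (H ⧸ Cfsg.oddCore H) :=
      Group.isSolvable_of_surjective (f := π) (QuotientGroup.mk'_surjective _)
    have htO : π ⟨t, hS htS⟩ ∈ Cfsg.pCore 2 (H ⧸ Cfsg.oddCore H) := by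
      refine SylowLift.centralizer_pCore_le_of_solvable (Cores.pPrimeCore_quotient_self 2)
        (mem_centralizer_iff.2 fun y hy => ?_)
      obtain ⟨w, hw, rfl⟩ := Cores.pCore_le_sylow T' hy
      have hwS : (w : G) ∈ closure ({σ, r} : Set G) := by rw [← hP]; exact hw
      show π w * π ⟨t, hS htS⟩ = π ⟨t, hS htS⟩ * π w
      rw [← map_mul, ← map_mul]
      exact congrArg π (Subtype.ext (mem_centralizer_singleton_iff.1 (h.sylow_le_centralizer hwS)))
    refine Local.commutator_mem (hXH hx) (hS htS) ?_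
    set A := π ⟨x, hXH hx⟩
    set B := π ⟨t, hS htS⟩
    have h1 : A * B * A⁻¹ * B⁻¹ ∈ Cfsg.pCore 2 (H ⧸ Cfsg.oddCore H) :=
      mul_mem ((Cores.pCore_normal 2 _).conj_mem _ htO A) (inv_mem htO)
    have h2 : A * B * A⁻¹ * B⁻¹ ∈ (X.subgroupOf H).map π := by
      refine ⟨⟨x, hXH hx⟩ * ⟨t, hS htS⟩ * ⟨x, hXH hx⟩⁻¹ * ⟨t, hS htS⟩⁻¹, mem_subgroupOf.2 ?_, ?_⟩
      · show x * t * x⁻¹ * t⁻¹ ∈ X
        rw [show x * t * x⁻¹ * t⁻¹ = x * (t * x⁻¹ * t⁻¹) by group]
        exact mul_mem hx ((mem_normalizer_iff.1 (hXS htS) _).1 (inv_mem hx))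
      · rw [map_mul, map_mul, map_mul, map_inv, map_inv]
    obtain ⟨i, hi⟩ := Cores.isPGroup_pCore 2 (H ⧸ Cfsg.oddCore H) ⟨_, h1⟩
    haveI := Fact.mk hp
    obtain ⟨j, hj⟩ := (hX.of_equiv (subgroupOfEquivOfLe hXH).symm).map π ⟨_, h2⟩
    have h3 : A * B * A⁻¹ * B⁻¹ = 1 := orderOf_eq_one_iff.1 (Nat.eq_one_of_dvd_coprimes
      (((Nat.coprime_primes Nat.prime_two hp).2 hp2.symm).pow i j)
      (orderOf_dvd_of_pow_eq_one (congrArg Subtype.val hi)) (orderOf_dvd_of_pow_eq_one (congrArg Subtype.val hj)))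
    exact mul_inv_eq_iff_eq_mul.1 (mul_inv_eq_one.1 h3)
  · have hH : IsGWLike H := hind H hne hs
    have key : ∀ {r₁ σ₁ : G}, DHyp n t r₁ σ₁ → closure ({σ₁, r₁} : Set G) = closure ({σ, r} : Set G) →
        InSocle (fourV t r₁) H → ∀ x ∈ X, x * t * x⁻¹ * t⁻¹ ∈ oddPart H := by
      intro r₁ σ₁ h₁ hcl hV
      rw [← hcl] at hXS hS
      have hr₁S : r₁ ∈ closure ({σ₁, r₁} : Set G) := subset_closure (Set.mem_insert_of_mem _ rfl)
      have htS₁ : t ∈ closure ({σ₁, r₁} : Set G) := h₁.fourV_le_sylow (GWKlein.left_mem_fourV t r₁)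
      obtain ⟨v, hv, hfix⟩ := exists_fixing hH h₁.order_t h₁.order_r h₁.ne h₁.comm_t_r hV hp hp2 hX hXH
        (hXS htS₁) (hXS hr₁S)
      rcases hv with rfl | hv
      · exact hfix
      intro x hx
      obtain ⟨y, hy, hyt, hyr⟩ := h₁.exists_quarter
      have hyS : y ∈ closure ({σ₁, r₁} : Set G) := zpowers_le.2 (subset_closure (Set.mem_insert _ _)) hy
      have hyv : y * (t * r₁) * y⁻¹ = r₁ := by
        rw [show y * (t * r₁) * y⁻¹ = (y * t * y⁻¹) * (y * r₁ * y⁻¹) by group, hyr, hyt.eq,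
          mul_inv_cancel_right, ← mul_assoc, h₁.mul_self_t, one_mul]
      -- the other involution fixes `X` as well
      have both : ∀ w w' : G, w ∈ H → y * w * y⁻¹ = w' →
          (∀ z ∈ X, z * w * z⁻¹ * w⁻¹ ∈ oddPart H) → x * w' * x⁻¹ * w'⁻¹ ∈ oddPart H := by
        intro w w' _ he hw
        have hx' : y⁻¹ * x * y ∈ X := by
          have := (mem_normalizer_iff.1 (hXS (inv_mem hyS)) x).1 hx
          simpa using this
        have := (mem_normalizer_iff.1 (GWKlein.le_normalizer_oddPart H (hS hyS)) _).1 (hw _ hx')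
        have e : y * (y⁻¹ * x * y * w * (y⁻¹ * x * y)⁻¹ * w⁻¹) * y⁻¹ = x * w' * x⁻¹ * w'⁻¹ := by
          rw [← he]; group
        rwa [e] at this
      have hrH : r₁ ∈ H := hS hr₁S
      have htH : t ∈ H := hS htS₁
      obtain ⟨hr1, htr⟩ : x * r₁ * x⁻¹ * r₁⁻¹ ∈ oddPart H ∧ x * (t * r₁) * x⁻¹ * (t * r₁)⁻¹ ∈ oddPart H := by
        rcases hv with rfl | rfl
        · exact ⟨hfix x hx, both _ _ hrH hyr hfix⟩
        · exact ⟨both _ _ (mul_mem htH hrH) hyv hfix, hfix x hx⟩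
      have hcom : ∀ w, ∀ hw : w ∈ H, x * w * x⁻¹ * w⁻¹ ∈ oddPart H →
          Commute (π ⟨x, hXH hx⟩) (π ⟨w, hw⟩) := fun w hw hm => by
        have h1 := (Local.bar_eq_one (x := ⟨x, hXH hx⟩ * ⟨w, hw⟩ * ⟨x, hXH hx⟩⁻¹ * ⟨w, hw⟩⁻¹)).2 hm
        rw [map_mul, map_mul, map_mul, map_inv, map_inv] at h1
        exact mul_inv_eq_iff_eq_mul.1 (mul_inv_eq_one.1 h1)
      refine Local.commutator_mem (hXH hx) htH ?_
      have e : (⟨t, htH⟩ : H) = ⟨t * r₁, mul_mem htH hrH⟩ * ⟨r₁, hrH⟩ :=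
        Subtype.ext (by show t = t * r₁ * r₁; rw [mul_assoc, h₁.mul_self_r, mul_one])
      rw [e, map_mul]
      exact (hcom _ _ htr).mul_right (hcom _ _ hr1)
    rcases h.inSocle_fourV_or hH hS with hV | hV
    · exact key h rfl hV
    · exact key h.swap h.closure_swap hV

end Cfsg.Agent.GWDihedral
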