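import Cfsg.Agent.Lib.GWDihedral.Growth
import Cfsg.Agent.Lib.GWDihedral.LocalFacts

/-!
# Gorenstein-Walter, dihedral Sylow subgroups: `InvariantCoreFixed` from the induction hypothesis (helper64)
-/

set_option autoImplicit false

namespace Cfsg.Agent.GWDihedral

universe u

variable {G : Type u} [Group G] [Finite G]

/-- The hypothesis of `Growth`, from the induction hypothesis. -/
theorem invariantCoreFixed_of_proper (hind : ProperGWLike G) {p : ℕ} (hp : p.Prime) (hp2 : p ≠ 2) :
    InvariantCoreFixed p G :=
  fun _ _ _ _ h _ hne hS _ hX hXH hXS => h.sylow_invariant_le hind hne hS hp hp2 hX hXS hXH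

end Cfsg.Agent.GWDihedral
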