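import Cfsg.Agent.Lib.GWDihedral.SidesFunctor
import Cfsg.Agent.Lib.GWDihedral.SocleFacts

/-!
# Gorenstein-Walter, dihedral Sylow subgroups of order at least eight: a full side and a normal line

Second half of section (1.2) of `notes/gw_dihedral_eight.md`, given `PGood`: the subgroup of order `p` of a
cyclic Sylow subgroup of `U` is not normal in `C(t)`.

* `FullSide.exists_commuting_pair` : two commuting elements of `C_R(U_p)`, at `r` and at `t * r`
* `FullSide.not_normal_of_pGood`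
-/

set_option autoImplicit false
set_option linter.unusedSectionVars false

namespace Cfsg.Agent.GWDihedral

open Subgroup
open Cfsg.Agent.GWKlein (coreU coreW fourV oddPart PGood)

universe u

variable {G : Type u} [Group G] [Finite G] {n : ℕ} {t r σ s : G} {p : ℕ} [Fact p.Prime]

/-- A `p`-group with all of its second centre in the centre is abelian. -/
theorem center_eq_top_of_second_le {X : Type*} [Group X] [Group.IsNilpotent X]
    (h : Subgroup.upperCentralSeries X 2 ≤ center X) : center X = ⊤ := by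
  obtain ⟨k, hk⟩ := Group.IsNilpotent.nilpotent X
  suffices ∀ j, Subgroup.upperCentralSeries X j ≤ center X from top_le_iff.1 (hk ▸ this k)
  intro j
  induction j with
  | zero => simp
  | succ j ih =>
    intro x hx
    refine h ((Subgroup.mem_upperCentralSeries_succ_iff (n := 1)).2 fun y => ?_)
    rw [Subgroup.upperCentralSeries_one]
    exact ih ((Subgroup.mem_upperCentralSeries_succ_iff (n := j)).1 hx y)

/-- Iterating a central commutator. -/
theorem conj_pow_of_central {f g c : G} (hc : f * g * f⁻¹ = c * g) (hcf : Commute c f) (k : ℕ) :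
    f ^ k * g * (f ^ k)⁻¹ = c ^ k * g := by
  induction k with
  | zero => simp
  | succ k ih =>
    calc f ^ (k + 1) * g * (f ^ (k + 1))⁻¹ = f * (f ^ k * g * (f ^ k)⁻¹) * f⁻¹ := by rw [pow_succ']; group
      _ = f * c ^ k * g * f⁻¹ := by rw [ih]; group
      _ = c ^ k * (f * g * f⁻¹) := by rw [(hcf.symm.pow_right k).eq]; group
      _ = c ^ (k + 1) * g := by rw [hc, pow_succ]; group

namespace FullSide

variable {R : Subgroup G}

/-- Elements of order `p` of `C_R(U_p)` at `r` and at `t * r`, with commutator in `U_p`. -/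
theorem exists_pair_mod (hR : FullSide p t r σ R) (h : DHyp n t r σ) (hp : p ≠ 2) {ρ : G}
    (hρ : ρ ∈ zpowers σ) (hρt : Commute ρ t) (hρr : ρ * r * ρ⁻¹ = t * r) :
    ∃ f ∈ R, orderOf f = p ∧ Commute f r ∧ t * f * t⁻¹ = f⁻¹ ∧ (∀ d ∈ R ⊓ coreU t, Commute d f) ∧
      (∀ d ∈ R ⊓ coreU t, Commute d (ρ * f * ρ⁻¹)) ∧
      ∃ c ∈ R ⊓ coreU t, f * (ρ * f * ρ⁻¹) * f⁻¹ = c * (ρ * f * ρ⁻¹) ∧ c ^ p = 1 := by
  set P := R ⊓ coreU t
  set S := closure ({σ, r} : Set G)
  obtain ⟨hSX, hXt⟩ := hR.centralizer_part h hp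
  set X := R ⊓ centralizer (P : Set G) with hXdef
  have hX : IsPGroup p X := hR.isPGroup.to_le inf_le_left
  haveI : Group.IsNilpotent X := hX.isNilpotent
  have hρS : ρ ∈ S := zpowers_le.2 h.sylow_mem_σ hρ
  have hcharP : ∀ Z : Subgroup X, Z.map X.subtype ≤ centralizer ({t} : Set G) → ∀ x ∈ Z, (x : G) ∈ P :=
    fun Z hZ x hx => ⟨x.2.1, h.mem_coreU_of_pgroup hp hX ⟨x.2, hZ ⟨x, hx, rfl⟩⟩⟩
  have hcen : ∀ x : X, (x : G) ∈ P → x ∈ center X := fun x hx =>
    mem_center_iff.2 fun y => Subtype.ext (mem_centralizer_iff.1 y.2.2 x hx).symm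
  -- a characteristic subgroup of class two moved by `t`
  obtain ⟨Z, hZc, hZt, hZ⟩ : ∃ Z : Subgroup X, Z.Characteristic ∧
      ¬ Z.map X.subtype ≤ centralizer ({t} : Set G) ∧
      ∀ x ∈ Z, ∀ y ∈ Z, ((x * y * x⁻¹ * y⁻¹ : X) : G) ∈ P ∧ x * y * x⁻¹ * y⁻¹ ∈ center X := by
    by_cases hc : (center X).map X.subtype ≤ centralizer ({t} : Set G)
    · refine ⟨Subgroup.upperCentralSeries X 2, inferInstance, fun h2 => hXt ?_, fun x hx y hy => ?_⟩
      · have e := center_eq_top_of_second_le fun x hx => hcen x (hcharP _ h2 x hx)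
        intro x hx
        exact hc ⟨⟨x, hx⟩, e ▸ mem_top _, rfl⟩
      · have h1 := (Subgroup.mem_upperCentralSeries_succ_iff (n := 1)).1 hx y
        rw [Subgroup.upperCentralSeries_one] at h1
        exact ⟨hcharP _ hc _ h1, h1⟩
    · refine ⟨center X, inferInstance, hc, fun x hx y hy => ?_⟩
      have e : x * y * x⁻¹ * y⁻¹ = 1 := by
        rw [← mem_center_iff.1 hx y, mul_inv_cancel_right, mul_inv_cancel]
      rw [e]
      exact ⟨one_mem _, one_mem _⟩
  haveI := hZc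
  have hSZ : S ≤ normalizer (Z.map X.subtype : Set G) := hSX.trans (Cores.normalizer_le_normalizer_map _)
  obtain ⟨f, hf, hfo, hfr, hft⟩ := exists_fixed_inverted h hp ((hX.to_subgroup Z).map _) hSZ hZt
  have hgZ : ρ * f * ρ⁻¹ ∈ Z.map X.subtype := (mem_normalizer_iff.1 (hSZ hρS) f).1 hf
  obtain ⟨f', hf', rfl⟩ := hf
  obtain ⟨g', hg', hgeq⟩ := hgZ
  have hgeq' : (g' : G) = ρ * (f' : G) * ρ⁻¹ := hgeq
  refine ⟨_, f'.2.1, hfo, hfr, hft, fun d hd => mem_centralizer_iff.1 f'.2.2 d hd, fun d hd => ?_, ?_⟩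
  · rw [← hgeq']
    exact mem_centralizer_iff.1 g'.2.2 d hd
  obtain ⟨hcP, hcZ⟩ := hZ f' hf' g' hg'
  refine ⟨_, hcP, ?_, ?_⟩
  · rw [← hgeq']
    show (f' : G) * g' * (f' : G)⁻¹ = (f' : G) * g' * (f' : G)⁻¹ * (g' : G)⁻¹ * g'
    group
  · have hk := conj_pow_of_central (f := f') (g := g') (c := f' * g' * f'⁻¹ * g'⁻¹)
      (inv_mul_cancel_right (f' * g' * f'⁻¹) g').symm (mem_center_iff.1 hcZ f').symm p
    have hfp : f' ^ p = 1 := Subtype.ext (by
      rw [SubgroupClass.coe_pow, OneMemClass.coe_one]; exact hfo ▸ pow_orderOf_eq_one _)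
    rw [hfp, one_mul, inv_one, mul_one, right_eq_mul] at hk
    exact congrArg Subtype.val hk

end FullSide

/-- The data of a normal line: elements of `U` of order dividing `p` lie on it. -/
theorem mem_zpowers_of_normal {R : Subgroup G} (hR : FullSide p t r σ R)
    [IsCyclic (R ⊓ coreU t : Subgroup G)] {e : G} (he : e ∈ coreU t) (heo : orderOf e = p)
    (hn : centralizer ({t} : Set G) ≤ normalizer (zpowers e : Set G)) :
    e ∈ R ⊓ coreU t ∧ ∀ x ∈ coreU t, x ^ p = 1 → x ∈ zpowers e := by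
  set P := R ⊓ coreU t
  have hep : e ^ p = 1 := heo ▸ pow_orderOf_eq_one e
  have hconj : ∀ c ∈ coreU t, ∀ z ∈ zpowers e, c * z * c⁻¹ ∈ zpowers e := fun c hc z hz =>
    (mem_normalizer_iff.1 (hn (GWKlein.coreU_le_centralizer t hc)) z).1 hz
  obtain ⟨c, hc, hcP⟩ := hR.exists_conj_mem he hep
  have hle : zpowers (c * e * c⁻¹) = zpowers e :=
    eq_of_le_of_card_ge (zpowers_le.2 (hconj c hc e (mem_zpowers e)))
      (le_of_eq (by rw [Nat.card_zpowers, Nat.card_zpowers]; exact ((MulAut.conj c).orderOf_eq e).symm))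
  have heP : e ∈ P := zpowers_le.2 hcP (hle.symm ▸ mem_zpowers e)
  refine ⟨heP, fun x hx hxp => ?_⟩
  by_cases hx1 : x = 1
  · exact hx1 ▸ one_mem _
  obtain ⟨d, hd, hdP⟩ := hR.exists_conj_mem hx hxp
  have hxo : orderOf x = p := orderOf_eq_prime hxp hx1
  have heq : zpowers (d * x * d⁻¹) = zpowers e := TIHall.eq_of_card_eq_cyclic (C := P)
    (zpowers_le.2 hdP) (zpowers_le.2 heP) (by
      rw [Nat.card_zpowers, Nat.card_zpowers, heo]
      exact ((MulAut.conj d).orderOf_eq x).trans hxo)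
  have := hconj d⁻¹ (inv_mem hd) _ (heq ▸ mem_zpowers (d * x * d⁻¹))
  simpa [mul_assoc] using this

/-- Two commuting elements over a normal line, one fixed by `r`, one by `t * r`. -/
theorem FullSide.exists_commuting_pair [IsSimpleGroup G] {R : Subgroup G} (hR : FullSide p t r σ R)
    (h : DHyp n t r σ) (hp : p ≠ 2) [IsCyclic (R ⊓ coreU t : Subgroup G)] {e : G} (he : e ∈ coreU t)
    (heo : orderOf e = p) (hn : centralizer ({t} : Set G) ≤ normalizer (zpowers e : Set G)) (hs : Rot t r s) :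
    ∃ f g : G, f ∈ R ∧ g ∈ R ∧ orderOf f = p ∧ Commute f r ∧ t * f * t⁻¹ = f⁻¹ ∧ g ^ p = 1 ∧
      t * g * t⁻¹ = g⁻¹ ∧ r * g * r⁻¹ = g⁻¹ ∧ g ≠ 1 ∧ Commute e f ∧ Commute e g ∧ Commute f g ∧
      zpowers (s⁻¹ * f * s) = zpowers e := by
  set P := R ⊓ coreU t
  obtain ⟨heP, hU⟩ := mem_zpowers_of_normal hR he heo hn
  obtain ⟨ρ, hρ, hρt, hρr⟩ := h.exists_quarter
  obtain ⟨f, hfR, hfo, hfr, hft, hfP, hgP, c, hcP, hc, hcp⟩ := hR.exists_pair_mod h hp hρ hρt hρr
  set g := ρ * f * ρ⁻¹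
  have hp1 := (Fact.out : p.Prime)
  have hfp : f ^ p = 1 := hfo ▸ pow_orderOf_eq_one f
  have hf1 : f ≠ 1 := fun e' => hp1.ne_one (by rw [← hfo, e', orderOf_one])
  have hgp : g ^ p = 1 := by rw [conj_pow, hfp, mul_one, mul_inv_cancel]
  have hg1 : g ≠ 1 := fun e' => hf1 (conj_eq_one_iff.1 e')
  have hρR : ρ ∈ normalizer (R : Set G) := hR.inv (zpowers_le.2 h.sylow_mem_σ hρ)
  have hgR : g ∈ R := (mem_normalizer_iff.1 hρR f).1 hfR
  have hgt : t * g * t⁻¹ = g⁻¹ := by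
    calc t * (ρ * f * ρ⁻¹) * t⁻¹ = (t * ρ) * f * (t * ρ)⁻¹ := by group
      _ = ρ * (t * f * t⁻¹) * ρ⁻¹ := by rw [← hρt.eq]; group
      _ = g⁻¹ := by rw [hft]; simp only [g]; group
  have hgtr : Commute g (t * r) := by
    have := hfr.map (MulAut.conj ρ).toMonoidHom
    simp only [MulEquiv.coe_toMonoidHom, MulAut.conj_apply, hρr] at this
    exact this
  have hgr : r * g * r⁻¹ = g⁻¹ := by
    calc r * g * r⁻¹ = t⁻¹ * (t * r * g * (t * r)⁻¹) * t := by group
      _ = g⁻¹ := by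
          rw [← hgtr.eq, mul_inv_cancel_right, Involution.inv_eq h.order_t]
          rwa [Involution.inv_eq h.order_t] at hgt
  -- the line of `f` comes from the normal line
  set f' := s⁻¹ * f * s
  have hf'o : orderOf f' = p := by
    rw [← hfo, ← (MulAut.conj s⁻¹).orderOf_eq f]; simp [f']
  have hf'U : f' ∈ coreU t :=
    h.mem_coreU.2 ⟨hs.commute_t hfr, hf'o ▸ hp1.odd_of_ne_two hp⟩
  have hf'e : zpowers f' = zpowers e :=
    eq_of_le_of_card_ge (zpowers_le.2 (hU f' hf'U (hf'o ▸ pow_orderOf_eq_one f')))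
      (by rw [Nat.card_zpowers, Nat.card_zpowers, hf'o, heo])
  refine ⟨f, g, hfR, hgR, hfo, hfr, hft, hgp, hgt, hgr, hg1, hfP e heP, hgP e heP, ?_, hf'e⟩
  by_contra hfg
  have hc1 : c ≠ 1 := fun e' => hfg (mul_inv_eq_iff_eq_mul.1 (hc.trans (by rw [e', one_mul])))
  have hce : c ∈ zpowers e := hU c hcP.2 hcp
  have hfe : f ∉ zpowers e := fun hf => by
    obtain ⟨i, hi⟩ := mem_zpowers_iff.1 hf
    exact not_commute_of_inverted (hfo ▸ hp1.odd_of_ne_two hp) hf1 hft
      (hi ▸ (GWKlein.commute_of_mem_coreU he).zpow_left i)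
  obtain ⟨hEe, hEc⟩ := GWKlein.elemAb_sup_zpowers (GWKlein.elemAb_zpowers (heo ▸ pow_orderOf_eq_one e : e ^ p = 1))
    hfp (fun b hb => by obtain ⟨i, rfl⟩ := hb; exact (hfP e heP).zpow_left i) hfe
  set E := zpowers e ⊔ zpowers f
  have heg : Commute e g := hgP e heP
  have hgf : g * f * g⁻¹ = c⁻¹ * f := by
    have hcf : Commute c f := hfP c hcP
    calc g * f * g⁻¹ = c⁻¹ * (c * g) * f * g⁻¹ := by group
      _ = c⁻¹ * (f * g * f⁻¹) * f * g⁻¹ := by rw [hc]
      _ = c⁻¹ * f := by group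
  have hgE : g ∈ normalizer (E : Set G) := by
    refine Coprime.mem_normalizer_of_forall fun x hx => ?_
    have hle : E ≤ E.comap (MulAut.conj g).toMonoidHom := sup_le
      (zpowers_le.2 (show g * e * g⁻¹ ∈ E by rw [← heg.eq, mul_inv_cancel_right]; exact mem_sup_left (mem_zpowers e)))
      (zpowers_le.2 (show g * f * g⁻¹ ∈ E by
        rw [hgf]; exact mul_mem (inv_mem (mem_sup_left hce)) (mem_sup_right (mem_zpowers f))))
    exact hle hx
  -- the swap of the two lines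
  set τ := s * ρ
  have hρe : ρ * e * ρ⁻¹ ∈ zpowers e :=
    (mem_normalizer_iff.1 (hn (mem_centralizer_t.2 hρt)) e).1 (mem_zpowers e)
  have hsmap : ∀ x ∈ zpowers e, s * x * s⁻¹ ∈ zpowers f := fun x hx => by
    obtain ⟨i, rfl⟩ := mem_zpowers_iff.1 (hf'e.symm ▸ hx : x ∈ zpowers f')
    rw [← conj_zpow, show s * f' * s⁻¹ = f by simp only [f']; group]
    exact zpow_mem (mem_zpowers f) i
  have hsg : s * g * s⁻¹ ∈ zpowers e := by
    refine hU _ (h.mem_coreU.2 ⟨?_, ?_⟩) (by rw [conj_pow, hgp, mul_one, mul_inv_cancel])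
    · have := hgtr.map (MulAut.conj s).toMonoidHom
      simp only [MulEquiv.coe_toMonoidHom, MulAut.conj_apply] at this
      rwa [show s * (t * r) * s⁻¹ = t from hs.conj_mul h.comm_t_r h.mul_self_r] at this
    · rw [show orderOf (s * g * s⁻¹) = orderOf g from (MulAut.conj s).orderOf_eq g, orderOf_eq_prime hgp hg1]
      exact hp1.odd_of_ne_two hp
  have hτe : τ * e * τ⁻¹ ∈ zpowers f := by
    rw [show τ * e * τ⁻¹ = s * (ρ * e * ρ⁻¹) * s⁻¹ by simp only [τ]; group]
    exact hsmap _ hρe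
  have hτf : τ * f * τ⁻¹ ∈ zpowers e := by
    rw [show τ * f * τ⁻¹ = s * g * s⁻¹ by simp only [τ, g]; group]
    exact hsg
  have hτE : τ ∈ normalizer (E : Set G) := by
    refine Coprime.mem_normalizer_of_forall fun x hx => ?_
    have hle : E ≤ E.comap (MulAut.conj τ).toMonoidHom :=
      sup_le (zpowers_le.2 (mem_sup_right hτe)) (zpowers_le.2 (mem_sup_left hτf))
    exact hle hx
  have hgquad : ∀ v ∈ E, Commute g (g * v * g⁻¹ * v⁻¹) := by
    intro v hv
    have hn' : zpowers f ≤ normalizer (zpowers e : Set G) := zpowers_le.2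
      (Coprime.mem_normalizer_of_forall fun x hx => by
        obtain ⟨i, rfl⟩ := mem_zpowers_iff.1 hx
        rw [← ((hfP e heP).zpow_left i).eq, mul_inv_cancel_right]
        exact hx)
    obtain ⟨x, hx, y, hy, rfl⟩ := (Coprime.mem_sup_iff hn').1 hv
    obtain ⟨i, rfl⟩ := mem_zpowers_iff.1 hx
    obtain ⟨j, rfl⟩ := mem_zpowers_iff.1 hy
    have e1 : g * (e ^ i * f ^ j) * g⁻¹ * (e ^ i * f ^ j)⁻¹ = (c⁻¹) ^ j := by
      have hcf : Commute c f := hfP c hcP
      calc g * (e ^ i * f ^ j) * g⁻¹ * (e ^ i * f ^ j)⁻¹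
          = g * e ^ i * g⁻¹ * (g * f * g⁻¹) ^ j * (f ^ j)⁻¹ * (e ^ i)⁻¹ := by rw [conj_zpow]; group
        _ = e ^ i * (c⁻¹) ^ j * (e ^ i)⁻¹ := by
            rw [← (heg.zpow_left i).eq, mul_inv_cancel_right, hgf, hcf.inv_left.mul_zpow]; group
        _ = (c⁻¹) ^ j := by
            obtain ⟨k, rfl⟩ := mem_zpowers_iff.1 hce
            rw [((((Commute.refl e).zpow_zpow i k).inv_right).zpow_right j).eq, mul_inv_cancel_right]
    rw [e1]
    obtain ⟨k, rfl⟩ := mem_zpowers_iff.1 hce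
    exact ((heg.symm.zpow_right k).inv_right).zpow_right j
  have hbE : τ * g * τ⁻¹ ∈ normalizer (E : Set G) := mul_mem (mul_mem hτE hgE) (inv_mem hτE)
  have hbquad : ∀ v ∈ E, Commute (τ * g * τ⁻¹) (τ * g * τ⁻¹ * v * (τ * g * τ⁻¹)⁻¹ * v⁻¹) := by
    intro v hv
    have hv' : τ⁻¹ * v * τ ∈ E := by
      have := (mem_normalizer_iff.1 (inv_mem hτE) v).1 hv
      rwa [inv_inv] at this
    have := (hgquad _ hv').map (MulAut.conj τ).toMonoidHom
    simp only [MulEquiv.coe_toMonoidHom, MulAut.conj_apply] at this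
    rwa [show τ * (g * (τ⁻¹ * v * τ) * g⁻¹ * (τ⁻¹ * v * τ)⁻¹) * τ⁻¹ =
      τ * g * τ⁻¹ * v * (τ * g * τ⁻¹)⁻¹ * v⁻¹ by group] at this
  obtain ⟨v, hv, hv1, hgv, hbv⟩ := not_opposite h hp hEe hgE hbE hgquad hbquad
    (fun e' => hfe (by rw [show f = 1 from mem_bot.1 (e' ▸ mem_sup_right (mem_zpowers f))]; exact one_mem _))
  -- the fixed line of `g` is the line of `e`, that of its conjugate the line of `f`
  have fixed : ∀ w ∈ E, Commute g w → w ∈ zpowers e := by
    intro w hw hgw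
    have hn' : zpowers f ≤ normalizer (zpowers e : Set G) := zpowers_le.2
      (Coprime.mem_normalizer_of_forall fun x hx => by
        obtain ⟨i, rfl⟩ := mem_zpowers_iff.1 hx
        rw [← ((hfP e heP).zpow_left i).eq, mul_inv_cancel_right]
        exact hx)
    obtain ⟨x, hx, y, hy, rfl⟩ := (Coprime.mem_sup_iff hn').1 hw
    obtain ⟨i, rfl⟩ := mem_zpowers_iff.1 hx
    have hgy : Commute g y := by
      have := (heg.symm.zpow_right i).inv_right.mul_right hgw
      rwa [inv_mul_cancel_left] at this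
    by_cases hy1 : y = 1
    · rw [hy1, mul_one]; exact zpow_mem (mem_zpowers e) i
    exfalso
    have hyo : orderOf y = p := by
      refine orderOf_eq_prime ?_ hy1
      obtain ⟨j, rfl⟩ := mem_zpowers_iff.1 hy
      rw [← zpow_natCast, ← zpow_mul, mul_comm, zpow_mul, zpow_natCast, hfp, one_zpow]
    have heq : zpowers y = zpowers f := eq_of_le_of_card_ge (zpowers_le.2 hy)
      (by rw [Nat.card_zpowers, Nat.card_zpowers, hfo, hyo])
    obtain ⟨j, hj⟩ := mem_zpowers_iff.1 (heq.symm ▸ mem_zpowers f : f ∈ zpowers y)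
    exact hfg (hj ▸ (hgy.symm.zpow_left j))
  have hve := fixed v hv hgv
  have hv' : τ⁻¹ * v * τ ∈ E := by
    have := (mem_normalizer_iff.1 (inv_mem hτE) v).1 hv
    rwa [inv_inv] at this
  have hgv' : Commute g (τ⁻¹ * v * τ) := by
    have := hbv.map (MulAut.conj τ⁻¹).toMonoidHom
    simp only [MulEquiv.coe_toMonoidHom, MulAut.conj_apply] at this
    rwa [show τ⁻¹ * (τ * g * τ⁻¹) * τ⁻¹⁻¹ = g by group, inv_inv] at this
  obtain ⟨i, hi⟩ := mem_zpowers_iff.1 (fixed _ hv' hgv')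
  have hvf : v ∈ zpowers f := by
    rw [show v = τ * (τ⁻¹ * v * τ) * τ⁻¹ by group, ← hi, ← conj_zpow]
    exact zpow_mem hτe i
  refine hfe ?_
  have hvo : orderOf v = p := orderOf_eq_prime (hEe.2 v hv) hv1
  have heq : zpowers v = zpowers f := eq_of_le_of_card_ge (zpowers_le.2 hvf)
    (by rw [Nat.card_zpowers, Nat.card_zpowers, hfo, hvo])
  exact zpowers_le.2 hve (heq.symm ▸ mem_zpowers f)

/-- A rank three group through the line. -/
theorem exists_rankThree [IsSimpleGroup G] {R : Subgroup G} (hR : FullSide p t r σ R) (h : DHyp n t r σ)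
    (hp : p ≠ 2) [IsCyclic (R ⊓ coreU t : Subgroup G)] {e : G} (he : e ∈ coreU t) (heo : orderOf e = p)
    (hn : centralizer ({t} : Set G) ≤ normalizer (zpowers e : Set G)) (hs : Rot t r s) :
    ∃ A ≤ R, Cfsg.IsElementaryAbelian p A ∧ p ^ 3 ≤ Nat.card A ∧ ∃ f : G, orderOf f = p ∧
      zpowers (s⁻¹ * f * s) = zpowers e ∧ zpowers e ⊔ zpowers f ≤ A ∧
      Nat.card (zpowers e ⊔ zpowers f : Subgroup G) = p ^ 2 := by
  obtain ⟨f, g, hfR, hgR, hfo, hfr, hft, hgp, hgt, hgr, hg1, hef, heg, hfg, hfe⟩ :=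
    hR.exists_commuting_pair h hp he heo hn hs
  have hp1 := (Fact.out : p.Prime)
  have heP := (mem_zpowers_of_normal hR he heo hn).1
  have hep : e ^ p = 1 := heo ▸ pow_orderOf_eq_one e
  have hfp : f ^ p = 1 := hfo ▸ pow_orderOf_eq_one f
  have hf1 : f ≠ 1 := fun e' => hp1.ne_one (by rw [← hfo, e', orderOf_one])
  have hf' : f ∉ zpowers e := fun hf => by
    obtain ⟨i, hi⟩ := mem_zpowers_iff.1 hf
    exact not_commute_of_inverted (hfo ▸ hp1.odd_of_ne_two hp) hf1 hft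
      (hi ▸ (GWKlein.commute_of_mem_coreU he).zpow_left i)
  obtain ⟨hBe, hBc⟩ := GWKlein.elemAb_sup_zpowers (GWKlein.elemAb_zpowers hep) hfp
    (fun b hb => by obtain ⟨i, rfl⟩ := hb; exact hef.zpow_left i) hf'
  set B := zpowers e ⊔ zpowers f
  have hBg : ∀ b ∈ B, Commute b g := fun b hb => by
    have hle : B ≤ centralizer ({g} : Set G) := sup_le
      (zpowers_le.2 (mem_centralizer_singleton_iff.2 heg.eq)) (zpowers_le.2 (mem_centralizer_singleton_iff.2 hfg.eq))
    exact mem_centralizer_singleton_iff.1 (hle hb)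
  have hgB : g ∉ B := fun hg => by
    have hn' : zpowers f ≤ normalizer (zpowers e : Set G) := zpowers_le.2
      (Coprime.mem_normalizer_of_forall fun x hx => by
        obtain ⟨i, rfl⟩ := mem_zpowers_iff.1 hx
        rw [← (hef.zpow_left i).eq, mul_inv_cancel_right]
        exact hx)
    obtain ⟨x, hx, y, hy, hxy⟩ := (Coprime.mem_sup_iff hn').1 hg
    obtain ⟨i, rfl⟩ := mem_zpowers_iff.1 hx
    obtain ⟨j, rfl⟩ := mem_zpowers_iff.1 hy
    -- apply `t`: the `e`-part vanishes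
    have het : t * e * t⁻¹ = e := by rw [← (GWKlein.commute_of_mem_coreU he).eq, mul_inv_cancel_right]
    have h1 : (e ^ i * f ^ j)⁻¹ = e ^ i * (f ^ j)⁻¹ := by
      rw [hxy, ← hgt, ← hxy, show t * (e ^ i * f ^ j) * t⁻¹ = (t * e ^ i * t⁻¹) * (t * f ^ j * t⁻¹) by group,
        ← conj_zpow, ← conj_zpow, het, hft, inv_zpow]
    rw [mul_inv_rev, ← (hef.zpow_zpow i j).inv_left.inv_right.eq] at h1
    have h2 : (e ^ i)⁻¹ = e ^ i := mul_right_cancel h1
    have h3 : e ^ i = 1 := GWKlein.eq_one_of_square hp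
      (by rw [← zpow_natCast, ← zpow_mul, mul_comm, zpow_mul, zpow_natCast, hep, one_zpow])
      (by nth_rw 1 [← h2]; exact inv_mul_cancel _)
    rw [h3, one_mul] at hxy
    have hcr : Commute g r := hxy ▸ hfr.zpow_left j
    exact hg1 (eq_one_of_inverted_commute (u := r)
      (by rw [orderOf_eq_prime hgp hg1]; exact hp1.odd_of_ne_two hp) hgr hcr.symm)
  obtain ⟨hF, hFc⟩ := GWKlein.elemAb_sup_zpowers hBe hgp hBg hgB
  set F := B ⊔ zpowers g
  have hB2 : Nat.card B = p ^ 2 := by rw [hBc, Nat.card_zpowers, heo, pow_two]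
  exact ⟨F, sup_le (sup_le (zpowers_le.2 heP.1) (zpowers_le.2 hfR)) (zpowers_le.2 hgR), hF,
    by rw [hFc, hB2, ← pow_succ], f, hfo, hfe, le_sup_left, hB2⟩

/-- The functor with a normal line: `C(r) ≤ M`. -/
theorem centralizer_r_le_of_normal [IsSimpleGroup G] (h : DHyp n t r σ) (hp : p ≠ 2) (hloc : PGood G p)
    {R M : Subgroup G} (hR : FullSide p t r σ R) [IsCyclic (R ⊓ coreU t : Subgroup G)] (hRM : R ≤ M)
    {e : G} (he : e ∈ coreU t) (heo : orderOf e = p)
    (hn : centralizer ({t} : Set G) ≤ normalizer (zpowers e : Set G)) (hs : Rot t r s)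
    (hM : ∀ F ≤ M, Cfsg.IsElementaryAbelian p F → p ^ 3 ≤ Nat.card F →
      (∀ a ∈ F, a ≠ 1 → centralizer ({a} : Set G) ≤ M) ∧
        ∀ B ≤ F, Nat.card B = p ^ 2 → ∀ H : Subgroup G, Cfsg.IsPConstrained p H → B ≤ H → H ≤ M) :
    centralizer ({r} : Set G) ≤ M ∧ centralizer ({t} : Set G) ≤ M := by
  obtain ⟨A, hAR, hA, hA3, f, hfo, hfe, hBA, hB2⟩ := exists_rankThree hR h hp he heo hn hs
  set B := zpowers e ⊔ zpowers f
  have hp1 := (Fact.out : p.Prime)
  have hBe : Cfsg.IsElementaryAbelian p B := Signalizer.elemAb_of_le hA hBA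
  have line : ∀ x ∈ B, orderOf x = p → B ≤ normalizer (zpowers x : Set G) → normalizer (zpowers x : Set G) ≤ M :=
    fun x _ hxo hBx => (hM A (hAR.trans hRM) hA hA3).2 B hBA hB2 _
      (hloc (zpowers x) (IsPGroup.of_card (n := 1) (by rw [Nat.card_zpowers, hxo, pow_one]))
        (fun e' => hp1.ne_one (by rw [← hxo, zpowers_eq_bot.1 e', orderOf_one]))).2 hBx
  have hnorm : ∀ x ∈ B, B ≤ normalizer (zpowers x : Set G) := fun x hx b hb => by
    refine Coprime.mem_normalizer_of_forall fun y hy => ?_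
    have hyB : y ∈ B := zpowers_le.2 hx hy
    rw [Signalizer.commute_of_isMulCommutative hBe.1 hb hyB, mul_inv_cancel_right]
    exact hy
  have heB : e ∈ B := mem_sup_left (mem_zpowers e)
  have hfB : f ∈ B := mem_sup_right (mem_zpowers f)
  refine ⟨?_, hn.trans (line e heB heo (hnorm e heB))⟩
  refine le_trans ?_ (line f hfB hfo (hnorm f hfB))
  intro x hx
  have hxt : s⁻¹ * x * s ∈ centralizer ({t} : Set G) :=
    mem_centralizer_t.2 (hs.commute_t (mem_centralizer_singleton_iff.1 hx))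
  refine Coprime.mem_normalizer_of_forall fun y hy => ?_
  obtain ⟨i, rfl⟩ := mem_zpowers_iff.1 hy
  have h1 : s⁻¹ * f ^ i * s ∈ zpowers e := by
    rw [← hfe]
    have e' : (s⁻¹ * f * s⁻¹⁻¹) ^ i = s⁻¹ * f ^ i * s⁻¹⁻¹ := conj_zpow
    rw [inv_inv] at e'
    rw [← e']
    exact zpow_mem (mem_zpowers _) i
  have h2 := (mem_normalizer_iff.1 (hn hxt) _).1 h1
  rw [← hfe] at h2
  obtain ⟨k, hk⟩ := mem_zpowers_iff.1 h2
  refine ⟨k, ?_⟩
  have h3 := congrArg (fun z => s * z * s⁻¹) hk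
  rw [← conj_zpow, show s * (s⁻¹ * f * s) * s⁻¹ = f by group] at h3
  show f ^ k = x * f ^ i * x⁻¹
  rw [h3]
  group

/-- **(1.2)**, second half: the line is not normal. -/
theorem FullSide.not_normal_of_pGood [IsSimpleGroup G] {R : Subgroup G} (hR : FullSide p t r σ R)
    (h : DHyp n t r σ) (hp : p ≠ 2) (hloc : PGood G p) {e : G} (he : e ∈ coreU t) (heo : orderOf e = p) :
    ¬ centralizer ({t} : Set G) ≤ normalizer (zpowers e : Set G) := by
  intro hn
  haveI : IsCyclic (R ⊓ coreU t : Subgroup G) := hR.isCyclic_of_pGood h hp hloc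
  obtain ⟨s, hs⟩ := h.exists_rot
  obtain ⟨s', hs'⟩ := h.swap.exists_rot
  obtain ⟨A, hAR, hA, hA3, -⟩ := exists_rankThree hR h hp he heo hn hs
  obtain ⟨M, hMtop, hRM, -, hM⟩ := h.exists_overgroup hp hloc hR.isPGroup hAR hA hA3
  obtain ⟨hr', ht'⟩ := centralizer_r_le_of_normal h hp hloc hR hRM he heo hn hs hM
  have hr2 := (centralizer_r_le_of_normal h.swap hp hloc (hR.swap h) hRM he heo hn hs' hM).1
  exact h.noFusedOvergroup M hMtop ht' (h.fused_of_centralizer_le_of_rot hs ht' hr')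
    (h.swap.fused_of_centralizer_le_of_rot hs' ht' hr2)

end Cfsg.Agent.GWDihedral
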