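import Cfsg.Agent.Lib.GWDihedral.SidesGood
import Cfsg.Agent.Lib.GWDihedral.SidesNormal
import Cfsg.Agent.Lib.GWDihedral.InvariantCore
import Cfsg.Agent.Lib.GWDihedral.Steps

/-!
# Gorenstein-Walter, dihedral Sylow subgroups of order at least eight: sides are exceptional

Section (1.2) of `notes/gw_dihedral_eight.md`: `sideExc`.
-/

set_option autoImplicit false

namespace Cfsg.Agent.GWDihedral

open Subgroup
open Cfsg.Agent.GWKlein (coreU coreW fourV oddPart PGood)

universe u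

variable {G : Type u} [Group G] [Finite G] {n : ℕ} {t r σ : G} {p : ℕ} [Fact p.Prime]

/-- The second half of (1.2): `p` is prime to `a`. -/
theorem FullSide.not_dvd [IsSimpleGroup G] {R : Subgroup G} (hR : FullSide p t r σ R) (h : DHyp n t r σ)
    (hp : p ≠ 2) (hcyc : ∀ Y : Subgroup G, Y ≤ coreU t → IsPGroup p Y → IsCyclic Y) :
    ¬ p ∣ Nat.card (coreW t r) := by
  intro hdvd
  have hp1 := (Fact.out : p.Prime)
  obtain ⟨⟨x, hx⟩, hxo⟩ := exists_prime_orderOf_dvd_card' p hdvd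
  rw [Subgroup.orderOf_mk] at hxo
  obtain ⟨hxt, hxr, -⟩ := h.mem_coreW.1 hx
  have hxV : fourV t r ≤ normalizer (zpowers x : Set G) := (closure_le _).2 (by
    rintro v (rfl | rfl)
    · exact centralizer_le_normalizer _ (mem_centralizer_iff.2 fun y hy => by
        obtain ⟨i, rfl⟩ := mem_zpowers_iff.1 hy; exact (hxt.zpow_left i).eq)
    · exact centralizer_le_normalizer _ (mem_centralizer_iff.2 fun y hy => by
        obtain ⟨i, rfl⟩ := mem_zpowers_iff.1 hy; exact (hxr.zpow_left i).eq))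
  have hxp : IsPGroup p (zpowers x) := IsPGroup.of_card (n := 1) (by rw [Nat.card_zpowers, hxo, pow_one])
  obtain ⟨c, hct, hcr, hc⟩ := hR.exists_conj_le h hxp (zpowers_le.2 hx.1) hxV
  set e := c * x * c⁻¹
  have he : e ∈ R ⊓ coreU t := hc x (mem_zpowers x)
  have heo : orderOf e = p := ((MulAut.conj c).orderOf_eq x).trans hxo
  have her : Commute e r := by
    have := hxr.map (MulAut.conj c).toMonoidHom
    simp only [MulEquiv.coe_toMonoidHom, MulAut.conj_apply] at this
    rwa [show c * r * c⁻¹ = r by rw [hcr.eq, mul_inv_cancel_right]] at this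
  obtain ⟨f, -, hfo, hfr, hft, hfP⟩ := hR.exists_elem h hp
  have hf1 : f ≠ 1 := fun e' => hp1.ne_one (by rw [← hfo, e', orderOf_one])
  have hfe : f ∉ zpowers e := fun hf => by
    obtain ⟨i, hi⟩ := mem_zpowers_iff.1 hf
    exact not_commute_of_inverted (hfo ▸ hp1.odd_of_ne_two hp) hf1 hft
      (hi ▸ (GWKlein.commute_of_mem_coreU he.2).zpow_left i)
  obtain ⟨hE, hEc⟩ := GWKlein.elemAb_sup_zpowers (GWKlein.elemAb_zpowers (heo ▸ pow_orderOf_eq_one e : e ^ p = 1))
    (hfo ▸ pow_orderOf_eq_one f) (fun b hb => by obtain ⟨i, rfl⟩ := hb; exact (hfP e he).zpow_left i) hfe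
  set E := zpowers e ⊔ zpowers f
  have hEr : E ≤ centralizer ({r} : Set G) := sup_le
    (zpowers_le.2 (mem_centralizer_singleton_iff.2 her.eq)) (zpowers_le.2 (mem_centralizer_singleton_iff.2 hfr.eq))
  obtain ⟨s, hs⟩ := h.exists_rot
  set φ := (MulAut.conj s⁻¹).toMonoidHom
  have hEc2 : Nat.card (E.map φ) = p ^ 2 := by
    rw [card_map_of_injective (MulAut.conj s⁻¹).injective, hEc, Nat.card_zpowers, heo, pow_two]
  have hEp : IsPGroup p (E.map φ) := IsPGroup.of_card hEc2
  have hEU : E.map φ ≤ coreU t := fun z hz => by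
    obtain ⟨w, hw, rfl⟩ := hz
    refine h.mem_coreU.2 ⟨?_, (hp1.odd_of_ne_two hp).pow.of_dvd_nat
      (hEc2 ▸ orderOf_dvd_natCard _ (mem_map_of_mem φ hw))⟩
    have := hs.commute_t (mem_centralizer_singleton_iff.1 (hEr hw))
    simpa [φ] using this
  haveI := hcyc _ hEU hEp
  obtain ⟨g, hg⟩ := IsCyclic.exists_generator (α := E.map φ)
  obtain ⟨w, hw, hwg⟩ := g.2
  have h1 : g ^ p = 1 := Subtype.ext (by rw [SubgroupClass.coe_pow, ← hwg, ← map_pow, hE.2 w hw, map_one]; rfl)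
  have h2 := Nat.le_of_dvd hp1.pos ((orderOf_eq_card_of_forall_mem_zpowers hg).trans hEc2 ▸
    orderOf_dvd_of_pow_eq_one h1)
  nlinarith [hp1.two_le]

/-- **(1.2)**: a side makes its prime exceptional. -/
theorem sideExc [IsSimpleGroup G] (h : DHyp n t r σ) (hind : ProperGWLike G) : SideExc t r σ := by
  intro q hq hq2 R₀ hR₀
  haveI := Fact.mk hq
  obtain ⟨R, hR⟩ := exists_fullSide_of_side h hq2 (invariantCoreFixed_of_proper hind hq hq2) hR₀
  have hgood := hR.pGood h hind hq2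
  haveI := hR.isCyclic_of_pGood h hq2 hgood
  have hcyc : ∀ Y : Subgroup G, Y ≤ coreU t → IsPGroup q Y → IsCyclic Y := by
    intro Y hYU hY
    obtain ⟨S₁, hS₁⟩ := ((hY.of_equiv (subgroupOfEquivOfLe hYU).symm)).exists_le_sylow
    have hPU : R ⊓ coreU t ≤ coreU t := inf_le_right
    let S₂ : Sylow q (coreU t) := Sylow.ofCard ((R ⊓ coreU t).subgroupOf (coreU t))
      (by rw [Cores.card_subgroupOf hPU, hR.card])
    haveI : IsCyclic S₂ := (subgroupOfEquivOfLe hPU).isCyclic.2 inferInstance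
    haveI : IsCyclic S₁ := (S₁.equiv S₂).isCyclic.2 inferInstance
    haveI : IsCyclic (Y.subgroupOf (coreU t)) := isCyclic_of_injective (inclusion hS₁) (inclusion_injective hS₁)
    exact (subgroupOfEquivOfLe hYU).isCyclic.1 inferInstance
  refine ⟨?_, hR.not_dvd h hq2 hcyc, (hR.swap h).not_dvd h.swap hq2 hcyc, fun P hP hPq => hcyc P hP hPq,
    fun E hE hEc hn => ?_⟩
  · obtain ⟨k, hk⟩ := IsPGroup.iff_card.1 (hR.isPGroup.to_le (inf_le_left : R ⊓ coreU t ≤ R))
    rcases k with _ | k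
    · exact absurd (eq_bot_of_card_eq _ (by rw [hk, pow_zero])) hR.meets
    · exact (dvd_pow_self q k.succ_ne_zero).trans (hk ▸ card_dvd_of_le inf_le_right)
  · obtain ⟨⟨e, he⟩, heo⟩ := exists_prime_orderOf_dvd_card' q (hEc ▸ dvd_refl q : q ∣ Nat.card E)
    rw [Subgroup.orderOf_mk] at heo
    have hEe : zpowers e = E := eq_of_le_of_card_ge (zpowers_le.2 he) (by rw [Nat.card_zpowers, heo, hEc])
    exact hR.not_normal_of_pGood h hq2 hgood (hE he) heo (hEe.symm ▸ hn)

end Cfsg.Agent.GWDihedral
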