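import Cfsg.Agent.Lib.GWDihedral.Defs
import Cfsg.Agent.Lib.GWKlein.Basic
import Cfsg.Agent.Lib.BSW.DihedralCore

/-!
# Gorenstein-Walter, dihedral Sylow 2-subgroups of order at least eight: basic facts

* `exists_dHyp`, `DHyp.swap` : the setting exists and is symmetric in the two classes of reflections
* `DHyp.isConj_t`, `DHyp.exists_rot` : fusion in a simple group
* `DHyp.sup_sylow`, `DHyp.card_centralizer`, `DHyp.mem_coreU` : `C(t) = U ⟨σ, r⟩`
* `DHyp.card_centralizer_pair`, `DHyp.mem_coreW` : `C(t, r) = W ⟨t, r⟩`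
-/

set_option autoImplicit false
set_option linter.unusedSectionVars false
set_option linter.style.haveILetI false

namespace Cfsg.Agent.GWDihedral

open Subgroup
open Cfsg.Agent.GWKlein (coreU coreW fourV)

variable {G : Type*} [Group G] {n : ℕ} {t r σ : G}

namespace DHyp

/-- The exponent written as `a + 3`. -/
theorem exists_add (h : DHyp n t r σ) : ∃ a, n = a + 3 := ⟨n - 3, by have := h.three_le; omega⟩

theorem four_le_order (h : DHyp n t r σ) : 4 ≤ orderOf σ := by
  obtain ⟨a, rfl⟩ := h.exists_add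
  rw [h.order_σ, show a + 3 - 1 = a + 2 by omega, pow_add]
  exact Nat.le_mul_of_pos_left 4 (by positivity)

theorem mul_self_r (h : DHyp n t r σ) : r * r = 1 := Involution.mul_self h.order_r

theorem order_t (h : DHyp n t r σ) : orderOf t = 2 := by
  obtain ⟨a, rfl⟩ := h.exists_add
  rw [h.t_eq, orderOf_pow' _ (by positivity), h.order_σ, show a + 3 - 1 = a + 2 by omega,
    show a + 3 - 2 = a + 1 by omega, pow_succ' 2 (a + 1), Nat.gcd_mul_left_left,
    Nat.mul_div_cancel _ (by positivity)]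

theorem mul_self_t (h : DHyp n t r σ) : t * t = 1 := Involution.mul_self h.order_t

theorem ne_one_t (h : DHyp n t r σ) : t ≠ 1 := Involution.ne_one h.order_t

theorem ne_one_r (h : DHyp n t r σ) : r ≠ 1 := Involution.ne_one h.order_r

theorem t_mem_zpowers (h : DHyp n t r σ) : t ∈ zpowers σ := h.t_eq ▸ pow_mem (mem_zpowers σ) _

theorem comm_t_σ (h : DHyp n t r σ) : Commute t σ := h.t_eq ▸ (Commute.refl σ).pow_left _

theorem comm_t_r (h : DHyp n t r σ) : Commute t r := by
  have e : r * t * r⁻¹ = t⁻¹ := by rw [h.t_eq]; exact Involution.inverts_pow h.conj_σ _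
  rw [Involution.inv_eq h.order_t, mul_inv_eq_iff_eq_mul] at e
  exact e.symm

theorem r_not_mem_zpowers (h : DHyp n t r σ) : r ∉ zpowers σ := by
  intro hr
  obtain ⟨k, hk⟩ := mem_zpowers_iff.1 hr
  have e : r * σ * r⁻¹ = σ := by
    rw [← hk, ((Commute.refl σ).zpow_left k).eq, mul_inv_cancel_right]
  rw [h.conj_σ] at e
  have h2 := Nat.le_of_dvd two_pos (orderOf_dvd_of_pow_eq_one (x := σ) (n := 2)
    (by rw [sq]; exact mul_eq_one_iff_eq_inv.2 e.symm))
  have := h.four_le_order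
  omega

theorem ne (h : DHyp n t r σ) : t ≠ r := fun e => h.r_not_mem_zpowers (e ▸ h.t_mem_zpowers)

theorem t_mul_r_ne_one (h : DHyp n t r σ) : t * r ≠ 1 := fun e => h.ne <| by
  rw [eq_inv_of_mul_eq_one_left e, Involution.inv_eq h.order_r]

theorem order_t_mul_r (h : DHyp n t r σ) : orderOf (t * r) = 2 :=
  Involution.orderOf_of_sq (by rw [h.comm_t_r.symm.mul_mul_mul_comm, h.mul_self_t, h.mul_self_r, one_mul])
    h.t_mul_r_ne_one

theorem mul_σ_sq (h : DHyp n t r σ) : r * σ * (r * σ) = 1 := by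
  have e := h.conj_σ
  rw [Involution.inv_eq h.order_r] at e
  rw [← mul_assoc, e, inv_mul_cancel]

theorem order_r_mul_σ (h : DHyp n t r σ) : orderOf (r * σ) = 2 :=
  Involution.orderOf_of_sq h.mul_σ_sq fun e => h.r_not_mem_zpowers
    (eq_inv_of_mul_eq_one_left e ▸ inv_mem (mem_zpowers σ))

theorem closure_swap (h : DHyp n t r σ) : closure ({σ⁻¹, r * σ} : Set G) = closure {σ, r} := by
  refine le_antisymm ((closure_le _).2 ?_) ((closure_le _).2 ?_)
  · rintro x (rfl | rfl)
    · exact inv_mem (subset_closure (Set.mem_insert _ _))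
    · exact mul_mem (subset_closure (Set.mem_insert_of_mem _ rfl)) (subset_closure (Set.mem_insert _ _))
  · have h1 : σ⁻¹ ∈ closure ({σ⁻¹, r * σ} : Set G) := subset_closure (Set.mem_insert _ _)
    have h2 : r * σ ∈ closure ({σ⁻¹, r * σ} : Set G) := subset_closure (Set.mem_insert_of_mem _ rfl)
    rintro x (rfl | rfl)
    · simpa using inv_mem h1
    · simpa [mul_assoc] using mul_mem h2 h1

/-- The setting is symmetric in the two classes of reflections. -/
theorem swap (h : DHyp n t r σ) : DHyp n t (r * σ) σ⁻¹ where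
  three_le := h.three_le
  order_σ := by rw [orderOf_inv, h.order_σ]
  order_r := h.order_r_mul_σ
  conj_σ := by
    rw [inv_inv, show r * σ * σ⁻¹ * (r * σ)⁻¹ = r * σ⁻¹ * r⁻¹ by group]
    have e := congrArg (·⁻¹) h.conj_σ
    simpa [mul_assoc] using e
  t_eq := by rw [inv_pow, ← h.t_eq, Involution.inv_eq h.order_t]
  sylow := by
    obtain ⟨P, hP⟩ := h.sylow
    exact ⟨P, by rw [hP, h.closure_swap]⟩

/-- A rotation conjugating `r` to `t * r`. -/
theorem exists_quarter (h : DHyp n t r σ) :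
    ∃ y ∈ zpowers σ, Commute y t ∧ y * r * y⁻¹ = t * r := by
  obtain ⟨a, rfl⟩ := h.exists_add
  refine ⟨σ ^ 2 ^ a, pow_mem (mem_zpowers σ) _, (h.comm_t_σ.pow_right _).symm, ?_⟩
  have e1 : r * (σ ^ 2 ^ a)⁻¹ * r⁻¹ = σ ^ 2 ^ a := by
    have e := congrArg (·⁻¹) (Involution.inverts_pow h.conj_σ (2 ^ a))
    simpa [mul_assoc] using e
  have e2 : σ ^ 2 ^ a * σ ^ 2 ^ a = t := by
    rw [h.t_eq, ← pow_add, show a + 3 - 2 = a + 1 by omega, pow_succ, mul_two]
  calc σ ^ 2 ^ a * r * (σ ^ 2 ^ a)⁻¹ = σ ^ 2 ^ a * (r * (σ ^ 2 ^ a)⁻¹ * r⁻¹) * r := by group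
    _ = t * r := by rw [e1, e2]

variable [Finite G]

/-- The Sylow subgroup in the form used by `SecondMain`. -/
theorem exists_data {a : ℕ} (h : DHyp (a + 3) t r σ) :
    ∃ P : Sylow 2 G, (P : Subgroup G) = closure {σ, r} ∧ SecondMain.DihedralData P a σ ∧
      SecondMain.midRot a σ = t := by
  obtain ⟨P, hP⟩ := h.sylow
  have hne : r ≠ r * σ := fun e => by
    have := h.four_le_order
    rw [show σ = 1 from mul_eq_left.1 e.symm, orderOf_one] at this
    omega
  have hcl : closure ({r, r * σ} : Set G) = closure {σ, r} := by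
    refine le_antisymm ((closure_le _).2 ?_) ((closure_le _).2 ?_)
    · rintro x (rfl | rfl)
      · exact subset_closure (Set.mem_insert_of_mem _ rfl)
      · exact mul_mem (subset_closure (Set.mem_insert_of_mem _ rfl)) (subset_closure (Set.mem_insert _ _))
    · have h1 : r ∈ closure ({r, r * σ} : Set G) := subset_closure (Set.mem_insert _ _)
      have h2 : r * σ ∈ closure ({r, r * σ} : Set G) := subset_closure (Set.mem_insert_of_mem _ rfl)
      rintro x (rfl | rfl)
      · simpa using mul_mem (inv_mem h1) h2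
      · exact h1
  have ho : orderOf (r * (r * σ)) = 2 ^ (a + 2) := by
    rw [← mul_assoc, h.mul_self_r, one_mul, h.order_σ, show a + 3 - 1 = a + 2 by omega]
  have e := (Involution.dihedralEquiv h.order_r h.order_r_mul_σ hne).symm
  rw [hcl, ← hP, ho] at e
  refine ⟨P, hP, ⟨⟨e⟩, hP ▸ subset_closure (Set.mem_insert _ _), ?_⟩, ?_⟩
  · rw [h.order_σ, show a + 3 - 1 = a + 2 by omega]
  · rw [SecondMain.midRot, h.t_eq, show a + 3 - 2 = a + 1 by omega]

theorem card_sylow (h : DHyp n t r σ) : Nat.card (closure ({σ, r} : Set G)) = 2 ^ n := by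
  obtain ⟨a, rfl⟩ := h.exists_add
  obtain ⟨P, hP, D, -⟩ := h.exists_data
  rw [← hP]
  exact D.card_P.trans (by ring)

theorem sylow_le_centralizer (h : DHyp n t r σ) :
    closure ({σ, r} : Set G) ≤ centralizer ({t} : Set G) :=
  (closure_le _).2 fun x hx => by
    rcases hx with rfl | rfl
    · exact mem_centralizer_singleton_iff.2 h.comm_t_σ.symm.eq
    · exact mem_centralizer_singleton_iff.2 h.comm_t_r.symm.eq

/-- The centraliser of `r` in the Sylow subgroup. -/
theorem mem_fourV_of_commute (h : DHyp n t r σ) {y : G} (hy : y ∈ closure ({σ, r} : Set G))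
    (hc : Commute y r) : y ∈ fourV t r := by
  obtain ⟨a, rfl⟩ := h.exists_add
  obtain ⟨P, hP, D, hm⟩ := h.exists_data
  have hr : r ∈ (P : Subgroup G) := hP ▸ subset_closure (Set.mem_insert_of_mem _ rfl)
  have := D.commute_refl_cases hr h.r_not_mem_zpowers (hP.ge hy) hc
  rw [hm] at this
  rcases this with rfl | rfl | rfl | rfl
  · exact one_mem _
  · exact GWKlein.left_mem_fourV _ _
  · exact GWKlein.right_mem_fourV _ _
  · exact mul_mem (GWKlein.left_mem_fourV _ _) (GWKlein.right_mem_fourV _ _)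

theorem fourV_le_sylow (h : DHyp n t r σ) : fourV t r ≤ closure ({σ, r} : Set G) :=
  GWKlein.fourV_le_iff.2 ⟨zpowers_le.2 (subset_closure (Set.mem_insert _ _)) h.t_mem_zpowers,
    subset_closure (Set.mem_insert_of_mem _ rfl)⟩

theorem fourV_le_centralizer_t (h : DHyp n t r σ) : fourV t r ≤ centralizer ({t} : Set G) :=
  h.fourV_le_sylow.trans h.sylow_le_centralizer

theorem mem_fourV_iff (h : DHyp n t r σ) {x : G} :
    x ∈ fourV t r ↔ x = 1 ∨ x = t ∨ x = r ∨ x = t * r := by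
  constructor
  · intro hx
    obtain ⟨a, rfl⟩ := h.exists_add
    obtain ⟨P, hP, D, hm⟩ := h.exists_data
    have hr : r ∈ (P : Subgroup G) := hP ▸ subset_closure (Set.mem_insert_of_mem _ rfl)
    have hc : Commute x r := mem_centralizer_singleton_iff.1
      (GWKlein.fourV_le_iff.2 ⟨mem_centralizer_singleton_iff.2 h.comm_t_r.eq,
        mem_centralizer_singleton_iff.2 rfl⟩ hx)
    simpa [hm] using D.commute_refl_cases hr h.r_not_mem_zpowers (hP.ge (h.fourV_le_sylow hx)) hc
  · rintro (rfl | rfl | rfl | rfl)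
    · exact one_mem _
    · exact GWKlein.left_mem_fourV _ _
    · exact GWKlein.right_mem_fourV _ _
    · exact mul_mem (GWKlein.left_mem_fourV _ _) (GWKlein.right_mem_fourV _ _)

theorem card_fourV (h : DHyp n t r σ) : Nat.card (fourV t r) = 4 := by
  have e : ((fourV t r : Subgroup G) : Set G) = {1, t, r, t * r} := by
    ext x; rw [SetLike.mem_coe, h.mem_fourV_iff]; simp
  rw [← SetLike.coe_sort_coe, e, Nat.card_coe_set_eq]
  have h1 : t * r ≠ t := fun e => h.ne_one_r (mul_eq_left.1 e)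
  have h2 : t * r ≠ r := fun e => h.ne_one_t (mul_eq_right.1 e)
  rw [Set.ncard_insert_of_notMem, Set.ncard_insert_of_notMem, Set.ncard_pair (Ne.symm h2)]
  · simp [h.ne, h1.symm]
  · simp [h.ne_one_t.symm, h.ne_one_r.symm, h.t_mul_r_ne_one.symm]

theorem isKleinFour (h : DHyp n t r σ) : IsKleinFour (fourV t r) := by
  refine ⟨h.card_fourV, ?_⟩
  have hd : Monoid.exponent (fourV t r) ∣ 2 := Monoid.exponent_dvd_of_forall_pow_eq_one fun a => Subtype.ext <| by
    rcases h.mem_fourV_iff.1 a.2 with e | e | e | e <;> simp [e, pow_two, h.mul_self_t, h.mul_self_r,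
      Involution.mul_self h.order_t_mul_r]
  rcases (Nat.dvd_prime Nat.prime_two).1 hd with he | he
  · haveI := Monoid.exp_eq_one_iff.1 he
    have := h.card_fourV
    rw [Nat.card_unique] at this
    omega
  · exact he

theorem odd_coreU (_h : DHyp n t r σ) : Odd (Nat.card (coreU t)) := by
  haveI := Fact.mk Nat.prime_two
  rw [coreU, Cores.card_map_subtype]
  exact Nat.not_even_iff_odd.1 fun e => Cores.not_dvd_card_pPrimeCore (even_iff_two_dvd.1 e)

theorem odd_orderOf (h : DHyp n t r σ) {v : G} (hv : v ∈ coreU t) : Odd (orderOf v) :=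
  h.odd_coreU.of_dvd_nat (orderOf_dvd_natCard _ hv)

theorem isSolvable_coreU (h : DHyp n t r σ) : Group.IsSolvable (coreU t) := S0205.result h.odd_coreU

/-- The odd elements of `C(t)` lie in `U`, and `C(t) = U ⟨σ, r⟩`. -/
theorem coreU_facts (h : DHyp n t r σ) :
    (∀ v, Commute v t → Odd (orderOf v) → v ∈ coreU t) ∧
      coreU t ⊔ closure {σ, r} = centralizer ({t} : Set G) := by
  haveI := Fact.mk Nat.prime_two
  obtain ⟨a, rfl⟩ := h.exists_add
  obtain ⟨P, hP, D, hm⟩ := h.exists_data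
  set C := centralizer ({t} : Set G)
  have hc : HasNormalPComplement 2 C := by
    have := D.complement_mid.1
    rwa [hm] at this
  have hle : pResidual 2 C ≤ pPrimeCore 2 C :=
    Cores.le_pPrimeCore inferInstance (Transfer.hasNormalPComplement_iff_coprime.mp hc)
  have hPC : (P : Subgroup G) ≤ C := hP ▸ h.sylow_le_centralizer
  refine ⟨fun v hv ho => ?_, le_antisymm (sup_le (GWKlein.coreU_le_centralizer t) h.sylow_le_centralizer) ?_⟩
  · refine ⟨⟨v, mem_centralizer_singleton_iff.2 hv.eq⟩, hle ((Transfer.mem_pResidual_iff hc _).2 ?_), rfl⟩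
    rw [Subgroup.orderOf_mk]
    exact Nat.coprime_two_right.2 ho
  · intro g hg
    have hK := (Transfer.isComplement'_pResidual_iff (P.subtype hPC)).mpr
      (Transfer.hasNormalPComplement_iff_coprime.mp hc)
    obtain ⟨⟨y, p⟩, hyp⟩ := hK.surjective ⟨g, hg⟩
    have e : ((y : C) : G) * ((p : C) : G) = g := congrArg Subtype.val hyp
    rw [← e]
    exact mul_mem (mem_sup_left ⟨(y : C), hle y.2, rfl⟩) (mem_sup_right (hP ▸ p.2))

theorem mem_coreU (h : DHyp n t r σ) {v : G} : v ∈ coreU t ↔ Commute v t ∧ Odd (orderOf v) :=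
  ⟨fun hv => ⟨GWKlein.commute_of_mem_coreU hv, h.odd_orderOf hv⟩,
    fun hv => h.coreU_facts.1 v hv.1 hv.2⟩

theorem sup_sylow (h : DHyp n t r σ) :
    coreU t ⊔ closure {σ, r} = centralizer ({t} : Set G) := h.coreU_facts.2

theorem sylow_le_normalizer_coreU (h : DHyp n t r σ) :
    closure ({σ, r} : Set G) ≤ normalizer (coreU t : Set G) :=
  h.sylow_le_centralizer.trans (GWKlein.centralizer_le_normalizer_coreU t)

theorem eq_one_of_mem_coreU (h : DHyp n t r σ) {x : G} (hx : x ∈ coreU t)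
    (hx' : x ∈ closure ({σ, r} : Set G)) : x = 1 := by
  refine orderOf_eq_one_iff.1 (Nat.eq_one_of_dvd_coprimes ?_ (orderOf_dvd_natCard _ hx)
    (orderOf_dvd_natCard _ hx'))
  rw [h.card_sylow]
  exact (Nat.coprime_two_right.2 h.odd_coreU).pow_right n

theorem card_centralizer (h : DHyp n t r σ) :
    Nat.card (centralizer ({t} : Set G)) = 2 ^ n * Nat.card (coreU t) := by
  rw [← h.card_sylow, mul_comm, ← Nat.card_prod]
  refine (Nat.card_congr (Equiv.ofBijective (fun p : coreU t × closure ({σ, r} : Set G) =>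
    (⟨p.1 * p.2, mul_mem (GWKlein.coreU_le_centralizer t p.1.2) (h.sylow_le_centralizer p.2.2)⟩ :
      centralizer ({t} : Set G))) ⟨?_, ?_⟩)).symm
  · rintro ⟨⟨u, hu⟩, q, hq⟩ ⟨⟨u', hu'⟩, q', hq'⟩ he
    have e : u * q = u' * q' := congrArg Subtype.val he
    have e1 : u'⁻¹ * u = q' * q⁻¹ := by
      rw [eq_mul_inv_iff_mul_eq, mul_assoc, e, inv_mul_cancel_left]
    have e2 := h.eq_one_of_mem_coreU (mul_mem (inv_mem hu') hu) (e1 ▸ mul_mem hq' (inv_mem hq))
    obtain rfl : u' = u := inv_mul_eq_one.1 e2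
    obtain rfl : q = q' := mul_left_cancel e
    rfl
  · rintro ⟨g, hg⟩
    rw [← h.sup_sylow, sup_comm] at hg
    have hg' : g ∈ ((closure ({σ, r} : Set G) ⊔ coreU t : Subgroup G) : Set G) := hg
    rw [coe_mul_of_left_le_normalizer_right _ _ h.sylow_le_normalizer_coreU] at hg'
    obtain ⟨q, hq, u, hu, rfl⟩ := hg'
    refine ⟨(⟨q * u * q⁻¹, (mem_normalizer_iff.1 (h.sylow_le_normalizer_coreU hq) u).1 hu⟩, ⟨q, hq⟩),
      Subtype.ext ?_⟩
    exact inv_mul_cancel_right _ _

/-- `W` is the odd part of the centraliser of the four-group. -/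
theorem mem_coreW (h : DHyp n t r σ) {v : G} :
    v ∈ coreW t r ↔ Commute v t ∧ Commute v r ∧ Odd (orderOf v) := by
  rw [coreW, mem_inf, h.mem_coreU, Involution.mem_centralizer_iff_commute]
  tauto

theorem odd_coreW (h : DHyp n t r σ) : Odd (Nat.card (coreW t r)) :=
  h.odd_coreU.of_dvd_nat (card_dvd_of_le inf_le_left)

theorem coreW_le_centralizer (h : DHyp n t r σ) : coreW t r ≤ centralizer (fourV t r : Set G) := fun _ hv =>
  GWKlein.mem_centralizer_fourV.2 ⟨(h.mem_coreW.1 hv).1, (h.mem_coreW.1 hv).2.1⟩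

theorem mem_coreW_of_odd (h : DHyp n t r σ) {v : G} (hv : v ∈ centralizer (fourV t r : Set G))
    (ho : Odd (orderOf v)) : v ∈ coreW t r :=
  h.mem_coreW.2 ⟨(GWKlein.mem_centralizer_fourV.1 hv).1, (GWKlein.mem_centralizer_fourV.1 hv).2, ho⟩

/-- An element of `C(t, r)` is a product of elements of `W` and `⟨t, r⟩`. -/
theorem exists_mul_of_commute (h : DHyp n t r σ) {x : G} (hxt : Commute x t) (hxr : Commute x r) :
    ∃ w ∈ coreW t r, ∃ v ∈ fourV t r, x = w * v := by
  have hx : x ∈ closure ({σ, r} : Set G) ⊔ coreU t := by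
    rw [sup_comm, h.sup_sylow]; exact mem_centralizer_singleton_iff.2 hxt.eq
  have hx' : x ∈ ((closure ({σ, r} : Set G) ⊔ coreU t : Subgroup G) : Set G) := hx
  rw [coe_mul_of_left_le_normalizer_right _ _ h.sylow_le_normalizer_coreU] at hx'
  obtain ⟨q, hq, u, hu, rfl⟩ := hx'
  have hr : r ∈ closure ({σ, r} : Set G) := subset_closure (Set.mem_insert_of_mem _ rfl)
  have e : r * q * r⁻¹ * (r * u * r⁻¹) = q * u := by
    rw [show r * q * r⁻¹ * (r * u * r⁻¹) = r * (q * u) * r⁻¹ by group, ← hxr.eq, mul_inv_cancel_right]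
  have e1 : q⁻¹ * (r * q * r⁻¹) = u * (r * u * r⁻¹)⁻¹ := by
    rw [eq_mul_inv_iff_mul_eq, mul_assoc, e, inv_mul_cancel_left]
  have hru : r * u * r⁻¹ ∈ coreU t := (mem_normalizer_iff.1 (h.sylow_le_normalizer_coreU hr) u).1 hu
  have e2 : q⁻¹ * (r * q * r⁻¹) = 1 := h.eq_one_of_mem_coreU (e1 ▸ mul_mem hu (inv_mem hru))
    (mul_mem (inv_mem hq) (mul_mem (mul_mem hr hq) (inv_mem hr)))
  have hqr : Commute q r := (mul_inv_eq_iff_eq_mul.1 (inv_mul_eq_one.1 e2).symm).symm
  have hur : Commute u r := by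
    have := hqr.inv_left.mul_left hxr
    rwa [inv_mul_cancel_left] at this
  have hqV := h.mem_fourV_of_commute hq hqr
  have huW : u ∈ coreW t r := h.mem_coreW.2 ⟨GWKlein.commute_of_mem_coreU hu, hur, h.odd_orderOf hu⟩
  exact ⟨u, huW, q, hqV, (mem_centralizer_iff.1 (h.coreW_le_centralizer huW) q hqV)⟩

theorem card_centralizer_pair (h : DHyp n t r σ) :
    Nat.card (centralizer ({t, r} : Set G)) = 4 * Nat.card (coreW t r) := by
  rw [mul_comm, ← h.card_fourV, ← Nat.card_prod, ← centralizer_closure]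
  change Nat.card (centralizer (fourV t r : Set G)) = _
  have hV : fourV t r ≤ centralizer (fourV t r : Set G) := GWKlein.fourV_le_iff.2
    ⟨GWKlein.mem_centralizer_fourV.2 ⟨Commute.refl t, h.comm_t_r⟩,
      GWKlein.mem_centralizer_fourV.2 ⟨h.comm_t_r.symm, Commute.refl r⟩⟩
  refine (Nat.card_congr (Equiv.ofBijective (fun p : coreW t r × fourV t r =>
    (⟨p.1 * p.2, mul_mem (h.coreW_le_centralizer p.1.2) (hV p.2.2)⟩ :
      centralizer (fourV t r : Set G))) ⟨?_, ?_⟩)).symm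
  · rintro ⟨⟨u, hu⟩, q, hq⟩ ⟨⟨u', hu'⟩, q', hq'⟩ he
    have e : u * q = u' * q' := congrArg Subtype.val he
    have e1 : u'⁻¹ * u = q' * q⁻¹ := by
      rw [eq_mul_inv_iff_mul_eq, mul_assoc, e, inv_mul_cancel_left]
    have e2 := h.eq_one_of_mem_coreU (mul_mem (inv_mem hu'.1) hu.1)
      (h.fourV_le_sylow (e1 ▸ mul_mem hq' (inv_mem hq)))
    obtain rfl : u' = u := inv_mul_eq_one.1 e2
    obtain rfl : q = q' := mul_left_cancel e
    rfl
  · rintro ⟨x, hx⟩
    obtain ⟨hxt, hxr⟩ := GWKlein.mem_centralizer_fourV.1 hx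
    obtain ⟨w, hw, v, hv, rfl⟩ := h.exists_mul_of_commute hxt hxr
    exact ⟨(⟨w, hw⟩, ⟨v, hv⟩), rfl⟩

/-- In a simple group there is one class of involutions. -/
theorem isConj_t [IsSimpleGroup G] (h : DHyp n t r σ) {x : G} (hx : orderOf x = 2) : IsConj t x := by
  obtain ⟨a, rfl⟩ := h.exists_add
  obtain ⟨P, -, ⟨⟨e⟩, -, -⟩, -⟩ := h.exists_data
  exact BSW.Core.all_conj P
    (le_trans (by norm_num) (Nat.pow_le_pow_right two_pos (by omega : 2 ≤ a + 2))) e h.order_t hx

/-- In a simple group the involutions of `⟨t, r⟩` are permuted cyclically by an element. -/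
theorem exists_rot [IsSimpleGroup G] (h : DHyp n t r σ) : ∃ s, Rot t r s := by
  haveI := Fact.mk Nat.prime_two
  obtain ⟨g, hg⟩ := isConj_iff.1 (h.isConj_t h.order_r).symm
  obtain ⟨a, rfl⟩ := h.exists_add
  obtain ⟨P, hP, ⟨⟨e⟩, -, -⟩, -⟩ := h.exists_data
  set C := centralizer ({t} : Set G)
  set V := fourV t r
  -- move the conjugate of `V` into the Sylow subgroup inside `C(t)`
  have hgV : V.map (MulAut.conj g).toMonoidHom ≤ C := by
    rintro _ ⟨v, hv, rfl⟩
    have hvr : Commute v r := mem_centralizer_singleton_iff.1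
      (GWKlein.fourV_le_iff.2 ⟨mem_centralizer_singleton_iff.2 h.comm_t_r.eq,
        mem_centralizer_singleton_iff.2 rfl⟩ hv)
    have := hvr.map (MulAut.conj g).toMonoidHom
    simp only [MulEquiv.coe_toMonoidHom, MulAut.conj_apply, hg] at this
    exact mem_centralizer_singleton_iff.2 this.eq
  have hp : IsPGroup 2 (V.map (MulAut.conj g).toMonoidHom) :=
    (IsPGroup.of_card (n := 2) (by rw [h.card_fourV]; norm_num)).map _
  have hPC : (P : Subgroup G) ≤ C := hP ▸ h.sylow_le_centralizer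
  obtain ⟨Q, hQ⟩ := (hp.of_equiv (subgroupOfEquivOfLe hgV).symm).exists_le_sylow
  obtain ⟨c, hc⟩ := MulAction.exists_smul_eq C Q (P.subtype hPC)
  have hle : V.map (MulAut.conj ((c : G) * g)).toMonoidHom ≤ (P : Subgroup G) := by
    rintro _ ⟨v, hv, rfl⟩
    have hm : g * v * g⁻¹ ∈ V.map (MulAut.conj g).toMonoidHom := ⟨v, hv, rfl⟩
    have h1 : (⟨g * v * g⁻¹, hgV hm⟩ : C) ∈ (Q : Subgroup C) := hQ (mem_subgroupOf.2 hm)
    have h2 : c * ⟨g * v * g⁻¹, hgV hm⟩ * c⁻¹ ∈ ((P.subtype hPC : Sylow 2 C) : Subgroup C) := by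
      rw [← hc, Transfer.sylow_coe_smul]
      exact ⟨_, h1, rfl⟩
    have h3 : (c : G) * (g * v * g⁻¹) * (c : G)⁻¹ ∈ (P : Subgroup G) := h2
    simpa [mul_assoc] using h3
  obtain ⟨v, hvP, hve⟩ := Transfer.klein_fusion P (by positivity) e h.isKleinFour
    (hP ▸ h.fourV_le_sylow) (g := (c : G) * g) hle
  -- an element normalising `V` that sends `r` to `t`
  set g₂ := v⁻¹ * ((c : G) * g)
  have hr₂ : g₂ * r * g₂⁻¹ = t := by
    have hvt : Commute v t := mem_centralizer_singleton_iff.1 (hPC hvP)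
    have hct : Commute (c : G) t := mem_centralizer_singleton_iff.1 c.2
    calc g₂ * r * g₂⁻¹ = v⁻¹ * ((c : G) * (g * r * g⁻¹) * (c : G)⁻¹) * v := by simp only [g₂]; group
      _ = t := by rw [hg, hct.eq, mul_inv_cancel_right, mul_assoc, hvt.symm.eq, inv_mul_cancel_left]
  have hV₂ : g₂ * t * g₂⁻¹ ∈ V := by
    have h1 : (c : G) * g * t * ((c : G) * g)⁻¹ ∈ V.map (MulAut.conj v).toMonoidHom :=
      hve ▸ ⟨t, GWKlein.left_mem_fourV t r, rfl⟩
    rw [Transfer.mem_map_conj_iff] at h1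
    convert h1 using 1
    simp only [g₂]; group
  have htr : g₂ * (t * r) * g₂⁻¹ = g₂ * t * g₂⁻¹ * t := by rw [← hr₂]; group
  obtain ⟨y, -, hyt, hyr⟩ := h.exists_quarter
  rcases h.mem_fourV_iff.1 hV₂ with e1 | e1 | e1 | e1
  · exact absurd (conj_eq_one_iff.1 e1) h.ne_one_t
  · refine absurd ?_ h.ne
    exact conj_injective (x := g₂) (e1.trans hr₂.symm)
  · -- `g₂` exchanges `t` and `r`
    refine ⟨g₂ * y, ?_, ?_⟩
    · rw [show g₂ * y * t * (g₂ * y)⁻¹ = g₂ * (y * t * y⁻¹) * g₂⁻¹ by group, hyt.eq, mul_inv_cancel_right,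
        e1]
    · rw [show g₂ * y * r * (g₂ * y)⁻¹ = g₂ * (y * r * y⁻¹) * g₂⁻¹ by group, hyr, htr, e1,
        h.comm_t_r.eq]
  · refine ⟨g₂⁻¹, ?_, ?_⟩
    · nth_rw 1 [← hr₂]; group
    · have e3 : g₂ * (t * r) * g₂⁻¹ = r := by
        rw [htr, e1, mul_assoc, h.comm_t_r.symm.eq, ← mul_assoc, h.mul_self_t, one_mul]
      nth_rw 1 [← e3]; group

end DHyp

/-- A dihedral Sylow 2-subgroup of order at least eight gives the setting. -/
theorem exists_dHyp [Finite G] (S : Sylow 2 G) {m : ℕ} (hm : 2 < m)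
    (e : (S : Subgroup G) ≃* DihedralGroup m) :
    ∃ n t r σ, DHyp (G := G) n t r σ ∧ (S : Subgroup G) = closure {σ, r} := by
  obtain ⟨a, rfl⟩ := Transfer.exists_two_pow_of_dihedral S (by omega) e
  have ha : 2 ≤ a := by
    by_contra ha
    have : 2 ^ a ≤ 2 ^ 1 := Nat.pow_le_pow_right two_pos (by omega)
    omega
  obtain ⟨ρ, hρ⟩ : ∃ ρ : S, e ρ = DihedralGroup.r 1 := ⟨_, e.apply_symm_apply _⟩
  obtain ⟨τ, hτ⟩ : ∃ τ : S, e τ = DihedralGroup.sr 0 := ⟨_, e.apply_symm_apply _⟩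
  have hcl : (S : Subgroup G) = closure {(ρ : G), (τ : G)} := by
    refine le_antisymm (fun x hx => ?_) ((closure_le _).2 ?_)
    · have hρm : (ρ : G) ∈ closure {(ρ : G), (τ : G)} := subset_closure (Set.mem_insert _ _)
      have hτm : (τ : G) ∈ closure {(ρ : G), (τ : G)} := subset_closure (Set.mem_insert_of_mem _ rfl)
      haveI : NeZero (2 ^ a) := ⟨by positivity⟩
      cases he : e ⟨x, hx⟩ with
      | r i =>
        have e1 : (⟨x, hx⟩ : S) = ρ ^ i.val := e.injective (by
          rw [he, map_pow, hρ, DihedralGroup.r_one_pow, ZMod.natCast_zmod_val])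
        rw [show x = (ρ : G) ^ i.val from congrArg Subtype.val e1]
        exact pow_mem hρm _
      | sr i =>
        have e1 : (⟨x, hx⟩ : S) = τ * ρ ^ i.val := e.injective (by
          rw [he, map_mul, map_pow, hρ, hτ, DihedralGroup.r_one_pow, ZMod.natCast_zmod_val,
            DihedralGroup.sr_mul_r, zero_add])
        rw [show x = (τ : G) * (ρ : G) ^ i.val from congrArg Subtype.val e1]
        exact mul_mem hτm (pow_mem hρm _)
    · rintro x (rfl | rfl)
      · exact ρ.2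
      · exact τ.2
  refine ⟨a + 1, (ρ : G) ^ 2 ^ (a + 1 - 2), τ, ρ, ⟨by omega, ?_, ?_, ?_, rfl, S, hcl⟩, hcl⟩
  · rw [Subgroup.orderOf_coe, ← MulEquiv.orderOf_eq e, hρ, DihedralGroup.orderOf_r_one,
      show a + 1 - 1 = a by omega]
  · rw [Subgroup.orderOf_coe, ← MulEquiv.orderOf_eq e, hτ, DihedralGroup.orderOf_sr]
  · have e1 : τ * ρ * τ⁻¹ = ρ⁻¹ := e.injective (by
      rw [map_mul, map_mul, map_inv, map_inv, hτ, hρ]
      simp)
    exact congrArg Subtype.val e1

end Cfsg.Agent.GWDihedral
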