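import Cfsg.Agent.Lib.GWDihedral.ThetaMain
import Cfsg.Agent.Lib.GWDihedral.Steps
import Cfsg.Agent.Lib.GWDihedral.Setup

/-!
# Gorenstein-Walter, dihedral Sylow subgroups of order at least eight: step (theta)

* `noTheta` : with one class of involutions in the centralisers of prime power elements of `U`, a non-trivial
  linear character of `U` fixed by the Sylow subgroup forces `U` abelian
-/

set_option autoImplicit false

namespace Cfsg.Agent.GWDihedral

open Subgroup
open Cfsg.Agent.GWKlein (coreU coreW fourV)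
open Cfsg.Agent.SecondMain (midRot)

universe u

variable {G : Type u} [Group G] [Finite G]

/-- `OneClass` moves conjugate prime power elements of the odd core into one class of `C(t)`. -/
theorem exists_conj_centralizer {t : G} (h1 : OneClass t) (ht : orderOf t = 2) {x y g : G}
    (hx : x ∈ coreU t) (hy : Commute t y) (hxp : IsPrimePow (orderOf x)) (hg : g * x * g⁻¹ = y) :
    ∃ k : G, Commute k t ∧ k * x * k⁻¹ = y := by
  have hi : Commute (g⁻¹ * t * g) x := by
    have := hy.map (MulAut.conj g⁻¹).toMonoidHom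
    simp only [MulEquiv.coe_toMonoidHom, MulAut.conj_apply, inv_inv] at this
    rwa [show g⁻¹ * y * g = x by rw [← hg]; group] at this
  obtain ⟨c, hcx, hct⟩ := h1 x hx hxp (g⁻¹ * t * g)
    (by rw [show g⁻¹ * t * g = g⁻¹ * t * g⁻¹⁻¹ by rw [inv_inv], SecondMain.orderOf_conj, ht]) hi
  refine ⟨g * c, ?_, ?_⟩
  · have e : g * c * t * (g * c)⁻¹ = t := by
      rw [show g * c * t * (g * c)⁻¹ = g * (c * t * c⁻¹) * g⁻¹ by group, hct]; group
    exact mul_inv_eq_iff_eq_mul.1 e
  · rw [show g * c * x * (g * c)⁻¹ = g * (c * x * c⁻¹) * g⁻¹ by group, hcx.eq, mul_inv_cancel_right, hg]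

/-- Two elements of the kernel of a homomorphism to a commutative group have the same image if their
`p'`-th powers have. -/
theorem eq_of_ordCompl {C M : Type*} [Group C] [Finite C] [CommGroup M] (l : C →* M) {x y : C}
    (ho : orderOf y = orderOf x)
    (h : ∀ p : ℕ, p.Prime → p ∣ orderOf x →
      l (x ^ ordCompl[p] (orderOf x)) = l (y ^ ordCompl[p] (orderOf x))) :
    l x = l y := by
  rw [← div_eq_one, ← orderOf_eq_one_iff]
  by_contra hne
  obtain ⟨p, hp, hpd⟩ := Nat.exists_prime_and_dvd hne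
  have hpx : p ∣ orderOf x := hpd.trans (orderOf_dvd_of_pow_eq_one (by
    rw [div_pow, ← map_pow, ← map_pow, pow_orderOf_eq_one, ← ho, pow_orderOf_eq_one, div_self']))
  exact Nat.not_dvd_ordCompl hp (orderOf_pos x).ne' (hpd.trans (orderOf_dvd_of_pow_eq_one (by
    rw [div_pow, ← map_pow, ← map_pow, h p hp hpx, div_self'])))

theorem orderOf_ordCompl_pow {C : Type*} [Group C] [Finite C] {x : C} {p : ℕ} (hp : p.Prime)
    (hpx : p ∣ orderOf x) : IsPrimePow (orderOf (x ^ ordCompl[p] (orderOf x))) := by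
  have h0 : 0 < ordCompl[p] (orderOf x) := Nat.ordCompl_pos p (orderOf_pos x).ne'
  rw [orderOf_pow_of_dvd h0.ne' (Nat.ordCompl_dvd _ _),
    show orderOf x / ordCompl[p] (orderOf x) = p ^ (orderOf x).factorization p from
      Nat.div_eq_of_eq_mul_left h0 (Nat.ordProj_mul_ordCompl_eq_self _ _).symm]
  exact (Nat.Prime.isPrimePow hp).pow (hp.factorization_pos_of_dvd (orderOf_pos x).ne' hpx).ne'

/-- (theta). -/
theorem noTheta [IsSimpleGroup G] {n : ℕ} {t r σ : G} (c : Ctx n t r σ) (h1 : OneClass t) :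
    NoTheta t r σ := by
  intro θ₀ hθ₀ hinv
  have hd := c.hyp
  obtain ⟨a, rfl⟩ := hd.exists_add
  obtain ⟨P, hP, -, hm⟩ := hd.exists_data
  subst hm
  have hflip : orderOf (σ * r) = 2 := by
    rw [show σ * r = r⁻¹ * (r * σ) * r⁻¹⁻¹ by group, SecondMain.orderOf_conj, hd.order_r_mul_σ]
  have hD : DihHyp P a σ r :=
    { mem_rot := hP ▸ subset_closure (Set.mem_insert _ _)
      mem_refl := hP ▸ subset_closure (Set.mem_insert_of_mem _ rfl)
      order_rot := hd.order_σ.trans (by rw [show a + 3 - 1 = a + 2 by omega])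
      order_refl := hd.order_r
      rel := hd.conj_σ
      gen := hP.symm
      fused := ⟨hd.isConj_t hd.order_r, hd.isConj_t hflip⟩ }
  obtain ⟨π, hπ⟩ := exists_retraction hD
  have hker : ∀ x : cT a σ, π x = 1 → (x : G) ∈ coreU (midRot a σ) := fun x hx =>
    hd.mem_coreU.2 ⟨(SecondMain.commute_iff_mem_centralizer_singleton.mp x.2).symm,
      by rw [orderOf_coe]; exact hπ.odd_of_ker x hx⟩
  have hπP : ∀ p : (P : Subgroup G), π ⟨p, hπ.le p.2⟩ = p := fun p => hπ.apply_mem _ p.2
  -- the component in `U`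
  have hu : ∀ g : cT a σ, π (g * (⟨π g, hπ.le (π g).2⟩ : cT a σ)⁻¹) = 1 := fun g => by
    rw [map_mul, map_inv, hπP, mul_inv_cancel]
  let u : cT a σ → coreU (midRot a σ) := fun g => ⟨_, hker _ (hu g)⟩
  have hu1 : ∀ g, (u g : G) = (g : G) * (π g : G)⁻¹ := fun g => rfl
  let l : cT a σ →* ℂˣ := MonoidHom.mk' (fun g => θ₀ (u g)) fun g g' => by
    have hU : (π g : G) * u g' * (π g : G)⁻¹ ∈ coreU (midRot a σ) :=
      (mem_normalizer_iff.1 (hd.sylow_le_normalizer_coreU (hP ▸ (π g).2)) _).1 (u g').2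
    rw [hinv (π g) (hP ▸ (π g).2) (u g') ⟨_, hU⟩ rfl, ← map_mul]
    refine congrArg θ₀ (Subtype.ext ?_)
    simp only [hu1, Subgroup.coe_mul, map_mul]
    group
  have hl : ∀ (x : cT a σ) (hx : π x = 1), l x = θ₀ ⟨x, hker x hx⟩ := fun x hx =>
    congrArg θ₀ (Subtype.ext (by rw [hu1, hx]; simp))
  let θ : cT a σ →* ℂ := (Units.coeHom ℂ).comp l
  have hθ1 : θ ≠ 1 := fun e => hθ₀ <| MonoidHom.ext fun x => Units.ext <| by
    have hx : π ⟨x, GWKlein.coreU_le_centralizer _ x.2⟩ = 1 :=
      Retr.apply_eq_one_of_odd (hd.odd_orderOf x.2)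
    have := congrArg (fun f : cT a σ →* ℂ => f ⟨x, GWKlein.coreU_le_centralizer _ x.2⟩) e
    simp only [θ, MonoidHom.coe_comp, Function.comp_apply, Units.coeHom_apply, MonoidHom.one_apply,
      hl _ hx] at this
    simpa using this
  have hθ : Stable π θ := by
    refine ⟨fun g hg => ?_, fun x y hx hy hxy => congrArg Units.val ?_⟩
    · have : u g = 1 := Subtype.ext (by rw [hu1, hπ.apply_mem g hg]; simp)
      simp [θ, l, this]
    obtain ⟨g, hg⟩ := isConj_iff.1 hxy
    have ho : orderOf y = orderOf x := by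
      rw [← orderOf_coe y, ← orderOf_coe x, ← hg, SecondMain.orderOf_conj]
    refine eq_of_ordCompl l ho fun p hp hpx => ?_
    set m := ordCompl[p] (orderOf x)
    obtain ⟨k, hkt, hk⟩ := exists_conj_centralizer h1 hd.order_t (x := ((x ^ m : cT a σ) : G))
      (y := ((y ^ m : cT a σ) : G)) (g := g) (hker _ (by rw [map_pow, hx, one_pow]))
      (SecondMain.commute_iff_mem_centralizer_singleton.mp (y ^ m).2)
      (by rw [orderOf_coe]; exact orderOf_ordCompl_pow hp hpx)
      (by rw [Subgroup.coe_pow, Subgroup.coe_pow, ← conj_pow, hg])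
    let k' : cT a σ := ⟨k, SecondMain.commute_iff_mem_centralizer_singleton.mpr hkt.symm⟩
    rw [show y ^ m = k' * x ^ m * k'⁻¹ from Subtype.ext hk.symm, map_mul, map_mul, map_inv,
      mul_inv_cancel_comm]
  intro x hx y hy
  have hx' : π ⟨x, GWKlein.coreU_le_centralizer _ hx⟩ = 1 := Retr.apply_eq_one_of_odd (hd.odd_orderOf hx)
  have hy' : π ⟨y, GWKlein.coreU_le_centralizer _ hy⟩ = 1 := Retr.apply_eq_one_of_odd (hd.odd_orderOf hy)
  exact congrArg Subtype.val (commute_of_theta hD hπ hθ hθ1 _ _ hx' hy').eq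

end Cfsg.Agent.GWDihedral
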