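import Cfsg.Agent.Lib.GWDihedral.SigmaFix
import Cfsg.Agent.Lib.GWKlein.Endgame
import Cfsg.Agent.Lib.CyclicMeet.Basic
import Cfsg.Agent.Lib.Coprime.Factorization

/-!
# Gorenstein-Walter, dihedral Sylow subgroups of order at least eight: (K), (N), `a b > 1`, (E)

* `noCommuting` (K), `noNormalInW` (N), `coreW_ne_bot`
* `CaseB.le_of_stable` : (theta) in the form used: a normal subgroup of `U` with stable factor group is all of
  `U`, unless `U` is abelian
* `exists_mixedPair` (E), `exists_inverted_line`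
-/

set_option autoImplicit false
set_option linter.unusedSectionVars false
set_option linter.style.haveILetI false

namespace Cfsg.Agent.GWDihedral

open Subgroup
open scoped Pointwise
open Cfsg.Agent.GWKlein (coreU coreW fourV oddPart)

universe u

variable {G : Type u} [Group G] [Finite G] {n : ℕ} {t r σ : G}

theorem commute_of_sq {a b : G} (ha : Odd (orderOf a)) (h : Commute (a * a) b) : Commute a b := by
  obtain ⟨j, hj⟩ := ha
  have e : a = (a * a) ^ (j + 1) := by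
    rw [← pow_two, ← pow_mul, show 2 * (j + 1) = orderOf a + 1 by omega, pow_succ, pow_orderOf_eq_one, one_mul]
  rw [e]
  exact h.pow_left _

namespace DHyp

theorem conj_mem (h : DHyp n t r σ) {X : Subgroup G} (hXC : centralizer ({t} : Set G) ≤ normalizer (X : Set G))
    {g x : G} (hg : g ∈ centralizer ({t} : Set G)) (hx : x ∈ X) : g * x * g⁻¹ ∈ X :=
  (mem_normalizer_iff.1 (hXC hg) x).1 hx

theorem mem_C_of_mem_coreU (_h : DHyp n t r σ) {x : G} (hx : x ∈ coreU t) :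
    x ∈ centralizer ({t} : Set G) := GWKlein.coreU_le_centralizer t hx

theorem σ_mem_C (h : DHyp n t r σ) : σ ∈ centralizer ({t} : Set G) := h.sylow_le_centralizer h.sylow_mem_σ

theorem r_mem_C (h : DHyp n t r σ) : r ∈ centralizer ({t} : Set G) := h.sylow_le_centralizer h.sylow_mem_r

/-- `C(t)` is generated by `U`, `σ` and `r`. -/
theorem centralizer_le_of_gen (h : DHyp n t r σ) {K : Subgroup G} (hU : coreU t ≤ K) (hσ : σ ∈ K) (hr : r ∈ K) :
    centralizer ({t} : Set G) ≤ K := by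
  rw [← h.sup_sylow]
  refine sup_le hU ((closure_le _).2 ?_)
  rintro x (rfl | rfl) <;> assumption

/-- An element inverted by `r` centralises an element fixed by it whose conjugate is fixed. -/
theorem commute_of_conj_fixed (h : DHyp n t r σ) {i b : G} (hiU : i ∈ coreU t) (hi : r * i * r⁻¹ = i⁻¹)
    (hb : Commute r b) (hib : Commute r (i * b * i⁻¹)) : Commute i b := by
  refine commute_of_sq (h.odd_orderOf hiU) ?_
  have e : i⁻¹ * b * i = i * b * i⁻¹ :=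
    calc i⁻¹ * b * i = r * i * r⁻¹ * (r * b * r⁻¹) * (r * i * r⁻¹)⁻¹ := by
            rw [hi, hb.eq, mul_inv_cancel_right]; group
      _ = r * (i * b * i⁻¹) * r⁻¹ := by group
      _ = i * b * i⁻¹ := by rw [hib.eq, mul_inv_cancel_right]
  calc i * i * b = i * (i * b * i⁻¹) * i := by group
    _ = b * (i * i) := by rw [← e]; group

end DHyp

/-- (theta): a subgroup of `U` normal in it, with factor group centralised by `r` and `σ`, is `U`, unless `U`
is abelian. -/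
theorem CaseB.le_of_stable (B : CaseB n t r σ) {N : Subgroup G} (hNU : N ≤ coreU t)
    (hnor : coreU t ≤ normalizer (N : Set G))
    (hσ : ∀ x ∈ coreU t, x⁻¹ * (σ * x * σ⁻¹) ∈ N) (hr : ∀ x ∈ coreU t, x⁻¹ * (r * x * r⁻¹) ∈ N)
    (hna : ¬ ∀ x ∈ coreU t, ∀ y ∈ coreU t, Commute x y) : coreU t ≤ N := by
  classical
  have h := B.ctx.hyp
  set U := coreU t
  haveI : (N.subgroupOf U).Normal := Cores.subgroupOf_normal_of_le_normalizer hnor
  haveI : Group.IsSolvable U := h.isSolvable_coreU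
  set π := QuotientGroup.mk' (N.subgroupOf U)
  haveI : Group.IsSolvable (U ⧸ N.subgroupOf U) :=
    Group.isSolvable_of_surjective (f := π) (QuotientGroup.mk'_surjective _)
  by_contra hle
  haveI : Nontrivial (U ⧸ N.subgroupOf U) := by
    obtain ⟨x, hx, hxN⟩ := SetLike.not_le_iff_exists.1 hle
    exact ⟨π ⟨x, hx⟩, 1, fun e => hxN (mem_subgroupOf.1 ((QuotientGroup.eq_one_iff _).1 e))⟩
  obtain ⟨g, -, hg⟩ := SetLike.exists_of_lt
    (Group.IsSolvable.commutator_lt_top_of_nontrivial (U ⧸ N.subgroupOf U))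
  have hne : Abelianization.of g ≠ 1 := fun h1 => hg (by rw [← Abelianization.ker_of]; exact h1)
  haveI : NeZero (Monoid.exponent (Abelianization (U ⧸ N.subgroupOf U)) : ℂ) :=
    ⟨Nat.cast_ne_zero.mpr Monoid.exponent_ne_zero_of_finite⟩
  obtain ⟨χ, hχ⟩ :=
    CommGroup.exists_apply_ne_one_of_hasEnoughRootsOfUnity (Abelianization (U ⧸ N.subgroupOf U)) ℂ hne
  -- the elements acting trivially on the factor group
  let R : Set G := {z | z ∈ normalizer (U : Set G) ∧ ∀ x ∈ U, x⁻¹ * (z * x * z⁻¹) ∈ N}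
  have hgen : ∀ z ∈ closure ({σ, r} : Set G), z ∈ R := by
    intro z hz
    refine closure_induction ?_ ⟨one_mem _, fun x _ => by simp⟩ ?_ ?_ hz
    · rintro w (rfl | rfl)
      · exact ⟨h.sylow_le_normalizer_coreU h.sylow_mem_σ, hσ⟩
      · exact ⟨h.sylow_le_normalizer_coreU h.sylow_mem_r, hr⟩
    · rintro a b - - ⟨ha, ha'⟩ ⟨hb, hb'⟩
      refine ⟨mul_mem ha hb, fun x hx => ?_⟩
      rw [show x⁻¹ * (a * b * x * (a * b)⁻¹) =
        x⁻¹ * (b * x * b⁻¹) * ((b * x * b⁻¹)⁻¹ * (a * (b * x * b⁻¹) * a⁻¹)) by group]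
      exact mul_mem (hb' x hx) (ha' _ ((mem_normalizer_iff.1 hb x).1 hx))
    · rintro a - ⟨ha, ha'⟩
      refine ⟨inv_mem ha, fun x hx => ?_⟩
      have hx' : a⁻¹ * x * a ∈ U := by
        have := (mem_normalizer_iff.1 (inv_mem ha) x).1 hx
        rwa [inv_inv] at this
      have h1 := inv_mem (ha' _ hx')
      rwa [show ((a⁻¹ * x * a)⁻¹ * (a * (a⁻¹ * x * a) * a⁻¹))⁻¹ = x⁻¹ * (a⁻¹ * x * a⁻¹⁻¹) by group] at h1
  refine hna (B.noTheta (χ.comp (Abelianization.of.comp π)) (fun e => hχ ?_) fun z hz x y hxy => ?_)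
  · obtain ⟨g', rfl⟩ := QuotientGroup.mk'_surjective _ g
    exact congrArg (fun f : U →* ℂˣ => f g') e
  · refine congrArg (fun w => χ (Abelianization.of w)) ?_
    refine (QuotientGroup.eq.2 (mem_subgroupOf.2 ?_) : π x = π y)
    have := (hgen z hz).2 x x.2
    rw [hxy] at this
    exact this

/-- **(K)**. -/
theorem noCommuting [IsSimpleGroup G] (B : CaseB n t r σ) : NoCommuting t r σ := by
  intro hσ2 y₀ hy₀ hpp₀
  by_contra hcon
  push Not at hcon
  have h := B.ctx.hyp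
  set U := coreU t
  set I : Set G := {x | x ∈ U ∧ r * x * r⁻¹ = x⁻¹} with hI
  set 𝒦 : Set G := {y | y ∈ coreW t r ∧ IsPrimePow (orderOf y) ∧ ∀ x ∈ I, Commute x y} with h𝒦
  -- conjugation by elements of `C(t)` preserving `W`
  have hIinv : ∀ z ∈ centralizer ({t} : Set G), ∀ x ∈ I, ∀ y : G, (∀ x ∈ I, Commute x y) →
      Commute x (z * y * z⁻¹) := by
    have key : ∀ z ∈ centralizer ({t} : Set G), z ∈ normalizer (closure I : Set G) := by
      refine h.centralizer_le_of_gen (fun u hu => Coprime.mem_normalizer_of_forall fun v hv => ?_) ?_ ?_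
      · -- `U` normalises the group generated by the inverted elements
        obtain ⟨a, haU, -, hai, hac⟩ := h.exists_inverted_mul hu
        set c := a⁻¹ * u with hc
        have hcU : c ∈ U := mul_mem (inv_mem haU) hu
        have e : u * v * u⁻¹ = a * (c * v * c⁻¹) * a⁻¹ := by rw [hc]; group
        rw [e]
        refine mul_mem (mul_mem (subset_closure ⟨haU, hai⟩) ?_) (inv_mem (subset_closure ⟨haU, hai⟩))
        have h1 : closure I ≤ (closure I).comap (MulAut.conj c).toMonoidHom := by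
          refine (closure_le _).2 fun x hx => subset_closure ⟨?_, ?_⟩
          · exact mul_mem (mul_mem hcU hx.1) (inv_mem hcU)
          · show r * (c * x * c⁻¹) * r⁻¹ = (c * x * c⁻¹)⁻¹
            calc r * (c * x * c⁻¹) * r⁻¹ = r * c * r⁻¹ * (r * x * r⁻¹) * (r * c * r⁻¹)⁻¹ := by group
              _ = (c * x * c⁻¹)⁻¹ := by rw [hac.eq, mul_inv_cancel_right, hx.2]; group
        exact h1 hv
      · refine Coprime.mem_normalizer_of_forall fun v hv => ?_
        have h1 : closure I ≤ (closure I).comap (MulAut.conj σ).toMonoidHom := by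
          refine (closure_le _).2 fun x hx => subset_closure ⟨h.conj_σ_mem_coreU.2 hx.1, ?_⟩
          show r * (σ * x * σ⁻¹) * r⁻¹ = (σ * x * σ⁻¹)⁻¹
          have e : σ ^ 2 * x * (σ ^ 2)⁻¹ = x := by rw [(hσ2 x hx.1).eq, mul_inv_cancel_right]
          calc r * (σ * x * σ⁻¹) * r⁻¹ = σ * ((σ⁻¹ * r * σ) * x * (σ⁻¹ * r * σ)⁻¹) * σ⁻¹ := by group
            _ = σ * ((r * r) * (σ⁻¹ * r * σ) * x * ((r * r) * (σ⁻¹ * r * σ))⁻¹) * σ⁻¹ := by
                  rw [h.mul_self_r, one_mul]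
            _ = σ * (r * (r * (σ⁻¹ * r * σ) * x * (r * (σ⁻¹ * r * σ))⁻¹) * r⁻¹) * σ⁻¹ := by group
            _ = (σ * x * σ⁻¹)⁻¹ := by rw [h.refl_mul_refl, e, hx.2]; group
        exact h1 hv
      · refine Coprime.mem_normalizer_of_forall fun v hv => ?_
        have h1 : closure I ≤ (closure I).comap (MulAut.conj r).toMonoidHom := by
          refine (closure_le _).2 fun x hx => ?_
          show r * x * r⁻¹ ∈ closure I
          rw [hx.2]; exact inv_mem (subset_closure hx)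
        exact h1 hv
    intro z hz x hx y hy
    have hle : closure I ≤ centralizer ({y} : Set G) :=
      (closure_le _).2 fun w hw => mem_centralizer_singleton_iff.2 (hy w hw).eq
    have h1 : z⁻¹ * x * z ∈ closure I := by
      have := (mem_normalizer_iff.1 (key _ (inv_mem hz)) x).1 (subset_closure hx)
      rwa [inv_inv] at this
    have := (show Commute (z⁻¹ * x * z) y from mem_centralizer_singleton_iff.1 (hle h1)).map
      (MulAut.conj z).toMonoidHom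
    simpa [mul_assoc] using this
  have hK : ∀ y ∈ 𝒦, ∀ z ∈ centralizer ({t} : Set G), z * y * z⁻¹ ∈ coreW t r → z * y * z⁻¹ ∈ 𝒦 :=
    fun y hy z hz hW => ⟨hW, by rw [Involution.orderOf_conj]; exact hy.2.1,
      fun x hx => hIinv z hz x hx y hy.2.2⟩
  set X := closure 𝒦 with hX
  have hXU : X ≤ U := (closure_le _).2 fun y hy => (mem_inf.1 hy.1).1
  have hX1 : X ≠ ⊥ := fun e => by
    have h1 : y₀ ∈ X := subset_closure ⟨hy₀, hpp₀, fun x hx => hcon x hx.1 hx.2⟩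
    rw [e, mem_bot] at h1
    rw [h1, orderOf_one] at hpp₀
    exact not_isPrimePow_one hpp₀
  -- `C(t)` normalises `X`
  have hW : ∀ z ∈ ({σ, r} : Set G), ∀ y ∈ coreW t r, z * y * z⁻¹ ∈ coreW t r := by
    intro z hz y hy
    obtain ⟨hyt, hyr, hyo⟩ := h.mem_coreW.1 hy
    have hzt : Commute z t := mem_centralizer_singleton_iff.1
      (h.sylow_le_centralizer (subset_closure hz))
    refine h.mem_coreW.2 ⟨(hzt.mul_left hyt).mul_left hzt.inv_left, ?_, by rwa [Involution.orderOf_conj]⟩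
    rcases hz with e0 | e0 <;> rw [e0]
    · have h1 : Commute (σ⁻¹ * r * σ) y := by
        have e : σ⁻¹ * r * σ = r * σ ^ 2 := by
          rw [← h.refl_mul_refl, ← mul_assoc r r, h.mul_self_r, one_mul]
        exact e ▸ hyr.symm.mul_left (hσ2 y (mem_inf.1 hy).1).symm.symm
      have := h1.map (MulAut.conj σ).toMonoidHom
      simpa [mul_assoc] using this.symm
    · exact ((Commute.refl _).mul_left hyr).mul_left (Commute.refl _).inv_left
  have hnorm : ∀ z ∈ centralizer ({t} : Set G), (∀ y ∈ 𝒦, z * y * z⁻¹ ∈ X) → z ∈ normalizer (X : Set G) := by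
    intro z _ hz
    refine Coprime.mem_normalizer_of_forall fun v hv => ?_
    exact (closure_le ((closure 𝒦).comap (MulAut.conj z).toMonoidHom)).2 hz hv
  have hC : centralizer ({t} : Set G) ≤ normalizer (X : Set G) := by
    refine h.centralizer_le_of_gen (fun u hu => hnorm u (h.mem_C_of_mem_coreU hu) fun y hy => ?_) ?_ ?_
    · obtain ⟨a, haU, -, hai, hac⟩ := h.exists_inverted_mul hu
      have hcy : a⁻¹ * u * y * (a⁻¹ * u)⁻¹ ∈ 𝒦 := by
        refine hK y hy _ (mul_mem (inv_mem (h.mem_C_of_mem_coreU haU)) (h.mem_C_of_mem_coreU hu))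
          (h.mem_coreW.2 ⟨?_, ?_, ?_⟩)
        · have hc : Commute (a⁻¹ * u) t :=
            GWKlein.commute_of_mem_coreU (mul_mem (inv_mem haU) hu)
          exact (hc.mul_left (h.mem_coreW.1 hy.1).1).mul_left hc.inv_left
        · exact (hac.symm.mul_left (h.mem_coreW.1 hy.1).2.1).mul_left hac.symm.inv_left
        · rw [Involution.orderOf_conj]; exact (h.mem_coreW.1 hy.1).2.2
      have e : u * y * u⁻¹ = a⁻¹ * u * y * (a⁻¹ * u)⁻¹ := by
        have hc : Commute a (a⁻¹ * u * y * (a⁻¹ * u)⁻¹) := hcy.2.2 a ⟨haU, hai⟩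
        calc u * y * u⁻¹ = a * (a⁻¹ * u * y * (a⁻¹ * u)⁻¹) * a⁻¹ := by group
          _ = _ := by rw [hc.eq, mul_inv_cancel_right]
      rw [e]
      exact subset_closure hcy
    · exact hnorm σ h.σ_mem_C fun y hy => subset_closure (hK y hy σ h.σ_mem_C (hW σ (by simp) y hy.1))
    · exact hnorm r h.r_mem_C fun y hy => subset_closure (hK y hy r h.r_mem_C (hW r (by simp) y hy.1))
  -- a rotation normalises `X`
  obtain ⟨s, hs⟩ := h.exists_rot
  have hsX : s ∈ normalizer (X : Set G) := by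
    refine Coprime.mem_normalizer_of_forall fun v hv => ?_
    refine (closure_le ((closure 𝒦).comap (MulAut.conj s).toMonoidHom)).2 (fun y hy => subset_closure ?_) hv
    obtain ⟨hyt, hyr, hyo⟩ := h.mem_coreW.1 hy.1
    have h1 : Commute (s * y * s⁻¹) r := by
      have := hyt.map (MulAut.conj s).toMonoidHom
      simp only [MulEquiv.coe_toMonoidHom, MulAut.conj_apply, hs.1] at this
      exact this
    have h2 : Commute (s * y * s⁻¹) (t * r) := by
      have := hyr.map (MulAut.conj s).toMonoidHom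
      simp only [MulEquiv.coe_toMonoidHom, MulAut.conj_apply, hs.2] at this
      exact this
    have h3 : Commute (s * y * s⁻¹) t := by
      have := h2.mul_right h1
      rwa [mul_assoc t r r, h.mul_self_r, mul_one] at this
    have hW' : s * y * s⁻¹ ∈ coreW t r := h.mem_coreW.2 ⟨h3, h1, by rwa [Involution.orderOf_conj]⟩
    obtain ⟨s₀, hs₀, hs₀y⟩ := B.fused _ hW' (by rw [Involution.orderOf_conj]; exact hy.2.1)
    -- `s₀⁻¹ s` fixes `t`
    set g := s₀⁻¹ * s with hg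
    have hgt : g ∈ centralizer ({t} : Set G) := by
      refine mem_centralizer_singleton_iff.2 (mul_inv_eq_iff_eq_mul.1 ?_)
      rw [hg, show s₀⁻¹ * s * t * (s₀⁻¹ * s)⁻¹ = s₀⁻¹ * (s * t * s⁻¹) * s₀ by group, hs.1, ← hs₀.1]
      group
    have hgy : g * y * g⁻¹ = s * y * s⁻¹ := by
      rw [hg, show s₀⁻¹ * s * y * (s₀⁻¹ * s)⁻¹ = s₀⁻¹ * (s * y * s⁻¹) * s₀ by group, mul_assoc,
        ← hs₀y.eq, inv_mul_cancel_left]
    show s * y * s⁻¹ ∈ 𝒦
    rw [← hgy] at hW' ⊢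
    exact hK y hy g hgt hW'
  refine B.noOver (normalizer (X : Set G)) (fun e => ?_) hC ⟨s, hsX, hs⟩
  haveI : X.Normal := normalizer_eq_top_iff.1 e
  rcases IsSimpleGroup.eq_bot_or_eq_top_of_normal X inferInstance with h1 | h1
  · exact hX1 h1
  · have := h.odd_orderOf (hXU (h1.ge (mem_top t)))
    rw [h.order_t] at this
    exact absurd this (by decide)

/-- **(N)**. -/
theorem noNormalInW [IsSimpleGroup G] (B : CaseB n t r σ) : NoNormalInW t r := by
  intro p X hp hX hXW hXC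
  by_contra hX1
  have h := B.ctx.hyp
  have hXab : ∀ a ∈ X, ∀ b ∈ X, Commute a b := fun a ha b hb =>
    congrArg Subtype.val (hX.1.is_comm.comm (⟨a, ha⟩ : X) ⟨b, hb⟩)
  have hfix : ∀ x ∈ X, Commute r x := fun x hx => (h.mem_coreW.1 (hXW hx)).2.1.symm
  -- the inverted elements centralise `X`
  have hinv : ∀ g ∈ coreU t, r * g * r⁻¹ = g⁻¹ → ∀ x ∈ X, Commute g x := fun g hg hgi x hx =>
    h.commute_of_conj_fixed hg hgi (hfix x hx) (hfix _ (h.conj_mem hXC (h.mem_C_of_mem_coreU hg) hx))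
  have hσX : ∀ x ∈ X, σ * x * σ⁻¹ ∈ X := fun x hx => h.conj_mem hXC h.σ_mem_C hx
  have hσ2X : ∀ x ∈ X, Commute (σ ^ 2) x := fun x hx => by
    have h1 : Commute (σ⁻¹ * r * σ) x := by
      have := (hfix _ (hσX x hx)).map (MulAut.conj σ⁻¹).toMonoidHom
      simpa [mul_assoc] using this
    exact h.refl_mul_refl ▸ (hfix x hx).mul_left h1
  -- an eigenvector of `σ`
  obtain ⟨y, hy, hy1, hσy⟩ : ∃ y ∈ X, y ≠ 1 ∧ (σ * y * σ⁻¹ = y ∨ σ * y * σ⁻¹ = y⁻¹) := by
    obtain ⟨x, hx, hx1⟩ := (Subgroup.bot_or_exists_ne_one X).resolve_left hX1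
    by_cases hz : x * (σ * x * σ⁻¹) = 1
    · exact ⟨x, hx, hx1, Or.inr (eq_inv_of_mul_eq_one_right hz)⟩
    · refine ⟨_, mul_mem hx (hσX x hx), hz, Or.inl ?_⟩
      calc σ * (x * (σ * x * σ⁻¹)) * σ⁻¹ = σ * x * σ⁻¹ * (σ ^ 2 * x * (σ ^ 2)⁻¹) := by group
        _ = x * (σ * x * σ⁻¹) := by
          rw [(hσ2X x hx).eq, mul_inv_cancel_right, (hXab _ (hσX x hx) x hx).eq]
  have hyo : orderOf y = p := by
    haveI := Fact.mk hp
    exact orderOf_eq_prime (hX.2 y hy) hy1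
  have hpp : IsPrimePow (orderOf y) := hyo ▸ hp.isPrimePow
  have hσy' : σ * y * σ⁻¹ ∈ zpowers y := by
    rcases hσy with e | e <;> rw [e]
    · exact mem_zpowers y
    · exact inv_mem (mem_zpowers y)
  have hfixσ := sigmaFix B y (hXW hy) hpp hσy'
  -- `σ ^ 2` centralises `U`
  have hσ2 : ∀ u ∈ coreU t, Commute (σ ^ 2) u := by
    intro u hu
    set r' := σ⁻¹ * r * σ with hr'
    have hr'C : r' ∈ centralizer ({t} : Set G) := mul_mem (mul_mem (inv_mem h.σ_mem_C) h.r_mem_C) h.σ_mem_C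
    set d := u⁻¹ * (r * u * r⁻¹) with hd
    set e := u⁻¹ * (r' * u * r'⁻¹) with he
    have hdU : d ∈ coreU t := mul_mem (inv_mem hu) (h.conj_r_mem_coreU hu)
    have heU : e ∈ coreU t := mul_mem (inv_mem hu)
      ((mem_normalizer_iff.1 (GWKlein.centralizer_le_normalizer_coreU t hr'C) u).1 hu)
    have hdy : Commute d y := hinv d hdU (by
      rw [hd, show r * (u⁻¹ * (r * u * r⁻¹)) * r⁻¹ = (r * u⁻¹ * r⁻¹) * ((r * r) * u * (r * r)⁻¹) by group,
        h.mul_self_r]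
      group) y hy
    have hr'2 : r' * r' = 1 := by
      rw [hr', show σ⁻¹ * r * σ * (σ⁻¹ * r * σ) = σ⁻¹ * (r * r) * σ by group, h.mul_self_r]; group
    have hey : Commute e y := by
      have hei : r' * e * r'⁻¹ = e⁻¹ := by
        rw [he, show r' * (u⁻¹ * (r' * u * r'⁻¹)) * r'⁻¹ = (r' * u⁻¹ * r'⁻¹) * ((r' * r') * u * (r' * r')⁻¹)
          by group, hr'2]
        group
      have h1 : r * (σ * e * σ⁻¹) * r⁻¹ = (σ * e * σ⁻¹)⁻¹ := by
        calc r * (σ * e * σ⁻¹) * r⁻¹ = σ * (r' * e * r'⁻¹) * σ⁻¹ := by rw [hr']; group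
          _ = _ := by rw [hei]; group
      have h2 := (hinv _ (h.conj_σ_mem_coreU.2 heU) h1 _ (hσX y hy)).map (MulAut.conj σ⁻¹).toMonoidHom
      simpa [mul_assoc] using h2
    have hre : Commute (r * e * r⁻¹) y :=
      ((hfix y hy).mul_left hey).mul_left (hfix y hy).inv_left
    have hfU : d * (r * e * r⁻¹) ∈ coreU t := mul_mem hdU (h.conj_r_mem_coreU heU)
    have hfc : Commute (σ ^ 2) (d * (r * e * r⁻¹)) := hfixσ _ hfU (hdy.mul_left hre)
    have hstep : σ ^ 2 * u * (σ ^ 2)⁻¹ = u * (d * (r * e * r⁻¹)) := by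
      rw [← h.refl_mul_refl, ← hr', hd, he]; group
    have h1 := eq_one_of_step (k := n - 2) hfc hstep h.sq_pow_eq_one (h.odd_orderOf hfU)
    rw [h1, mul_one] at hstep
    exact mul_inv_eq_iff_eq_mul.1 hstep
  obtain ⟨x, hxU, hxi, hxy⟩ := noCommuting B hσ2 y (hXW hy) hpp
  exact hxy (hinv x hxU hxi y hy)

/-- `a > 1` (and `b > 1` by `CaseB.swap`). -/
theorem coreW_ne_bot [IsSimpleGroup G] (B : CaseB n t r σ) : coreW t r ≠ ⊥ := by
  intro ha
  have h := B.ctx.hyp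
  have hb : coreW t (r * σ) ≠ ⊥ := B.nontrivial.resolve_left (fun e => e ha)
  obtain ⟨hinv, hab⟩ : (∀ x ∈ coreU t, r * x * r⁻¹ = x⁻¹) ∧ ∀ x ∈ coreU t, ∀ y ∈ coreU t, x * y = y * x :=
    GWKlein.inverts_of_fpf h.order_r (h.sylow_le_normalizer_coreU h.sylow_mem_r) fun x hx hf => by
      rw [← mem_bot, ← ha]
      exact h.mem_coreW.2 ⟨GWKlein.commute_of_mem_coreU hx, (mul_inv_eq_iff_eq_mul.1 hf).symm, h.odd_orderOf hx⟩
  set W := coreW t (r * σ)
  obtain ⟨p, hp, hpW⟩ := Nat.exists_prime_and_dvd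
    (show Nat.card W ≠ 1 from fun e => hb (Subgroup.eq_bot_of_card_eq _ e))
  let X : Subgroup G :=
    { carrier := {x | x ∈ W ∧ x ^ p = 1}
      one_mem' := ⟨one_mem _, one_pow p⟩
      mul_mem' := fun {a b} ha hb => ⟨mul_mem ha.1 hb.1, by
        rw [(show Commute a b from hab a (mem_inf.1 ha.1).1 b (mem_inf.1 hb.1).1).mul_pow, ha.2, hb.2, one_mul]⟩
      inv_mem' := fun {a} ha => ⟨inv_mem ha.1, by rw [inv_pow, ha.2, inv_one]⟩ }
  have hX : Cfsg.IsElementaryAbelian p X :=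
    ⟨⟨⟨fun a b => Subtype.ext (hab _ (mem_inf.1 a.2.1).1 _ (mem_inf.1 b.2.1).1)⟩⟩, fun a ha => ha.2⟩
  have hXC : centralizer ({t} : Set G) ≤ normalizer (X : Set G) := by
    refine h.centralizer_le_of_gen (fun u hu => Coprime.mem_normalizer_of_forall fun x hx => ?_) ?_ ?_
    · rw [show u * x * u⁻¹ = x by rw [hab u hu x (mem_inf.1 hx.1).1, mul_inv_cancel_right]]
      exact hx
    · refine Coprime.mem_normalizer_of_forall fun x hx => ?_
      have hxU := (mem_inf.1 hx.1).1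
      have h2 : Commute (r * σ) x := (h.swap.mem_coreW.1 hx.1).2.1.symm
      have e : σ * x * σ⁻¹ = x⁻¹ := by
        calc σ * x * σ⁻¹ = r * (r * σ * x * (r * σ)⁻¹) * r⁻¹ := by
              rw [show r * (r * σ * x * (r * σ)⁻¹) * r⁻¹ = (r * r) * σ * x * ((r * r) * σ)⁻¹ by group,
                h.mul_self_r, one_mul]
          _ = x⁻¹ := by rw [h2.eq, mul_inv_cancel_right, hinv x hxU]
      rw [e]; exact inv_mem hx
    · refine Coprime.mem_normalizer_of_forall fun x hx => ?_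
      rw [hinv x (mem_inf.1 hx.1).1]; exact inv_mem hx
  haveI := Fact.mk hp
  obtain ⟨x, hx⟩ := exists_prime_orderOf_dvd_card' p hpW
  have h0 := noNormalInW B.swap p X hp hX (fun z hz => hz.1) hXC
  have h1 : (x : G) ∈ X := ⟨x.2, by rw [← hx, ← Subgroup.orderOf_coe]; exact pow_orderOf_eq_one _⟩
  rw [h0, mem_bot] at h1
  rw [← Subgroup.orderOf_coe, h1, orderOf_one] at hx
  exact hp.one_lt.ne hx

/-- A subgroup of `U` normal in `C(t)`, elementary abelian, not inverted by `r`. -/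
structure MixedElem (p : ℕ) (t r : G) (X : Subgroup G) : Prop where
  prime : p.Prime
  ne_two : p ≠ 2
  elementary : Cfsg.IsElementaryAbelian p X
  le : X ≤ coreU t
  normal : centralizer ({t} : Set G) ≤ normalizer (X : Set G)
  mixed : ∃ x ∈ X, r * x * r⁻¹ ≠ x⁻¹

namespace MixedElem

variable {p : ℕ} {X : Subgroup G}

theorem comm (e : MixedElem p t r X) {a b : G} (ha : a ∈ X) (hb : b ∈ X) : Commute a b :=
  congrArg Subtype.val (e.elementary.1.is_comm.comm (⟨a, ha⟩ : X) ⟨b, hb⟩)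

theorem order_eq (e : MixedElem p t r X) {a : G} (ha : a ∈ X) (h1 : a ≠ 1) : orderOf a = p := by
  haveI := Fact.mk e.prime
  exact orderOf_eq_prime (e.elementary.2 a ha) h1

/-- An element is an inverted one times a fixed one. -/
theorem split (h : DHyp n t r σ) (e : MixedElem p t r X) {x : G} (hx : x ∈ X) :
    ∃ a ∈ X, r * a * r⁻¹ = a⁻¹ ∧ a⁻¹ * x ∈ X ∧ Commute r (a⁻¹ * x) := by
  obtain ⟨a, -, hacl, hai, hac⟩ := h.exists_inverted_mul (e.le hx)
  have haX : a ∈ X := (closure_le X).2 (by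
    rintro w (rfl | rfl)
    · exact hx
    · exact h.conj_mem e.normal h.r_mem_C hx) hacl
  exact ⟨a, haX, hai, mul_mem (inv_mem haX) hx, hac⟩

/-- A fixed element of `X` that is not trivial. -/
theorem exists_fixed (h : DHyp n t r σ) (e : MixedElem p t r X) :
    ∃ y ∈ X, y ≠ 1 ∧ Commute r y := by
  obtain ⟨x, hx, hxne⟩ := e.mixed
  obtain ⟨a, haX, hai, hcX, hac⟩ := e.split h hx
  refine ⟨_, hcX, fun e1 => hxne ?_, hac⟩
  rw [inv_mul_eq_one] at e1
  rw [← e1]; exact hai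

theorem mem_coreW (h : DHyp n t r σ) (e : MixedElem p t r X) {y : G} (hy : y ∈ X) (hr : Commute r y) :
    y ∈ coreW t r :=
  h.mem_coreW.2 ⟨GWKlein.commute_of_mem_coreU (e.le hy), hr.symm, h.odd_orderOf (e.le hy)⟩

/-- The inverted elements of `X` form a line. -/
theorem exists_line [IsSimpleGroup G] (B : CaseB n t r σ) (e : MixedElem p t r X) :
    ∃ l ∈ X, orderOf l = p ∧ r * l * r⁻¹ = l⁻¹ ∧ ∀ x ∈ X, r * x * r⁻¹ = x⁻¹ → x ∈ zpowers l := by
  have h := B.ctx.hyp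
  obtain ⟨y, hy, hy1, hry⟩ := e.exists_fixed h
  obtain ⟨T, hTc, hT, -⟩ := B.inverted_sub (e.mem_coreW h hy hry)
    ((e.order_eq hy hy1).symm ▸ e.prime.isPrimePow)
  haveI := hTc
  obtain ⟨l, hl, hl1, hli⟩ : ∃ l ∈ X, l ≠ 1 ∧ r * l * r⁻¹ = l⁻¹ := by
    by_contra hcon
    push Not at hcon
    have hall : ∀ x ∈ X, Commute r x := fun x hx => by
      obtain ⟨a, haX, hai, -, hac⟩ := e.split h hx
      have ha1 : a = 1 := by
        by_contra ha1
        exact hcon a haX ha1 hai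
      rwa [ha1, inv_one, one_mul] at hac
    have h0 := noNormalInW B p X e.prime e.elementary (fun x hx => e.mem_coreW h hx (hall x hx)) e.normal
    obtain ⟨x, hx, hxne⟩ := e.mixed
    rw [h0, mem_bot] at hx
    exact hxne (by rw [hx]; group)
  refine ⟨l, hl, e.order_eq hl hl1, hli, fun x hx hxi => ?_⟩
  by_cases hx1 : x = 1
  · rw [hx1]; exact one_mem _
  exact CyclicMeet.mem_zpowers_of_cyclic T ((hT l).2 ⟨e.le hl, e.comm hl hy, hli⟩)
    ((hT x).2 ⟨e.le hx, e.comm hx hy, hxi⟩) (by rw [e.order_eq hx hx1, e.order_eq hl hl1])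

/-- A power of the generator of a line. -/
theorem mem_zpowers_pow (e : MixedElem p t r X) {a m : G} (ha : a ∈ X) (hm1 : m ≠ 1) {l : G}
    (hl : l ∈ X) (ham : a ∈ zpowers l) (hml : m ∈ zpowers l) : a ∈ Submonoid.powers m := by
  have hmX : m ∈ X := (zpowers_le.2 hl) hml
  have h1 : zpowers m = zpowers l := by
    refine Subgroup.eq_of_le_of_card_ge (zpowers_le.2 hml) ?_
    rw [Nat.card_zpowers, Nat.card_zpowers, e.order_eq hmX hm1]
    by_cases hl1 : l = 1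
    · exfalso
      rw [hl1, zpowers_one_eq_bot, mem_bot] at hml
      exact hm1 hml
    · rw [e.order_eq hl hl1]
  exact mem_powers_iff_mem_zpowers.2 (h1 ▸ ham)

/-- With at least two lines of fixed elements, some fixed element has a fixed image. -/
theorem exists_fixed_image (h : DHyp n t r σ) (e : MixedElem p t r X) {l : G} (hl : l ∈ X)
    (hline : ∀ x ∈ X, r * x * r⁻¹ = x⁻¹ → x ∈ zpowers l) {g b₁ b₂ : G}
    (hg : g ∈ centralizer ({t} : Set G)) (hb₁ : b₁ ∈ X) (hb₁' : Commute r b₁)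
    (hb₁1 : b₁ ≠ 1) (hb₂ : b₂ ∈ X) (hb₂' : Commute r b₂) (hne : b₂ ∉ zpowers b₁) :
    ∃ y ∈ X, y ≠ 1 ∧ Commute r y ∧ Commute r (g * y * g⁻¹) := by
  obtain ⟨a₁, ha₁, ha₁i, hc₁, hf₁⟩ := e.split h (h.conj_mem e.normal hg hb₁)
  by_cases ha₁1 : a₁ = 1
  · exact ⟨b₁, hb₁, hb₁1, hb₁', by rwa [ha₁1, inv_one, one_mul] at hf₁⟩
  obtain ⟨a₂, ha₂, ha₂i, hc₂, hf₂⟩ := e.split h (h.conj_mem e.normal hg hb₂)
  obtain ⟨k, hk⟩ := e.mem_zpowers_pow ha₂ ha₁1 hl (hline _ ha₂ ha₂i) (hline _ ha₁ ha₁i)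
  simp only at hk
  refine ⟨b₂ * (b₁ ^ k)⁻¹, mul_mem hb₂ (inv_mem (pow_mem hb₁ k)), fun e1 => hne ?_,
    hb₂'.mul_right (hb₁'.pow_right k).inv_right, ?_⟩
  · rw [mul_inv_eq_one] at e1
    exact e1 ▸ pow_mem (mem_zpowers _) k
  have e1 : g * (b₂ * (b₁ ^ k)⁻¹) * g⁻¹ = (a₂⁻¹ * (g * b₂ * g⁻¹)) * ((a₁⁻¹ * (g * b₁ * g⁻¹)) ^ k)⁻¹ := by
    have hcom : Commute a₁ (a₁⁻¹ * (g * b₁ * g⁻¹)) := e.comm ha₁ hc₁
    calc g * (b₂ * (b₁ ^ k)⁻¹) * g⁻¹ = g * b₂ * g⁻¹ * ((g * b₁ * g⁻¹) ^ k)⁻¹ := by rw [conj_pow]; group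
      _ = a₂ * (a₂⁻¹ * (g * b₂ * g⁻¹)) * ((a₁ * (a₁⁻¹ * (g * b₁ * g⁻¹))) ^ k)⁻¹ := by group
      _ = a₂ * ((a₂⁻¹ * (g * b₂ * g⁻¹)) * ((a₁⁻¹ * (g * b₁ * g⁻¹)) ^ k)⁻¹) * (a₁ ^ k)⁻¹ := by
            rw [hcom.mul_pow, mul_inv_rev]; group
      _ = _ := by
            rw [hk, (e.comm ha₂ (mul_mem hc₂ (inv_mem (pow_mem hc₁ k)))).eq, mul_inv_cancel_right]
  rw [e1]
  exact hf₂.mul_right (hf₁.pow_right k).inv_right

end MixedElem

/-- A translation: powers. -/
theorem pow_conj_of_translation {g b m : G} (hgm : Commute g m) (hgb : g * b * g⁻¹ = m * b) (k : ℕ) :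
    g ^ k * b * (g ^ k)⁻¹ = m ^ k * b := by
  induction k with
  | zero => simp
  | succ k ih =>
    calc g ^ (k + 1) * b * (g ^ (k + 1))⁻¹ = g * (g ^ k * b * (g ^ k)⁻¹) * g⁻¹ := by group
      _ = g * m ^ k * g⁻¹ * (g * b * g⁻¹) := by rw [ih]; group
      _ = m ^ (k + 1) * b := by rw [(hgm.pow_right k).eq, mul_inv_cancel_right, hgb, pow_succ, mul_assoc]

/-- With at least two fixed lines, `C(t)` acts trivially on `X` modulo the inverted line, which is central in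
`U` and normalised by `σ`. -/
theorem MixedElem.trivial_quotient [IsSimpleGroup G] (B : CaseB n t r σ) {p : ℕ} {X : Subgroup G}
    (e : MixedElem p t r X) {l : G} (hl : l ∈ X) (hlp : orderOf l = p) (hli : r * l * r⁻¹ = l⁻¹)
    (hline : ∀ x ∈ X, r * x * r⁻¹ = x⁻¹ → x ∈ zpowers l) {b₁ b₂ : G} (hb₁ : b₁ ∈ X) (hb₁' : Commute r b₁)
    (hb₁1 : b₁ ≠ 1) (hb₂ : b₂ ∈ X) (hb₂' : Commute r b₂) (hne : b₂ ∉ zpowers b₁) :
    (∀ u ∈ coreU t, Commute u l) ∧ σ * l * σ⁻¹ ∈ zpowers l ∧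
      (∀ b ∈ X, Commute r b → Commute σ b) ∧
      ∀ u ∈ coreU t, ∀ b ∈ X, Commute r b → u * b * u⁻¹ * b⁻¹ ∈ zpowers l := by
  classical
  have h := B.ctx.hyp
  have hp := e.prime
  haveI := Fact.mk hp
  have hodd : ∀ v ∈ coreU t, Odd (orderOf v) := fun v hv => h.odd_orderOf hv
  set U := coreU t
  set C := centralizer ({t} : Set G)
  have hlX : zpowers l ≤ X := zpowers_le.2 hl
  have hUC : ∀ {v : G}, v ∈ U → v ∈ C := fun hv => h.mem_C_of_mem_coreU hv
  have hpp : ∀ {v : G}, v ∈ X → v ≠ 1 → IsPrimePow (orderOf v) := fun hv h1 =>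
    (e.order_eq hv h1).symm ▸ hp.isPrimePow
  -- inverted elements of `U` centralise the line
  have hIl : ∀ i ∈ U, r * i * r⁻¹ = i⁻¹ → Commute i l := by
    intro i hi hii
    obtain ⟨y, hy, hy1, hry, hiy⟩ := e.exists_fixed_image h hl hline (hUC hi) hb₁ hb₁' hb₁1 hb₂ hb₂' hne
    obtain ⟨T, hTc, hT, -⟩ := B.inverted_sub (e.mem_coreW h hy hry) (hpp hy hy1)
    haveI := hTc
    exact congrArg Subtype.val (IsMulCommutative.is_comm.comm
      (⟨i, (hT i).2 ⟨hi, h.commute_of_conj_fixed hi hii hry hiy, hii⟩⟩ : T)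
      ⟨l, (hT l).2 ⟨e.le hl, e.comm hl hy, hli⟩⟩)
  -- `U` normalises the line
  have hUl : ∀ u ∈ U, u ∈ normalizer (zpowers l : Set G) := by
    intro u hu
    obtain ⟨a, haU, -, hai, hac⟩ := h.exists_inverted_mul hu
    refine Coprime.mem_normalizer_of_forall fun v hv => ?_
    set c := a⁻¹ * u with hc
    have hcC : c ∈ C := hUC (mul_mem (inv_mem haU) hu)
    have h1 : c * l * c⁻¹ ∈ zpowers l := by
      refine hline _ (h.conj_mem e.normal hcC hl) ?_
      calc r * (c * l * c⁻¹) * r⁻¹ = r * c * r⁻¹ * (r * l * r⁻¹) * (r * c * r⁻¹)⁻¹ := by group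
        _ = (c * l * c⁻¹)⁻¹ := by rw [hac.eq, mul_inv_cancel_right, hli]; group
    obtain ⟨i, rfl⟩ := mem_zpowers_iff.1 hv
    obtain ⟨j, hj⟩ := mem_zpowers_iff.1 (zpow_mem h1 i)
    have e1 : u * l ^ i * u⁻¹ = a * l ^ j * a⁻¹ := by rw [hj, conj_zpow, hc]; group
    rw [e1, ((hIl a haU hai).zpow_right j).eq, mul_inv_cancel_right]
    exact zpow_mem (mem_zpowers l) j
  -- an eigenvector
  obtain ⟨w, hw, hw1, hrw, hσw⟩ : ∃ w ∈ X, w ≠ 1 ∧ Commute r w ∧
      (σ * w * σ⁻¹ = w ∨ σ * w * σ⁻¹ = w⁻¹) := by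
    obtain ⟨z, hz, hz1, hrz, hσz⟩ := e.exists_fixed_image h hl hline h.σ_mem_C hb₁ hb₁' hb₁1 hb₂ hb₂' hne
    by_cases h1 : z * (σ * z * σ⁻¹) = 1
    · exact ⟨z, hz, hz1, hrz, Or.inr (eq_inv_of_mul_eq_one_right h1)⟩
    · have hzX : σ * z * σ⁻¹ ∈ X := h.conj_mem e.normal h.σ_mem_C hz
      refine ⟨_, mul_mem hz hzX, h1, hrz.mul_right hσz, Or.inl ?_⟩
      have h2 : Commute (σ ^ 2) z := by
        have h3 : Commute (σ⁻¹ * r * σ) z := by
          have := hσz.map (MulAut.conj σ⁻¹).toMonoidHom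
          simpa [mul_assoc] using this
        exact h.refl_mul_refl ▸ hrz.mul_left h3
      calc σ * (z * (σ * z * σ⁻¹)) * σ⁻¹ = σ * z * σ⁻¹ * (σ ^ 2 * z * (σ ^ 2)⁻¹) := by group
        _ = z * (σ * z * σ⁻¹) := by rw [h2.eq, mul_inv_cancel_right, (e.comm hzX hz).eq]
  have hσ2 : ∀ x ∈ X, Commute (σ ^ 2) x := fun x hx =>
    sigmaFix B w (e.mem_coreW h hw hrw) (hpp hw hw1)
      (by rcases hσw with e1 | e1 <;> rw [e1]; exacts [mem_zpowers w, inv_mem (mem_zpowers w)])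
      x (e.le hx) (e.comm hx hw)
  set r' := σ⁻¹ * r * σ with hr'def
  have hr'X : ∀ x ∈ X, r' * x * r'⁻¹ = r * x * r⁻¹ := fun x hx => by
    calc r' * x * r'⁻¹ = (r * r) * r' * x * ((r * r) * r')⁻¹ := by rw [h.mul_self_r, one_mul]
      _ = r * (r * r' * x * (r * r')⁻¹) * r⁻¹ := by group
      _ = r * x * r⁻¹ := by rw [hr'def, h.refl_mul_refl, (hσ2 x hx).eq, mul_inv_cancel_right]
  have hσfix : ∀ b ∈ X, Commute r b → Commute r (σ * b * σ⁻¹) := fun b hb hrb => by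
    refine mul_inv_eq_iff_eq_mul.1 ?_
    calc r * (σ * b * σ⁻¹) * r⁻¹ = σ * (r' * b * r'⁻¹) * σ⁻¹ := by rw [hr'def]; group
      _ = σ * b * σ⁻¹ := by rw [hr'X b hb, hrb.eq, mul_inv_cancel_right]
  have hσl : σ * l * σ⁻¹ ∈ zpowers l := by
    refine hline _ (h.conj_mem e.normal h.σ_mem_C hl) ?_
    calc r * (σ * l * σ⁻¹) * r⁻¹ = σ * (r' * l * r'⁻¹) * σ⁻¹ := by rw [hr'def]; group
      _ = (σ * l * σ⁻¹)⁻¹ := by rw [hr'X l hl, hli]; group
  have hσN : σ ∈ normalizer (zpowers l : Set G) := Coprime.mem_normalizer_of_forall fun v hv => by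
    obtain ⟨i, rfl⟩ := mem_zpowers_iff.1 hv
    rw [← conj_zpow]
    exact zpow_mem hσl i
  have hrl : ∀ v ∈ zpowers l, r * v * r⁻¹ = v⁻¹ := fun v hv => by
    obtain ⟨i, rfl⟩ := mem_zpowers_iff.1 hv
    rw [← conj_zpow, hli, inv_zpow]
  -- the fixed elements
  let Xp : Subgroup G := X ⊓ centralizer ({r} : Set G)
  have hXp : ∀ {b : G}, b ∈ Xp ↔ b ∈ X ∧ Commute r b := fun {b} => by
    simp only [Xp, mem_inf, mem_centralizer_singleton_iff]
    exact and_congr_right fun _ => ⟨fun h1 => h1.symm, fun h1 => h1.symm⟩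
  have hdisj : ∀ v, v ∈ zpowers l → Commute r v → v = 1 := fun v hv hrv =>
    eq_one_of_inverted_commute (hodd v (e.le (hlX hv))) (hrl v hv) hrv
  -- `U` is not abelian
  have hna : ¬ ∀ x ∈ U, ∀ y ∈ U, Commute x y := by
    intro hab
    have hC : C ≤ normalizer (Xp : Set G) := by
      refine h.centralizer_le_of_gen (fun u hu => Coprime.mem_normalizer_of_forall fun b hb => ?_) ?_ ?_
      · rw [(hab u hu b (e.le (hXp.1 hb).1)).eq, mul_inv_cancel_right]; exact hb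
      · exact Coprime.mem_normalizer_of_forall fun b hb => hXp.2
          ⟨h.conj_mem e.normal h.σ_mem_C (hXp.1 hb).1, hσfix b (hXp.1 hb).1 (hXp.1 hb).2⟩
      · exact Coprime.mem_normalizer_of_forall fun b hb => by
          rw [(hXp.1 hb).2.eq, mul_inv_cancel_right]; exact hb
    have h0 := noNormalInW B p Xp hp ⟨⟨⟨fun a b => Subtype.ext (e.comm (hXp.1 a.2).1 (hXp.1 b.2).1)⟩⟩,
      fun a ha => e.elementary.2 a (hXp.1 ha).1⟩ (fun b hb => e.mem_coreW h (hXp.1 hb).1 (hXp.1 hb).2) hC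
    have h1 := hXp.2 ⟨hb₁, hb₁'⟩
    rw [h0, mem_bot] at h1
    exact hb₁1 h1
  have hrcomm : ∀ x ∈ U, r * (x⁻¹ * (r * x * r⁻¹)) * r⁻¹ = (x⁻¹ * (r * x * r⁻¹))⁻¹ := fun x _ => by
    rw [show r * (x⁻¹ * (r * x * r⁻¹)) * r⁻¹ = (r * x⁻¹ * r⁻¹) * ((r * r) * x * (r * r)⁻¹) by group,
      h.mul_self_r]
    group
  -- the line is central
  have hcl : ∀ u ∈ U, Commute u l := by
    have hle := B.le_of_stable (N := U ⊓ centralizer ({l} : Set G)) inf_le_left
      (fun u hu => Coprime.mem_normalizer_of_forall fun v hv => by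
        refine mem_inf.2 ⟨mul_mem (mul_mem hu hv.1) (inv_mem hu), mem_centralizer_singleton_iff.2 ?_⟩
        have hul : u⁻¹ * l * u ∈ zpowers l := by
          have := (mem_normalizer_iff.1 (inv_mem (hUl u hu)) l).1 (mem_zpowers l)
          rwa [inv_inv] at this
        obtain ⟨i, hi⟩ := mem_zpowers_iff.1 hul
        have hvl : Commute v (u⁻¹ * l * u) :=
          hi ▸ (show Commute v l from mem_centralizer_singleton_iff.1 hv.2).zpow_right i
        have := hvl.map (MulAut.conj u).toMonoidHom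
        simpa [mul_assoc] using this.eq)
      (fun x hx => mem_inf.2 ⟨mul_mem (inv_mem hx) (h.conj_σ_mem_coreU.2 hx), mem_centralizer_singleton_iff.2 ?_⟩)
      (fun x hx => mem_inf.2 ⟨mul_mem (inv_mem hx) (h.conj_r_mem_coreU hx), mem_centralizer_singleton_iff.2
        (hIl _ (mul_mem (inv_mem hx) (h.conj_r_mem_coreU hx)) (hrcomm x hx)).eq⟩) hna
    · exact fun u hu => mem_centralizer_singleton_iff.1 (hle hu).2
    · obtain ⟨k, hk⟩ := mem_zpowers_iff.1 ((mem_normalizer_iff.1 (hUl x hx) l).1 (mem_zpowers l))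
      have hσl' : σ⁻¹ * l * σ ∈ zpowers l := by
        have := (mem_normalizer_iff.1 (inv_mem hσN) l).1 (mem_zpowers l)
        rwa [inv_inv] at this
      obtain ⟨i, hi⟩ := mem_zpowers_iff.1 hσl'
      have hy : σ * x * σ⁻¹ * l * (σ * x * σ⁻¹)⁻¹ = x * l * x⁻¹ := by
        calc σ * x * σ⁻¹ * l * (σ * x * σ⁻¹)⁻¹ = σ * (x * (σ⁻¹ * l * σ) * x⁻¹) * σ⁻¹ := by group
          _ = σ * (x * l * x⁻¹) ^ i * σ⁻¹ := by rw [← hi, conj_zpow]
          _ = σ * (σ⁻¹ * l * σ) ^ k * σ⁻¹ := by rw [← hk, ← zpow_mul, mul_comm k, zpow_mul, hi]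
          _ = l ^ k := by rw [← conj_zpow]; group
          _ = x * l * x⁻¹ := hk
      show x⁻¹ * (σ * x * σ⁻¹) * l = l * (x⁻¹ * (σ * x * σ⁻¹))
      calc x⁻¹ * (σ * x * σ⁻¹) * l
            = x⁻¹ * (σ * x * σ⁻¹ * l * (σ * x * σ⁻¹)⁻¹) * (σ * x * σ⁻¹) := by group
        _ = l * (x⁻¹ * (σ * x * σ⁻¹)) := by rw [hy]; group
  have hclv : ∀ u ∈ U, ∀ v ∈ zpowers l, Commute u v := fun u hu v hv => by
    obtain ⟨i, rfl⟩ := mem_zpowers_iff.1 hv
    exact (hcl u hu).zpow_right i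
  -- translations: elements inverted by an involution acting on `X` as `r` does
  have htr : ∀ ρ i, i ∈ U → ρ * i * ρ⁻¹ = i⁻¹ → (∀ x ∈ X, ρ * x * ρ⁻¹ = r * x * r⁻¹) →
      ∀ b ∈ Xp, i * b * i⁻¹ * b⁻¹ ∈ zpowers l := by
    intro ρ i hi hρi hρX b hb
    obtain ⟨hbX, hrb⟩ := hXp.1 hb
    obtain ⟨m, hm⟩ := hodd i hi
    set j := i ^ (m + 1) with hj
    have hjj : j * j = i := by
      rw [hj, ← pow_add, show m + 1 + (m + 1) = 2 * m + 1 + 1 by omega, ← hm, pow_succ, pow_orderOf_eq_one,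
        one_mul]
    have hρj : ρ * j * ρ⁻¹ = j⁻¹ := Involution.inverts_pow hρi _
    have hjU : j ∈ U := pow_mem hi _
    have hjX : j * b * j⁻¹ ∈ X := h.conj_mem e.normal (hUC hjU) hbX
    obtain ⟨a, haX, hai, hcX, hac⟩ := e.split h hjX
    have ha := hline a haX hai
    set c := a⁻¹ * (j * b * j⁻¹) with hc
    -- apply `ρ`
    have e1 : j⁻¹ * b * j = a⁻¹ * c := by
      calc j⁻¹ * b * j = ρ * j * ρ⁻¹ * (ρ * b * ρ⁻¹) * (ρ * j * ρ⁻¹)⁻¹ := by
            rw [hρj, hρX b hbX, hrb.eq, mul_inv_cancel_right, inv_inv]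
        _ = ρ * (j * b * j⁻¹) * ρ⁻¹ := by group
        _ = r * a * r⁻¹ * (r * c * r⁻¹) := by rw [hρX _ hjX, hc]; group
        _ = a⁻¹ * c := by rw [hai, hac.eq, mul_inv_cancel_right]
    have e2 : j * c * j⁻¹ = a * b := by
      have h1 : b = j * a⁻¹ * j⁻¹ * (j * c * j⁻¹) :=
        calc b = j * (j⁻¹ * b * j) * j⁻¹ := by group
          _ = _ := by rw [e1]; group
      rw [(hclv j hjU _ (inv_mem ha)).eq, mul_inv_cancel_right] at h1
      rw [h1, mul_inv_cancel_left]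
    have e3 : i * b * i⁻¹ * b⁻¹ = a * a := by
      calc i * b * i⁻¹ * b⁻¹ = j * (j * b * j⁻¹) * j⁻¹ * b⁻¹ := by rw [← hjj]; group
        _ = j * a * j⁻¹ * (j * c * j⁻¹) * b⁻¹ := by rw [hc]; group
        _ = a * a := by rw [(hclv j hjU a ha).eq, mul_inv_cancel_right, e2]; group
    rw [e3]
    exact mul_mem ha ha
  -- removing the fixed part of a translation
  have hfix : ∀ a c, a ∈ U → c ∈ U → r * a * r⁻¹ = a⁻¹ → Commute r c → ∀ b ∈ Xp,
      a * c * b * (a * c)⁻¹ * b⁻¹ ∈ zpowers l → c * b * c⁻¹ = b := by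
    intro a c ha hc hai hrc b hb hm
    obtain ⟨hbX, hrb⟩ := hXp.1 hb
    have hb' : c * b * c⁻¹ ∈ Xp :=
      hXp.2 ⟨h.conj_mem e.normal (hUC hc) hbX, (hrc.mul_right hrb).mul_right hrc.inv_right⟩
    have hm' := htr r a ha hai (fun x _ => rfl) _ hb'
    have h1 : c * b * c⁻¹ * b⁻¹ ∈ zpowers l := by
      have := mul_mem (inv_mem hm') hm
      convert this using 1
      group
    exact mul_inv_eq_one.1 (hdisj _ h1 (((hrc.mul_right hrb).mul_right hrc.inv_right).mul_right hrb.inv_right))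
  -- the translations separate the fixed elements
  have hsep : ∀ b ∈ Xp, (∀ i ∈ U, r * i * r⁻¹ = i⁻¹ → Commute i b) → b = 1 := by
    let Z : Subgroup G :=
      { carrier := {b | b ∈ Xp ∧ ∀ i ∈ U, r * i * r⁻¹ = i⁻¹ → Commute i b}
        one_mem' := ⟨one_mem _, fun i _ _ => Commute.one_right i⟩
        mul_mem' := fun {a b} ha hb => ⟨mul_mem ha.1 hb.1, fun i hi hii => (ha.2 i hi hii).mul_right (hb.2 i hi hii)⟩
        inv_mem' := fun {a} ha => ⟨inv_mem ha.1, fun i hi hii => (ha.2 i hi hii).inv_right⟩ }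
    have hZC : C ≤ normalizer (Z : Set G) := by
      refine h.centralizer_le_of_gen (fun u hu => Coprime.mem_normalizer_of_forall fun b hb => ?_) ?_ ?_
      · obtain ⟨a, haU, -, hai, hac⟩ := h.exists_inverted_mul hu
        set c := a⁻¹ * u with hc
        have hcU : c ∈ U := mul_mem (inv_mem haU) hu
        have hcb : c * b * c⁻¹ ∈ Z := by
          refine ⟨hXp.2 ⟨h.conj_mem e.normal (hUC hcU) (hXp.1 hb.1).1,
            (hac.mul_right (hXp.1 hb.1).2).mul_right hac.inv_right⟩, fun i hi hii => ?_⟩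
          have h1 : Commute (c⁻¹ * i * c) b := hb.2 _ (mul_mem (mul_mem (inv_mem hcU) hi) hcU) (by
            calc r * (c⁻¹ * i * c) * r⁻¹ = (r * c * r⁻¹)⁻¹ * (r * i * r⁻¹) * (r * c * r⁻¹) := by group
              _ = _ := by rw [hac.eq, mul_inv_cancel_right, hii]; group)
          have := h1.map (MulAut.conj c).toMonoidHom
          simpa [mul_assoc] using this
        have hcomm : Commute a (c * b * c⁻¹) := hcb.2 a haU hai
        rw [show u * b * u⁻¹ = a * (c * b * c⁻¹) * a⁻¹ by rw [hc]; group, hcomm.eq, mul_inv_cancel_right]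
        exact hcb
      · refine Coprime.mem_normalizer_of_forall fun b hb => ⟨hXp.2 ⟨h.conj_mem e.normal h.σ_mem_C
          (hXp.1 hb.1).1, hσfix b (hXp.1 hb.1).1 (hXp.1 hb.1).2⟩, fun i hi hii => ?_⟩
        set i' := σ⁻¹ * i * σ with hi'
        have hi'U : i' ∈ U := h.conj_σ_mem_coreU.1 (by rwa [show σ * i' * σ⁻¹ = i by rw [hi']; group])
        have hi'i : r' * i' * r'⁻¹ = i'⁻¹ := by
          calc r' * i' * r'⁻¹ = σ⁻¹ * (r * i * r⁻¹) * σ := by rw [hr'def, hi']; group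
            _ = _ := by rw [hii, hi']; group
        obtain ⟨a, haU, -, hai, hac⟩ := h.exists_inverted_mul hi'U
        have hcU : a⁻¹ * i' ∈ U := mul_mem (inv_mem haU) hi'U
        have h1 := hfix a _ haU hcU hai hac b hb.1 (by
          rw [mul_inv_cancel_left]
          exact htr r' i' hi'U hi'i hr'X b hb.1)
        have h2 : Commute i' b := by
          refine mul_inv_eq_iff_eq_mul.1 ?_
          rw [show i' * b * i'⁻¹ = a * (a⁻¹ * i' * b * (a⁻¹ * i')⁻¹) * a⁻¹ by group, h1, (hb.2 a haU hai).eq,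
            mul_inv_cancel_right]
        have := h2.map (MulAut.conj σ).toMonoidHom
        simpa [hi', mul_assoc] using this
      · exact Coprime.mem_normalizer_of_forall fun b hb => by
          rw [(hXp.1 hb.1).2.eq, mul_inv_cancel_right]; exact hb
    have h0 := noNormalInW B p Z hp ⟨⟨⟨fun a b => Subtype.ext (e.comm (hXp.1 a.2.1).1 (hXp.1 b.2.1).1)⟩⟩,
      fun a ha => e.elementary.2 a (hXp.1 ha.1).1⟩
      (fun b hb => e.mem_coreW h (hXp.1 hb.1).1 (hXp.1 hb.1).2) hZC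
    intro b hb hcomm
    have h1 : b ∈ Z := ⟨hb, hcomm⟩
    rwa [h0, mem_bot] at h1
  -- `σ` fixes the fixed elements
  have hσXp : ∀ b ∈ Xp, Commute σ b := by
    intro b₀ hb₀
    by_contra hb₀σ
    obtain ⟨hb₀X, hrb₀⟩ := hXp.1 hb₀
    set v := b₀⁻¹ * (σ * b₀ * σ⁻¹) with hv
    have hvX : v ∈ X := mul_mem (inv_mem hb₀X) (h.conj_mem e.normal h.σ_mem_C hb₀X)
    have hrv : Commute r v := hrb₀.inv_right.mul_right (hσfix b₀ hb₀X hrb₀)
    have hv1 : v ≠ 1 := fun e1 => hb₀σ (mul_inv_eq_iff_eq_mul.1 (inv_mul_eq_one.1 e1).symm)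
    have hσv : σ * v * σ⁻¹ = v⁻¹ := by
      calc σ * v * σ⁻¹ = (σ * b₀ * σ⁻¹)⁻¹ * (σ ^ 2 * b₀ * (σ ^ 2)⁻¹) := by rw [hv]; group
        _ = v⁻¹ := by rw [(hσ2 b₀ hb₀X).eq, mul_inv_cancel_right, hv]; group
    -- an eigenvector not in the line of `v`
    obtain ⟨y, hy, hy1, hry, hσy, hvy⟩ : ∃ y ∈ X, y ≠ 1 ∧ Commute r y ∧
        (σ * y * σ⁻¹ = y ∨ σ * y * σ⁻¹ = y⁻¹) ∧ v ∉ zpowers y := by
      obtain ⟨b, hb, hrb, hbv⟩ : ∃ b ∈ X, Commute r b ∧ b ∉ zpowers v := by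
        by_cases h1 : b₁ ∈ zpowers v
        · refine ⟨b₂, hb₂, hb₂', fun h2 => hne ?_⟩
          refine (?_ : zpowers v ≤ zpowers b₁) h2
          refine (Subgroup.eq_of_le_of_card_ge (zpowers_le.2 h1) ?_).ge
          rw [Nat.card_zpowers, Nat.card_zpowers, e.order_eq hvX hv1, e.order_eq hb₁ hb₁1]
        · exact ⟨b₁, hb₁, hb₁', h1⟩
      have hb1 : b ≠ 1 := fun e1 => hbv (e1 ▸ one_mem _)
      have hsymm : ∀ y ∈ X, y ≠ 1 → v ∈ zpowers y → y ∈ zpowers v := fun y hy hy1 h1 => by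
        rw [show zpowers v = zpowers y from Subgroup.eq_of_le_of_card_ge (zpowers_le.2 h1)
          (by rw [Nat.card_zpowers, Nat.card_zpowers, e.order_eq hvX hv1, e.order_eq hy hy1])]
        exact mem_zpowers y
      by_cases hz : b * (σ * b * σ⁻¹) = 1
      · exact ⟨b, hb, hb1, hrb, Or.inr (eq_inv_of_mul_eq_one_right hz), fun h1 => hbv (hsymm b hb hb1 h1)⟩
      · have hbX' := h.conj_mem e.normal h.σ_mem_C hb
        have hfz : σ * (b * (σ * b * σ⁻¹)) * σ⁻¹ = b * (σ * b * σ⁻¹) := by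
          calc σ * (b * (σ * b * σ⁻¹)) * σ⁻¹ = σ * b * σ⁻¹ * (σ ^ 2 * b * (σ ^ 2)⁻¹) := by group
            _ = b * (σ * b * σ⁻¹) := by rw [(hσ2 b hb).eq, mul_inv_cancel_right, (e.comm hbX' hb).eq]
        refine ⟨_, mul_mem hb hbX', hz, hrb.mul_right (hσfix b hb hrb), Or.inl hfz, fun h1 => hv1 ?_⟩
        obtain ⟨i, hi⟩ := mem_zpowers_iff.1 h1
        have h3 : v⁻¹ = v := by rw [← hσv, ← hi, ← conj_zpow, hfz]
        exact eq_one_of_inverted_commute (u := (1 : G)) (hodd v (e.le hvX)) (by rw [h3]; group)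
          (Commute.one_left v)
    -- a translation fixing `y` and moving `v`
    have hyXp : y ∈ Xp := hXp.2 ⟨hy, hry⟩
    obtain ⟨i₁, hi₁, hi₁i, hi₁y⟩ : ∃ i ∈ U, r * i * r⁻¹ = i⁻¹ ∧ ¬ Commute i y := by
      by_contra hcon
      push Not at hcon
      exact hy1 (hsep y hyXp hcon)
    set m₁ := i₁ * y * i₁⁻¹ * y⁻¹ with hm₁
    have hm₁l : m₁ ∈ zpowers l := htr r i₁ hi₁ hi₁i (fun x _ => rfl) y hyXp
    have hm₁1 : m₁ ≠ 1 := fun e1 => hi₁y (mul_inv_eq_iff_eq_mul.1 (mul_inv_eq_one.1 e1))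
    set m₂ := i₁ * v * i₁⁻¹ * v⁻¹ with hm₂
    have hm₂l : m₂ ∈ zpowers l := htr r i₁ hi₁ hi₁i (fun x _ => rfl) v (hXp.2 ⟨hvX, hrv⟩)
    have tr_pow : ∀ {z m : G}, m ∈ zpowers l → i₁ * z * i₁⁻¹ * z⁻¹ = m → ∀ k : ℕ,
        i₁ ^ k * z * (i₁ ^ k)⁻¹ = m ^ k * z := fun hm hz k =>
      pow_conj_of_translation (hclv i₁ hi₁ _ hm) (by rw [← hz]; group) k
    obtain ⟨j, hj⟩ := e.mem_zpowers_pow (hlX hm₂l) hm₁1 hl hm₂l hm₁l
    simp only at hj
    set b := v * (y ^ j)⁻¹ with hbdef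
    have hbXp : b ∈ Xp := mul_mem (hXp.2 ⟨hvX, hrv⟩) (inv_mem (pow_mem hyXp j))
    have hb1 : b ≠ 1 := fun e1 => hvy (by
      rw [hbdef, mul_inv_eq_one] at e1
      exact e1 ▸ pow_mem (mem_zpowers y) j)
    have hi₁b : i₁ * b * i₁⁻¹ = b := by
      have h1 : i₁ * y ^ j * i₁⁻¹ = m₁ ^ j * y ^ j := by
        rw [← conj_pow, show i₁ * y * i₁⁻¹ = m₁ * y by rw [hm₁]; group, (e.comm (hlX hm₁l) hy).mul_pow]
      calc i₁ * b * i₁⁻¹ = i₁ * v * i₁⁻¹ * (i₁ * y ^ j * i₁⁻¹)⁻¹ := by rw [hbdef]; group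
        _ = m₂ * v * (m₁ ^ j * y ^ j)⁻¹ := by rw [h1, show i₁ * v * i₁⁻¹ = m₂ * v by rw [hm₂]; group]
        _ = m₂ * (v * (y ^ j)⁻¹) * m₂⁻¹ := by rw [hj]; group
        _ = b := by rw [(e.comm (hlX hm₂l) (hXp.1 hbXp).1).eq, mul_inv_cancel_right]
    obtain ⟨i₂, hi₂, hi₂i, hi₂b⟩ : ∃ i ∈ U, r * i * r⁻¹ = i⁻¹ ∧ ¬ Commute i b := by
      by_contra hcon
      push Not at hcon
      exact hb1 (hsep b hbXp hcon)
    set m₃ := i₂ * y * i₂⁻¹ * y⁻¹ with hm₃
    have hm₃l : m₃ ∈ zpowers l := htr r i₂ hi₂ hi₂i (fun x _ => rfl) y hyXp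
    set m₄ := i₂ * b * i₂⁻¹ * b⁻¹ with hm₄
    have hm₄l : m₄ ∈ zpowers l := htr r i₂ hi₂ hi₂i (fun x _ => rfl) b hbXp
    obtain ⟨k, hk⟩ := e.mem_zpowers_pow (hlX (inv_mem hm₃l)) hm₁1 hl (inv_mem hm₃l) hm₁l
    simp only at hk
    set q := i₁ ^ k * i₂ with hq
    have hqU : q ∈ U := mul_mem (pow_mem hi₁ k) hi₂
    have hqc : ∀ m ∈ zpowers l, i₁ ^ k * m * (i₁ ^ k)⁻¹ = m := fun m hm => by
      rw [((hclv i₁ hi₁ m hm).pow_left k).eq, mul_inv_cancel_right]
    have hqy : q * y * q⁻¹ = y := by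
      calc q * y * q⁻¹ = i₁ ^ k * m₃ * (i₁ ^ k)⁻¹ * (i₁ ^ k * y * (i₁ ^ k)⁻¹) := by rw [hq, hm₃]; group
        _ = y := by rw [hqc m₃ hm₃l, tr_pow hm₁l rfl k, hk]; group
    have hqb : q * b * q⁻¹ = m₄ * b := by
      calc q * b * q⁻¹ = i₁ ^ k * m₄ * (i₁ ^ k)⁻¹ * (i₁ ^ k * b * (i₁ ^ k)⁻¹) := by rw [hq, hm₄]; group
        _ = m₄ * b := by
          rw [hqc m₄ hm₄l, tr_pow (one_mem _) (by rw [hi₁b, mul_inv_cancel]) k, one_pow, one_mul]
    obtain ⟨a, haU, -, hai, hac⟩ := h.exists_inverted_mul hqU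
    set c := a⁻¹ * q with hc
    have hcU : c ∈ U := mul_mem (inv_mem haU) hqU
    have hca : a * c = q := by rw [hc]; group
    have hcfix : ∀ z ∈ Xp, q * z * q⁻¹ * z⁻¹ ∈ zpowers l → a * z * a⁻¹ = q * z * q⁻¹ := fun z hz hm => by
      rw [← hca, show a * c * z * (a * c)⁻¹ = a * (c * z * c⁻¹) * a⁻¹ by group,
        hfix a c haU hcU hai hac z hz (by rw [hca]; exact hm)]
    have hay : Commute a y := by
      refine mul_inv_eq_iff_eq_mul.1 ?_
      rw [hcfix y hyXp (by rw [hqy, mul_inv_cancel]; exact one_mem _), hqy]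
    have hab : ¬ Commute a b := fun hab => hi₂b <| by
      have h1 := hcfix b hbXp (by rw [hqb, mul_inv_cancel_right]; exact hm₄l)
      rw [hqb, hab.eq, mul_inv_cancel_right] at h1
      have h4 : m₄ = 1 := mul_eq_right.1 h1.symm
      rw [hm₄, mul_inv_eq_one] at h4
      exact mul_inv_eq_iff_eq_mul.1 h4
    have hav : ¬ Commute a v := fun hav => hab (hav.mul_right (hay.pow_right j).inv_right)
    -- `σ` acts on the cyclic group `T`
    have hσy' : σ * y * σ⁻¹ ∈ zpowers y := by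
      rcases hσy with e1 | e1 <;> rw [e1]
      exacts [mem_zpowers y, inv_mem (mem_zpowers y)]
    obtain ⟨T, hTc, hT, -⟩ := B.inverted_sub (e.mem_coreW h hy hry) (hpp hy hy1)
    haveI := hTc
    have hσT : ∀ z ∈ T, σ * z * σ⁻¹ ∈ T := by
      intro z hz
      obtain ⟨hzU, hzy, hzi⟩ := (hT z).1 hz
      refine (hT _).2 ⟨h.conj_σ_mem_coreU.2 hzU, ?_, ?_⟩
      · have h1 := hzy.map (MulAut.conj σ).toMonoidHom
        simp only [MulEquiv.coe_toMonoidHom, MulAut.conj_apply] at h1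
        rcases hσy with e1 | e1 <;> rw [e1] at h1
        · exact h1
        · simpa using h1.inv_right
      · have h2 : Commute (σ ^ 2) z :=
          sigmaFix B y (e.mem_coreW h hy hry) (hpp hy hy1) hσy' z hzU hzy
        calc r * (σ * z * σ⁻¹) * r⁻¹ = σ * ((r * r) * r' * z * ((r * r) * r')⁻¹) * σ⁻¹ := by
              rw [h.mul_self_r, one_mul, hr'def]; group
          _ = σ * (r * (r * r' * z * (r * r')⁻¹) * r⁻¹) * σ⁻¹ := by group
          _ = (σ * z * σ⁻¹)⁻¹ := by rw [hr'def, h.refl_mul_refl, h2.eq, mul_inv_cancel_right, hzi]; group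
    obtain ⟨g, hg⟩ := IsCyclic.exists_generator (α := T)
    obtain ⟨k', hk'⟩ := (mem_powers_iff_mem_zpowers.2 (hg ⟨_, hσT g g.2⟩) :
      (⟨σ * g * σ⁻¹, hσT g g.2⟩ : T) ∈ Submonoid.powers g)
    have hk'' : ∀ z ∈ T, σ * z * σ⁻¹ = z ^ k' := by
      intro z hz
      obtain ⟨i, hi⟩ := mem_zpowers_iff.1 (hg ⟨z, hz⟩)
      have h1 : (g : G) ^ i = z := by
        have := congrArg Subtype.val hi
        simpa using this
      have h2 : (g : G) ^ k' = σ * g * σ⁻¹ := by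
        have := congrArg Subtype.val hk'
        simpa using this
      rw [← h1, ← conj_zpow, ← h2, ← zpow_natCast, ← zpow_natCast, ← zpow_mul, ← zpow_mul, mul_comm]
    set m := a * v * a⁻¹ * v⁻¹ with hm
    have hml : m ∈ zpowers l := htr r a haU hai (fun x _ => rfl) v (hXp.2 ⟨hvX, hrv⟩)
    have hm1 : m ≠ 1 := fun e1 => hav (mul_inv_eq_iff_eq_mul.1 (mul_inv_eq_one.1 e1))
    have hlT : zpowers l ≤ T := fun z hz =>
      (hT z).2 ⟨e.le (hlX hz), e.comm (hlX hz) hy, hrl z hz⟩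
    have haT : a ∈ T := (hT a).2 ⟨haU, hay, hai⟩
    have h1 : σ * m * σ⁻¹ = m ^ k' := hk'' m (hlT hml)
    have h2 : σ * m * σ⁻¹ = (m ^ k')⁻¹ := by
      have h3 : a * v⁻¹ * a⁻¹ = m⁻¹ * v⁻¹ := by
        rw [(e.comm (inv_mem (hlX hml)) (inv_mem hvX)).eq, hm]; group
      have h4 : a ^ k' * v⁻¹ * (a ^ k')⁻¹ = m⁻¹ ^ k' * v⁻¹ :=
        pow_conj_of_translation (hclv a haU _ (inv_mem hml)) h3 k'
      calc σ * m * σ⁻¹ = σ * a * σ⁻¹ * (σ * v * σ⁻¹) * (σ * a * σ⁻¹)⁻¹ * (σ * v * σ⁻¹)⁻¹ := by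
            rw [hm]; group
        _ = (m ^ k')⁻¹ := by rw [hk'' a haT, hσv, h4, inv_inv, inv_pow]; group
    refine hm1 (conj_eq_one_iff.1 (eq_one_of_inverted_commute (u := (1 : G))
      (hodd (σ * m * σ⁻¹) (h.conj_σ_mem_coreU.2 (e.le (hlX hml)))) ?_ (Commute.one_left _)))
    rw [one_mul, inv_one, mul_one]
    conv_lhs => rw [h1, ← inv_inv (m ^ k'), ← h2]
  refine ⟨hcl, hσl, fun b hb hrb => hσXp b (hXp.2 ⟨hb, hrb⟩), fun u hu b hb hrb => ?_⟩
  -- the elements acting as translations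
  let N : Subgroup G :=
    { carrier := {u | u ∈ U ∧ ∀ b ∈ Xp, u * b * u⁻¹ * b⁻¹ ∈ zpowers l}
      one_mem' := ⟨one_mem _, fun b _ => by simp⟩
      mul_mem' := by
        rintro u v ⟨hu, hu'⟩ ⟨hv, hv'⟩
        refine ⟨mul_mem hu hv, fun b hb => ?_⟩
        have hc := hclv u hu _ (hv' b hb)
        have e1 : u * v * b * (u * v)⁻¹ * b⁻¹ = (v * b * v⁻¹ * b⁻¹) * (u * b * u⁻¹ * b⁻¹) := by
          calc u * v * b * (u * v)⁻¹ * b⁻¹ = u * (v * b * v⁻¹ * b⁻¹) * u⁻¹ * (u * b * u⁻¹ * b⁻¹) := by group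
            _ = _ := by rw [hc.eq, mul_inv_cancel_right]
        rw [e1]
        exact mul_mem (hv' b hb) (hu' b hb)
      inv_mem' := by
        rintro u ⟨hu, hu'⟩
        refine ⟨inv_mem hu, fun b hb => ?_⟩
        have hc := hclv _ (inv_mem hu) _ (inv_mem (hu' b hb))
        have e1 : u⁻¹ * b * u⁻¹⁻¹ * b⁻¹ = (u * b * u⁻¹ * b⁻¹)⁻¹ := by
          calc u⁻¹ * b * u⁻¹⁻¹ * b⁻¹ = u⁻¹ * (u * b * u⁻¹ * b⁻¹)⁻¹ * u⁻¹⁻¹ := by group
            _ = _ := by rw [hc.eq, mul_inv_cancel_right]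
        rw [e1]
        exact inv_mem (hu' b hb) }
  have hdec : ∀ x ∈ X, ∃ m ∈ zpowers l, ∃ c ∈ Xp, x = m * c := fun x hx => by
    obtain ⟨a, haX, hai, hcX, hac⟩ := e.split h hx
    exact ⟨a, hline a haX hai, _, hXp.2 ⟨hcX, hac⟩, (mul_inv_cancel_left a x).symm⟩
  have hle := B.le_of_stable (N := N) (fun x hx => hx.1)
    (fun x hx => Coprime.mem_normalizer_of_forall fun v hv => by
      refine ⟨mul_mem (mul_mem hx hv.1) (inv_mem hx), fun b hb => ?_⟩
      obtain ⟨m, hm, c, hc, he⟩ := hdec _ (h.conj_mem e.normal (hUC (inv_mem hx)) (hXp.1 hb).1)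
      rw [inv_inv] at he
      have hm' := hv.2 c hc
      have e1 : x * v * x⁻¹ * b * (x * v * x⁻¹)⁻¹ * b⁻¹ = v * c * v⁻¹ * c⁻¹ := by
        calc x * v * x⁻¹ * b * (x * v * x⁻¹)⁻¹ * b⁻¹
              = x * (v * (x⁻¹ * b * x) * v⁻¹ * (x⁻¹ * b * x)⁻¹) * x⁻¹ := by group
          _ = x * (v * m * v⁻¹ * (v * c * v⁻¹ * c⁻¹) * m⁻¹) * x⁻¹ := by rw [he]; group
          _ = v * c * v⁻¹ * c⁻¹ := by
                rw [(hclv v hv.1 m hm).eq, mul_inv_cancel_right, (e.comm (hlX hm) (hlX hm')).eq,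
                  mul_inv_cancel_right, (hclv x hx _ hm').eq, mul_inv_cancel_right]
      rw [e1]
      exact hm')
    (fun x hx => by
      refine ⟨mul_mem (inv_mem hx) (h.conj_σ_mem_coreU.2 hx), fun b hb => ?_⟩
      obtain ⟨hbX, hrb⟩ := hXp.1 hb
      obtain ⟨m, hm, c, hc, he⟩ := hdec _ (h.conj_mem e.normal (hUC hx) hbX)
      have hσm : σ * m * σ⁻¹ ∈ zpowers l := (mem_normalizer_iff.1 hσN m).1 hm
      have hc' : x⁻¹ * c * x = m⁻¹ * b := by
        calc x⁻¹ * c * x = (x⁻¹ * m * x⁻¹⁻¹)⁻¹ * (x⁻¹ * (x * b * x⁻¹) * x) := by rw [he]; group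
          _ = m⁻¹ * b := by rw [(hclv _ (inv_mem hx) m hm).eq, mul_inv_cancel_right]; group
      have e1 : x⁻¹ * (σ * x * σ⁻¹) * b * (x⁻¹ * (σ * x * σ⁻¹))⁻¹ * b⁻¹ = σ * m * σ⁻¹ * m⁻¹ := by
        have hb' : σ⁻¹ * b * σ = b := by rw [mul_assoc, ← (hσXp b hb).eq, inv_mul_cancel_left]
        calc x⁻¹ * (σ * x * σ⁻¹) * b * (x⁻¹ * (σ * x * σ⁻¹))⁻¹ * b⁻¹
              = x⁻¹ * (σ * (x * (σ⁻¹ * b * σ) * x⁻¹) * σ⁻¹) * x * b⁻¹ := by group
          _ = x⁻¹ * (σ * m * σ⁻¹) * x⁻¹⁻¹ * (x⁻¹ * (σ * c * σ⁻¹) * x) * b⁻¹ := by rw [hb', he]; group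
          _ = _ := by
                rw [(hclv _ (inv_mem hx) _ hσm).eq, mul_inv_cancel_right, (hσXp c hc).eq, mul_inv_cancel_right,
                  hc']
                group
      rw [e1]
      exact mul_mem hσm (inv_mem hm))
    (fun x hx => ⟨mul_mem (inv_mem hx) (h.conj_r_mem_coreU hx), fun b hb =>
      htr r _ (mul_mem (inv_mem hx) (h.conj_r_mem_coreU hx)) (hrcomm x hx) (fun y _ => rfl) b hb⟩) hna
  exact (hle hu).2 b (hXp.2 ⟨hb, hrb⟩)

/-- The inverted part of a mixed elementary normal subgroup is a line. -/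
theorem exists_inverted_line [IsSimpleGroup G] (B : CaseB n t r σ) {p : ℕ} {X : Subgroup G} (hp : p.Prime)
    (hp2 : p ≠ 2) (hX : Cfsg.IsElementaryAbelian p X) (hXU : X ≤ coreU t)
    (hXC : centralizer ({t} : Set G) ≤ normalizer (X : Set G)) (hmix : ∃ x ∈ X, r * x * r⁻¹ ≠ x⁻¹) :
    ∃ l ∈ X, orderOf l = p ∧ r * l * r⁻¹ = l⁻¹ ∧ ∀ x ∈ X, r * x * r⁻¹ = x⁻¹ → x ∈ zpowers l :=
  (⟨hp, hp2, hX, hXU, hXC, hmix⟩ : MixedElem p t r X).exists_line B

/-- **(E)**: an elementary abelian subgroup of `U` normal in `C(t)` and not inverted by `r` contains a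
`MixedPair`. -/
theorem exists_mixedPair [IsSimpleGroup G] (B : CaseB n t r σ) {p : ℕ} {X : Subgroup G} (hp : p.Prime)
    (hp2 : p ≠ 2) (hX : Cfsg.IsElementaryAbelian p X) (hXU : X ≤ coreU t)
    (hXC : centralizer ({t} : Set G) ≤ normalizer (X : Set G)) (hmix : ∃ x ∈ X, r * x * r⁻¹ ≠ x⁻¹) :
    ∃ (X' : Subgroup G) (y l : G), MixedPair p t r y l X' ∧ X' ≤ X := by
  classical
  have h := B.ctx.hyp
  have e : MixedElem p t r X := ⟨hp, hp2, hX, hXU, hXC, hmix⟩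
  obtain ⟨y, hy, hy1, hry⟩ := e.exists_fixed h
  obtain ⟨l, hl, hlp, hli, hline⟩ := e.exists_line B
  have hyp := e.order_eq hy hy1
  set X' := zpowers y ⊔ zpowers l with hX'
  have hX'X : X' ≤ X := sup_le (zpowers_le.2 hy) (zpowers_le.2 hl)
  have hyX' : y ∈ X' := mem_sup_left (mem_zpowers y)
  have hlX' : l ∈ X' := mem_sup_right (mem_zpowers l)
  have hcard : Nat.card X' = p ^ 2 := by
    have hnor : zpowers y ≤ normalizer (zpowers l : Set G) :=
      zpowers_le.2 (Coprime.mem_normalizer_of_forall fun v hv => by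
        rw [(e.comm hy (zpowers_le.2 hl hv)).eq, mul_inv_cancel_right]; exact hv)
    have hdis : zpowers y ⊓ zpowers l = ⊥ := by
      refine eq_bot_iff.2 fun v hv => mem_bot.2 ?_
      obtain ⟨h1, h2⟩ := mem_inf.1 hv
      obtain ⟨i, rfl⟩ := mem_zpowers_iff.1 h1
      obtain ⟨j, hj⟩ := mem_zpowers_iff.1 h2
      refine eq_one_of_inverted_commute (h.odd_orderOf (hXU (zpow_mem hy i))) ?_ (hry.zpow_right i)
      rw [← hj, ← conj_zpow, hli, inv_zpow]
    have h1 := Coprime.card_mul_inf (zpowers y) (zpowers l)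
    rw [hdis, card_bot, mul_one, Nat.card_zpowers, Nat.card_zpowers, hyp, hlp] at h1
    rw [← coe_mul_of_left_le_normalizer_right _ _ hnor] at h1
    rw [hX', pow_two, ← h1]
    rfl
  have hX'e : Cfsg.IsElementaryAbelian p X' :=
    ⟨⟨⟨fun a b => Subtype.ext (e.comm (hX'X a.2) (hX'X b.2))⟩⟩, fun a ha => hX.2 a (hX'X ha)⟩
  refine ⟨X', y, l, ⟨hp, hp2, hX'e, hcard, hX'X.trans hXU, ?_, hyX', hlX', hyp, hlp, hry, hli⟩, hX'X⟩
  by_cases hbig : ∃ b ∈ X, Commute r b ∧ b ∉ zpowers y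
  · obtain ⟨b, hb, hrb, hby⟩ := hbig
    obtain ⟨hcl, hσl, hσfix, htrans⟩ := e.trivial_quotient B hl hlp hli hline hy hry hy1 hb hrb hby
    have hgen : ∀ g : G, g * y * g⁻¹ ∈ X' → g * l * g⁻¹ ∈ X' → g ∈ normalizer (X' : Set G) := fun g h1 h2 =>
      Coprime.mem_normalizer_of_forall fun v hv =>
        (sup_le (zpowers_le.2 h1) (zpowers_le.2 h2) :
          zpowers y ⊔ zpowers l ≤ X'.comap (MulAut.conj g).toMonoidHom) hv
    refine h.centralizer_le_of_gen (fun u hu => hgen u ?_ ?_) (hgen σ ?_ ?_) (hgen r ?_ ?_)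
    · have h1 := mul_mem ((le_sup_right : zpowers l ≤ X') (htrans u hu y hy hry)) hyX'
      rwa [inv_mul_cancel_right] at h1
    · rw [(hcl u hu).eq, mul_inv_cancel_right]; exact hlX'
    · rw [(hσfix y hy hry).eq, mul_inv_cancel_right]; exact hyX'
    · exact (le_sup_right : zpowers l ≤ X') hσl
    · rw [hry.eq, mul_inv_cancel_right]; exact hyX'
    · rw [hli]; exact inv_mem hlX'
  · -- `X` itself
    push Not at hbig
    have heq : X = X' := le_antisymm (fun x hx => by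
      obtain ⟨a, haX, hai, hcX, hac⟩ := e.split h hx
      rw [← mul_inv_cancel_left a x]
      exact mul_mem ((le_sup_right : zpowers l ≤ X') (hline a haX hai))
        ((le_sup_left : zpowers y ≤ X') (hbig _ hcX hac))) hX'X
    exact heq ▸ hXC

end Cfsg.Agent.GWDihedral
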