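import Cfsg.Agent.Lib.GWDihedral.Fused
import Cfsg.Agent.Lib.GWDihedral.OneClass
import Cfsg.Agent.Lib.GWDihedral.Theta
import Cfsg.Agent.Lib.GWDihedral.CentShape
import Cfsg.Agent.Lib.GWDihedral.CaseA
import Cfsg.Agent.Lib.GWDihedral.EndBSW
import Cfsg.Agent.Lib.GWDihedral.TypesBasic
import Cfsg.Agent.Lib.GWDihedral.Mixed5
import Cfsg.Agent.Lib.GWDihedral.SidesExc

/-!
# Gorenstein-Walter, dihedral Sylow subgroups of order at least eight: assembly of sections 2-5

* `SideRotAll`, `CornerAll`, `CaseAEnd`, `NoPair`, `NoExtraspecial` : the steps entering the assembly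
* `caseB_false_of` : section 5 from the exclusion of its two configurations
* `conclusion_of_steps` : the conclusion for a minimal counterexample from these steps
-/

set_option autoImplicit false
set_option linter.unusedSectionVars false

namespace Cfsg.Agent.GWDihedral

open Subgroup
open Cfsg.Agent.GWKlein (coreU coreW fourV)

universe u

variable (G : Type u) [Group G]

/-- (1.1) in every setting. -/
def SideRotAll : Prop := ∀ (n : ℕ) (t r σ : G), Ctx n t r σ → SideRot t r σ

/-- The corner of (2.1) in every setting. -/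
def CornerAll : Prop :=
  ∀ (t r σ : G), Ctx 3 t r σ → SideRot t r σ → SideRot t (r * σ) σ⁻¹ → OtherPrimes t r →
    ∀ (W : Subgroup G) (w : G), Corner t r σ W w → ∃ s, Rot t r s ∧ s ∈ centralizer (W : Set G)

/-- The end of section 3 in every setting. -/
def CaseAEnd : Prop :=
  ∀ (n : ℕ) (t r σ : G), Ctx n t r σ → SideRot t r σ → PrimePowFused t r → PrimePowFused t (r * σ) →
    NoTheta t r σ → ∀ M : Subgroup G, M ≠ ⊤ → centralizer ({t} : Set G) ≤ M → Fused t r M →
      coreW t r ≠ ⊥ → coreW t (r * σ) = ⊥ → Conclusion G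

/-- No mixed pair in case B. -/
def NoPair : Prop :=
  ∀ (n : ℕ) (t r σ : G), CaseB n t r σ → ∀ (p : ℕ) (X : Subgroup G) (y l : G), ¬ MixedPair p t r y l X

/-- No mixed extraspecial subgroup in case B, if there is no mixed pair. -/
def NoExtraspecial : Prop :=
  ∀ (n : ℕ) (t r σ : G), CaseB n t r σ →
    (∀ (p : ℕ) (X : Subgroup G) (y l : G), ¬ MixedPair p t r y l X ∧ ¬ MixedPair p t (r * σ) y l X) →
      ∀ (p : ℕ) (D : Subgroup G) (y x z : G), ¬ MixedExtraspecial p t r y x z D

variable {G} [Finite G] [IsSimpleGroup G] {n : ℕ} {t r σ : G}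

/-- Section 5, from the exclusion of its two configurations. -/
theorem caseB_false_of (B : CaseB n t r σ) (hP : NoPair G) (hX : NoExtraspecial G) : False := by
  have B' := B.swap
  have hno : ∀ (p : ℕ) (X : Subgroup G) (y l : G), ¬ MixedPair p t r y l X ∧ ¬ MixedPair p t (r * σ) y l X :=
    fun p X y l => ⟨hP n t r σ B p X y l, hP n t (r * σ) σ⁻¹ B' p X y l⟩
  have hE : ∀ {n : ℕ} {t r σ : G}, CaseB n t r σ → ∀ (p : ℕ) (X : Subgroup G), p.Prime →
      Cfsg.IsElementaryAbelian p X → X ≤ coreU t → centralizer ({t} : Set G) ≤ normalizer (X : Set G) →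
      (∃ x ∈ X, r * x * r⁻¹ ≠ x⁻¹) → ∃ (X' : Subgroup G) (y l : G), MixedPair p t r y l X' := by
    intro n t r σ B p X hp hXe hXU hXC hmix
    obtain ⟨x, hx, hxr⟩ := hmix
    have hp2 : p ≠ 2 := by
      rintro rfl
      obtain ⟨k, hk⟩ := B.ctx.hyp.odd_orderOf (hXU hx)
      have hx1 : x ^ 2 = 1 := hXe.2 x hx
      have h2 := Nat.le_of_dvd two_pos (orderOf_dvd_of_pow_eq_one hx1)
      have h3 : orderOf x = 1 := by omega
      rw [orderOf_eq_one_iff.1 h3] at hxr
      exact hxr (by simp)
    obtain ⟨X', y, l, h, -⟩ := exists_mixedPair B hp hp2 hXe hXU hXC ⟨x, hx, hxr⟩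
    exact ⟨X', y, l, h⟩
  rcases exists_mixed B (hE B) (hE B') with ⟨p, X, y, l, h | h⟩ | ⟨p, D, y, x, z, h | h⟩
  · exact (hno p X y l).1 h
  · exact (hno p X y l).2 h
  · exact hX n t r σ B hno p D y x z h
  · refine hX n t (r * σ) σ⁻¹ B' (fun p X y l => ⟨(hno p X y l).2, ?_⟩) p D y x z h
    rw [mul_inv_cancel_right]
    exact (hno p X y l).1

/-- The conclusion for a minimal counterexample, from the steps above. -/
theorem conclusion_of_steps (hS : SideRotAll G) (hC : CornerAll G) (hA : CaseAEnd G) (hP : NoPair G)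
    (hX : NoExtraspecial G) (c : Ctx n t r σ) : Conclusion G := by
  have hswap : r * σ * σ⁻¹ = r := mul_inv_cancel_right r σ
  have fused : ∀ {r σ : G}, Ctx n t r σ → PrimePowFused t r := fun {r σ} c =>
    c.primePowFused (hS n t r σ c) (hS n t _ _ c.swap) fun hn ho W w hW => by
      subst hn
      exact hC t r σ c (hS 3 t r σ c) (hS 3 t _ _ c.swap) ho W w hW
  have h1 := fused c
  have h2 := fused c.swap
  have h1' : PrimePowFused t (r * σ * σ⁻¹) := by rwa [hswap]
  have h3 := oneClass c h1 h2
  have hθ := noTheta c h3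
  have hθ' := noTheta c.swap h3
  have hE := sideExc c.hyp c.proper
  -- section 3
  have caseA' : ∀ {r σ : G} (c : Ctx n t r σ), PrimePowFused t r → PrimePowFused t (r * σ) → NoTheta t r σ →
      ¬ NoFusedOver t r → Conclusion G := by
    intro r σ c h1 h2 hθ hF
    simp only [NoFusedOver, not_forall, not_not] at hF
    obtain ⟨M, hM, hCM, hFM⟩ := hF
    have hb := caseA c (hS n t r σ c) h1 h2 hθ M hM hCM hFM
    by_cases ha : coreW t r = ⊥
    · exact c.hyp.conclusion_of_trivial_cores (sideExc c.hyp c.proper) ha hb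
    · exact hA n t r σ c (hS n t r σ c) h1 h2 hθ M hM hCM hFM ha hb
  by_cases hn1 : NoFusedOver t r
  swap
  · exact caseA' c h1 h2 hθ hn1
  by_cases hn2 : NoFusedOver t (r * σ)
  swap
  · exact caseA' c.swap h2 h1' hθ' hn2
  by_cases hne : coreW t r ≠ ⊥ ∨ coreW t (r * σ) ≠ ⊥
  · exact (caseB_false_of
      { ctx := c
        sideExc := hE
        sideRot := hS n t r σ c
        sideRot' := hS n t _ _ c.swap
        fused := h1
        fused' := h2
        oneClass := h3
        centShape := centShape c (hS n t r σ c) h1 h2 h3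
        centShape' := centShape c.swap (hS n t _ _ c.swap) h2 h1' h3
        noTheta := hθ
        noOver := hn1
        noOver' := hn2
        nontrivial := hne } hP hX).elim
  · push Not at hne
    exact c.hyp.conclusion_of_trivial_cores hE hne.1 hne.2

end Cfsg.Agent.GWDihedral
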