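import Cfsg.Agent.Lib.GWDihedral.ExtraStruct
import Cfsg.Agent.Lib.GWDihedral.ExtraArith
import Cfsg.Agent.Lib.GWDihedral.MainSteps

/-!
# Gorenstein-Walter, dihedral case: no mixed extraspecial subgroup

* `Extra.normalizer_eq` : a non-trivial subgroup of `U` normal in `C(t)` has normaliser `C(t)`
* `Extra.factorization_eq` : the Sylow `l`-subgroups of `U`, `l` dividing `|C_U(D)|`, are Sylow in `G`
* `Extra.index_mod` : `|G : C(t)| ≡ 1` modulo `p`
* `Extra.factorization_two` : the 2-part of `|C(y)|`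
* `noExtraspecial`
-/

set_option autoImplicit false
set_option linter.unusedSectionVars false
set_option linter.style.haveILetI false

namespace Cfsg.Agent.GWDihedral

open Subgroup
open Cfsg.Agent.GWKlein (coreU coreW fourV)
open Cfsg.Agent.PSL2 (SL2 tr)

universe u

namespace Extra

variable {G : Type u} [Group G] [Finite G] [IsSimpleGroup G] {n p : ℕ} [Fact p.Prime] {t r σ y x z : G}
  {D : Subgroup G} (E : Extra n p t r σ y x z D)
include E

theorem normalizer_eq {Q : Subgroup G} (hQ : Q ≠ ⊥) (hQU : Q ≤ coreU t)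
    (hn : centralizer ({t} : Set G) ≤ normalizer (Q : Set G)) :
    normalizer (Q : Set G) = centralizer ({t} : Set G) := by
  refine maximal E.caseB _ (fun e => ?_) hn
  haveI : Q.Normal := normalizer_eq_top_iff.1 e
  rcases IsSimpleGroup.eq_bot_or_eq_top_of_normal Q inferInstance with h1 | h1
  · exact hQ h1
  · have := E.hyp.odd_orderOf (hQU (h1.ge (mem_top t)))
    rw [E.hyp.order_t] at this
    exact absurd this (by decide)

/-- The Sylow `l`-subgroups of `U`, for `l` dividing `|C_U(D)|`, are Sylow in `G`. -/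
theorem factorization_eq {l : ℕ} (hl : l.Prime) (hd : l ∣ Nat.card (extraT t D)) :
    (Nat.card G).factorization l = (Nat.card (coreU t)).factorization l := by
  haveI := Fact.mk hl
  have h := E.hyp
  have hl2 : l ≠ 2 := fun e => by
    have := E.odd_T.of_dvd_nat hd
    rw [e] at this
    exact absurd this (by decide)
  obtain ⟨⟨w, hwT⟩, hw⟩ := exists_prime_orderOf_dvd_card' (G := extraT t D) l hd
  rw [Subgroup.orderOf_mk] at hw
  have hw1 : w ≠ 1 := fun e => hl.ne_one (by rw [← hw, e, orderOf_one])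
  have hwn := E.T_sub_normal hwT hw
  have hwU : zpowers w ≤ coreU t := zpowers_le.2 (E.extraT_le hwT)
  obtain ⟨P, hwP, hPU, hPS, hP, hPc⟩ := h.exists_invariant_sylow (p := l) (Q := zpowers w) h.isPGroup_sylow
    h.odd_coreU h.sylow_le_normalizer_coreU hwU
    (IsPGroup.of_card (n := 1) (by rw [Nat.card_zpowers, hw, pow_one]))
    (h.sylow_le_centralizer.trans hwn)
  have hwP' : w ∈ P := hwP (mem_zpowers w)
  have hnot : ∀ s : G, s * w * s⁻¹ = w⁻¹ → ¬ s ∈ centralizer (P : Set G) := fun s hs hc => by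
    rw [← (mem_centralizer_iff.1 hc w hwP'), mul_inv_cancel_right] at hs
    have h2 : orderOf w ∣ 2 := orderOf_dvd_of_pow_eq_one (by rw [pow_two]; exact mul_eq_one_iff_eq_inv.2 hs)
    exact hl2 ((Nat.prime_dvd_prime_iff_eq hl Nat.prime_two).1 (hw ▸ h2))
  by_cases hcyc : IsCyclic P
  swap
  · exact sylowInG E.caseB l P hl hl2 hPU hP hcyc hPc hPS (hnot r (E.inv_T w hwT)) (hnot _ (E.inv_T' w hwT))
  by_contra hne
  obtain ⟨X, hPX⟩ := hP.exists_le_sylow
  have hlt : P < (X : Subgroup G) := lt_of_le_of_ne hPX fun e => hne <| by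
    refine Nat.pow_right_injective hl.two_le ?_
    dsimp only
    rw [← hPc, e, X.card_eq_multiplicity]
  have hlt' := GWKlein.lt_inf_normalizer X.2 hlt
  set X₀ := (X : Subgroup G) ⊓ normalizer (P : Set G)
  have hX₀ : IsPGroup l X₀ := X.2.to_le inf_le_left
  have hC : X₀ ≤ centralizer ({t} : Set G) := by
    rw [← E.normalizer_eq (Q := zpowers w) (fun e => hw1 (mem_bot.1 (e ▸ mem_zpowers w))) hwU hwn]
    exact fun g hg => mem_normalizer_zpowers_of_cyclic hcyc hwP' hw hg.2
  have h1 := Coprime.card_le_of_isPGroup hX₀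
    (fun g hg => h.mem_coreU_of_pgroup hl2 hX₀ ⟨hg, hC hg⟩ : X₀ ≤ coreU t)
  rw [← hPc] at h1
  exact hlt'.ne (eq_of_le_of_card_ge hlt'.le h1)

theorem not_dvd_index {l : ℕ} (hl : l.Prime) (hd : l ∣ Nat.card (extraT t D)) :
    ¬ l ∣ (centralizer ({t} : Set G)).index := fun hN => by
  have h := E.hyp
  have hl2 : l ≠ 2 := fun e => by
    have := E.odd_T.of_dvd_nat hd
    rw [e] at this
    exact absurd this (by decide)
  have e := E.factorization_eq hl hd
  rw [← (centralizer ({t} : Set G)).card_mul_index, h.card_centralizer,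
    Nat.factorization_mul (Nat.mul_ne_zero (by positivity) Nat.card_pos.ne') index_ne_zero_of_finite,
    Nat.factorization_mul (by positivity) Nat.card_pos.ne'] at e
  have h1 : (centralizer ({t} : Set G)).index.factorization l ≠ 0 :=
    (hl.factorization_pos_of_dvd index_ne_zero_of_finite hN).ne'
  simp only [Finsupp.coe_add, Pi.add_apply] at e
  omega

/-- `|G : C(t)|` is `1` modulo `p`. -/
theorem index_mod : (centralizer ({t} : Set G)).index % p = 1 := by
  have h := E.hyp
  have hpT := E.p_dvd_T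
  obtain ⟨P, hDP, hPU, -, hP, hPc⟩ := h.exists_invariant_sylow (p := p) (Q := D) h.isPGroup_sylow
    h.odd_coreU h.sylow_le_normalizer_coreU E.ext.le (IsPGroup.of_card E.ext.card)
    (h.sylow_le_centralizer.trans E.ext.normal)
  -- it is the Sylow subgroup of `D C_U(D)`
  have hPK : P ≤ extraK t D := fun g hg => by
    refine (E.mem_K_iff (u := (⟨g, hPU hg⟩ : coreU t))).2 ?_
    obtain ⟨k, hk⟩ := IsPGroup.iff_orderOf.1 hP ⟨g, hg⟩
    rw [Subgroup.orderOf_mk] at hk
    have h1 : orderOf (E.psiU ⟨g, hPU hg⟩) ∣ p ^ k :=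
      (orderOf_map_dvd _ _).trans (by rw [Subgroup.orderOf_mk, hk])
    exact orderOf_eq_one_iff.1 ((E.coprime_of_mem ⟨_, rfl⟩).pow_right k |>.eq_one_of_dvd h1)
  have hKP : extraK t D ≤ normalizer (P : Set G) := by
    refine sup_le (hDP.trans le_normalizer) fun w hw => Coprime.mem_normalizer_of_forall fun g hg => ?_
    rwa [← (E.T_central g (hPU hg) w hw).eq, mul_inv_cancel_right]
  have hCP : centralizer ({t} : Set G) ≤ normalizer (P : Set G) := fun c hc => by
    refine Coprime.mem_normalizer_of_forall fun g hg => ?_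
    set P' := P.map (MulAut.conj c).toMonoidHom
    have hP'K : P' ≤ extraK t D := by
      rintro _ ⟨a, ha, rfl⟩
      exact (mem_normalizer_iff.1 (E.K_normal hc) a).1 (hPK ha)
    have hsup : IsPGroup p (P ⊔ P' : Subgroup G) :=
      IsPGroup.to_sup_of_normal_left' hP (hP.map _) (hP'K.trans hKP)
    have h1 := Coprime.card_le_of_isPGroup hsup ((sup_le hPU (hP'K.trans E.extraK_le)) : P ⊔ P' ≤ coreU t)
    rw [← hPc] at h1
    rw [eq_of_le_of_card_ge (le_sup_left : P ≤ P ⊔ P') h1]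
    exact mem_sup_right ⟨g, hg, rfl⟩
  have hN : normalizer (P : Set G) = centralizer ({t} : Set G) :=
    E.normalizer_eq (fun e => E.ext.ne_one (mem_bot.1 (e ▸ hDP E.ext.z_mem))) hPU hCP
  let S : Sylow p G := Sylow.ofCard P (by rw [hPc, E.factorization_eq Fact.out hpT])
  have hS := S.card_eq_index_normalizer
  have hNS : normalizer (S : Set G) = centralizer ({t} : Set G) := hN
  rw [hNS] at hS
  have hmod := card_sylow_modEq_one p G
  rw [hS, Nat.ModEq, Nat.one_mod_eq_one.2 (Fact.out : p.Prime).ne_one] at hmod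
  exact hmod

/-- The elements of `C_U(y)` inverted by `r`. -/
theorem mem_T_iff (u : G) :
    u ∈ extraT t D ↔ u ∈ coreU t ∧ Commute u y ∧ r * u * r⁻¹ = u⁻¹ := by
  refine ⟨fun hu => ⟨E.extraT_le hu, E.commute_T hu E.ext.mem_y, E.inv_T u hu⟩, fun ⟨hu, hy, hi⟩ => ?_⟩
  have hH := E.U_le_H hu
  have ey : u * y * u⁻¹ = y := by rw [hy.eq, mul_inv_cancel_right]
  have h00 : actM p y x z u 0 0 = 1 := by simp [actM, ey, E.ext.coA_y]
  have h10 : actM p y x z u 1 0 = 0 := by simp [actM, ey, E.ext.coB_y]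
  have hdet := E.det_H hH
  rw [Matrix.det_fin_two, h00, h10, one_mul, mul_zero, sub_zero] at hdet
  have h1 : E.psiU ⟨u, hu⟩ = 1 := by
    refine SLTools.eq_one_of_tr_two (E.coprime_of_mem ⟨_, rfl⟩) ?_
    show actM p y x z u 0 0 + actM p y x z u 1 1 = 2
    rw [h00, hdet, one_add_one_eq_two]
  obtain ⟨d, hd, w, hw, rfl⟩ := E.exists_mul_of_mem_K ((E.mem_K_iff (u := (⟨u, hu⟩ : coreU t))).2 h1)
  have hdy : Commute d y := by
    have := hy.mul_left (E.commute_T hw E.ext.mem_y).inv_left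
    rwa [mul_inv_cancel_right] at this
  have hdi : r * d * r⁻¹ = d⁻¹ := by
    rw [← _root_.conj_mul, E.inv_T w hw, mul_inv_rev, (E.commute_T hw hd).inv_inv.eq] at hi
    exact mul_right_cancel hi
  have hb : coB p y z d = 0 := by
    have := (E.ext.commute_iff_det hd E.ext.mem_y).1 hdy
    rw [E.ext.coA_y, E.ext.coB_y] at this
    linear_combination -this
  have ha : coA p x z d = 0 := by
    obtain ⟨f1, -⟩ := E.ext.co_conj E.hyp.r_mem_C hd
    rw [hdi, E.ext.coA_inv hd, E.ext.actM_r] at f1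
    simp [hb] at f1
    exact (mul_eq_zero.1 (show 2 * coA p x z d = 0 by linear_combination -f1)).resolve_left
      (SLTools.two_ne_zero_zmod E.ext.ne_two)
  exact mul_mem (zpowers_le.2 E.z_mem_T (E.ext.mem_zpowers_of_co hd ha hb)) hw

/-- A power of `σ` acting trivially commutes with `y`. -/
theorem commute_σ_pow {i : ℕ} (hord : orderOf (E.psi ⟨σ, E.σ_mem_H⟩) = 2 ^ i) : Commute (σ ^ 2 ^ i) y := by
  have h := E.hyp
  set g := σ ^ 2 ^ i with hg
  have hgC : g ∈ centralizer ({t} : Set G) := pow_mem h.σ_mem_C _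
  have hM : actM p y x z g = 1 := by
    have h1 : E.psi (⟨σ, E.σ_mem_H⟩ ^ 2 ^ i) = 1 := by rw [map_pow, ← hord, pow_orderOf_eq_one]
    have h2 := congrArg Subtype.val h1
    rw [E.psi_coe, SubmonoidClass.coe_pow] at h2
    exact h2
  obtain ⟨e1, e2⟩ := E.ext.co_conj hgC E.ext.mem_y
  rw [hM] at e1 e2
  simp [E.ext.coA_y, E.ext.coB_y] at e1 e2
  have hgy := E.ext.conj_mem hgC E.ext.mem_y
  set d := y⁻¹ * (g * y * g⁻¹) with hd
  have hdZ : d ∈ zpowers z := E.ext.mem_zpowers_of_co (mul_mem (inv_mem E.ext.mem_y) hgy)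
    (by rw [E.ext.coA_mul (inv_mem E.ext.mem_y) hgy, E.ext.coA_inv E.ext.mem_y, e1, E.ext.coA_y]; ring)
    (by rw [E.ext.coB_mul (inv_mem E.ext.mem_y) hgy, E.ext.coB_inv E.ext.mem_y, e2, E.ext.coB_y]; ring)
  have hgd : Commute g d := by
    obtain ⟨j, hj : z ^ j = d⟩ := hdZ
    exact hj ▸ ((E.commute_σ_z.pow_left _).zpow_right j)
  have hg1 : g ^ 2 ^ (n - 1) = 1 := by
    rw [hg, ← pow_mul, mul_comm, pow_mul, ← h.order_σ, pow_orderOf_eq_one, one_pow]
  have hd1 : d = 1 := eq_one_of_step (x := y) hgd (by rw [hd]; group) hg1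
    (h.odd_orderOf (E.mem_U_of_mem_D (E.ext.mem_D hdZ)))
  refine mul_inv_eq_iff_eq_mul.1 ?_
  rw [hd] at hd1
  exact (inv_mul_eq_one.1 hd1).symm

/-- The 2-part of `|C(y) ⊓ C(t)|`. -/
theorem factorization_pair {i : ℕ} (hi : i ≤ n - 1) (hord : orderOf (E.psi ⟨σ, E.σ_mem_H⟩) = 2 ^ i)
    (hcomm : ∀ a ∈ E.psiU.range, Commute (E.psi ⟨σ, E.σ_mem_H⟩) a) :
    (Nat.card (centralizer ({y} : Set G) ⊓ centralizer ({t} : Set G) : Subgroup G)).factorization 2 = n - i := by
  haveI := Fact.mk Nat.prime_two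
  have h := E.hyp
  set H := centralizer ({y} : Set G) ⊓ centralizer ({t} : Set G) with hHdef
  set g := σ ^ 2 ^ i with hg
  set L := zpowers g ⊔ zpowers r with hL
  have hry : r ∈ H := ⟨mem_centralizer_singleton_iff.2 E.ext.fix_y.eq, h.r_mem_C⟩
  have hgH : g ∈ H := ⟨mem_centralizer_singleton_iff.2 (E.commute_σ_pow hord).eq, pow_mem h.σ_mem_C _⟩
  have hLH : L ≤ H := sup_le (zpowers_le.2 hgH) (zpowers_le.2 hry)
  have hLS : L ≤ closure ({σ, r} : Set G) :=
    sup_le (zpowers_le.2 (pow_mem h.sylow_mem_σ _)) (zpowers_le.2 h.sylow_mem_r)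
  have hLn : L ≤ normalizer ((H ⊓ coreU t : Subgroup G) : Set G) :=
    (le_inf (hLH.trans le_normalizer) (hLS.trans h.sylow_le_normalizer_coreU)).trans
      inf_normalizer_le_normalizer_inf
  -- the rotations in `H`
  have hrot : ∀ u ∈ coreU t, ∀ k : ℤ, Commute (u * σ ^ k) y → u * σ ^ k ∈ H ⊓ coreU t ⊔ L := by
    intro u hu k hc
    set S := E.psi ⟨σ, E.σ_mem_H⟩ with hS
    set a := E.psiU ⟨u, hu⟩ with ha
    have haR : a ∈ E.psiU.range := ⟨_, rfl⟩
    have hca : Commute a (S ^ k) := ((hcomm a haR).zpow_left k).symm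
    have hgk : orderOf (S ^ k) ∣ 2 ^ i := hord ▸ orderOf_dvd_of_mem_zpowers ⟨k, rfl⟩
    set v : extraH t z := ⟨u, E.U_le_H hu⟩ * ⟨σ, E.σ_mem_H⟩ ^ k with hv
    have hvval : (v : G) = u * σ ^ k := by rw [hv, Subgroup.coe_mul, SubgroupClass.coe_zpow]
    have hpv : E.psi v = a * S ^ k := by rw [hv, map_mul, map_zpow, hS]; rfl
    have ey : (v : G) * y * (v : G)⁻¹ = y := by rw [hvval, hc.eq, mul_inv_cancel_right]
    have hdet := E.det_H v.2
    have h00 : actM p y x z v 0 0 = 1 := by simp [actM, ey, E.ext.coA_y]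
    have h10 : actM p y x z v 1 0 = 0 := by simp [actM, ey, E.ext.coB_y]
    rw [Matrix.det_fin_two, h00, h10, one_mul, mul_zero, sub_zero] at hdet
    have hcop : (orderOf (a * S ^ k)).Coprime p := by
      refine Nat.Coprime.coprime_dvd_left ((hca.orderOf_mul_dvd_lcm).trans (Nat.lcm_dvd_mul _ _))
        (Nat.Coprime.mul_left (E.coprime_of_mem haR) (Nat.Coprime.coprime_dvd_left hgk ?_))
      exact ((Nat.coprime_primes Nat.prime_two Fact.out).2 E.ext.ne_two.symm).pow_left i
    have h1 : a * S ^ k = 1 := by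
      rw [← hpv] at hcop ⊢
      refine SLTools.eq_one_of_tr_two hcop ?_
      show actM p y x z v 0 0 + actM p y x z v 1 1 = 2
      rw [h00, hdet, one_add_one_eq_two]
    have hSk : S ^ k = 1 := by
      have e : S ^ k = a⁻¹ := eq_inv_of_mul_eq_one_right h1
      refine orderOf_eq_one_iff.1 (Nat.eq_one_of_dvd_coprimes ?_ hgk
        (by rw [e, orderOf_inv] : orderOf (S ^ k) ∣ orderOf a))
      exact (Nat.coprime_two_left.2 (E.odd_range.of_dvd_nat (orderOf_dvd_natCard _ haR))).pow_left i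
    obtain ⟨j, hj⟩ := orderOf_dvd_iff_zpow_eq_one.2 hSk
    rw [hord] at hj
    have hk : σ ^ k = g ^ j := by rw [hj, hg, zpow_mul, zpow_natCast]
    have hyk : Commute (σ ^ k) y := hk ▸ (E.commute_σ_pow hord).zpow_left j
    have huy : Commute u y := by
      have := hc.mul_left hyk.inv_left
      rwa [mul_inv_cancel_right] at this
    exact mul_mem (mem_sup_left ⟨⟨mem_centralizer_singleton_iff.2 huy.eq,
      GWKlein.coreU_le_centralizer t hu⟩, hu⟩) (mem_sup_right (mem_sup_left ⟨j, hk.symm⟩))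
  have hH : H ⊓ coreU t ⊔ L = H := by
    refine le_antisymm (sup_le inf_le_left hLH) fun g hg => ?_
    have hgy := (mem_inf.1 hg).1
    have hgt := (mem_inf.1 hg).2
    rw [← h.sup_sylow, ← SetLike.mem_coe,
      Subgroup.coe_mul_of_right_le_normalizer_left _ _ h.sylow_le_normalizer_coreU] at hgt
    obtain ⟨u, hu, s, hs, rfl⟩ := Set.mem_mul.1 hgt
    have hgy' : Commute (u * s) y := mem_centralizer_singleton_iff.1 hgy
    obtain ⟨k, rfl | rfl⟩ := h.exists_normal_form hs
    · exact hrot u hu k hgy'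
    · have hr' : r⁻¹ = r := inv_eq_of_mul_eq_one_right h.mul_self_r
      have e : r * (u * (r * σ ^ k)) = r * u * r⁻¹ * σ ^ k := by rw [hr']; group
      have h1 := hrot _ (h.conj_r_mem_coreU hu) k (e ▸ E.ext.fix_y.mul_left hgy')
      rw [← e] at h1
      have h2 := mul_mem (mem_sup_right (mem_sup_right (mem_zpowers r)) : r ∈ H ⊓ coreU t ⊔ L) h1
      rwa [← mul_assoc r r, h.mul_self_r, one_mul] at h2
  have hLc : Nat.card L = 2 ^ (n - i) := by
    have hn1 : zpowers r ≤ normalizer (zpowers g : Set G) :=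
      zpowers_le.2 (Coprime.mem_normalizer_of_forall fun v hv => by
        obtain ⟨j, rfl⟩ := hv
        show r * g ^ j * r⁻¹ ∈ zpowers g
        rw [← conj_zpow, hg, ← conj_pow, h.conj_σ, inv_pow]
        exact zpow_mem (inv_mem (mem_zpowers _)) j)
    have h1 := PLocal.card_sup_mul_card_inf (H := zpowers g) (K := zpowers r) hn1
    have hinf : zpowers g ⊓ zpowers r = ⊥ := by
      refine eq_bot_iff.2 fun v hv => ?_
      obtain ⟨hv1, j, hj⟩ := hv
      simp only at hj
      rcases Int.even_or_odd j with ⟨m, hm⟩ | ⟨m, hm⟩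
      · rw [← hj, hm, ← two_mul, zpow_mul, zpow_two, h.mul_self_r, one_zpow]
        exact one_mem _
      · refine absurd ?_ h.r_not_mem_zpowers
        rw [hm, zpow_add_one, zpow_mul, zpow_two, h.mul_self_r, one_zpow, one_mul] at hj
        exact hj ▸ zpowers_le.2 (pow_mem (mem_zpowers σ) _) hv1
    rw [hinf, card_bot, mul_one, Nat.card_zpowers, Nat.card_zpowers, h.order_r, hg,
      orderOf_pow' _ (by positivity), h.order_σ, Nat.gcd_eq_right (pow_dvd_pow 2 hi),
      Nat.pow_div hi two_pos] at h1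
    rw [h1, ← pow_succ, show n - 1 - i + 1 = n - i by have := h.three_le; omega]
  have h1 := PLocal.card_sup_mul_card_inf (H := H ⊓ coreU t) (K := L) hLn
  have hodd : Odd (Nat.card (H ⊓ coreU t : Subgroup G)) :=
    h.odd_coreU.of_dvd_nat (card_dvd_of_le inf_le_right)
  rw [hH, inf_eq_bot_of_coprime (by rw [hLc]; exact (Nat.coprime_two_right.2 hodd).pow_right _), card_bot,
    mul_one, hLc] at h1
  rw [h1, Nat.factorization_mul hodd.pos.ne' (by positivity), Finsupp.coe_add, Pi.add_apply,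
    Nat.factorization_eq_zero_of_not_dvd (fun hd => Nat.not_even_iff_odd.2 hodd (even_iff_two_dvd.2 hd)),
    zero_add, Nat.prime_two.factorization_pow, Finsupp.single_eq_same]

/-- The 2-part of `|C(y)|` lies in `C(t)`. -/
theorem factorization_two :
    (Nat.card (centralizer ({y} : Set G))).factorization 2 =
      (Nat.card (centralizer ({y} : Set G) ⊓ centralizer ({t} : Set G) : Subgroup G)).factorization 2 := by
  haveI := Fact.mk Nat.prime_two
  have h := E.hyp
  set Cy := centralizer ({y} : Set G)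
  have hyU := E.mem_U_of_mem_D E.ext.mem_y
  refine le_antisymm ?_
    ((Nat.factorization_le_iff_dvd Nat.card_pos.ne' Nat.card_pos.ne').2 (card_dvd_of_le inf_le_left) 2)
  set R := ((default : Sylow 2 Cy) : Subgroup Cy).map Cy.subtype with hR
  have hRc : Nat.card R = 2 ^ (Nat.card Cy).factorization 2 := by
    rw [hR, card_map_of_injective Cy.subtype_injective]
    exact Sylow.card_eq_multiplicity _
  have hRC : R ≤ Cy := map_subtype_le _
  rcases Nat.eq_zero_or_pos ((Nat.card Cy).factorization 2) with h0 | hpos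
  · rw [h0]; exact Nat.zero_le _
  have hRp : IsPGroup 2 R := IsPGroup.of_card hRc
  haveI : Nontrivial R := Finite.one_lt_card_iff_nontrivial.1 (hRc ▸ Nat.one_lt_two_pow hpos.ne')
  haveI := hRp.center_nontrivial
  obtain ⟨m, hm0, hm⟩ := (hRp.to_subgroup (center R)).nontrivial_iff_card.1 inferInstance
  obtain ⟨j, hj⟩ := exists_prime_orderOf_dvd_card' (G := center R) 2 (hm ▸ dvd_pow_self 2 hm0.ne')
  rw [← Subgroup.orderOf_coe, ← Subgroup.orderOf_coe] at hj
  obtain ⟨c, hcy, hcj⟩ := E.caseB.oneClass y hyU (E.order_y ▸ (Fact.out : p.Prime).isPrimePow) _ hj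
    (mem_centralizer_singleton_iff.1 (hRC (j : R).2))
  have hle : R.map (MulAut.conj c⁻¹).toMonoidHom ≤ Cy ⊓ centralizer ({t} : Set G) := by
    rintro _ ⟨a, ha, rfl⟩
    refine ⟨mem_centralizer_singleton_iff.2 ?_, mem_centralizer_singleton_iff.2 ?_⟩
    · have h1 : Commute a y := mem_centralizer_singleton_iff.1 (hRC ha)
      simpa using ((hcy.inv_left.mul_left h1).mul_left hcy).eq
    · have h1 : Commute a ((j : R) : G) :=
        congrArg Subtype.val (mem_center_iff.1 j.2 ⟨a, ha⟩)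
      have := h1.map (MulAut.conj c⁻¹).toMonoidHom
      rw [← hcj] at this
      simpa [mul_assoc] using this.eq
  have h2 := card_dvd_of_le hle
  rw [card_map_of_injective (MulAut.conj c⁻¹).injective, hRc,
    Nat.prime_two.pow_dvd_iff_le_factorization Nat.card_pos.ne'] at h2
  exact h2

/-- The configuration is impossible. -/
theorem false : False := by
  have h := E.hyp
  have hp := (Fact.out : p.Prime)
  obtain ⟨hW, hW', i, hin, hord, hcomm, he1, hdvd⟩ := E.core
  set e := (extraK t D).relIndex (coreU t) with he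
  set T := Nat.card (extraT t D) with hTdef
  set N := (centralizer ({t} : Set G)).index with hNdef
  have heo : Odd e := E.odd_relIndex
  have hp3 : 3 ≤ p := by
    have := hp.two_le
    have := E.ext.ne_two
    omega
  have hpo : Odd p := hp.odd_of_ne_two E.ext.ne_two
  -- the order of `G`
  have hG : Nat.card G = 2 ^ n * (e * (p ^ 2 * T)) * N := by
    rw [← (centralizer ({t} : Set G)).card_mul_index, h.card_centralizer, E.card_U]
  obtain ⟨X, hX, hX1, -, hform⟩ := E.caseB.ctx.formula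
  rw [hW, hW', E.card_U, hG] at hform
  push_cast at hform
  obtain ⟨k, hk⟩ := h.exists_add
  have heq : (N : ℤ) * (X - 1) ^ 2 = 2 ^ (2 * n - 1) * ((p : ℤ) * e * T) ^ 2 * (X * (X + 1)) := by
    have hpe : ((2 : ℤ) ^ n * (e * (p ^ 2 * T)) * ((p : ℤ) ^ 2 * (p : ℤ) ^ 2)) ≠ 0 := by
      have := heo.pos
      have := hp.pos
      have : 0 < T := Nat.card_pos
      positivity
    refine mul_left_cancel₀ hpe ?_
    rw [hk, show 2 * (k + 3) - 1 = 2 * k + 5 by omega]
    rw [hk, show 3 * (k + 3) - 3 = 3 * k + 6 by omega] at hform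
    linear_combination hform
  -- congruences
  have hco : N.Coprime (p * T) := Nat.coprime_of_dvd fun l hl hlN hlT => by
    refine E.not_dvd_index hl ?_ hlN
    rcases hl.dvd_mul.1 hlT with h1 | h1
    · exact h1.trans E.p_dvd_T
    · exact h1
  have he2 : 2 * e ≤ p + 1 := by
    obtain ⟨c, hc⟩ := hpo
    have key : e ∣ p - 1 ∨ e ∣ p + 1 :=
      hdvd.imp (dvd_mul_right _ _).trans (dvd_mul_right _ _).trans
    rcases key with hd | hd
    · have h2 := (Nat.coprime_two_left.2 heo).mul_dvd_of_dvd_of_dvd ⟨c, by omega⟩ hd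
      have := Nat.le_of_dvd (by omega) h2
      omega
    · have h2 := (Nat.coprime_two_left.2 heo).mul_dvd_of_dvd_of_dvd (⟨c + 1, by omega⟩ : 2 ∣ p + 1) hd
      exact Nat.le_of_dvd (by omega) h2
  obtain ⟨δ, hδ, hXeq, hN⟩ := exists_delta hp E.ext.ne_two he2 heo (show 0 < T from Nat.card_pos) (by omega) hX hX1 heq hco E.index_mod
  have h2G : (2 : ℤ) * (Nat.card G : ℤ) = 2 ^ n * ((p : ℤ) ^ 2 * e * T * (X * (X + 1))) := by
    rw [hG, ← hN]; push_cast; ring
  -- the centraliser of `y`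
  obtain ⟨T', τ, A, s, k', hT', hmem, hcard, hA, hs, hs2, -, hshape⟩ :=
    E.caseB.centShape y E.y_mem_coreW (E.order_y ▸ hp.isPrimePow) E.y_ne_one
  obtain rfl : T' = extraT t D := SetLike.ext fun u => (hmem u).trans (E.mem_T_iff u).symm
  have hA1 : A = 1 := by
    by_contra hA1
    obtain ⟨q, hq, hqA⟩ := Nat.exists_prime_and_dvd hA1
    haveI := Fact.mk hq
    obtain ⟨⟨a, haT⟩, ha⟩ := exists_prime_orderOf_dvd_card' (G := extraT t D) q
      (hcard ▸ hqA.trans (dvd_mul_left A τ))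
    rw [Subgroup.orderOf_mk] at ha
    exact (hA q hq hqA).2.2.2.2 (zpowers a) (zpowers_le.2 (E.extraT_le haT))
      (by rw [Nat.card_zpowers, ha]) (E.T_sub_normal haT ha)
  subst hA1
  rw [mul_one, ← hTdef] at hcard
  subst hcard
  have hsn : s = n - i := by rw [hs, E.factorization_two, E.factorization_pair hin hord hcomm]
  have hn : s + i = n := by omega
  have hCG : (Nat.card (centralizer ({y} : Set G)) : ℤ) ∣ (Nat.card G : ℤ) :=
    Int.natCast_dvd_natCast.2 (card_subgroup_dvd_card _)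
  have hrot : e * 2 ^ i ∣ p + 1 ∨ e * 2 ^ i ∣ p - 1 := hdvd.symm
  rcases hshape with ⟨hs3, hT3, -, h35⟩ | ⟨Q, hQp, hQC, hQ, hQdvd⟩
  · have hp_eq : p = 3 := by
      have := E.p_dvd_T
      rw [← hTdef, hT3] at this
      exact (Nat.prime_dvd_prime_iff_eq hp Nat.prime_three).1 this
    rw [hp_eq] at hrot
    norm_num at hrot
    have he1' : e = 1 := by
      have h1 : e ∣ 4 ∨ e ∣ 2 := hrot.imp (dvd_mul_right _ _).trans (dvd_mul_right _ _).trans
      have h4 : e ∣ 4 := h1.elim id fun h => h.trans (by norm_num)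
      have := Nat.le_of_dvd (by norm_num) h4
      obtain ⟨c, hc⟩ := heo
      obtain ⟨d, hd⟩ := h4
      interval_cases e <;> omega
    rw [hT3, hp_eq] at hXeq
    have h35' : ∀ m : ℕ, m ∣ 35 → (m : ℤ) ∣ 2 ^ n * (3 ^ 2 * (e : ℤ) * 3 * (X * (X + 1))) := fun m hm => by
      have e1 := (((Int.natCast_dvd_natCast.2 (hm.trans h35))).trans hCG).mul_left 2
      rw [h2G, hp_eq, hT3] at e1
      push_cast at e1
      exact e1
    exact ExtraArith.extra_false_seven (n := n) (i := i) (X := X) (δ := δ) (by omega) (le_trans one_le_two (he1 he1')) heo hrot hδ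
      (by rw [hXeq]; push_cast; ring) (by exact_mod_cast h35' 5 (by norm_num))
      (by exact_mod_cast h35' 7 (by norm_num))
  · have hQ0 := hQp.pos
    have hQd : (Q : ℤ) ∣ 2 ^ n * ((p : ℤ) ^ 2 * e * T * (X * (X + 1))) := by
      rw [← h2G]
      exact ((Int.natCast_dvd_natCast.2 hQC).trans hCG).mul_left 2
    have h2C : (((Q + 1) * (Q - 1) : ℕ) : ℤ) ∣ 2 ^ n * ((p : ℤ) ^ 2 * e * T * (X * (X + 1))) := by
      rw [← h2G]
      refine (Int.natCast_dvd_natCast.2 hQdvd).trans ?_
      push_cast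
      exact mul_dvd_mul_left 2 hCG
    obtain ⟨s', rfl⟩ : ∃ s', s = s' + 1 := ⟨s - 1, by omega⟩
    push_cast [Nat.cast_sub hQ0] at h2C
    rcases hQ with ⟨hQ, -⟩ | ⟨hQ, -⟩
    · have hQ' : (Q : ℤ) = 2 ^ (s' + 1) * T + 1 := by rw [hQ]; push_cast; ring
      exact ExtraArith.extra_false (ε := 1) hs2 hn hp3 hpo heo E.odd_T E.p_dvd_T hrot hδ hXeq (Or.inl rfl) hQ' hQp
        hQd (dvd_trans ⟨2 * ((Q : ℤ) - 1), by rw [hQ', Nat.add_sub_cancel]; ring⟩ h2C)
    · have hQ' : (Q : ℤ) = 2 ^ (s' + 1) * T + -1 := by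
        have : ((Q + 1 : ℕ) : ℤ) = ((2 ^ (s' + 1) * T : ℕ) : ℤ) := congrArg Nat.cast hQ
        push_cast at this
        linear_combination this
      exact ExtraArith.extra_false (ε := -1) hs2 hn hp3 hpo heo E.odd_T E.p_dvd_T hrot hδ hXeq (Or.inr rfl) hQ' hQp
        hQd (dvd_trans ⟨2 * ((Q : ℤ) + 1), by rw [hQ', Nat.add_sub_cancel]; ring⟩ h2C)

end Extra

/-- **No mixed extraspecial subgroup.** -/
theorem noExtraspecial {G : Type u} [Group G] [Finite G] [IsSimpleGroup G] : NoExtraspecial G := by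
  intro n t r σ B hno p D y x z hD
  haveI := Fact.mk hD.prime
  exact Extra.false (p := p) ⟨B, hno, hD⟩

end Cfsg.Agent.GWDihedral
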