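import Cfsg.Agent.Lib.GWDihedral.MainWired
import Cfsg.Agent.Lib.GWDihedral.Extraspecial

/-!
# Gorenstein-Walter, dihedral Sylow subgroups of order at least eight

* `dihedralGW` : the theorem
-/

set_option autoImplicit false

namespace Cfsg.Agent.GWDihedral

universe u

/-- A finite simple group with dihedral Sylow 2-subgroups of order at least 8 is as stated by `DihedralGW`. -/
theorem dihedralGW : GWReduce.DihedralGW.{u} := dihedralGW_of_open fun _ _ _ _ => noExtraspecial

end Cfsg.Agent.GWDihedral
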