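import Cfsg.Agent.Lib.GWDihedral.CaseA
import Cfsg.Agent.Lib.GWDihedral.EndBSW
import Cfsg.Agent.Lib.GWSeven.Main
import Cfsg.Agent.Lib.GLOrder.Basic
import Cfsg.Agent.S0984

/-!
# Gorenstein-Walter, dihedral Sylow subgroups: `W₂ = 1` and `W ≠ 1` give `A₇`

End of section 3 of `notes/gw_dihedral_eight.md`.

* `DHyp.exists_order_data` : `n = 3` and two possible orders
* `DHyp.socle_arith` : the socle of `N(W)/W` is `PSL(2,Q)` with `Q = 4 T ± 1`
* `a7_of_caseA`
-/

set_option autoImplicit false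
set_option linter.unusedSectionVars false
set_option linter.style.haveILetI false

namespace Cfsg.Agent.GWDihedral

open Subgroup
open Cfsg.Agent.GWKlein (coreU coreW fourV oddPart)

universe u

variable {G : Type u} [Group G] [Finite G] {n : ℕ} {t r σ : G}

namespace DHyp

theorem exists_order_data [IsSimpleGroup G] (h : DHyp n t r σ) (hb : coreW t (r * σ) = ⊥)
    (ha : coreW t r ≠ ⊥) :
    n = 3 ∧ ((Nat.card (coreW t r) = 3 ∧ 3 * Nat.card G = 280 * Nat.card (coreU t) ^ 3) ∨
      (Nat.card (coreW t r) = 5 ∧ 25 * Nat.card G = 1512 * Nat.card (coreU t) ^ 3)) := by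
  obtain ⟨k, rfl⟩ := h.exists_add
  obtain ⟨P, hP, D, hm⟩ := h.exists_data
  have ht : σ ^ 2 ^ (k + 1) = t := hm
  have hsw : Nat.card (centralizer ({t, σ * r} : Set G)) = 4 := by
    rw [(Nat.card_congr ((MulAut.conj σ).toEquiv.subtypeEquiv fun g => (conj_swap h g).symm)).symm,
      h.swap.card_centralizer_pair, hb, card_bot]
  have h3 : 3 ≤ Nat.card (coreW t r) := by
    have h1 : Nat.card (coreW t r) ≠ 1 := fun e => ha (card_eq_one.1 e)
    obtain ⟨j, hj⟩ := h.odd_coreW
    omega
  obtain ⟨hk, hc⟩ := GWSeven.order_cases k P σ r D.mem (hP ▸ subset_closure (Set.mem_insert_of_mem _ rfl))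
    D.order h.order_r h.conj_σ hP.symm
    (ht.symm ▸ ⟨h.isConj_t h.order_r, (h.isConj_t h.order_r_mul_σ).trans (isConj_iff.2 ⟨σ, by group⟩)⟩)
    (Nat.card (coreU t)) (Nat.card (coreW t r)) h.odd_coreU h.odd_coreW h3
    (by rw [ht, h.card_centralizer]) (by rw [ht, h.card_centralizer_pair]) (by rw [ht, hsw])
  exact ⟨by omega, hc⟩

theorem card_coreU_eq (h : DHyp n t r σ) (T : TorusData t r σ) :
    Nat.card (coreU t) = Nat.card (commR t r) * Nat.card (coreW t r) := by
  rw [← Nat.card_prod]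
  refine (Nat.card_congr (Equiv.ofBijective (fun p : commR t r × coreW t r =>
    (⟨p.1 * p.2, mul_mem (h.commR_le_coreU p.1.2) p.2.2.1⟩ : coreU t)) ⟨?_, ?_⟩)).symm
  · rintro ⟨⟨a, ha⟩, w, hw⟩ ⟨⟨a', ha'⟩, w', hw'⟩ e
    have e' : a * w = a' * w' := congrArg Subtype.val e
    obtain rfl := h.split_unique T ha ha' hw hw' e'
    obtain rfl := mul_right_cancel e'
    rfl
  · rintro ⟨u, hu⟩
    obtain ⟨a, ha, w, hw, rfl⟩ := h.exists_split hu
    exact ⟨(⟨a, ha⟩, ⟨w, hw⟩), rfl⟩

theorem centralizer_le_normalizer_coreW (h : DHyp n t r σ) (hb : coreW t (r * σ) = ⊥) :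
    centralizer ({t} : Set G) ≤ normalizer (coreW t r : Set G) := by
  obtain ⟨hinv, hab⟩ := h.swap.inverts_of_coreW_eq_bot hb
  rw [← h.sup_sylow]
  refine sup_le (fun u hu => Coprime.mem_normalizer_of_forall fun w hw => ?_) ((closure_le _).2 ?_)
  · rw [hab u hu w hw.1, mul_inv_cancel_right]; exact hw
  have hr : r ∈ normalizer (coreW t r : Set G) := Coprime.mem_normalizer_of_forall fun w hw => by
    rw [(h.mem_coreW.1 hw).2.1.symm.eq, mul_inv_cancel_right]; exact hw
  have h2 : r * σ ∈ normalizer (coreW t r : Set G) := Coprime.mem_normalizer_of_forall fun w hw => by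
    rw [hinv w hw.1]; exact inv_mem hw
  intro g hg
  rcases hg with hg | hg <;> rw [hg]
  · have := mul_mem (inv_mem hr) h2
    rwa [inv_mul_cancel_left] at this
  · exact hr

theorem fused_normalizer_coreW [IsSimpleGroup G] (h : DHyp n t r σ) :
    Fused t r (normalizer (coreW t r : Set G)) := by
  obtain ⟨s, hs⟩ := h.exists_rot
  refine ⟨s, Coprime.mem_normalizer_of_forall fun w hw => ?_, hs⟩
  obtain ⟨hwt, hwr, hwo⟩ := h.mem_coreW.1 hw
  have h1 := hwt.map (MulAut.conj s).toMonoidHom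
  have h2 := hwr.map (MulAut.conj s).toMonoidHom
  simp only [MulEquiv.coe_toMonoidHom, MulAut.conj_apply, hs.1] at h1
  simp only [MulEquiv.coe_toMonoidHom, MulAut.conj_apply, hs.2] at h2
  refine h.mem_coreW.2 ⟨?_, h1, by rwa [Involution.orderOf_conj]⟩
  have := h2.mul_right h1
  rwa [mul_assoc t, h.mul_self_r, mul_one] at this

theorem normalizer_coreW_ne_top [IsSimpleGroup G] (h : DHyp n t r σ) (ha : coreW t r ≠ ⊥) :
    normalizer (coreW t r : Set G) ≠ ⊤ := by
  intro e
  haveI : (coreW t r).Normal := normalizer_eq_top_iff.1 e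
  rcases (inferInstance : (coreW t r).Normal).eq_bot_or_eq_top with h1 | h1
  · exact ha h1
  · exact h.ne_one_t (h.eq_one_of_mem_coreU (h1 ▸ mem_top t : t ∈ coreW t r).1 h.sylow_mem_t)

theorem oddPart_normalizer_coreW [IsSimpleGroup G] (h : DHyp n t r σ) (hS : SideRot t r σ)
    (hb : coreW t (r * σ) = ⊥) : oddPart (normalizer (coreW t r : Set G)) = coreW t r := by
  set M := normalizer (coreW t r : Set G)
  refine le_antisymm (h.oddPart_le_coreW hS (h.centralizer_le_normalizer_coreW hb) h.fused_normalizer_coreW) ?_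
  have hn : ((coreW t r).subgroupOf M).Normal := Cores.subgroupOf_normal_of_le_normalizer le_rfl
  have h1 : (coreW t r).subgroupOf M ≤ Cfsg.pPrimeCore 2 M := Cores.le_pPrimeCore hn (by
    rw [Cores.card_subgroupOf le_normalizer]; exact Nat.coprime_two_right.2 h.odd_coreW)
  intro w hw
  exact ⟨⟨w, le_normalizer hw⟩, h1 (mem_subgroupOf.2 hw), rfl⟩

theorem card_bar (_h : DHyp n t r σ) {M : Subgroup G} (hO : oddPart M = coreW t r) :
    Nat.card M = Nat.card (M ⧸ Cfsg.oddCore M) * Nat.card (coreW t r) := by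
  rw [← hO, oddPart, Cores.card_map_subtype]
  exact card_eq_card_quotient_mul_card_subgroup _

/-- In the non-solvable case the socle is `PSL(2,Q)`, `Q = 4 T ± 1`. -/
theorem socle_arith [IsSimpleGroup G] (h : DHyp n t r σ) (hP : ProperGWLike G)
    (hn : n = 3) (T : TorusData t r σ) {M : Subgroup G} (hM : M ≠ ⊤)
    (hC : centralizer ({t} : Set G) ≤ M) (hF : Fused t r M) (hO : oddPart M = coreW t r)
    (hns : ¬ Group.IsSolvable M) :
    ∃ Q : ℕ, (Q = 4 * Nat.card (commR t r) + 1 ∨ Q + 1 = 4 * Nat.card (commR t r)) ∧ 3 < Q ∧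
      Nat.card (coreW t r) * (Q * (Q ^ 2 - 1)) ∣ 2 * Nat.card G := by
  haveI := Fact.mk Nat.prime_two
  obtain ⟨L, hL⟩ := h.exists_socleData hP hM hC hF hns
  haveI := hL.normal
  set π := QuotientGroup.mk' (Cfsg.oddCore M) with hπ
  have hle := h.sylow_le_of_centralizer_le hC
  have htM : t ∈ M := hle h.sylow_mem_t
  set tb := π ⟨t, htM⟩ with htb
  have htL : tb ∈ L := hL.mem_t _ rfl
  have htbo : orderOf (⟨tb, htL⟩ : L) = 2 := by
    rw [Subgroup.orderOf_mk]; exact Local.orderOf_bar (by rw [Subgroup.orderOf_mk, h.order_t])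
  set D : Subgroup (M ⧸ Cfsg.oddCore M) := L ⊓ centralizer ({tb} : Set (M ⧸ Cfsg.oddCore M)) with hD
  -- the image of `C(t)`
  set I : Subgroup (M ⧸ Cfsg.oddCore M) := ((centralizer ({t} : Set G)).subgroupOf M).map π with hI
  have hDI : D ≤ I := by
    intro y hy
    obtain ⟨z, rfl⟩ := QuotientGroup.mk'_surjective (Cfsg.oddCore M) y
    have hzt : Commute (π z) tb := mem_centralizer_singleton_iff.1 hy.2
    obtain ⟨o, ho, hoz⟩ := Constrained.exists_mul_mem_centralizer (O := Cfsg.oddCore M)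
      (Local.not_two_dvd_core M) (T := zpowers (⟨t, htM⟩ : M))
      (IsPGroup.of_card (n := 1) (by rw [Nat.card_zpowers, Subgroup.orderOf_mk, h.order_t, pow_one]))
      (x := z) fun w hw => by
        obtain ⟨i, rfl⟩ := hw
        refine (QuotientGroup.eq_one_iff _).1
          (show π (z * (⟨t, htM⟩ : M) ^ i * z⁻¹ * ((⟨t, htM⟩ : M) ^ i)⁻¹) = 1 from ?_)
        rw [map_mul, map_mul, map_mul, map_inv, map_inv, map_zpow, (hzt.zpow_right i).eq,
          mul_inv_cancel_right, mul_inv_cancel]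
    refine ⟨o * z, mem_subgroupOf.2 (mem_centralizer_singleton_iff.2 ?_), ?_⟩
    · exact (congrArg Subtype.val (mem_centralizer_iff.1 hoz _ (mem_zpowers _))).symm
    · rw [map_mul, show π o = 1 from (QuotientGroup.eq_one_iff o).2 ho, one_mul]
  have hIc : Nat.card I * Nat.card (coreW t r) = 8 * Nat.card (coreU t) := by
    have h8 : Nat.card ((centralizer ({t} : Set G)).subgroupOf M) = 8 * Nat.card (coreU t) := by
      rw [Cores.card_subgroupOf hC, h.card_centralizer, hn]; norm_num
    have hker : π.ker ≤ (centralizer ({t} : Set G)).subgroupOf M := by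
      intro x hx
      rw [QuotientGroup.ker_mk'] at hx
      have hxW : (x : G) ∈ coreW t r := hO ▸ ⟨x, hx, rfl⟩
      exact mem_subgroupOf.2 (mem_centralizer_singleton_iff.2 (h.mem_coreW.1 hxW).1.eq)
    rw [← h8, ← Cores.card_map_mul_ker π _ hker, QuotientGroup.ker_mk', hI, ← hO, oddPart, Cores.card_map_subtype]
  have hu := h.card_coreU_eq T
  have hWpos : 0 < Nat.card (coreW t r) := Nat.card_pos
  have hI8 : Nat.card I = 8 * Nat.card (commR t r) := by
    apply Nat.eq_of_mul_eq_mul_right hWpos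
    rw [hIc, hu, mul_assoc]
  -- the torus
  have hAM : commR t r ≤ M := h.commR_le_coreU.trans ((GWKlein.coreU_le_centralizer t).trans hC)
  set A' : Subgroup (M ⧸ Cfsg.oddCore M) := ((commR t r).subgroupOf M).map π with hA'
  have hA'c : Nat.card A' = Nat.card (commR t r) := by
    rw [hA', ← Cores.card_subgroupOf hAM]
    refine (Nat.card_congr (Equiv.ofBijective (fun x : (commR t r).subgroupOf M =>
      (⟨π x, ⟨x, x.2, rfl⟩⟩ : ((commR t r).subgroupOf M).map π)) ⟨?_, ?_⟩)).symm
    · intro x y e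
      have h1 : π ((x : M)⁻¹ * y) = 1 := by
        rw [map_mul, map_inv, inv_mul_eq_one]; exact congrArg Subtype.val e
      have h2 : ((x : M) : G)⁻¹ * (y : M) = 1 := h.commR_inf_coreW T
        (mul_mem (inv_mem (mem_subgroupOf.1 x.2)) (mem_subgroupOf.1 y.2)) (hO ▸ Local.bar_eq_one.1 h1)
      exact Subtype.ext (Subtype.ext (inv_mul_eq_one.1 h2))
    · rintro ⟨_, x, hx, rfl⟩
      exact ⟨⟨x, hx⟩, rfl⟩
  have hA'D : A' ≤ D := by
    rintro _ ⟨x, hx, rfl⟩
    have hxA : (x : G) ∈ commR t r := mem_subgroupOf.1 hx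
    refine ⟨?_, mem_centralizer_singleton_iff.2 ?_⟩
    · -- an inverted element of odd order is a commutator
      have ho : Odd (orderOf x) := by
        rw [← Subgroup.orderOf_coe]; exact h.odd_orderOf (h.commR_le_coreU hxA)
      have hsq : π (x ^ 2) ∈ L := by
        have e : x ^ 2 = x * (⟨r, hle h.sylow_mem_r⟩ : M) * x⁻¹ * (⟨r, hle h.sylow_mem_r⟩ : M)⁻¹ := Subtype.ext (by
          show (x : G) ^ 2 = (x : G) * r * (x : G)⁻¹ * r⁻¹
          rw [show (x : G) * r * (x : G)⁻¹ * r⁻¹ = (x : G) * (r * (x : G) * r⁻¹)⁻¹ by group,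
            h.commR_inverted T hxA, inv_inv, pow_two])
        rw [e, map_mul, map_mul, map_mul, map_inv, map_inv]
        exact mul_mem (hL.normal.conj_mem _ (hL.mem_r _ rfl) _) (inv_mem (hL.mem_r _ rfl))
      obtain ⟨k, hk⟩ := ho
      rw [show x = (x ^ 2) ^ (k + 1) by
        rw [← pow_mul, show 2 * (k + 1) = orderOf x + 1 by omega, pow_succ, pow_orderOf_eq_one, one_mul], map_pow]
      exact pow_mem hsq _
    · exact ((show Commute x ⟨t, htM⟩ from
        Subtype.ext (GWKlein.commute_of_mem_coreU (h.commR_le_coreU hxA)).eq).map π).eq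
  -- the four-group
  have hVM : fourV t r ≤ M := h.fourV_le_sylow.trans hle
  set V' : Subgroup (M ⧸ Cfsg.oddCore M) := ((fourV t r).subgroupOf M).map π with hV'
  have hV'c : Nat.card V' = 4 := by
    rw [hV', ← h.card_fourV, ← Cores.card_subgroupOf hVM]
    refine (Nat.card_congr (Equiv.ofBijective (fun x : (fourV t r).subgroupOf M =>
      (⟨π x, ⟨x, x.2, rfl⟩⟩ : ((fourV t r).subgroupOf M).map π)) ⟨?_, ?_⟩)).symm
    · intro x y e
      have hm : ((x : M) : G)⁻¹ * (y : M) ∈ fourV t r :=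
        mul_mem (inv_mem (mem_subgroupOf.1 x.2)) (mem_subgroupOf.1 y.2)
      obtain ⟨k, hk⟩ := h.isPGroup_fourV ⟨_, hm⟩
      have h1 := Local.eq_one_of_bar (H := M) (x := (x : M)⁻¹ * y) (k := k)
        (Subtype.ext (by simpa using congrArg Subtype.val hk))
        (by rw [map_mul, map_inv, inv_mul_eq_one]; exact congrArg Subtype.val e)
      exact Subtype.ext (inv_mul_eq_one.1 h1)
    · rintro ⟨_, x, hx, rfl⟩
      exact ⟨⟨x, hx⟩, rfl⟩
  have hV'D : V' ≤ D := by
    rintro _ ⟨x, hx, rfl⟩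
    have hxV : (x : G) ∈ fourV t r := mem_subgroupOf.1 hx
    refine ⟨?_, mem_centralizer_singleton_iff.2 ((show Commute x ⟨t, htM⟩ from
      Subtype.ext (mem_centralizer_singleton_iff.1 (h.fourV_le_centralizer_t hxV))).map π).eq⟩
    have hle' : fourV t r ≤ (L.comap π).map M.subtype := GWKlein.fourV_le_iff.2
      ⟨⟨⟨t, htM⟩, htL, rfl⟩, ⟨⟨r, hle h.sylow_mem_r⟩, hL.mem_r _ rfl, rfl⟩⟩
    obtain ⟨y, hy, hyx⟩ := hle' hxV
    rw [show x = y from Subtype.ext hyx.symm]
    exact hy
  have hTodd : Odd (Nat.card (commR t r)) := h.odd_coreU.of_dvd_nat (card_dvd_of_le h.commR_le_coreU)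
  have hDdvd : Nat.card D ∣ 8 * Nat.card (commR t r) := hI8 ▸ card_dvd_of_le hDI
  have h4D : 4 * Nat.card (commR t r) ∣ Nat.card D := by
    refine Nat.Coprime.mul_dvd_of_dvd_of_dvd ?_ (hV'c ▸ card_dvd_of_le hV'D) (hA'c ▸ card_dvd_of_le hA'D)
    exact (Nat.coprime_two_left.2 hTodd).pow_left 2
  have hne : Nat.card D ≠ Nat.card I := by
    intro e
    have hDe := eq_of_le_of_card_ge hDI e.ge
    have : π ⟨r * σ, hle h.sylow_mem_rσ⟩ ∈ D := hDe ▸ ⟨⟨r * σ, hle h.sylow_mem_rσ⟩,
      mem_subgroupOf.2 (h.sylow_le_centralizer h.sylow_mem_rσ), rfl⟩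
    exact hL.not_mem _ rfl this.1
  have hTpos : 0 < Nat.card (commR t r) := Nat.card_pos
  have hD4 : Nat.card D = 4 * Nat.card (commR t r) := by
    obtain ⟨j, hj⟩ := h4D
    rw [hj, show 8 * Nat.card (commR t r) = 4 * Nat.card (commR t r) * 2 by ring] at hDdvd
    rcases (Nat.dvd_prime Nat.prime_two).1 ((Nat.mul_dvd_mul_iff_left (by positivity)).1 hDdvd) with e | e
    · rw [hj, e, mul_one]
    · exact absurd (by rw [hj, e, hI8]; ring) hne
  obtain ⟨F, _, _, hodd, h3, ⟨e⟩⟩ := hL.isPSL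
  have hFodd : Odd (Nat.card F) := by rwa [Nat.card_eq_fintype_card]
  have hcent : Nat.card D = Nat.card (centralizer ({e ⟨tb, htL⟩} : Set (PSL2.PSL2 F))) := by
    rw [← Cores.card_subgroupOf (inf_le_left : D ≤ L)]
    refine Nat.card_congr (e.toEquiv.subtypeEquiv fun x => ?_)
    rw [mem_subgroupOf, mem_inf, mem_centralizer_singleton_iff, mem_centralizer_singleton_iff]
    exact ⟨fun hx => ((show Commute x ⟨tb, htL⟩ from Subtype.ext hx.2).map e.toMonoidHom).eq,
      fun hx => ⟨x.2, congrArg Subtype.val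
        (e.injective (by rw [map_mul, map_mul]; exact hx) : x * ⟨tb, htL⟩ = ⟨tb, htL⟩ * x)⟩⟩
  obtain ⟨hc1, hc3⟩ := PSL2.card_centralizer_involution hFodd (x := e ⟨tb, htL⟩) (by rw [e.orderOf_eq, htbo])
  refine ⟨Nat.card F, ?_, by rw [Nat.card_eq_fintype_card]; exact h3, ?_⟩
  · have hq : Nat.card F % 2 = 1 := Nat.odd_iff.1 hFodd
    by_cases h4 : Nat.card F % 4 = 1
    · left; rw [← hD4, hcent, hc1 h4]; omega
    · right; rw [← hD4, hcent, hc3 (by omega)]
  · have hLc : 2 * Nat.card L = Nat.card F * (Nat.card F ^ 2 - 1) := by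
      rw [Nat.card_congr e.toEquiv]
      exact GLOrder.card_PSL_two_of_odd hFodd
    rw [← hLc, ← mul_assoc, mul_comm (Nat.card (coreW t r)) 2, mul_assoc]
    refine mul_dvd_mul_left 2 (dvd_trans ?_ (card_subgroup_dvd_card M))
    rw [h.card_bar hO, mul_comm]
    exact mul_dvd_mul_right (card_subgroup_dvd_card L) _

/-- A solvable group with dihedral Sylow subgroups of order 8 and trivial core does not have order 72. -/
theorem not_card_72 (h : DHyp n t r σ) {M : Subgroup G} (hle : closure ({σ, r} : Set G) ≤ M)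
    (hs : Group.IsSolvable M) : Nat.card (M ⧸ Cfsg.oddCore M) ≠ 72 := by
  intro h72
  haveI := Fact.mk Nat.prime_two
  haveI := Fact.mk Nat.prime_three
  haveI : Group.IsSolvable (M ⧸ Cfsg.oddCore M) :=
    Group.isSolvable_of_surjective (f := QuotientGroup.mk' (Cfsg.oddCore M)) (QuotientGroup.mk'_surjective _)
  set F := Cfsg.pCore 2 (M ⧸ Cfsg.oddCore M) with hF
  haveI hFn : F.Normal := Cores.pCore_normal 2 _
  have hFc := SylowLift.centralizer_pCore_le_of_solvable (Cores.pPrimeCore_quotient_self (p := 2) (G := M))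
  obtain ⟨T, ⟨eT⟩⟩ := h.exists_bar_sylow hle
  -- no element of order three centralises `F`
  have hno : ∀ x : M ⧸ Cfsg.oddCore M, orderOf x = 3 → x ∉ centralizer (F : Set (M ⧸ Cfsg.oddCore M)) := by
    intro x hx hxc
    obtain ⟨k, hk⟩ := Cores.isPGroup_pCore 2 (M ⧸ Cfsg.oddCore M) ⟨x, hFc hxc⟩
    have := orderOf_dvd_of_pow_eq_one (congrArg Subtype.val hk : x ^ 2 ^ k = 1)
    rw [hx] at this
    exact absurd (Nat.prime_three.dvd_of_dvd_pow this) (by norm_num)
  let j : F →* DihedralGroup (2 ^ (n - 1)) := eT.toMonoidHom.comp (inclusion (Cores.pCore_le_sylow T))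
  have hj : Function.Injective j := eT.injective.comp (inclusion_injective _)
  rcases Transfer.dihedral_subgroup_cases rfl j.range with h1 | h1
  · obtain ⟨x, hx⟩ := exists_prime_orderOf_dvd_card' (G := M ⧸ Cfsg.oddCore M) 3 (by rw [h72]; norm_num)
    refine hno x hx (Transfer.centralizes_of_isPGroup_mulAut
      (Transfer.isPGroup_mulAut_of_equiv (MonoidHom.ofInjective hj) h1) ?_ (by rw [hx]; norm_num))
    rw [normalizer_eq_top F]; exact mem_top x
  · haveI hFk : IsKleinFour F := Transfer.isKleinFour_congr (MonoidHom.ofInjective hj).symm h1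
    let ψ : (M ⧸ Cfsg.oddCore M) →* Equiv.Perm F :=
      (MulAction.toPermHom (MulAut F) F).comp (MulAut.conjNormal (H := F))
    have h9 : 9 ∣ Nat.card ψ.range := by
      have hmul := ψ.ker.index_mul_card
      rw [index_ker, h72] at hmul
      have hker : IsPGroup 2 ψ.ker := (Cores.isPGroup_pCore 2 (M ⧸ Cfsg.oddCore M)).to_le (fun x hx => hFc
        (mem_centralizer_iff.2 fun f hf => by
          have h2 := congrArg (fun p : Equiv.Perm F => ((p ⟨f, hf⟩ : F) : M ⧸ Cfsg.oddCore M))
            (MonoidHom.mem_ker.1 hx)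
          simp only [ψ, MonoidHom.comp_apply, Equiv.Perm.one_apply] at h2
          have h3 : x * f * x⁻¹ = f := h2
          exact (mul_inv_eq_iff_eq_mul.1 h3).symm))
      obtain ⟨i, hi⟩ := IsPGroup.iff_card.1 hker
      rw [hi] at hmul
      exact (Nat.Coprime.pow_right i (by norm_num : Nat.Coprime 9 2)).dvd_of_dvd_mul_right
        (hmul.symm ▸ (by norm_num : 9 ∣ 72))
    have h24 : Nat.card ψ.range ∣ 24 := by
      have := card_subgroup_dvd_card ψ.range
      rw [Nat.card_perm, hFk.card_four] at this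
      exact this
    exact absurd (h9.trans h24) (by norm_num)

end DHyp

/-- Section 3, end: `W₂ = 1` and `W ≠ 1` make `G` the alternating group of degree seven. -/
theorem a7_of_caseA [IsSimpleGroup G] (c : Ctx n t r σ) (hS : SideRot t r σ)
    (hb : coreW t (r * σ) = ⊥) (ha : coreW t r ≠ ⊥) : Nonempty (G ≃* alternatingGroup (Fin 7)) := by
  have h := c.hyp
  set M := normalizer (coreW t r : Set G) with hMdef
  have hM : M ≠ ⊤ := h.normalizer_coreW_ne_top ha
  have hC : centralizer ({t} : Set G) ≤ M := h.centralizer_le_normalizer_coreW hb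
  have hF : Fused t r M := h.fused_normalizer_coreW
  have hO : oddPart M = coreW t r := h.oddPart_normalizer_coreW hS hb
  have T := h.torusData c.proper hS hM hC hF
  obtain ⟨hn, hord⟩ := h.exists_order_data hb ha
  have hu := h.card_coreU_eq T
  by_cases hs : Group.IsSolvable M
  · -- then `U = W`
    have hle := h.sylow_le_of_centralizer_le hC
    have hUW : coreU t = coreW t r := le_antisymm (fun v hv => hO ▸
      h.mem_oddPart_of_solvable hs h.order_t (hle h.sylow_mem_t) (hC (GWKlein.coreU_le_centralizer t hv))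
        (h.odd_orderOf hv) (GWKlein.commute_of_mem_coreU hv)) inf_le_left
    rw [hUW] at hord
    rcases hord with ⟨ha3, hg⟩ | ⟨ha5, hg⟩
    · rw [ha3] at hg
      exact S0984.result (by omega)
    exfalso
    rw [ha5] at hg
    have hG : Nat.card G = 7560 := by omega
    have h40 : 40 ∣ Nat.card M := by
      have h1 : Nat.card (centralizer ({t} : Set G)) = 40 := by
        rw [h.card_centralizer, hUW, ha5, hn]; norm_num
      exact h1 ▸ card_dvd_of_le hC
    haveI := Fact.mk Nat.prime_five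
    let P : Sylow 5 G := Sylow.ofCard (coreW t r) (by
      rw [ha5, hG]
      have h1 : (7560 : ℕ).factorization 5 = 1 := by
        rw [show (7560 : ℕ) = 5 ^ 1 * 1512 by norm_num, Nat.factorization_mul (by norm_num) (by norm_num),
          Nat.factorization_pow, Finsupp.add_apply, Finsupp.smul_apply, Nat.prime_five.factorization_self,
          Nat.factorization_eq_zero_of_not_dvd (by norm_num : ¬ 5 ∣ 1512)]
        rfl
      rw [h1, pow_one])
    have hn5 : M.index % 5 = 1 := by
      have := card_sylow_modEq_one 5 G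
      rw [Sylow.card_eq_index_normalizer P] at this
      exact this
    have hmul := M.index_mul_card
    rw [hG] at hmul
    have hne : M.index ≠ 1 := fun e => hM (index_eq_one.1 e)
    obtain ⟨i, hi⟩ := h40
    have hdiv : M.index ∣ 189 := ⟨i, by rw [hi] at hmul; linarith⟩
    have h21 : M.index = 21 := by
      have hmem : M.index ∈ Nat.divisors 189 := Nat.mem_divisors.2 ⟨hdiv, by norm_num⟩
      rw [show Nat.divisors 189 = {1, 3, 7, 9, 21, 27, 63, 189} by decide] at hmem
      simp only [Finset.mem_insert, Finset.mem_singleton] at hmem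
      omega
    refine h.not_card_72 hle hs ?_
    have := h.card_bar hO
    rw [ha5] at this
    rw [h21] at hmul
    omega
  · obtain ⟨Q, hQT, hQ3, hQd⟩ := h.socle_arith c.proper hn T hM hC hF hO hs
    have hTo : Odd (Nat.card (commR t r)) := h.odd_coreU.of_dvd_nat (card_dvd_of_le h.commR_le_coreU)
    generalize Nat.card (commR t r) = τ at hQT hTo hu
    rw [hu] at hord
    have hcop : Nat.Coprime Q τ := Nat.coprime_of_dvd fun p hp hpQ hpT => by
      rcases hQT with e | e
      · rw [e] at hpQ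
        exact hp.not_dvd_one ((Nat.dvd_add_right (hpT.mul_left 4)).1 hpQ)
      · exact hp.not_dvd_one ((Nat.dvd_add_right hpQ).1 (e ▸ hpT.mul_left 4))
    have hQo : Nat.Coprime Q 16 := by
      refine (Nat.coprime_two_right.2 ?_).pow_right 4
      rw [Nat.odd_iff]; omega
    rcases hord with ⟨ha3, hg⟩ | ⟨ha5, hg⟩
    · rw [ha3] at hg hQd
      have hG : Nat.card G = 2520 * τ ^ 3 := by
        rw [show (τ * 3) ^ 3 = 27 * τ ^ 3 by ring] at hg; omega
      rw [hG] at hQd
      have hdiv : Q ∣ 315 := hQo.dvd_of_dvd_mul_left ((hcop.pow_right 3).dvd_of_dvd_mul_right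
        (show Q ∣ 16 * 315 * τ ^ 3 from (Dvd.intro _ rfl : Q ∣ Q * (Q ^ 2 - 1)).trans
          ((dvd_mul_left _ 3).trans (hQd.trans (dvd_of_eq (by ring))))))
      have hmem : Q ∈ Nat.divisors 315 := Nat.mem_divisors.2 ⟨hdiv, by norm_num⟩
      rw [show Nat.divisors 315 = {1, 3, 5, 7, 9, 15, 21, 35, 45, 63, 105, 315} by decide] at hmem
      simp only [Finset.mem_insert, Finset.mem_singleton] at hmem
      rw [Nat.odd_iff] at hTo
      have hτ : τ = 1 := by
        rcases hQT with e | e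
        · obtain rfl : τ = (Q - 1) / 4 := by omega
          rcases hmem with rfl | rfl | rfl | rfl | rfl | rfl | rfl | rfl | rfl | rfl | rfl | rfl <;>
            omega
        · obtain rfl : τ = (Q + 1) / 4 := by omega
          rcases hmem with rfl | rfl | rfl | rfl | rfl | rfl | rfl | rfl | rfl | rfl | rfl | rfl <;>
            omega
      subst hτ
      exact S0984.result (by omega)
    · exfalso
      rw [ha5] at hg hQd
      have hG : Nat.card G = 7560 * τ ^ 3 := by
        rw [show (τ * 5) ^ 3 = 125 * τ ^ 3 by ring] at hg; omega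
      rw [hG] at hQd
      have hdiv : Q ∣ 945 := hQo.dvd_of_dvd_mul_left ((hcop.pow_right 3).dvd_of_dvd_mul_right
        (show Q ∣ 16 * 945 * τ ^ 3 from (Dvd.intro _ rfl : Q ∣ Q * (Q ^ 2 - 1)).trans
          ((dvd_mul_left _ 5).trans (hQd.trans (dvd_of_eq (by ring))))))
      have hmem : Q ∈ Nat.divisors 945 := Nat.mem_divisors.2 ⟨hdiv, by norm_num⟩
      rw [show Nat.divisors 945 = {1, 3, 5, 7, 9, 15, 21, 27, 35, 45, 63, 105, 135, 189, 315, 945} by
        decide +kernel] at hmem
      simp only [Finset.mem_insert, Finset.mem_singleton] at hmem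
      rw [Nat.odd_iff] at hTo
      rcases hQT with e | e
      · obtain rfl : τ = (Q - 1) / 4 := by omega
        rcases hmem with rfl | rfl | rfl | rfl | rfl | rfl | rfl | rfl | rfl | rfl | rfl | rfl | rfl | rfl | rfl | rfl <;>
          omega
      · obtain rfl : τ = (Q + 1) / 4 := by omega
        rcases hmem with rfl | rfl | rfl | rfl | rfl | rfl | rfl | rfl | rfl | rfl | rfl | rfl | rfl | rfl | rfl | rfl <;>
          omega

end Cfsg.Agent.GWDihedral
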