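import Cfsg.Agent.Lib.GWDihedral.CaseATorus
import Cfsg.Agent.Lib.Coprime.Generation

/-!
# Gorenstein-Walter, dihedral Sylow subgroups: centralisers of the common elements of `W` and `W₂`

Second part of section 3 of `notes/gw_dihedral_eight.md`: for `c` of prime order in `W ∩ W₂` the elements of
`C_W(c)` inverted by `r * σ` are at most three.

* `DHyp.commute_of_mem_core` : `r * σ` centralises `O(C(c)) ∩ W`
* `DHyp.small_centralizer` : the statement
-/

set_option autoImplicit false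
set_option linter.unusedSectionVars false
set_option linter.style.haveILetI false

namespace Cfsg.Agent.GWDihedral

open Subgroup
open Cfsg.Agent.GWKlein (coreU coreW fourV oddPart)

universe u

variable {G : Type u} [Group G] [Finite G] {n : ℕ} {t r σ : G}

namespace DHyp

/-- `r * σ` centralises the odd core meet `W` of a subgroup fused on both four-groups. -/
theorem commute_of_mem_core (h : DHyp n t r σ) (hS : SideRot t r σ) {H : Subgroup G}
    (hle : closure ({σ, r} : Set G) ≤ H) (hF : Fused t r H) (hF2 : Fused t (r * σ) H)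
    (hn : r * σ ∈ normalizer (coreW t r : Set G)) {x : G} (hx : x ∈ oddPart H ⊓ coreW t r) :
    Commute x (r * σ) := by
  haveI := Fact.mk Nat.prime_two
  set S : Subgroup G := closure ({σ, r} : Set G) with hSdef
  set O := oddPart H with hO
  have hSO : S ≤ normalizer (O : Set G) := hle.trans (GWKlein.le_normalizer_oddPart H)
  have hOo : Odd (Nat.card O) := GWKlein.odd_card_oddPart H
  have hrW : r ∈ normalizer (coreW t r : Set G) := Coprime.mem_normalizer_of_forall fun w hw => by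
    rw [(h.mem_coreW.1 hw).2.1.symm.eq, mul_inv_cancel_right]
    exact hw
  have hSD : S ≤ normalizer ((O ⊓ coreW t r : Subgroup G) : Set G) := by
    refine (closure_le _).2 ?_
    have key : ∀ g, g ∈ normalizer (O : Set G) → g ∈ normalizer (coreW t r : Set G) →
        g ∈ normalizer ((O ⊓ coreW t r : Subgroup G) : Set G) := fun g h1 h2 =>
      Coprime.mem_normalizer_of_forall fun w hw =>
        ⟨(mem_normalizer_iff.1 h1 w).1 hw.1, (mem_normalizer_iff.1 h2 w).1 hw.2⟩
    rintro g (rfl | rfl)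
    · refine key _ (hSO h.sylow_mem_σ) ?_
      have := mul_mem (inv_mem hrW) hn
      rwa [inv_mul_cancel_left] at this
    · exact key _ (hSO h.sylow_mem_r) hrW
  suffices hD : O ⊓ coreW t r ≤ centralizer ({r * σ} : Set G) from mem_centralizer_singleton_iff.1 (hD hx)
  refine Coprime.le_of_invariant_sylow_le hSD (h.coprime_card h.isPGroup_sylow
    (hOo.of_dvd_nat (card_dvd_of_le inf_le_left))) (Or.inl (Coprime.isSolvable_of_isPGroup h.isPGroup_sylow))
    fun q Q hq hQD hQ hQS => ?_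
  haveI := Fact.mk hq
  by_cases hQ1 : Q = ⊥
  · rw [hQ1]; exact bot_le
  have hqa : q ∣ Nat.card (coreW t r) := by
    obtain ⟨k, hk⟩ := IsPGroup.iff_card.1 hQ
    have hk0 : k ≠ 0 := by
      rintro rfl
      exact hQ1 (card_eq_one.1 (by rw [hk, pow_zero]))
    exact ((hk ▸ dvd_pow_self q hk0 : q ∣ Nat.card Q)).trans (card_dvd_of_le (hQD.trans inf_le_right))
  -- an invariant Sylow subgroup of the core is centralised by the first four-group
  obtain ⟨Y, -, hYO, hYS, hYp, hYc⟩ := h.exists_invariant_sylow h.isPGroup_sylow hOo hSO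
    (bot_le : (⊥ : Subgroup G) ≤ O) (IsPGroup.of_bot (p := q))
    (fun g _ => Coprime.mem_normalizer_of_forall fun w hw => by
      rw [mem_bot] at hw ⊢
      rw [hw, mul_one, mul_inv_cancel])
  have hYt : Y ≤ centralizer ({t} : Set G) := fun y hy =>
    mem_centralizer_singleton_iff.2 (mem_centralizer_iff.1
      (h.central_of_rot hS hqa (h.fourV_le_sylow.trans hle) hF hYp hYO (h.fourV_le_sylow.trans hYS)
        (GWKlein.left_mem_fourV t r)) y hy)
  have hV2S : fourV t (r * σ) ≤ S := GWKlein.fourV_le_iff.2 ⟨h.sylow_mem_t, h.sylow_mem_rσ⟩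
  obtain ⟨X, m, -, hm, hmX, hQX, hXO, hXV, hXp, -⟩ := h.swap.exists_invariant_rot hOo (GWKlein.oddPart_le H)
    (GWKlein.le_normalizer_oddPart H) (hV2S.trans hle) hF2 (hQD.trans inf_le_left) hQ (hV2S.trans hQS)
  have hXt : X ≤ centralizer ({t} : Set G) :=
    h.swap.le_centralizer_of_sylow hOo (hV2S.trans hSO) hYO (hV2S.trans hYS) hYc hYt hXO hXp hXV
  intro y hy
  have hy' : m⁻¹ * y * m ∈ X := by
    have := (mem_normalizer_iff.1 (inv_mem hmX) y).1 (hQX hy)
    rwa [inv_inv] at this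
  have := (show Commute (m⁻¹ * y * m) t from mem_centralizer_singleton_iff.1 (hXt hy')).map
    (MulAut.conj m).toMonoidHom
  simp only [MulEquiv.coe_toMonoidHom, MulAut.conj_apply, hm.1] at this
  rw [show m * (m⁻¹ * y * m) * m⁻¹ = y by group] at this
  exact mem_centralizer_singleton_iff.2 this.eq

theorem centralizer_ne_top_caseA [IsSimpleGroup G] (h : DHyp n t r σ) {c : G} (hc : c ≠ 1) :
    centralizer ({c} : Set G) ≠ ⊤ := by
  intro e
  have hcZ : c ∈ center G := mem_center_iff.2 fun g =>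
    mem_centralizer_singleton_iff.1 (e ▸ mem_top g : g ∈ centralizer ({c} : Set G))
  rcases (inferInstance : (center G).Normal).eq_bot_or_eq_top with h1 | h1
  · exact hc (by rwa [h1, mem_bot] at hcZ)
  · have h2 : Commute r σ := (mem_center_iff.1 (h1 ▸ mem_top σ : σ ∈ center G) r)
    have e1 := h.conj_σ
    rw [h2.eq, mul_inv_cancel_right] at e1
    have h3 := Nat.le_of_dvd two_pos (orderOf_dvd_of_pow_eq_one (x := σ) (n := 2)
      (by rw [sq]; nth_rewrite 1 [e1]; exact inv_mul_cancel σ))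
    have := h.four_le_order
    omega

/-- (L): at most three elements of `C_W(c)` are inverted by `r * σ`. -/
theorem small_centralizer [IsSimpleGroup G] (h : DHyp n t r σ) (hP : ProperGWLike G) (hS : SideRot t r σ)
    (h1 : PrimePowFused t r) (h2 : PrimePowFused t (r * σ)) (hn : r * σ ∈ normalizer (coreW t r : Set G))
    {c : G} (hc : c ∈ coreW t r) (hc2 : Commute c (r * σ)) (hcp : (orderOf c).Prime) :
    ∀ e ∈ coreW t r, Commute e c → r * σ * e * (r * σ)⁻¹ = e⁻¹ → e ≠ 1 → e ^ 3 = 1 ∧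
      ∀ e' ∈ coreW t r, Commute e' c → r * σ * e' * (r * σ)⁻¹ = e'⁻¹ → e' ∈ zpowers e := by
  haveI := Fact.mk Nat.prime_two
  obtain ⟨hct, hcr, hco⟩ := h.mem_coreW.1 hc
  set H := centralizer ({c} : Set G) with hHdef
  have hmem : ∀ g, g ∈ H ↔ Commute g c := fun g => mem_centralizer_singleton_iff
  have hle : closure ({σ, r} : Set G) ≤ H := by
    refine (closure_le _).2 ?_
    rintro g (rfl | rfl)
    · refine (hmem _).2 ?_
      have := hcr.inv_right.mul_right hc2
      rw [inv_mul_cancel_left] at this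
      exact this.symm
    · exact (hmem _).2 hcr.symm
  have hHne : H ≠ ⊤ := h.centralizer_ne_top_caseA fun e => hcp.ne_one (by rw [e, orderOf_one])
  have hF : Fused t r H := by
    obtain ⟨s, hs, hsc⟩ := h1 c hc hcp.isPrimePow
    exact ⟨s, (hmem s).2 hsc, hs⟩
  have hF2 : Fused t (r * σ) H := by
    obtain ⟨s, hs, hsc⟩ := h2 c (h.swap.mem_coreW.2 ⟨hct, hc2, hco⟩) hcp.isPrimePow
    exact ⟨s, (hmem s).2 hsc, hs⟩
  -- an inverted element in the core is trivial
  have hcore : ∀ e ∈ coreW t r, r * σ * e * (r * σ)⁻¹ = e⁻¹ → e ∈ oddPart H → e = 1 := by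
    intro e he hei heO
    exact eq_one_of_inverted_commute (h.mem_coreW.1 he).2.2 hei
      (h.commute_of_mem_core hS hle hF hF2 hn ⟨heO, he⟩).symm
  have htH : t ∈ H := hle h.sylow_mem_t
  by_cases hs : Group.IsSolvable H
  · intro e he hec hei he1
    exact absurd (hcore e he hei (h.mem_oddPart_of_solvable hs h.order_t htH ((hmem e).2 hec)
      (h.mem_coreW.1 he).2.2 (h.mem_coreW.1 he).1)) he1
  have hW : IsGWLike H := hP H hHne hs
  have hor := h.inSocle_fourV_or hW hle
  obtain ⟨L, hLn, -, hL'⟩ := hW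
  have hL : Socle L := hL'
  haveI := hLn
  set π := QuotientGroup.mk' (Cfsg.oddCore H) with hπ
  have htL : π ⟨t, htH⟩ ∈ L := by
    rcases hor with hV | hV
    · exact Local.mem_of_inSocle hL hV (x := ⟨t, htH⟩) (GWKlein.left_mem_fourV t r)
    · exact Local.mem_of_inSocle hL hV (x := ⟨t, htH⟩) (GWKlein.left_mem_fourV t (r * σ))
  have hrot : ∀ w (hw : w ∈ H), Fused t w H → π ⟨w, hw⟩ ∈ L := by
    rintro w hw ⟨s, hsH, hs, -⟩
    rw [show (⟨w, hw⟩ : H) = ⟨s, hsH⟩ * ⟨t, htH⟩ * ⟨s, hsH⟩⁻¹ from Subtype.ext hs.symm, map_mul, map_mul,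
      map_inv]
    exact hLn.conj_mem _ htL _
  have hrL := hrot r (hle h.sylow_mem_r) hF
  have hr2L := hrot (r * σ) (hle h.sylow_mem_rσ) hF2
  set tb : L := ⟨_, htL⟩ with htb
  set rb : L := ⟨_, hrL⟩ with hrb
  have hto : orderOf tb = 2 := by
    rw [htb, Subgroup.orderOf_mk]; exact Local.orderOf_bar (by rw [Subgroup.orderOf_mk, h.order_t])
  have hro : orderOf rb = 2 := by
    rw [hrb, Subgroup.orderOf_mk]; exact Local.orderOf_bar (by rw [Subgroup.orderOf_mk, h.order_r])
  have htr : tb ≠ rb := by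
    intro e
    have h1 := Local.eq_one_of_bar (H := H) (x := ⟨t, htH⟩⁻¹ * ⟨r, hle h.sylow_mem_r⟩) (k := 1) (Subtype.ext ?_)
      (by rw [map_mul, map_inv]; exact inv_mul_eq_one.2 (congrArg Subtype.val e))
    · exact h.ne (congrArg Subtype.val (inv_mul_eq_one.1 h1))
    · show (t⁻¹ * r) ^ 2 ^ 1 = (1 : G)
      rw [pow_one, h.comm_t_r.inv_left.mul_pow, inv_pow, Local.sq_eq_one h.order_t, inv_one, one_mul,
        Local.sq_eq_one h.order_r]
  have htrc : Commute tb rb := Subtype.ext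
    ((show Commute (⟨t, htH⟩ : H) ⟨r, hle h.sylow_mem_r⟩ from Subtype.ext h.comm_t_r.eq).map π).eq
  -- the inverted elements map into the socle
  have himg : ∀ e ∈ coreW t r, ∀ hec : Commute e c, r * σ * e * (r * σ)⁻¹ = e⁻¹ →
      ∃ z : L, (z : H ⧸ Cfsg.oddCore H) = π ⟨e, (hmem e).2 hec⟩ ∧ Odd (orderOf z) ∧ Commute z tb ∧
        Commute z rb := by
    intro e he hec hei
    obtain ⟨het, her, heo⟩ := h.mem_coreW.1 he
    set E : H := ⟨e, (hmem e).2 hec⟩ with hE
    set R : H := ⟨r * σ, hle h.sylow_mem_rσ⟩ with hR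
    have hsq : π (E ^ 2) ∈ L := by
      have : E ^ 2 = E * R * E⁻¹ * R⁻¹ := Subtype.ext (by
        show e ^ 2 = e * (r * σ) * e⁻¹ * (r * σ)⁻¹
        rw [show e * (r * σ) * e⁻¹ * (r * σ)⁻¹ = e * (r * σ * e * (r * σ)⁻¹)⁻¹ by group, hei, inv_inv, pow_two])
      rw [this, map_mul, map_mul, map_mul, map_inv, map_inv]
      exact mul_mem (hLn.conj_mem _ hr2L _) (inv_mem hr2L)
    have hEo : Odd (orderOf E) := by rwa [Subgroup.orderOf_mk]
    obtain ⟨k, hk⟩ := hEo
    have hEL : π E ∈ L := by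
      rw [show E = (E ^ 2) ^ (k + 1) by
        rw [← pow_mul, show 2 * (k + 1) = orderOf E + 1 by omega, pow_succ, pow_orderOf_eq_one, one_mul],
        map_pow]
      exact pow_mem hsq _
    refine ⟨⟨_, hEL⟩, rfl, ?_, Subtype.ext ?_, Subtype.ext ?_⟩
    · rw [Subgroup.orderOf_mk]
      exact (show Odd (orderOf E) from ⟨k, hk⟩).of_dvd_nat (orderOf_map_dvd π E)
    · exact ((show Commute E ⟨t, htH⟩ from Subtype.ext het.eq).map π).eq
    · exact ((show Commute E ⟨r, hle h.sylow_mem_r⟩ from Subtype.ext her.eq).map π).eq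
  intro e he hec hei he1
  obtain ⟨z, hz, hzo, hzt, hzr⟩ := himg e he hec hei
  have hz1 : z ≠ 1 := fun e0 => he1 (hcore e he hei ((Local.bar_eq_one (x := ⟨e, (hmem e).2 hec⟩)).1
    (by rw [← hz, e0]; rfl)))
  rcases hL with hF' | ⟨⟨ι⟩⟩
  · exact absurd (CaseA.IsPSL.eq_one_of_klein hF' hto hro htr htrc hzo hzt hzr) hz1
  obtain ⟨hz3, hzall⟩ := CaseA.alt_seven_small (u := ι tb) (z := ι z) (by rw [ι.orderOf_eq, hto])
    (fun e0 => hz1 (ι.injective (e0.trans (map_one ι).symm))) (by rwa [ι.orderOf_eq]) (hzt.map ι.toMonoidHom)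
  have hz3' : z ^ 3 = 1 := ι.injective (by rw [map_pow, hz3, map_one])
  have hpow : ∀ i : ℤ, r * σ * e ^ i * (r * σ)⁻¹ = (e ^ i)⁻¹ := fun i => by
    rw [← conj_zpow, hei, inv_zpow]
  refine ⟨?_, fun e' he' hec' hei' => ?_⟩
  · refine hcore _ (pow_mem he 3) (by have := hpow 3; simpa using this) ?_
    refine (Local.bar_eq_one (x := ⟨e, (hmem e).2 hec⟩ ^ 3)).1 ?_
    rw [map_pow, ← hz, ← Subgroup.coe_pow, hz3']
    rfl
  obtain ⟨z', hz', hzo', hzt', -⟩ := himg e' he' hec' hei'
  obtain ⟨j, hj⟩ := mem_zpowers_iff.1 (hzall (ι z') (by rwa [ι.orderOf_eq]) (hzt'.map ι.toMonoidHom))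
  rw [← map_zpow] at hj
  have hjz : z ^ j = z' := ι.injective hj
  set f := e ^ j with hf
  have hd : f⁻¹ * e' ∈ oddPart H := by
    refine (Local.bar_eq_one (x := (⟨e, (hmem e).2 hec⟩ ^ j)⁻¹ * ⟨e', (hmem e').2 hec'⟩)).1 ?_
    rw [map_mul, map_inv, map_zpow, ← hz, ← hz', ← hjz, Subgroup.coe_zpow, inv_mul_cancel]
  have hfW : f ∈ coreW t r := (coreW t r).zpow_mem he j
  have hdfix := h.commute_of_mem_core hS hle hF hF2 hn ⟨hd, (coreW t r).mul_mem ((coreW t r).inv_mem hfW) he'⟩
  set d := f⁻¹ * e' with hddef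
  have he'd : e' = f * d := (mul_inv_cancel_left f e').symm
  -- `f` inverts `d`
  have hinv : f⁻¹ * d * f = d⁻¹ := by
    rw [he'd, show r * σ * (f * d) * (r * σ)⁻¹ = (r * σ * f * (r * σ)⁻¹) * (r * σ * d * (r * σ)⁻¹) by group,
      hpow j, hdfix.symm.eq, mul_inv_cancel_right, mul_inv_rev] at hei'
    rw [hei', inv_mul_cancel_right]
  have hcm : Commute f d := by
    have h2 : Commute (f * f) d := by
      have e2 : f⁻¹ * d⁻¹ * f = d := by
        have := congrArg (·⁻¹) hinv
        simpa [mul_assoc] using this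
      show f * f * d = d * (f * f)
      calc f * f * d = f * f * (f⁻¹ * (f⁻¹ * d * f) * f) := by rw [hinv, e2]
        _ = d * (f * f) := by group
    obtain ⟨k, hk⟩ := (h.mem_coreW.1 hfW).2.2
    rw [show f = (f * f) ^ (k + 1) by
      rw [← pow_two, ← pow_mul, show 2 * (k + 1) = orderOf f + 1 by omega, pow_succ, pow_orderOf_eq_one, one_mul]]
    exact h2.pow_left _
  have hd1 : d = 1 := by
    have hdo : Odd (orderOf d) := (h.mem_coreW.1 (mul_mem (inv_mem hfW) he')).2.2
    refine eq_one_of_inverted_commute (u := 1) hdo ?_ (Commute.one_left d)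
    rw [one_mul, inv_one, mul_one, ← hinv, mul_assoc, hcm.symm.eq, inv_mul_cancel_left]
  rw [he'd, hd1, mul_one, hf]
  exact zpow_mem (mem_zpowers e) j

end DHyp

end Cfsg.Agent.GWDihedral
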