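import Cfsg.Agent.Lib.GWDihedral.SocleFacts
import Cfsg.Agent.Lib.GWCons.InvolAut
import Cfsg.Agent.Lib.GWCons.SmallAut

/-!
# Gorenstein-Walter, dihedral Sylow subgroups: the odd part of the centraliser of an involution of a socle

For section 3 of `notes/gw_dihedral_eight.md`.

* `eq_one_of_klein`, `exists_torus`, `inverted` : in `PSL(2,q)` the odd elements commuting with an involution
  form a cyclic group inverted by the other involutions commuting with it
* `eq_one_of_outer` : an involutory automorphism without fixed four-group fixes none of them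
* `alt_seven_small` : in `A7` they are at most three
-/

set_option autoImplicit false
set_option linter.unusedSectionVars false
set_option linter.style.haveILetI false

namespace Cfsg.Agent.GWDihedral.CaseA

open Subgroup Matrix
open Cfsg.Agent.PSL2
open Cfsg.Agent.GWCons (NoKlein)
open Cfsg.Agent.AutPSL (semi semi_proj semi_refl_mul semi_eq_one_iff proj)

universe v

theorem three_le_of_odd {G : Type*} [Group G] {z : G} (h1 : z ≠ 1) (ho : Odd (orderOf z)) : 3 ≤ orderOf z := by
  have h : orderOf z ≠ 1 := fun e => h1 (orderOf_eq_one_iff.1 e)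
  obtain ⟨j, hj⟩ := ho
  omega

/-- `L` is `PSL(2,q)` with `q > 3` odd. -/
def IsPSL (L : Type v) [Group L] : Prop :=
  ∃ (F : Type) (_ : Field F) (_ : Fintype F), Odd (Fintype.card F) ∧ 3 < Fintype.card F ∧
    Nonempty (L ≃* Matrix.ProjectiveSpecialLinearGroup (Fin 2) F)

section Field

variable {F : Type*} [Field F] [Finite F]

theorem exists_trZero (h2 : (2 : F) ≠ 0) {t : PSL2.PSL2 F} (ht : orderOf t = 2) :
    ∃ T : SL2 F, (QuotientGroup.mk T : PSL2.PSL2 F) = t ∧ tr T = 0 ∧ T ∉ center (SL2 F) := by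
  obtain ⟨T, hT, h0⟩ := exists_lift_involution h2 (Involution.ne_one ht) (Involution.mul_self ht)
  refine ⟨T, hT, h0, fun hc => Involution.ne_one ht ?_⟩
  rw [← hT]
  exact (QuotientGroup.eq_one_iff T).2 hc

theorem psl_eq_one_of_klein (h2 : (2 : F) ≠ 0) {t i z : PSL2.PSL2 F} (ht : orderOf t = 2)
    (hi : orderOf i = 2) (hne : t ≠ i) (hc : Commute t i) (hz : Odd (orderOf z)) (hzt : Commute z t)
    (hzi : Commute z i) : z = 1 := by
  by_contra hz1
  have h3 := three_le_of_odd hz1 hz
  obtain ⟨A, B, rfl, rfl, -, -, hAB⟩ := exists_lift_pair h2 (Involution.ne_one ht) (Involution.ne_one hi)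
    (Involution.mul_self ht) (Involution.mul_self hi) hc.eq hne
  obtain ⟨Z, rfl⟩ := QuotientGroup.mk_surjective z
  have hnc : Z ∉ center (SL2 F) := fun e => hz1 ((QuotientGroup.eq_one_iff Z).2 e)
  have hcom := commute_of_commute hnc (commute_lift hzt.symm.eq h3) (commute_lift hzi.symm.eq h3)
  rw [hcom.eq] at hAB
  have h0 : (2 : F) • (B * A).1 = 0 := by
    rw [two_smul]
    nth_rewrite 1 [hAB]
    rw [Matrix.SpecialLinearGroup.coe_neg, neg_add_cancel]
  have hd := (B * A).2
  rw [(smul_eq_zero.1 h0).resolve_left h2, Matrix.det_zero] at hd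
  exact zero_ne_one hd

theorem psl_exists_torus (hodd : Odd (Nat.card F)) {t : PSL2.PSL2 F} (ht : orderOf t = 2) :
    ∃ y : PSL2.PSL2 F, ∀ z, Odd (orderOf z) → Commute z t → z ∈ zpowers y := by
  have h2 : (2 : F) ≠ 0 := two_ne_zero_iff_odd.2 hodd
  by_cases hall : ∀ z : PSL2.PSL2 F, Odd (orderOf z) → Commute z t → z = 1
  · exact ⟨1, fun z hz hzt => by rw [hall z hz hzt]; exact one_mem _⟩
  push Not at hall
  obtain ⟨z₀, hz₀, hz₀t, hz₀1⟩ := hall
  have h3 := three_le_of_odd hz₀1 hz₀
  obtain ⟨p, hp⟩ := CharP.exists F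
  have : Fact p.Prime := ⟨CharP.char_is_prime F p⟩
  have hnd : ¬ orderOf z₀ ∣ p := by
    intro hd
    have he : orderOf z₀ = p := ((Nat.dvd_prime (Fact.out : p.Prime)).1 hd).resolve_left fun e => by omega
    have hc := card_centralizer_char p he
    have h2d : 2 ∣ Nat.card (centralizer ({z₀} : Set (PSL2.PSL2 F))) :=
      ht.symm.dvd.trans (Subgroup.orderOf_dvd_natCard _ (mem_centralizer_singleton_iff.2 hz₀t.symm.eq))
    rw [hc] at h2d
    exact Nat.not_even_iff_odd.2 hodd (even_iff_two_dvd.2 h2d)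
  obtain ⟨y, -, hy, -⟩ := centralizer_torus p hnd h3
  refine ⟨y, fun z hz hzt => hy ▸ mem_centralizer_singleton_iff.2 ?_⟩
  by_cases hz1 : z = 1
  · rw [hz1, one_mul, mul_one]
  obtain ⟨T, rfl, -, hTc⟩ := exists_trZero h2 ht
  obtain ⟨Z, rfl⟩ := QuotientGroup.mk_surjective z
  obtain ⟨Z₀, rfl⟩ := QuotientGroup.mk_surjective z₀
  have h := (commute_of_commute hTc (commute_lift hzt.symm.eq (three_le_of_odd hz1 hz)).symm
    (commute_lift hz₀t.symm.eq h3).symm).map (QuotientGroup.mk' (center (SL2 F)))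
  exact h.eq

theorem psl_eq_one_of_outer (hodd : Odd (Nat.card F)) (hq : 5 ≤ Nat.card F) {α : MulAut (PSL2.PSL2 F)}
    (hα : α * α = 1) (hK : NoKlein α) {t z : PSL2.PSL2 F} (ht : orderOf t = 2)
    (hz : Odd (orderOf z)) (hzt : Commute z t) (hαz : α z = z) : z = 1 := by
  by_contra hz1
  have h2 : (2 : F) ≠ 0 := two_ne_zero_iff_odd.2 hodd
  obtain ⟨g, rfl, hns, -⟩ := GWCons.outer_of_noKlein hodd hq hα hK
  rw [semi_refl_mul, semi_eq_one_iff, GeneralLinearGroup.center_eq_range_scalar] at hα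
  obtain ⟨l, hl⟩ := hα.2
  set M : Matrix (Fin 2) (Fin 2) F := (g : Matrix (Fin (0 + 2)) (Fin (0 + 2)) F) with hM
  have hMM : M * M = (l : F) • 1 := by
    have := congrArg (fun z : GL (Fin (0 + 2)) F => (z : Matrix (Fin (0 + 2)) (Fin (0 + 2)) F)) hl
    simp only [GeneralLinearGroup.coe_scalar, Units.val_mul] at this
    rw [smul_one_eq_diagonal]
    exact this.symm
  have h3 := three_le_of_odd hz1 hz
  obtain ⟨T, rfl, hT0, hTc⟩ := exists_trZero h2 ht
  obtain ⟨Z, rfl⟩ := QuotientGroup.mk_surjective z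
  have hnc : Z ∉ center (SL2 F) := fun e => hz1 ((QuotientGroup.eq_one_iff Z).2 e)
  set Z' := AutPSL.semiSL g (RingEquiv.refl F) Z with hZ'def
  have hcoe : Z'.1 = M * Z.1 * ((g⁻¹ : GL (Fin (0 + 2)) F) : Matrix (Fin 2) (Fin 2) F) := by
    rw [hZ'def, AutPSL.semiSL_coe]
    simp [M]
  have hinv : ((g⁻¹ : GL (Fin (0 + 2)) F) : Matrix (Fin 2) (Fin 2) F) * M = 1 := g.inv_mul
  have hgz : M * Z.1 = Z.1 * M := by
    have e : (QuotientGroup.mk Z' : PSL2.PSL2 F) = QuotientGroup.mk Z := by
      exact (semi_proj g _ Z).symm.trans hαz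
    rcases mk_eq_mk_iff.1 e with e1 | e1 <;> have e2 := congrArg (fun s : SL2 F => s.1) e1
    · rw [hcoe] at e2
      conv_rhs => rw [← e2, Matrix.mul_assoc (M * Z.1), hinv, Matrix.mul_one]
    · -- then the trace of `Z` vanishes
      exfalso
      have htr : tr Z' = tr Z := by
        rw [tr_eq_trace, tr_eq_trace, hcoe, Matrix.trace_mul_cycle, hinv, Matrix.one_mul]
      rw [e1, tr_neg] at htr
      have h0 : tr Z = 0 :=
        (mul_eq_zero.1 (show (2 : F) * tr Z = 0 by linear_combination -htr)).resolve_left h2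
      have hsq : (QuotientGroup.mk Z : PSL2.PSL2 F) ^ 2 = 1 := by
        rw [pow_two, ← QuotientGroup.mk_mul]
        exact mk_eq_one_iff.2 (Or.inr (sq_eq_neg_one_of_tr_zero h0))
      have := Nat.le_of_dvd two_pos (orderOf_dvd_of_pow_eq_one hsq)
      omega
  obtain ⟨a, b, hab⟩ := exists_lin_of_commute hnc hgz
  obtain ⟨c, d, hcd⟩ := exists_lin_of_commute hnc
    (congrArg Subtype.val (commute_lift hzt.symm.eq h3).eq)
  have hgT : M * T.1 = T.1 * M := by rw [hab, hcd, (lin_commute Z a b c d).eq]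
  obtain ⟨x, y, hxy⟩ := exists_lin_of_commute hTc hgT
  have hsq : lin T (x * x - y * y) (x * y + y * x + y * y * tr T) = lin T (l : F) 0 := by
    rw [← lin_mul_lin, ← hxy, hMM]
    simp [lin]
  obtain ⟨-, he⟩ := lin_inj hTc hsq
  rw [hT0, mul_zero, add_zero] at he
  have hdet : M.det = x ^ 2 + y ^ 2 := by rw [hxy, det_lin, hT0, zero_mul, zero_mul, add_zero]
  rcases mul_eq_zero.1 (show x * y = 0 from
    (mul_eq_zero.1 (show (2 : F) * (x * y) = 0 by linear_combination he)).resolve_left h2) with rfl | rfl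
  · exact hns ⟨y, by show M.det = y * y; rw [hdet]; ring⟩
  · exact hns ⟨x, by show M.det = x * x; rw [hdet]; ring⟩

end Field

variable {L : Type v} [Group L]

theorem IsPSL.socle (hL : IsPSL L) : Socle L := Or.inl hL

/-- No element of odd order centralises a four-group. -/
theorem IsPSL.eq_one_of_klein (hL : IsPSL L) {t i z : L} (ht : orderOf t = 2) (hi : orderOf i = 2)
    (hne : t ≠ i) (hc : Commute t i) (hz : Odd (orderOf z)) (hzt : Commute z t) (hzi : Commute z i) : z = 1 := by
  obtain ⟨F, _, _, hodd, -, ⟨e⟩⟩ := hL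
  refine e.injective ((psl_eq_one_of_klein (two_ne_zero_iff_odd.2 (by rwa [Nat.card_eq_fintype_card]))
    (t := e t) (i := e i) ?_ ?_ (fun h => hne (e.injective h)) (hc.map e.toMonoidHom) ?_
    (hzt.map e.toMonoidHom) (hzi.map e.toMonoidHom)).trans (map_one e).symm)
  · rw [e.orderOf_eq, ht]
  · rw [e.orderOf_eq, hi]
  · show Odd (orderOf (e z))
    rwa [e.orderOf_eq]

/-- The odd elements commuting with an involution lie in a cyclic group. -/
theorem IsPSL.exists_torus (hL : IsPSL L) {t : L} (ht : orderOf t = 2) :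
    ∃ y : L, ∀ z, Odd (orderOf z) → Commute z t → z ∈ zpowers y := by
  obtain ⟨F, _, _, hodd, -, ⟨e⟩⟩ := hL
  obtain ⟨y, hy⟩ := psl_exists_torus (by rwa [Nat.card_eq_fintype_card]) (t := e t) (by rw [e.orderOf_eq, ht])
  refine ⟨e.symm y, fun z hz hzt => ?_⟩
  obtain ⟨k, hk⟩ := mem_zpowers_iff.1 (hy (e z) (by rwa [e.orderOf_eq]) (hzt.map e.toMonoidHom))
  exact mem_zpowers_iff.2 ⟨k, by rw [← map_zpow, hk, e.symm_apply_apply]⟩

/-- An involution commuting with another one inverts the odd elements commuting with that one. -/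
theorem IsPSL.inverted (hL : IsPSL L) {t i z : L} (ht : orderOf t = 2) (hi : orderOf i = 2)
    (hne : t ≠ i) (hc : Commute t i) (hz : Odd (orderOf z)) (hzt : Commute z t) : i * z * i⁻¹ = z⁻¹ := by
  obtain ⟨y, hy⟩ := hL.exists_torus ht
  set z' := i * z * i⁻¹
  have hz' : Odd (orderOf z') := by rwa [Involution.orderOf_conj]
  have hz't : Commute z' t := (hc.symm.mul_left hzt).mul_left hc.symm.inv_left
  have hzz' : Commute z' z := by
    obtain ⟨j, hj⟩ := mem_zpowers_iff.1 (hy z' hz' hz't)
    obtain ⟨k, hk⟩ := mem_zpowers_iff.1 (hy z hz hzt)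
    rw [← hj, ← hk]
    exact ((Commute.refl y).zpow_left j).zpow_right k
  have hii : i * i = 1 := Involution.mul_self hi
  refine eq_inv_of_mul_eq_one_left (hL.eq_one_of_klein ht hi hne hc ?_ (hz't.mul_left hzt) ?_)
  · exact (hz'.mul hz).of_dvd_nat hzz'.orderOf_mul_dvd_mul_orderOf
  · refine (show Commute i (z' * z) from ?_).symm
    refine mul_inv_eq_iff_eq_mul.1 ?_
    calc i * (z' * z) * i⁻¹ = (i * i) * z * (i * i)⁻¹ * z' := by simp only [z']; group
      _ = z' * z := by rw [hii, one_mul, inv_one, mul_one, hzz'.eq]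

theorem noKlein_false_altSeven (e : L ≃* alternatingGroup (Fin 7)) {α : MulAut L} (hα : α * α = 1)
    (hK : NoKlein α) : False := by
  obtain ⟨x, y, hx, hy, x2, y2, hxy, x1, y1, hne⟩ :=
    GWCons.altSeven_klein (MulAut.congr e α) (by rw [← map_mul, hα, map_one])
  have hfix : ∀ w, (MulAut.congr e α) w = w → α (e.symm w) = e.symm w := fun w hw => e.injective (by
    rw [e.apply_symm_apply]; exact hw)
  have hne1 : ∀ w, w ≠ 1 → e.symm w ≠ 1 := fun w hw h => hw (e.symm.injective (h.trans (map_one e.symm).symm))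
  exact hne (e.symm.injective (hK _ _ (hfix x hx) (hfix y hy) (by rw [← map_mul, x2, map_one])
    (by rw [← map_mul, y2, map_one]) (by rw [← map_mul, hxy, map_mul]) (hne1 x x1) (hne1 y y1)))

/-- An involutory automorphism without fixed four-group only exists on `PSL(2,q)`. -/
theorem isPSL_of_noKlein (hL : Socle L) {α : MulAut L} (hα : α * α = 1) (hK : NoKlein α) : IsPSL L := by
  rcases hL with h | ⟨⟨e⟩⟩
  · exact h
  · exact (noKlein_false_altSeven e hα hK).elim

/-- It fixes no odd element commuting with an involution. -/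
theorem IsPSL.eq_one_of_outer (hL : IsPSL L) {α : MulAut L} (hα : α * α = 1) (hK : NoKlein α) {t z : L}
    (ht : orderOf t = 2) (hz : Odd (orderOf z)) (hzt : Commute z t) (hαz : α z = z) : z = 1 := by
  obtain ⟨F, _, _, hodd, h3, ⟨e⟩⟩ := hL
  have hK' : NoKlein (MulAut.congr e α) := by
    intro x y hx hy x2 y2 hxy x1 y1
    have hfix : ∀ w, (MulAut.congr e α) w = w → α (e.symm w) = e.symm w := fun w hw => e.injective (by
      rw [e.apply_symm_apply]; exact hw)
    have hne1 : ∀ w, w ≠ 1 → e.symm w ≠ 1 := fun w hw h =>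
      hw (e.symm.injective (h.trans (map_one e.symm).symm))
    exact e.symm.injective (hK _ _ (hfix x hx) (hfix y hy) (by rw [← map_mul, x2, map_one])
      (by rw [← map_mul, y2, map_one]) (by rw [← map_mul, hxy, map_mul]) (hne1 x x1) (hne1 y y1))
  have hq : 5 ≤ Nat.card F := by
    rw [Nat.card_eq_fintype_card]
    obtain ⟨k, hk⟩ := hodd
    omega
  refine e.injective ((psl_eq_one_of_outer (by rwa [Nat.card_eq_fintype_card]) hq
    (by rw [← map_mul, hα, map_one]) hK' (t := e t) ?_ ?_ (hzt.map e.toMonoidHom) ?_).trans (map_one e).symm)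
  · rw [e.orderOf_eq, ht]
  · show Odd (orderOf (e z))
    rwa [e.orderOf_eq]
  · show e (α (e.symm (e z))) = e z
    rw [e.symm_apply_apply, hαz]

section Seven

open Equiv Equiv.Perm

/-- The odd elements of the centraliser of an involution of `A7` are the three of a cyclic group. -/
theorem alt_seven_small {u z : alternatingGroup (Fin 7)} (hu : orderOf u = 2) (hz1 : z ≠ 1)
    (hz : Odd (orderOf z)) (hzu : Commute z u) :
    z ^ 3 = 1 ∧ ∀ z' : alternatingGroup (Fin 7), Odd (orderOf z') → Commute z' u → z' ∈ zpowers z := by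
  classical
  obtain ⟨-, hu4⟩ := Socle.card_support_involution hu
  set u' := (u : Perm (Fin 7))
  have hu2 : u' * u' = 1 := congrArg Subtype.val (Involution.mul_self hu)
  let p : Fin 7 → Prop := fun x => x ∉ u'.support
  have key : ∀ a : alternatingGroup (Fin 7), Odd (orderOf a) → Commute a u →
      ∃ b : alternatingGroup {x // p x}, ofSubtype (b : Perm {x // p x}) = (a : Perm (Fin 7)) := by
    intro a ha hau
    have hau' : Commute (a : Perm (Fin 7)) u' := congrArg Subtype.val hau.eq
    have hao : Odd (orderOf (a : Perm (Fin 7))) := by rwa [Subgroup.orderOf_coe]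
    have h1 : (a : Perm (Fin 7)).support ∩ u'.support = ∅ := Socle.eq_empty hao hu2 _
      (fun x => by
        simp only [Finset.mem_inter, Socle.apply_mem_iff_of_commute hau' x,
          Socle.apply_mem_iff_of_commute (Commute.refl (a : Perm (Fin 7))) x])
      (fun x => by
        simp only [Finset.mem_inter, Socle.apply_mem_iff_of_commute (Commute.refl u') x,
          Socle.apply_mem_iff_of_commute hau'.symm x])
      (fun x hx => mem_support.1 (Finset.mem_inter.1 hx).1)
      (fun x hx => mem_support.1 (Finset.mem_inter.1 hx).2)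
      ((Finset.card_le_card Finset.inter_subset_right).trans hu4.le)
    have hp : ∀ x, (a : Perm (Fin 7)) x ≠ x → p x := fun x hx hxu =>
      Finset.notMem_empty x (h1 ▸ Finset.mem_inter.2 ⟨mem_support.2 hx, hxu⟩)
    have hinv : ∀ x, p ((a : Perm (Fin 7)) x) ↔ p x := fun x =>
      not_congr (Socle.apply_mem_iff_of_commute hau' x)
    refine ⟨⟨(a : Perm (Fin 7)).subtypePerm hinv, ?_⟩, ofSubtype_subtypePerm hinv hp⟩
    rw [Equiv.Perm.mem_alternatingGroup]
    have := Equiv.Perm.mem_alternatingGroup.1 a.2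
    rwa [← ofSubtype_subtypePerm hinv hp, sign_ofSubtype] at this
  have hcard : Nat.card (alternatingGroup {x // p x}) = 3 := by
    have h3 : Fintype.card {x // p x} = 3 := by
      rw [Fintype.card_subtype]
      simp only [p, Finset.filter_notMem_eq_sdiff]
      rw [← Finset.compl_eq_univ_sdiff, Finset.card_compl, Fintype.card_fin, hu4]
    haveI : Nontrivial {x // p x} := Fintype.one_lt_card_iff_nontrivial.1 (by omega)
    rw [nat_card_alternatingGroup, Nat.card_eq_fintype_card, h3]
    rfl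
  obtain ⟨b, hb⟩ := key z hz hzu
  have hb1 : b ≠ 1 := fun e => hz1 (Subtype.ext (by rw [← hb, e]; exact map_one _))
  haveI := Fact.mk Nat.prime_three
  refine ⟨Subtype.ext ?_, fun z' hz' hz'u => ?_⟩
  · show (z : Perm (Fin 7)) ^ 3 = 1
    rw [← hb, ← map_pow, ← hcard, ← Subgroup.coe_pow, pow_card_eq_one']
    exact map_one _
  · obtain ⟨b', hb'⟩ := key z' hz' hz'u
    obtain ⟨k, hk⟩ := mem_zpowers_iff.1 (show b' ∈ zpowers b by
      rw [zpowers_eq_top_of_prime_card hcard hb1]; exact mem_top _)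
    exact mem_zpowers_iff.2 ⟨k, Subtype.ext (by
      show (z : Perm (Fin 7)) ^ k = z'
      rw [← hb, ← hb', ← map_zpow, ← hk, Subgroup.coe_zpow])⟩

end Seven

end Cfsg.Agent.GWDihedral.CaseA
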