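import Cfsg.Agent.Lib.GWDihedral.Setup

/-!
# Gorenstein-Walter, dihedral Sylow subgroups of order at least eight: the setting inside a subgroup

* `DHyp.subgroup` : a subgroup containing the Sylow subgroup satisfies the same hypotheses
* `DHyp.map_coreU_subgroup`, `DHyp.map_coreW_subgroup` : over `C(t)` the odd parts are unchanged
* `Rot.subgroup`, `Rot.isConj` : fusion inside the subgroup
-/

set_option autoImplicit false
set_option linter.unusedSectionVars false

namespace Cfsg.Agent.GWDihedral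

open Subgroup
open Cfsg.Agent.GWKlein (coreU coreW fourV)

variable {G : Type*} [Group G] {n : ℕ} {t r σ s : G}

namespace Rot

theorem conj_mul (hs : Rot t r s) (hc : Commute t r) (hr : r * r = 1) :
    s * (t * r) * s⁻¹ = t := by
  rw [← _root_.conj_mul, hs.1, hs.2, hc.eq, ← mul_assoc, hr, one_mul]

theorem isConj (hs : Rot t r s) : IsConj t r := isConj_iff.2 ⟨s, hs.1⟩

/-- A rotation inside a subgroup. -/
theorem subgroup (hs : Rot t r s) {M : Subgroup G} (ht : t ∈ M) (hr : r ∈ M) (hsM : s ∈ M) :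
    Rot (⟨t, ht⟩ : M) ⟨r, hr⟩ ⟨s, hsM⟩ :=
  ⟨Subtype.ext hs.1, Subtype.ext hs.2⟩

end Rot

theorem centralizer_subgroupOf (M : Subgroup G) (t : M) :
    centralizer ({t} : Set M) = (centralizer ({(t : G)} : Set G)).subgroupOf M := by
  ext x
  rw [mem_subgroupOf, mem_centralizer_singleton_iff, mem_centralizer_singleton_iff, Subtype.ext_iff]
  rfl

namespace DHyp

theorem mem_t (h : DHyp n t r σ) {M : Subgroup G} (hle : closure ({σ, r} : Set G) ≤ M) : t ∈ M :=
  hle (zpowers_le.2 (subset_closure (Set.mem_insert _ _)) h.t_mem_zpowers)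

theorem mem_r (_h : DHyp n t r σ) {M : Subgroup G} (hle : closure ({σ, r} : Set G) ≤ M) : r ∈ M :=
  hle (subset_closure (Set.mem_insert_of_mem _ rfl))

theorem mem_σ (_h : DHyp n t r σ) {M : Subgroup G} (hle : closure ({σ, r} : Set G) ≤ M) : σ ∈ M :=
  hle (subset_closure (Set.mem_insert _ _))

variable [Finite G]

/-- The setting restricts to every subgroup containing the Sylow subgroup. -/
theorem subgroup (h : DHyp n t r σ) {M : Subgroup G} (hle : closure ({σ, r} : Set G) ≤ M) :
    DHyp n (⟨t, h.mem_t hle⟩ : M) ⟨r, h.mem_r hle⟩ ⟨σ, h.mem_σ hle⟩ where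
  three_le := h.three_le
  order_σ := by rw [Subgroup.orderOf_mk, h.order_σ]
  order_r := by rw [Subgroup.orderOf_mk, h.order_r]
  conj_σ := Subtype.ext h.conj_σ
  t_eq := Subtype.ext h.t_eq
  sylow := by
    obtain ⟨P, hP⟩ := h.sylow
    refine ⟨P.subtype (hP ▸ hle), map_injective M.subtype_injective ?_⟩
    rw [MonoidHom.map_closure, Set.image_pair]
    exact (map_subgroupOf_eq_of_le (hP ▸ hle)).trans hP

variable {M : Subgroup G}

theorem sylow_le_of_centralizer_le (h : DHyp n t r σ) (hC : centralizer ({t} : Set G) ≤ M) :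
    closure ({σ, r} : Set G) ≤ M := h.sylow_le_centralizer.trans hC

/-- Over `C(t)` the odd core of the centraliser is unchanged. -/
theorem map_coreU_subgroup (h : DHyp n t r σ) (hC : centralizer ({t} : Set G) ≤ M) :
    (coreU (⟨t, h.mem_t (h.sylow_le_of_centralizer_le hC)⟩ : M)).map M.subtype = coreU t := by
  have h' := h.subgroup (h.sylow_le_of_centralizer_le hC)
  ext v
  constructor
  · rintro ⟨w, hw, rfl⟩
    rw [SetLike.mem_coe, h'.mem_coreU] at hw
    exact h.mem_coreU.2 ⟨hw.1.map M.subtype, by rw [coe_subtype, Subgroup.orderOf_coe]; exact hw.2⟩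
  · intro hv
    obtain ⟨h1, h2⟩ := h.mem_coreU.1 hv
    refine ⟨⟨v, hC (mem_centralizer_singleton_iff.2 h1.eq)⟩, h'.mem_coreU.2 ⟨Subtype.ext h1.eq, ?_⟩, rfl⟩
    rwa [Subgroup.orderOf_mk]

theorem map_coreW_subgroup (h : DHyp n t r σ) (hC : centralizer ({t} : Set G) ≤ M) :
    (coreW (⟨t, h.mem_t (h.sylow_le_of_centralizer_le hC)⟩ : M)
      ⟨r, h.mem_r (h.sylow_le_of_centralizer_le hC)⟩).map M.subtype = coreW t r := by
  rw [coreW, coreW, map_inf _ _ _ M.subtype_injective, h.map_coreU_subgroup hC, centralizer_subgroupOf,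
    subgroupOf_map_subtype, ← inf_assoc]
  exact inf_eq_left.2 ((inf_le_left.trans (GWKlein.coreU_le_centralizer t)).trans hC)

theorem card_coreU_subgroup (h : DHyp n t r σ) (hC : centralizer ({t} : Set G) ≤ M) :
    Nat.card (coreU (⟨t, h.mem_t (h.sylow_le_of_centralizer_le hC)⟩ : M)) = Nat.card (coreU t) := by
  rw [← h.map_coreU_subgroup hC, card_map_of_injective M.subtype_injective]

theorem card_coreW_subgroup (h : DHyp n t r σ) (hC : centralizer ({t} : Set G) ≤ M) :
    Nat.card (coreW (⟨t, h.mem_t (h.sylow_le_of_centralizer_le hC)⟩ : M)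
      ⟨r, h.mem_r (h.sylow_le_of_centralizer_le hC)⟩) = Nat.card (coreW t r) := by
  rw [← h.map_coreW_subgroup hC, card_map_of_injective M.subtype_injective]

/-- The same for the second class of reflections. -/
theorem card_coreW_swap_subgroup (h : DHyp n t r σ) (hC : centralizer ({t} : Set G) ≤ M) :
    Nat.card (coreW (⟨t, h.mem_t (h.sylow_le_of_centralizer_le hC)⟩ : M)
      (⟨r, h.mem_r (h.sylow_le_of_centralizer_le hC)⟩ * ⟨σ, h.mem_σ (h.sylow_le_of_centralizer_le hC)⟩)) =
      Nat.card (coreW t (r * σ)) :=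
  h.swap.card_coreW_subgroup hC

theorem card_centralizer_subgroup (h : DHyp n t r σ) (hC : centralizer ({t} : Set G) ≤ M) :
    Nat.card (centralizer ({(⟨t, h.mem_t (h.sylow_le_of_centralizer_le hC)⟩ : M)} : Set M)) =
      Nat.card (centralizer ({t} : Set G)) := by
  rw [(h.subgroup (h.sylow_le_of_centralizer_le hC)).card_centralizer, h.card_centralizer,
    h.card_coreU_subgroup hC]

end DHyp

end Cfsg.Agent.GWDihedral
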