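import Cfsg.Agent.Lib.GWDihedral.SidesDefs
import Cfsg.Agent.Lib.GWDihedral.Subgroup
import Cfsg.Agent.Lib.GWSeven.SectionFormula

/-!
# Gorenstein-Walter, dihedral Sylow subgroups of order at least eight: the ratio lemma

* `DHyp.exists_formula_of_conj` : Brauer's order formula when `t` is conjugate to both reflections
* `DHyp.noFusedOvergroup` : no proper overgroup of `C(t)` fuses both four-groups
* `DHyp.fused_of_centralizer_le` : a subgroup containing `C(t)` and `C(r)` fuses `⟨t, r⟩`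
-/

set_option autoImplicit false
set_option linter.unusedSectionVars false

namespace Cfsg.Agent.GWDihedral

open Subgroup
open Cfsg.Agent.GWKlein (coreU coreW fourV)

variable {G : Type*} [Group G] {n : ℕ} {t r σ : G}

/-- The constant in the order formula. -/
def ratioConst (n u a b : ℕ) : ℚ := 2 * ((2 : ℚ) ^ n * u) ^ 3 * (1 / (4 * (a : ℚ)) + 1 / (4 * (b : ℚ))) ^ 2

theorem ratioConst_pos {n u a b : ℕ} (hu : 0 < u) (ha : 0 < a) (hb : 0 < b) : 0 < ratioConst n u a b := by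
  have hu' : (0 : ℚ) < u := by exact_mod_cast hu
  have ha' : (0 : ℚ) < a := by exact_mod_cast ha
  have hb' : (0 : ℚ) < b := by exact_mod_cast hb
  unfold ratioConst
  positivity

/-- `X (X + 1) / (X - 1)²` lies between `42/64` and `90/64` when `8 ∣ X - 1`. -/
theorem ratio_bounds {X : ℤ} (h8 : (8 : ℤ) ∣ X - 1) (h1 : X ≠ 1) :
    42 * (X - 1) ^ 2 ≤ 64 * (X * (X + 1)) ∧ 64 * (X * (X + 1)) ≤ 90 * (X - 1) ^ 2 ∧ 0 < (X - 1) ^ 2 := by
  obtain ⟨k, hk⟩ := h8
  refine ⟨?_, ?_, by positivity [sub_ne_zero.2 h1]⟩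
  · rcases (by omega : X ≤ -7 ∨ 9 ≤ X) with h | h <;> nlinarith
  · rcases (by omega : X ≤ -7 ∨ 9 ≤ X) with h | h <;> nlinarith

theorem conj_swap (h : DHyp n t r σ) (g : G) :
    σ * g * σ⁻¹ ∈ centralizer ({t, σ * r} : Set G) ↔ g ∈ centralizer ({t, r * σ} : Set G) := by
  have hmem : ∀ x y : G, x ∈ centralizer ({t, y} : Set G) ↔ Commute x t ∧ Commute x y := fun x y => by
    simp only [mem_centralizer_iff, Set.mem_insert_iff, Set.mem_singleton_iff, forall_eq_or_imp, forall_eq]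
    exact ⟨fun h => ⟨h.1.symm, h.2.symm⟩, fun h => ⟨h.1.eq.symm, h.2.eq.symm⟩⟩
  rw [hmem, hmem]
  have e1 : σ * t * σ⁻¹ = t := by rw [h.comm_t_σ.symm.eq, mul_inv_cancel_right]
  have e2 : σ * (r * σ) * σ⁻¹ = σ * r := by group
  have hm : ∀ x : G, Commute g x ↔ Commute (σ * g * σ⁻¹) (σ * x * σ⁻¹) := fun x =>
    (commute_map_iff (f := (MulAut.conj σ).toMonoidHom) (MulAut.conj σ).injective).symm
  rw [hm t, hm (r * σ), e1, e2]

variable [Finite G]

/-- Brauer's order formula when `t` is conjugate to both reflections. -/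
theorem DHyp.exists_formula_of_conj (h : DHyp n t r σ) (h1 : IsConj t r) (h2 : IsConj t (r * σ)) :
    ∃ X : ℤ, (2 ^ n : ℤ) ∣ X - 1 ∧ X ≠ 1 ∧
      (Nat.card G : ℚ) * ((X : ℚ) - 1) ^ 2 =
        ratioConst n (Nat.card (coreU t)) (Nat.card (coreW t r)) (Nat.card (coreW t (r * σ))) *
          ((X : ℚ) * ((X : ℚ) + 1)) := by
  obtain ⟨a, rfl⟩ := h.exists_add
  obtain ⟨M, hM⟩ := Blocks.exists_isPModular Nat.prime_two
  obtain ⟨P, hP, D, hm⟩ := h.exists_data
  have ht : σ ^ 2 ^ (a + 1) = t := hm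
  have hc2 : IsConj t (σ * r) := h2.trans (isConj_iff.2 ⟨σ, by group⟩)
  obtain ⟨x₁, x₂, x₃, δ₁, δ₂, δ₃, hx₁, -, -, hδ₁, -, -, -, ⟨hPc, hdvd⟩, hform, -⟩ :=
    GWSeven.degree_equations M hM a P σ r D.mem (hP ▸ subset_closure (Set.mem_insert_of_mem _ rfl))
      D.order h.order_r h.conj_σ hP.symm (ht.symm ▸ ⟨h1, hc2⟩)
  have hsw : Nat.card (centralizer ({t, σ * r} : Set G)) = Nat.card (centralizer ({t, r * σ} : Set G)) :=
    (Nat.card_congr ((MulAut.conj σ).toEquiv.subtypeEquiv fun g => (conj_swap h g).symm)).symm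
  rw [ht, h.card_centralizer, h.card_centralizer_pair, hsw, h.swap.card_centralizer_pair] at hform
  push_cast at hform
  refine ⟨δ₁ * x₁, ?_, ?_, ?_⟩
  · have e : (Nat.card P : ℤ) = 2 ^ (a + 3) := by rw [hPc]; push_cast; ring
    rw [show δ₁ * (x₁ : ℤ) - 1 = δ₁ * ((x₁ : ℤ) - δ₁) by rcases hδ₁ with e | e <;> rw [e] <;> ring]
    exact (e ▸ hdvd).mul_left _
  · intro e
    have hc := ratioConst_pos (n := a + 3) (u := Nat.card (coreU t)) (a := Nat.card (coreW t r))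
      (b := Nat.card (coreW t (r * σ))) Nat.card_pos Nat.card_pos Nat.card_pos
    unfold ratioConst at hc
    rcases hδ₁ with r₁ | r₁
    · have : (x₁ : ℚ) = 1 := by
        rw [r₁, one_mul] at e
        exact_mod_cast e
      rw [r₁, this] at hform
      push_cast at hform
      linarith
    · rw [r₁] at e
      omega
  · rw [ratioConst]
    rcases hδ₁ with e | e <;> rw [e] at hform ⊢ <;> push_cast at hform ⊢ <;> linear_combination hform

/-- RATIO: no proper overgroup of `C(t)` fuses both four-groups. -/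
theorem DHyp.noFusedOvergroup [IsSimpleGroup G] (h : DHyp n t r σ) : NoFusedOvergroup t r σ := by
  intro M hM hC ⟨a, ha, hat⟩ ⟨b, hb, hbt⟩
  have hle := h.sylow_le_of_centralizer_le hC
  have h' := h.subgroup hle
  have h8 : (8 : ℤ) ∣ 2 ^ n := ⟨2 ^ (n - 3), by
    rw [show (8 : ℤ) = 2 ^ 3 by norm_num, ← pow_add, Nat.add_sub_cancel' h.three_le]⟩
  obtain ⟨X, hX8, hX1, hX⟩ := h.exists_formula_of_conj (isConj_iff.2 ⟨a, hat⟩) (isConj_iff.2 ⟨b, hbt⟩)
  obtain ⟨Y, hY8, hY1, hY⟩ := h'.exists_formula_of_conj (isConj_iff.2 ⟨⟨a, ha⟩, Subtype.ext hat⟩)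
    (isConj_iff.2 ⟨⟨b, hb⟩, Subtype.ext hbt⟩)
  rw [h.card_coreU_subgroup hC, h.card_coreW_subgroup hC, h.card_coreW_swap_subgroup hC] at hY
  set c := ratioConst n (Nat.card (coreU t)) (Nat.card (coreW t r)) (Nat.card (coreW t (r * σ)))
  have hc : 0 < c := ratioConst_pos Nat.card_pos Nat.card_pos Nat.card_pos
  obtain ⟨-, hxu, hxp⟩ := ratio_bounds (h8.trans hX8) hX1
  obtain ⟨hyl, -, hyp⟩ := ratio_bounds (h8.trans hY8) hY1
  have hxu' : 64 * ((X : ℚ) * ((X : ℚ) + 1)) ≤ 90 * ((X : ℚ) - 1) ^ 2 := by exact_mod_cast hxu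
  have hyl' : 42 * ((Y : ℚ) - 1) ^ 2 ≤ 64 * ((Y : ℚ) * ((Y : ℚ) + 1)) := by exact_mod_cast hyl
  have hxp' : (0 : ℚ) < ((X : ℚ) - 1) ^ 2 := by exact_mod_cast hxp
  have hyp' : (0 : ℚ) < ((Y : ℚ) - 1) ^ 2 := by exact_mod_cast hyp
  have hg : 64 * (Nat.card G : ℚ) ≤ 90 * c := by
    refine le_of_mul_le_mul_right ?_ hxp'
    calc 64 * (Nat.card G : ℚ) * ((X : ℚ) - 1) ^ 2 = c * (64 * ((X : ℚ) * ((X : ℚ) + 1))) := by
          linear_combination 64 * hX
      _ ≤ c * (90 * ((X : ℚ) - 1) ^ 2) := mul_le_mul_of_nonneg_left hxu' hc.le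
      _ = 90 * c * ((X : ℚ) - 1) ^ 2 := by ring
  have hm : 42 * c ≤ 64 * (Nat.card M : ℚ) := by
    refine le_of_mul_le_mul_right ?_ hyp'
    calc 42 * c * ((Y : ℚ) - 1) ^ 2 = c * (42 * ((Y : ℚ) - 1) ^ 2) := by ring
      _ ≤ c * (64 * ((Y : ℚ) * ((Y : ℚ) + 1))) := mul_le_mul_of_nonneg_left hyl' hc.le
      _ = 64 * (Nat.card M : ℚ) * ((Y : ℚ) - 1) ^ 2 := by linear_combination -64 * hY
  have hlt : (Nat.card G : ℚ) < 3 * Nat.card M := by linarith
  have hidx : M.index < 3 := by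
    have e : Nat.card M * M.index = Nat.card G := M.card_mul_index
    have : Nat.card G < 3 * Nat.card M := by exact_mod_cast hlt
    rw [← e] at this
    exact Nat.lt_of_mul_lt_mul_left (this.trans_eq (mul_comm _ _))
  obtain ⟨P, hP⟩ := h.sylow
  have hodd : ¬ 2 ∣ M.index := fun e => P.not_dvd_index (e.trans (index_dvd_of_le (hP ▸ hle)))
  have hpos : M.index ≠ 0 := index_ne_zero_of_finite
  exact hM (index_eq_one.1 (by omega))

/-- A subgroup containing `C(t)` and `C(r)` moves `t` to `r`. -/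
theorem DHyp.fused_of_centralizer_le_of_rot (h : DHyp n t r σ) {s : G} (hs : Rot t r s) {M : Subgroup G}
    (hC : centralizer ({t} : Set G) ≤ M) (hC' : centralizer ({r} : Set G) ≤ M) :
    ∃ a ∈ M, a * t * a⁻¹ = r := by
  obtain ⟨y, -, hyt, hyr⟩ := h.exists_quarter
  have hw : s * y * s⁻¹ ∈ M := hC' (mem_centralizer_singleton_iff.2 (by
    have := hyt.map (MulAut.conj s).toMonoidHom
    simpa [hs.1] using this.eq))
  refine ⟨(s * y * s⁻¹ * y)⁻¹, inv_mem (mul_mem hw (hC (mem_centralizer_singleton_iff.2 hyt.eq))), ?_⟩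
  have e : s * y * s⁻¹ * y * r * (s * y * s⁻¹ * y)⁻¹ = t := by
    calc s * y * s⁻¹ * y * r * (s * y * s⁻¹ * y)⁻¹ = s * y * s⁻¹ * (y * r * y⁻¹) * s * y⁻¹ * s⁻¹ := by group
      _ = s * y * s⁻¹ * (s * r * s⁻¹) * s * y⁻¹ * s⁻¹ := by rw [hyr, hs.2]
      _ = s * (y * r * y⁻¹) * s⁻¹ := by group
      _ = t := by rw [hyr]; exact hs.conj_mul h.comm_t_r h.mul_self_r
  nth_rw 1 [← e]
  group

/-- A subgroup containing `C(t)` and `C(r)` moves `t` to `r`, in a simple group. -/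
theorem DHyp.fused_of_centralizer_le [IsSimpleGroup G] (h : DHyp n t r σ) {M : Subgroup G}
    (hC : centralizer ({t} : Set G) ≤ M) (hC' : centralizer ({r} : Set G) ≤ M) :
    ∃ a ∈ M, a * t * a⁻¹ = r := by
  obtain ⟨s, hs⟩ := h.exists_rot
  exact h.fused_of_centralizer_le_of_rot hs hC hC'

end Cfsg.Agent.GWDihedral
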