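import Cfsg.Agent.Lib.GWDihedral.RotTools
import Cfsg.Agent.Lib.GWDihedral.Ratio
import Cfsg.Agent.Lib.GWDihedral.CaseASocle
import Cfsg.Agent.Lib.Cores.Fitting
import Cfsg.Agent.Lib.Solvable.Fitting

/-!
# Gorenstein-Walter, dihedral Sylow subgroups: `C(t)` inside a proper overgroup fused on `⟨t, r⟩`

First part of section 3 of `notes/gw_dihedral_eight.md`: `M` contains `C(t)` and a rotation of `⟨t, r⟩`.

* `DHyp.oddPart_le_coreW` : `O(M) ≤ W`
* `SocleData`, `DHyp.exists_socleData` : if `M` is not solvable its socle is `PSL(2,q)` and misses `r * σ`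
* `TorusData`, `DHyp.torusData` : `σ²` centralises `U`, the commutators with `r` commute, `W₂ ≤ W`
-/

set_option autoImplicit false
set_option linter.unusedSectionVars false
set_option linter.style.haveILetI false

namespace Cfsg.Agent.GWDihedral

open Subgroup
open Cfsg.Agent.GWKlein (coreU coreW fourV oddPart)

universe u

variable {G : Type u} [Group G] [Finite G] {n : ℕ} {t r σ : G}

namespace CaseA

/-- An element of odd order commuting with its conjugate by an element `v` of `2`-power order, modulo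
commuting with `v`, commutes with `v`. -/
theorem commute_of_two_power {x v : G} {k : ℕ} (hv : v ^ 2 ^ k = 1)
    (hodd : Odd (orderOf (x * v * x⁻¹ * v⁻¹))) (hc : Commute (x * v * x⁻¹ * v⁻¹) v) : Commute x v := by
  set f := x * v * x⁻¹ * v⁻¹ with hf
  have e1 : v * x * v⁻¹ = f⁻¹ * x := by rw [hf]; group
  have e2 : ∀ i : ℕ, v ^ i * x * (v ^ i)⁻¹ = (f ^ i)⁻¹ * x := by
    intro i
    induction i with
    | zero => simp
    | succ i ih =>
      calc v ^ (i + 1) * x * (v ^ (i + 1))⁻¹ = v * (v ^ i * x * (v ^ i)⁻¹) * v⁻¹ := by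
            rw [pow_succ']; group
        _ = v * (f ^ i)⁻¹ * v⁻¹ * (v * x * v⁻¹) := by rw [ih]; group
        _ = (f ^ i)⁻¹ * (f⁻¹ * x) := by
            rw [e1, ((hc.pow_left i).inv_left).symm.eq, mul_inv_cancel_right]
        _ = (f ^ (i + 1))⁻¹ * x := by rw [pow_succ']; group
  have h2 := e2 (2 ^ k)
  rw [hv, one_mul, inv_one, mul_one] at h2
  have h3 : f ^ 2 ^ k = 1 := inv_eq_one.1 (mul_eq_right.1 h2.symm)
  have h4 : f = 1 := orderOf_eq_one_iff.1 (Nat.eq_one_of_dvd_coprimes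
    ((Nat.coprime_two_right.2 hodd).pow_right k) dvd_rfl (orderOf_dvd_of_pow_eq_one h3))
  exact mul_inv_eq_iff_eq_mul.1 (mul_inv_eq_one.1 h4)

/-- An involution without fixed points inverts a group of odd order. -/
theorem inverts_of_fixedPointFree {Q : Subgroup G} (hQ : Odd (Nat.card Q)) {v : G} (hv : v * v = 1)
    (hn : v ∈ normalizer (Q : Set G)) (hfree : ∀ x ∈ Q, Commute x v → x = 1) {g : G} (hg : g ∈ Q) :
    v * g * v⁻¹ = g⁻¹ := by
  have hvi : v⁻¹ = v := inv_eq_of_mul_eq_one_right hv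
  set e := g⁻¹ * (v * g * v⁻¹) with he
  have heQ : e ∈ Q := mul_mem (inv_mem hg) ((mem_normalizer_iff.1 hn g).1 hg)
  obtain ⟨j, hj⟩ := hQ.of_dvd_nat (orderOf_dvd_natCard Q heQ)
  set f := e ^ (j + 1) with hf
  have hff : f * f = e := by
    rw [hf, ← pow_add, show j + 1 + (j + 1) = orderOf e + 1 by omega, pow_succ, pow_orderOf_eq_one, one_mul]
  have hei : v * e * v⁻¹ = e⁻¹ := by
    rw [he, hvi, show v * (g⁻¹ * (v * g * v)) * v = v * g⁻¹ * v * g * (v * v) by group, hv, mul_one,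
      mul_inv_rev, inv_inv, mul_inv_rev, mul_inv_rev, hvi]
    group
  have hfi : v * f * v⁻¹ = f⁻¹ := by rw [hf, ← conj_pow, hei, inv_pow]
  have h1 : g * f = 1 := by
    refine hfree _ (mul_mem hg (pow_mem heQ _)) ?_
    refine (mul_inv_eq_iff_eq_mul.1 ?_).symm
    calc v * (g * f) * v⁻¹ = g * e * (v * f * v⁻¹) := by rw [he]; group
      _ = g * f := by rw [hfi, ← hff, mul_assoc, mul_inv_cancel_right]
  rw [eq_inv_of_mul_eq_one_left h1, ← conj_inv, hfi]

end CaseA

namespace DHyp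

/-- The reflection conjugate to `r` by `r * σ`. -/
theorem conj_r_eq (h : DHyp n t r σ) : r * σ * r * (r * σ)⁻¹ = r * σ ^ 2 := by
  have e : σ⁻¹ = r * σ * r⁻¹ := h.conj_σ.symm
  rw [mul_inv_rev, e, Involution.inv_eq h.order_r, pow_two]
  calc r * σ * r * (r * σ * r * r) = r * σ * (r * r) * σ * (r * r) := by group
    _ = r * (σ * σ) := by rw [h.mul_self_r, mul_one, mul_one, mul_assoc]

theorem mul_σ_inv (h : DHyp n t r σ) : (r * σ)⁻¹ = r * σ := inv_eq_of_mul_eq_one_right h.mul_σ_sq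

theorem sylow_mem_rσ (h : DHyp n t r σ) : r * σ ∈ closure ({σ, r} : Set G) :=
  mul_mem h.sylow_mem_r h.sylow_mem_σ

/-- `t` moves no invariant subgroup of `O(M)` of prime power order. -/
theorem fourV_le_centralizer_pCoreOf (h : DHyp n t r σ) (hS : SideRot t r σ) {M Q : Subgroup G}
    (hC : centralizer ({t} : Set G) ≤ M) (hF : Fused t r M) {q : ℕ} (hq : q.Prime)
    (hQ : IsPGroup q Q) (hodd : Odd (Nat.card Q)) (hMQ : M ≤ normalizer (Q : Set G)) :
    fourV t r ≤ centralizer (Q : Set G) := by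
  haveI := Fact.mk hq
  have hle := h.sylow_le_of_centralizer_le hC
  have hV : fourV t r ≤ normalizer (Q : Set G) := (h.fourV_le_sylow.trans hle).trans hMQ
  by_cases hQ1 : Q = ⊥
  · intro v _
    rw [mem_centralizer_iff]
    intro x hx
    rw [hQ1, SetLike.mem_coe, mem_bot] at hx
    rw [hx, one_mul, mul_one]
  have hq2 : q ≠ 2 := by
    rintro rfl
    obtain ⟨k, hk⟩ := IsPGroup.iff_card.1 hQ
    rcases Nat.eq_zero_or_pos k with rfl | hk0
    · exact hQ1 (card_eq_one.1 (by rw [hk, pow_zero]))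
    · exact Nat.not_even_iff_odd.2 hodd (even_iff_two_dvd.2 (hk ▸ dvd_pow_self 2 hk0.ne'))
  obtain ⟨s, hsM, hs⟩ := hF
  rcases hS q hq hq2 Q hQ hV ⟨s, hMQ hsM, hs⟩ with h1 | hexc
  · exact h1
  exfalso
  -- the fixed points of `t` are not trivial
  have hmeet : Q ⊓ coreU t ≠ ⊥ := by
    intro h0
    have hodd' : ∀ x ∈ Q, Odd (orderOf x) := fun x hx => hodd.of_dvd_nat (orderOf_dvd_natCard Q hx)
    have hfree_t : ∀ x ∈ Q, Commute x t → x = 1 := fun x hx hxt => by
      have : x ∈ Q ⊓ coreU t := ⟨hx, h.mem_coreU.2 ⟨hxt, hodd' x hx⟩⟩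
      rwa [h0, mem_bot] at this
    have hfree : ∀ (v w : G), s * v * s⁻¹ = w → (∀ x ∈ Q, Commute x v → x = 1) →
        ∀ x ∈ Q, Commute x w → x = 1 := by
      intro v w hvw hv x hx hxw
      have hx' : s⁻¹ * x * s ∈ Q := by
        have := (mem_normalizer_iff.1 (inv_mem (hMQ hsM)) x).1 hx
        rwa [inv_inv] at this
      have hc : Commute (s⁻¹ * x * s) v := by
        have := hxw.map (MulAut.conj s⁻¹).toMonoidHom
        simp only [MulEquiv.coe_toMonoidHom, MulAut.conj_apply, inv_inv, ← hvw] at this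
        rwa [show s⁻¹ * (s * v * s⁻¹) * s = v by group] at this
      have e := congrArg (fun y => s * y * s⁻¹) (hv _ hx' hc)
      simpa [mul_assoc] using e
    have hfree_r := hfree t r hs.1 hfree_t
    refine hQ1 ((eq_bot_iff_forall _).2 fun x hx => hfree r (t * r) hs.2 hfree_r x hx ?_)
    refine (mul_inv_eq_iff_eq_mul.1 ?_).symm
    rw [show t * r * x * (t * r)⁻¹ = t * (r * x * r⁻¹) * t⁻¹ by group,
      CaseA.inverts_of_fixedPointFree hodd h.mul_self_r (hV (GWKlein.right_mem_fourV t r)) hfree_r hx,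
      ← conj_inv, CaseA.inverts_of_fixedPointFree hodd h.mul_self_t (hV (GWKlein.left_mem_fourV t r)) hfree_t hx,
      inv_inv]
  -- its subgroup of order `q` is normal in `C(t)`
  set E := Q ⊓ coreU t with hE
  haveI hEc : IsCyclic E := hexc.2.2.2.1 E inf_le_right (hQ.to_le inf_le_left)
  obtain ⟨⟨y, hy⟩, hgen⟩ := IsCyclic.exists_generator (α := E)
  have hEy : ∀ x ∈ E, x ∈ zpowers y := fun x hx => by
    obtain ⟨k, hk⟩ := mem_zpowers_iff.1 (hgen ⟨x, hx⟩)
    exact mem_zpowers_iff.2 ⟨k, congrArg Subtype.val hk⟩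
  haveI : Nontrivial E := (nontrivial_iff_ne_bot E).2 hmeet
  obtain ⟨k, hk⟩ := IsPGroup.iff_card.1 (hQ.to_le (inf_le_left : E ≤ Q))
  have hk0 : k ≠ 0 := by
    rintro rfl
    exact hmeet (card_eq_one.1 (by rw [hk, pow_zero]))
  obtain ⟨x, hx⟩ := exists_prime_orderOf_dvd_card' (G := E) q (hk ▸ dvd_pow_self q hk0)
  refine hexc.2.2.2.2 (zpowers (x : G)) (zpowers_le.2 (inf_le_right (a := Q) x.2))
    (by rw [Nat.card_zpowers, Subgroup.orderOf_coe, hx]) fun g hg => ?_
  have hgE : ∀ w ∈ E, g * w * g⁻¹ ∈ E := fun w hw =>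
    ⟨(mem_normalizer_iff.1 (hMQ (hC hg)) w).1 hw.1,
      (mem_normalizer_iff.1 (GWKlein.centralizer_le_normalizer_coreU t hg) w).1 hw.2⟩
  refine Coprime.mem_normalizer_of_forall fun w hw => ?_
  obtain ⟨j, rfl⟩ := mem_zpowers_iff.1 hw
  rw [← conj_zpow]
  refine zpow_mem ?_ j
  rw [← PSL2.zpowers_eq_of_orderOf (hEy _ (hgE _ x.2)) (hEy _ x.2) (Involution.orderOf_conj g (x : G))]
  exact mem_zpowers _

/-- (P): the four-group centralises `O(M)`. -/
theorem fourV_le_centralizer_oddPart (h : DHyp n t r σ) (hS : SideRot t r σ) {M : Subgroup G}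
    (hC : centralizer ({t} : Set G) ≤ M) (hF : Fused t r M) :
    fourV t r ≤ centralizer (oddPart M : Set G) := by
  set K := oddPart M with hK
  have hKodd : Odd (Nat.card K) := GWKlein.odd_card_oddPart M
  haveI : Group.IsSolvable K := S0205.result hKodd
  have hMK : M ≤ normalizer (K : Set G) := GWKlein.le_normalizer_oddPart M
  have hVM : fourV t r ≤ M := h.fourV_le_sylow.trans (h.sylow_le_of_centralizer_le hC)
  have hfit : ∀ v ∈ fourV t r, ∀ f ∈ Cfsg.fittingSubgroup K, Commute (f : G) v := by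
    have hle : Cfsg.fittingSubgroup K ≤ (centralizer (fourV t r : Set G)).comap K.subtype := by
      rw [Cores.fittingSubgroup_eq_iSup_pCore]
      refine iSup_le fun q => ?_
      haveI := Fact.mk q.2
      rw [← map_le_iff_le_comap]
      have h1 := h.fourV_le_centralizer_pCoreOf hS hC hF q.2
        ((Cores.isPGroup_pCore (q : ℕ) K).map K.subtype)
        (hKodd.of_dvd_nat (card_dvd_of_le (map_subtype_le _)))
        (hMK.trans (Cores.normalizer_le_normalizer_map _))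
      exact le_centralizer_iff.1 h1
    intro v hv f hf
    exact (mem_centralizer_iff.1 (mem_comap.1 (hle hf)) v hv).symm
  intro v hv
  rw [mem_centralizer_iff]
  intro k hk
  have hvK := hMK (hVM hv)
  set x := k * v * k⁻¹ * v⁻¹ with hx
  have hxK : x ∈ K := by
    rw [hx, show k * v * k⁻¹ * v⁻¹ = k * (v * k⁻¹ * v⁻¹) by group]
    exact mul_mem hk ((mem_normalizer_iff.1 hvK _).1 (inv_mem hk))
  have hxF : (⟨x, hxK⟩ : K) ∈ Cfsg.fittingSubgroup K := by
    refine Solvable.centralizer_fitting_le K (mem_centralizer_iff.2 fun f hf => Subtype.ext ?_)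
    show (f : G) * x = x * f
    have h1 : Commute (f : G) v := hfit v hv f hf
    have h2 : Commute (f : G) (k * v * k⁻¹) := by
      have hn : (Cfsg.fittingSubgroup K).Normal := inferInstance
      have := (hfit v hv _ (hn.conj_mem f hf (⟨k, hk⟩ : K)⁻¹)).map (MulAut.conj k).toMonoidHom
      simpa [mul_assoc] using this
    exact (h2.mul_right h1.inv_right).eq
  exact (CaseA.commute_of_two_power (k := 1) (x := k) (v := v) (by
    rcases h.mem_fourV_iff.1 hv with rfl | rfl | rfl | rfl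
    · exact one_pow _
    · rw [pow_one, pow_two, h.mul_self_t]
    · rw [pow_one, pow_two, h.mul_self_r]
    · rw [pow_one, pow_two, Involution.mul_self h.order_t_mul_r])
    (hKodd.of_dvd_nat (orderOf_dvd_natCard K hxK)) (hfit v hv _ hxF)).eq

theorem commute_of_mem_oddPart (h : DHyp n t r σ) (hS : SideRot t r σ) {M : Subgroup G}
    (hC : centralizer ({t} : Set G) ≤ M) (hF : Fused t r M) {k : G} (hk : k ∈ oddPart M) :
    Commute k t ∧ Commute k r :=
  ⟨(mem_centralizer_iff.1 (h.fourV_le_centralizer_oddPart hS hC hF (GWKlein.left_mem_fourV t r)) k hk),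
    (mem_centralizer_iff.1 (h.fourV_le_centralizer_oddPart hS hC hF (GWKlein.right_mem_fourV t r)) k hk)⟩

theorem oddPart_le_coreW (h : DHyp n t r σ) (hS : SideRot t r σ) {M : Subgroup G}
    (hC : centralizer ({t} : Set G) ≤ M) (hF : Fused t r M) : oddPart M ≤ coreW t r := fun _ hk =>
  h.mem_coreW.2 ⟨(h.commute_of_mem_oddPart hS hC hF hk).1, (h.commute_of_mem_oddPart hS hC hF hk).2,
    (GWKlein.odd_card_oddPart M).of_dvd_nat (orderOf_dvd_natCard _ hk)⟩

/-- The Sylow 2-subgroups of `H/O(H)`, `H` over `⟨σ, r⟩`, are dihedral. -/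
theorem exists_bar_sylow (h : DHyp n t r σ) {H : Subgroup G} (hS : closure ({σ, r} : Set G) ≤ H) :
    ∃ T : Sylow 2 (H ⧸ Cfsg.oddCore H),
      Nonempty ((T : Subgroup (H ⧸ Cfsg.oddCore H)) ≃* DihedralGroup (2 ^ (n - 1))) := by
  haveI := Fact.mk Nat.prime_two
  obtain ⟨S, -, ⟨eS⟩⟩ := h.exists_equiv
  obtain ⟨P, hP⟩ := h.sylow
  set π := QuotientGroup.mk' (Cfsg.oddCore H)
  let T : Sylow 2 H := P.subtype (hP ▸ hS)
  let g : (T : Subgroup H) →* (T.mapSurjective (QuotientGroup.mk'_surjective (Cfsg.oddCore H)) :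
      Subgroup (H ⧸ Cfsg.oddCore H)) :=
    (π.comp (T : Subgroup H).subtype).codRestrict _ fun x => ⟨x, x.2, rfl⟩
  have hg : Function.Bijective g := by
    refine ⟨(injective_iff_map_eq_one g).2 fun x hx => ?_, fun y => ?_⟩
    · obtain ⟨k, hk⟩ := T.2 x
      exact Subtype.ext (Local.eq_one_of_bar (k := k) (congrArg Subtype.val hk) (congrArg Subtype.val hx))
    · obtain ⟨x, hx, hxy⟩ := y.2
      exact ⟨⟨x, hx⟩, Subtype.ext hxy⟩
  refine ⟨T.mapSurjective (QuotientGroup.mk'_surjective _), ⟨(MulEquiv.ofBijective g hg).symm.trans ?_⟩⟩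
  exact (subgroupOfEquivOfLe (hP ▸ hS)).trans ((P.equiv S).trans eS)

/-- What a non-solvable `M` gives. -/
structure SocleData (t r σ : G) (M : Subgroup G) (L : Subgroup (M ⧸ Cfsg.oddCore M)) : Prop where
  normal : L.Normal
  isPSL : CaseA.IsPSL L
  mem_t : ∀ x : M, (x : G) = t → QuotientGroup.mk' (Cfsg.oddCore M) x ∈ L
  mem_r : ∀ x : M, (x : G) = r → QuotientGroup.mk' (Cfsg.oddCore M) x ∈ L
  not_mem : ∀ x : M, (x : G) = r * σ → QuotientGroup.mk' (Cfsg.oddCore M) x ∉ L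
  eq_one : ∀ x : M, (x : G) = r * σ → ∀ y : M, (y : G) = t → ∀ z ∈ L, Odd (orderOf z) →
    Commute z (QuotientGroup.mk' (Cfsg.oddCore M) y) → Commute z (QuotientGroup.mk' (Cfsg.oddCore M) x) → z = 1

theorem exists_socleData [IsSimpleGroup G] (h : DHyp n t r σ) (hP : ProperGWLike G) {M : Subgroup G}
    (hM : M ≠ ⊤) (hC : centralizer ({t} : Set G) ≤ M) (hF : Fused t r M) (hns : ¬ Group.IsSolvable M) :
    ∃ L, SocleData t r σ M L := by
  haveI := Fact.mk Nat.prime_two
  have hle := h.sylow_le_of_centralizer_le hC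
  have hW : IsGWLike M := hP M hM hns
  have hor := h.inSocle_fourV_or hW hle
  obtain ⟨L, hLn, hCL, hL'⟩ := hW
  have hL : Socle L := hL'
  haveI := hLn
  set π := QuotientGroup.mk' (Cfsg.oddCore M) with hπ
  have htM : t ∈ M := hle h.sylow_mem_t
  have hrM : r ∈ M := hle h.sylow_mem_r
  have hr2M : r * σ ∈ M := hle h.sylow_mem_rσ
  have htL : π ⟨t, htM⟩ ∈ L := by
    rcases hor with hV | hV
    · exact Local.mem_of_inSocle hL hV (x := ⟨t, htM⟩) (GWKlein.left_mem_fourV t r)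
    · exact Local.mem_of_inSocle hL hV (x := ⟨t, htM⟩) (GWKlein.left_mem_fourV t (r * σ))
  obtain ⟨s, hsM, hs⟩ := hF
  have hrL : π ⟨r, hrM⟩ ∈ L := by
    rw [show (⟨r, hrM⟩ : M) = ⟨s, hsM⟩ * ⟨t, htM⟩ * ⟨s, hsM⟩⁻¹ from Subtype.ext hs.1.symm, map_mul, map_mul,
      map_inv]
    exact hLn.conj_mem _ htL _
  have hto : orderOf (⟨t, htM⟩ : M) = 2 := by rw [Subgroup.orderOf_mk, h.order_t]
  have hro : orderOf (⟨r * σ, hr2M⟩ : M) = 2 := by rw [Subgroup.orderOf_mk, h.order_r_mul_σ]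
  have hr2L : π ⟨r * σ, hr2M⟩ ∉ L := by
    intro hin
    obtain ⟨g, hg, e⟩ := isConj_of_bar hL hto hro htL hin
    exact h.noFusedOvergroup M hM hC ⟨s, hsM, hs.1⟩ ⟨g, hg, e⟩
  set b := π ⟨r * σ, hr2M⟩ with hb
  have hb2 : b * b = 1 := by
    rw [hb, ← map_mul, show (⟨r * σ, hr2M⟩ : M) * ⟨r * σ, hr2M⟩ = 1 from Subtype.ext h.mul_σ_sq, map_one]
  set α : MulAut L := MulAut.conjNormal b with hα
  have hα2 : α * α = 1 := by rw [hα, ← map_mul, hb2, map_one]
  have hfix : ∀ z : L, α z = z ↔ Commute b (z : M ⧸ Cfsg.oddCore M) := fun z => by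
    constructor
    · intro e
      have := congrArg Subtype.val e
      rw [hα, MulAut.conjNormal_apply] at this
      exact mul_inv_eq_iff_eq_mul.1 this
    · intro e
      exact Subtype.ext (by rw [hα, MulAut.conjNormal_apply]; exact mul_inv_eq_iff_eq_mul.2 e.eq)
  obtain ⟨T, ⟨eT⟩⟩ := h.exists_bar_sylow hle
  have hK : GWCons.NoKlein α := by
    intro x y hx hy x2 y2 hxy x1 y1
    by_contra hne
    have hxo : orderOf (x : M ⧸ Cfsg.oddCore M) = 2 := by
      rw [Subgroup.orderOf_coe]; exact Involution.orderOf_of_sq x2 x1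
    have hyo : orderOf (y : M ⧸ Cfsg.oddCore M) = 2 := by
      rw [Subgroup.orderOf_coe]; exact Involution.orderOf_of_sq y2 y1
    have hne' : (x : M ⧸ Cfsg.oddCore M) ≠ y := fun e => hne (Subtype.ext e)
    have hxy' : Commute (x : M ⧸ Cfsg.oddCore M) y := congrArg Subtype.val hxy
    have ho : orderOf ((x : M ⧸ Cfsg.oddCore M) * y) = 2 := Involution.orderOf_of_sq
      (by rw [hxy'.symm.mul_mul_mul_comm, Involution.mul_self hxo, Involution.mul_self hyo, one_mul])
      (fun e => hne' (by rw [eq_inv_of_mul_eq_one_left e, Involution.inv_eq hyo]))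
    have e := Involution.dihedralEquiv hxo hyo hne'
    rw [ho] at e
    have hVk := Transfer.isKleinFour_congr e inferInstance
    have hmem := GWReduce.mem_of_centralizes_klein T (by positivity) eT hVk hb2 ?_
    · have hVL : closure ({(x : M ⧸ Cfsg.oddCore M), (y : M ⧸ Cfsg.oddCore M)} : Set _) ≤ L :=
        (closure_le _).2 (Set.insert_subset_iff.2 ⟨x.2, Set.singleton_subset_iff.2 y.2⟩)
      exact hr2L (hVL hmem)
    · rw [centralizer_closure]
      refine mem_centralizer_iff.2 ?_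
      rintro z (rfl | rfl)
      · exact ((hfix x).1 hx).eq.symm
      · exact ((hfix y).1 hy).eq.symm
  have hpsl := CaseA.isPSL_of_noKlein hL hα2 hK
  refine ⟨L, hLn, hpsl, fun x hx => ?_, fun x hx => ?_, fun x hx => ?_, fun x hx y hy z hz hzo hzy hzx => ?_⟩
  · rwa [show x = ⟨t, htM⟩ from Subtype.ext hx]
  · rwa [show x = ⟨r, hrM⟩ from Subtype.ext hx]
  · rwa [show x = ⟨r * σ, hr2M⟩ from Subtype.ext hx]
  · rw [show x = ⟨r * σ, hr2M⟩ from Subtype.ext hx] at hzx
    rw [show y = ⟨t, htM⟩ from Subtype.ext hy] at hzy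
    have h1 := hpsl.eq_one_of_outer hα2 hK (t := ⟨_, htL⟩) (z := ⟨z, hz⟩)
      (by rw [Subgroup.orderOf_mk]; exact Local.orderOf_bar hto) (by rwa [Subgroup.orderOf_mk])
      (Subtype.ext hzy.eq) ((hfix _).2 hzx.symm)
    exact congrArg Subtype.val h1

/-- The output of the analysis of `M`. -/
structure TorusData (t r σ : G) : Prop where
  σ_sq : ∀ u ∈ coreU t, Commute u (σ ^ 2)
  comm : ∀ u ∈ coreU t, ∀ u' ∈ coreU t, Commute (u * r * u⁻¹ * r⁻¹) (u' * r * u'⁻¹ * r⁻¹)
  le : coreW t (r * σ) ≤ coreW t r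

theorem conj_mem_coreU (h : DHyp n t r σ) {g u : G} (hg : g ∈ closure ({σ, r} : Set G))
    (hu : u ∈ coreU t) : g * u * g⁻¹ ∈ coreU t :=
  (mem_normalizer_iff.1 (h.sylow_le_normalizer_coreU hg) u).1 hu

theorem commutator_mem_coreU (h : DHyp n t r σ) {g u : G} (hg : g ∈ closure ({σ, r} : Set G))
    (hu : u ∈ coreU t) : u * g * u⁻¹ * g⁻¹ ∈ coreU t := by
  rw [show u * g * u⁻¹ * g⁻¹ = u * (g * u⁻¹ * g⁻¹) by group]
  exact mul_mem hu (h.conj_mem_coreU hg (inv_mem hu))

/-- A section `U ≤ O(M)` gives everything. -/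
theorem torusData_of_centralized (h : DHyp n t r σ) (hU : ∀ u ∈ coreU t, Commute u r) :
    TorusData t r σ := by
  refine ⟨fun u hu => ?_, fun u hu u' _ => ?_, fun x hx => ?_⟩
  · have h1 : Commute u (r * σ ^ 2) := by
      rw [← h.conj_r_eq]
      have hu' : (r * σ)⁻¹ * u * (r * σ) ∈ coreU t := by
        have := h.conj_mem_coreU (inv_mem h.sylow_mem_rσ) hu
        rwa [inv_inv] at this
      have := (hU _ hu').map (MulAut.conj (r * σ)).toMonoidHom
      simpa [mul_assoc] using this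
    have := (hU u hu).inv_right.mul_right h1
    rwa [inv_mul_cancel_left] at this
  · rw [show u * r * u⁻¹ * r⁻¹ = 1 by rw [(hU u hu).eq, mul_inv_cancel_right, mul_inv_cancel]]
    exact Commute.one_left _
  · obtain ⟨hxt, -, hxo⟩ := h.swap.mem_coreW.1 hx
    exact h.mem_coreW.2 ⟨hxt, hU x (h.mem_coreU.2 ⟨hxt, hxo⟩), hxo⟩

/-- (Q): the structure of `C(t)`. -/
theorem torusData [IsSimpleGroup G] (h : DHyp n t r σ) (hP : ProperGWLike G) (hS : SideRot t r σ)
    {M : Subgroup G} (hM : M ≠ ⊤) (hC : centralizer ({t} : Set G) ≤ M) (hF : Fused t r M) :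
    TorusData t r σ := by
  have hle := h.sylow_le_of_centralizer_le hC
  have htM : t ∈ M := hle h.sylow_mem_t
  have hrM : r ∈ M := hle h.sylow_mem_r
  have hUM : coreU t ≤ M := (GWKlein.coreU_le_centralizer t).trans hC
  have hK := fun k (hk : k ∈ oddPart M) => h.commute_of_mem_oddPart hS hC hF hk
  by_cases hs : Group.IsSolvable M
  · exact h.torusData_of_centralized fun u hu =>
      (hK u (h.mem_oddPart_of_solvable hs h.order_t htM (hUM hu) (h.odd_orderOf hu)
        (GWKlein.commute_of_mem_coreU hu))).2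
  obtain ⟨L, hL⟩ := h.exists_socleData hP hM hC hF hs
  haveI := hL.normal
  set π := QuotientGroup.mk' (Cfsg.oddCore M) with hπ
  set tb := π ⟨t, htM⟩ with htb
  have htL : tb ∈ L := hL.mem_t _ rfl
  have htbo : orderOf (⟨tb, htL⟩ : L) = 2 := by
    rw [Subgroup.orderOf_mk]
    exact Local.orderOf_bar (by rw [Subgroup.orderOf_mk, h.order_t])
  -- commutators with elements of the socle
  have hcomm : ∀ (u v : M), π v ∈ L → π (u * v * u⁻¹ * v⁻¹) ∈ L := fun u v hv => by
    rw [map_mul, map_mul, map_mul, map_inv, map_inv]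
    exact mul_mem (hL.normal.conj_mem _ hv _) (inv_mem hv)
  -- the image of an element of `U` in the torus
  have hodd : ∀ (x : M), (x : G) ∈ coreU t → Odd (orderOf (π x)) := fun x hx =>
    ((h.odd_orderOf hx).of_dvd_nat (by rw [← Subgroup.orderOf_coe x])).of_dvd_nat (orderOf_map_dvd π x)
  have hct : ∀ (x : M), (x : G) ∈ coreU t → Commute (π x) tb := fun x hx =>
    (show Commute x ⟨t, htM⟩ from Subtype.ext (GWKlein.commute_of_mem_coreU hx).eq).map π
  -- reflections in the socle invert the torus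
  set r' : M := ⟨r * σ, hle h.sylow_mem_rσ⟩ * ⟨r, hrM⟩ * ⟨r * σ, hle h.sylow_mem_rσ⟩⁻¹ with hr'
  have hr'eq : (r' : G) = r * σ ^ 2 := h.conj_r_eq
  have hr'L : π r' ∈ L := by
    rw [hr', map_mul, map_mul, map_inv]; exact hL.normal.conj_mem _ (hL.mem_r _ rfl) _
  set ρ : M := ⟨r, hrM⟩⁻¹ * r' with hρ
  have hρeq : (ρ : G) = σ ^ 2 := by
    show r⁻¹ * (r' : G) = σ ^ 2
    rw [hr'eq, inv_mul_cancel_left]
  have hρL : π ρ ∈ L := by
    rw [hρ, map_mul, map_inv]; exact mul_mem (inv_mem (hL.mem_r _ rfl)) hr'L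
  have hinv : ∀ i : M, π i ∈ L → orderOf i = 2 → (i : G) ≠ t → Commute (i : G) t → ∀ z : L,
      Odd (orderOf z) → Commute (z : M ⧸ Cfsg.oddCore M) tb →
      π i * (z : M ⧸ Cfsg.oddCore M) * (π i)⁻¹ = (z : M ⧸ Cfsg.oddCore M)⁻¹ := by
    intro i hiL hio hit hic z hz hzt
    have hne : tb ≠ π i := by
      intro e
      have h1 := Local.eq_one_of_bar (H := M) (x := i⁻¹ * ⟨t, htM⟩) (k := 1) (Subtype.ext ?_)
        (by rw [map_mul, map_inv]; exact inv_mul_eq_one.2 e.symm)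
      · exact hit (congrArg Subtype.val (inv_mul_eq_one.1 h1))
      · show ((i : G)⁻¹ * t) ^ 2 ^ 1 = 1
        rw [pow_one, hic.inv_left.mul_pow, inv_pow, Local.sq_eq_one (by rw [Subgroup.orderOf_coe, hio]),
          inv_one, one_mul, Local.sq_eq_one h.order_t]
    exact congrArg Subtype.val (hL.isPSL.inverted htbo (i := ⟨π i, hiL⟩) (z := z)
      (by rw [Subgroup.orderOf_mk]; exact Local.orderOf_bar hio) (fun e => hne (congrArg Subtype.val e))
      (Subtype.ext ((show Commute (⟨t, htM⟩ : M) i from Subtype.ext hic.symm.eq).map π).eq) hz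
      (Subtype.ext hzt.eq))
  have hr'o : orderOf r' = 2 := by
    rw [hr', Involution.orderOf_conj, Subgroup.orderOf_mk, h.order_r]
  have hr't : (r' : G) ≠ t := fun e => h.ne (by
    rw [hr'eq] at e
    exfalso
    refine h.r_not_mem_zpowers ?_
    rw [eq_mul_inv_of_mul_eq e]
    exact mul_mem h.t_mem_zpowers (inv_mem (pow_mem (mem_zpowers σ) 2)))
  have hr'c : Commute (r' : G) t := by
    rw [hr'eq]; exact h.comm_t_r.symm.mul_left (h.comm_t_σ.symm.pow_left 2)
  -- `σ²` centralises the torus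
  have hρT : ∀ z : L, Odd (orderOf z) → Commute (z : M ⧸ Cfsg.oddCore M) tb →
      Commute (z : M ⧸ Cfsg.oddCore M) (π ρ) := by
    intro z hz hzt
    have e1 := hinv ⟨r, hrM⟩ (hL.mem_r _ rfl) (by rw [Subgroup.orderOf_mk, h.order_r]) h.ne.symm
      h.comm_t_r.symm z hz hzt
    have e2 := hinv r' hr'L hr'o hr't hr'c z hz hzt
    refine (mul_inv_eq_iff_eq_mul.1 ?_).symm
    rw [hρ, map_mul, map_inv,
      show (π ⟨r, hrM⟩)⁻¹ * π r' * (z : M ⧸ Cfsg.oddCore M) * ((π ⟨r, hrM⟩)⁻¹ * π r')⁻¹ =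
        (π ⟨r, hrM⟩)⁻¹ * (π r' * z * (π r')⁻¹) * π ⟨r, hrM⟩ by group, e2, ← e1]
    group
  -- `σ²` centralises `O(M)`
  have hρK : ∀ k ∈ oddPart M, Commute k (σ ^ 2) := by
    intro k hk
    have h1 : Commute k (r * σ ^ 2) := by
      rw [← h.conj_r_eq]
      have hk' : (r * σ)⁻¹ * k * (r * σ) ∈ oddPart M := by
        have := (mem_normalizer_iff.1 (GWKlein.le_normalizer_oddPart M (inv_mem (hle h.sylow_mem_rσ))) k).1 hk
        rwa [inv_inv] at this
      have := (hK _ hk').2.map (MulAut.conj (r * σ)).toMonoidHom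
      simpa [mul_assoc] using this
    have := (hK k hk).2.inv_right.mul_right h1
    rwa [inv_mul_cancel_left] at this
  have hσpow : (σ ^ 2) ^ 2 ^ (n - 1) = 1 := by
    rw [← h.order_σ, ← pow_mul, mul_comm, pow_mul, pow_orderOf_eq_one, one_pow]
  have hσsq : ∀ u ∈ coreU t, Commute u (σ ^ 2) := by
    intro u hu
    have hσS : σ ^ 2 ∈ closure ({σ, r} : Set G) := pow_mem h.sylow_mem_σ 2
    set f := u * σ ^ 2 * u⁻¹ * (σ ^ 2)⁻¹ with hf
    have hfU : f ∈ coreU t := h.commutator_mem_coreU hσS hu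
    set fM : M := ⟨u, hUM hu⟩ * ρ * ⟨u, hUM hu⟩⁻¹ * ρ⁻¹ with hfM
    have hfe : (fM : G) = f := by
      show u * (ρ : G) * u⁻¹ * (ρ : G)⁻¹ = f
      rw [hρeq]
    have hfL : π fM ∈ L := hcomm _ _ hρL
    have hc := hρT ⟨_, hfL⟩ (by rw [Subgroup.orderOf_mk]; exact hodd fM (hfe ▸ hfU))
      (hct fM (hfe ▸ hfU))
    have hg : f * σ ^ 2 * f⁻¹ * (σ ^ 2)⁻¹ ∈ oddPart M := by
      have h1 := Local.commutator_mem (H := M) fM.2 ρ.2 hc
      rwa [hfe, hρeq] at h1
    have hfc : Commute f (σ ^ 2) := CaseA.commute_of_two_power hσpow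
      (h.odd_orderOf (h.commutator_mem_coreU hσS hfU)) (hρK _ hg)
    exact CaseA.commute_of_two_power hσpow (h.odd_orderOf hfU) hfc
  -- the commutators with `r`
  have heL : ∀ u (hu : u ∈ coreU t), ∃ x : M, (x : G) = u * r * u⁻¹ * r⁻¹ ∧ π x ∈ L ∧ (x : G) ∈ coreU t :=
    fun u hu => ⟨⟨u, hUM hu⟩ * ⟨r, hrM⟩ * ⟨u, hUM hu⟩⁻¹ * ⟨r, hrM⟩⁻¹, rfl, hcomm _ _ (hL.mem_r _ rfl),
      h.commutator_mem_coreU h.sylow_mem_r hu⟩
  refine ⟨hσsq, ?_, ?_⟩
  · obtain ⟨y, hy⟩ := hL.isPSL.exists_torus htbo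
    set A : Subgroup M := closure {x : M | ∃ u ∈ coreU t, (x : G) = u * r * u⁻¹ * r⁻¹} with hA
    have hgen : ∀ x ∈ A, (∀ k ∈ oddPart M, Commute (x : G) k) ∧
        π x ∈ (zpowers y).map L.subtype := by
      intro x hx
      induction hx using closure_induction with
      | mem x hx =>
        obtain ⟨u, hu, hxu⟩ := hx
        refine ⟨fun k hk => ?_, ?_⟩
        · rw [hxu]
          have hk' : u⁻¹ * k * u ∈ oddPart M := by
            have := (mem_normalizer_iff.1 (GWKlein.le_normalizer_oddPart M (inv_mem (hUM hu))) k).1 hk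
            rwa [inv_inv] at this
          have h1 := (hK _ hk').2.map (MulAut.conj u).toMonoidHom
          simp only [MulEquiv.coe_toMonoidHom, MulAut.conj_apply] at h1
          rw [show u * (u⁻¹ * k * u) * u⁻¹ = k by group] at h1
          exact (h1.mul_right (hK k hk).2.inv_right).symm
        · obtain ⟨x', hx', hxL, hxU⟩ := heL u hu
          rw [show x = x' from Subtype.ext (hxu.trans hx'.symm)]
          exact ⟨⟨π x', hxL⟩, hy _ (by rw [Subgroup.orderOf_mk]; exact hodd x' hxU)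
            (Subtype.ext (hct x' hxU).eq), rfl⟩
      | one => exact ⟨fun k _ => Commute.one_left k, by rw [map_one]; exact one_mem _⟩
      | mul a b _ _ ha hb =>
        exact ⟨fun k hk => (ha.1 k hk).mul_left (hb.1 k hk), by rw [map_mul]; exact mul_mem ha.2 hb.2⟩
      | inv a _ ha => exact ⟨fun k hk => (ha.1 k hk).inv_left, by rw [map_inv]; exact inv_mem ha.2⟩
    let f : A →* ((zpowers y).map L.subtype) :=
      (π.comp A.subtype).codRestrict _ fun a => (hgen a a.2).2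
    haveI : IsCyclic ((zpowers y).map L.subtype) := by
      rw [MonoidHom.map_zpowers]; infer_instance
    have hker : f.ker ≤ center A := by
      intro a ha
      refine mem_center_iff.2 fun b => Subtype.ext (Subtype.ext ?_)
      exact ((hgen b b.2).1 _ (Local.bar_eq_one.1 (congrArg Subtype.val (MonoidHom.mem_ker.1 ha)))).eq
    intro u hu u' hu'
    obtain ⟨x, hx, -, -⟩ := heL u hu
    obtain ⟨x', hx', -, -⟩ := heL u' hu'
    haveI := MonoidHom.isMulCommutative_of_isCyclic_of_ker_le_center f hker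
    have := congrArg (fun z : A => ((z : M) : G))
      (mul_comm' (⟨x, subset_closure ⟨u, hu, hx⟩⟩ : A) ⟨x', subset_closure ⟨u', hu', hx'⟩⟩)
    rw [← hx, ← hx']
    exact this
  · intro w hw
    obtain ⟨hwt, hwr2, hwo⟩ := h.swap.mem_coreW.1 hw
    have hwU : w ∈ coreU t := h.mem_coreU.2 ⟨hwt, hwo⟩
    obtain ⟨e, he, heL', heU⟩ := heL w hwU
    have hr2e : Commute (r * σ) (e : G) := by
      rw [he]
      refine mul_inv_eq_iff_eq_mul.1 ?_
      calc r * σ * (w * r * w⁻¹ * r⁻¹) * (r * σ)⁻¹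
          = (r * σ * w * (r * σ)⁻¹) * (r * σ * r * (r * σ)⁻¹) * (r * σ * w * (r * σ)⁻¹)⁻¹ *
              (r * σ * r * (r * σ)⁻¹)⁻¹ := by group
        _ = w * (r * σ ^ 2) * w⁻¹ * (r * σ ^ 2)⁻¹ := by
            rw [h.conj_r_eq, hwr2.symm.eq, mul_inv_cancel_right]
        _ = w * r * (σ ^ 2 * w⁻¹ * (σ ^ 2)⁻¹) * r⁻¹ := by group
        _ = _ := by rw [(hσsq w hwU).symm.inv_right.eq, mul_inv_cancel_right]
    have h1 : π e = 1 := hL.eq_one ⟨r * σ, hle h.sylow_mem_rσ⟩ rfl ⟨t, htM⟩ rfl _ heL' (hodd e heU)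
      (hct e heU) ((show Commute e ⟨r * σ, hle h.sylow_mem_rσ⟩ from Subtype.ext hr2e.symm.eq).map π)
    have hek : (e : G) ∈ oddPart M := Local.bar_eq_one.1 h1
    rw [he] at hek
    exact h.mem_coreW.2 ⟨hwt, commute_of_commutator_commute h.order_r
      ((GWKlein.odd_card_oddPart M).of_dvd_nat (orderOf_dvd_natCard _ hek)) (hK _ hek).2, hwo⟩

end DHyp

end Cfsg.Agent.GWDihedral
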