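import Cfsg.Agent.Lib.GWDihedral.SidesBasic
import Cfsg.Agent.Lib.GWDihedral.LocalFacts
import Cfsg.Agent.Lib.GWKlein.General.TypesConstrained

/-!
# Gorenstein-Walter, dihedral Sylow subgroups of order at least eight: a bad centraliser

A prime `p` that is not `PGood` gives an element `y` of order `p` of one of the two `W` whose centraliser is of
Gorenstein-Walter type, has the four-group in its socle, and has all invariant `p`-subgroups of its odd core
centralised by the four-group.

* `Bad`, `Bad.conj` : not `p`-constrained with solvable `O_{p'}`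
* `commute_of_bad` : a four-group in the socle of a bad group centralises the invariant `p`-subgroups of the core
* `DHyp.exists_bad_of_not_pGood`
-/

set_option autoImplicit false
set_option linter.style.haveILetI false

namespace Cfsg.Agent.GWDihedral

open Subgroup
open Cfsg.Agent.GWKlein (coreU coreW fourV oddPart)

universe u

variable {G : Type u} [Group G] {p : ℕ}

/-- Not `p`-constrained with solvable `O_{p'}`. -/
def Bad (p : ℕ) (H : Subgroup G) : Prop :=
  ¬ (Cfsg.IsPConstrained p H ∧ Group.IsSolvable (Cfsg.pPrimeCore p H))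

variable [Finite G]

theorem Bad.conj [Fact p.Prime] {H : Subgroup G} (hH : Bad p H) (g : G) :
    Bad p (H.map (MulAut.conj g).toMonoidHom) := by
  intro h
  set e : H ≃* H.map (MulAut.conj g).toMonoidHom := (MulAut.conj g).subgroupMap H
  refine hH ⟨Constrained.isPConstrained_congr e.symm h.1, ?_⟩
  rw [← Cores.pPrimeCore_map_mulEquiv e.symm p]
  haveI := h.2
  exact Group.isSolvable_of_surjective
    (f := ((Cfsg.pPrimeCore p _).equivMapOfInjective e.symm.toMonoidHom e.symm.injective).toMonoidHom)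
    ((Cfsg.pPrimeCore p _).equivMapOfInjective e.symm.toMonoidHom e.symm.injective).surjective

omit [Finite G] in
theorem not_bad_of_isSolvable {H : Subgroup G} [Finite H] [Fact p.Prime] (hH : Group.IsSolvable H) :
    ¬ Bad p H := fun h => by
  haveI := hH
  exact h ⟨HallHigman.isPConstrained_of_isSolvable,
    Group.isSolvable_of_isSolvable_injective (Subgroup.subtype_injective (Cfsg.pPrimeCore p H))⟩

omit [Finite G] in
/-- The socle condition moves with conjugation. -/
theorem InSocle.conj {V H : Subgroup G} (h : InSocle V H) (g : G) :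
    InSocle (V.map (MulAut.conj g).toMonoidHom) (H.map (MulAut.conj g).toMonoidHom) := by
  refine ⟨map_mono h.1, fun N hN hNe x hx => ?_⟩
  set e : H ≃* H.map (MulAut.conj g).toMonoidHom := (MulAut.conj g).subgroupMap H with he
  have hcard : Nat.card (N.comap e.toMonoidHom) = Nat.card N :=
    Nat.card_congr (e.toEquiv.subtypeEquiv fun a => Iff.rfl)
  haveI := hN
  obtain ⟨v, hv, hvx⟩ := mem_subgroupOf.1 hx
  have h1 := h.2 (N.comap e.toMonoidHom) inferInstance (hcard ▸ hNe) (x := ⟨v, h.1 hv⟩) (mem_subgroupOf.2 hv)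
  have : e ⟨v, h.1 hv⟩ = x := Subtype.ext hvx
  rw [← this]
  exact h1

variable [Fact p.Prime]

/-- A four-group in the socle of a bad group centralises the invariant `p`-subgroups of its odd core. -/
theorem commute_of_bad (hp2 : p ≠ 2) {H X : Subgroup G} (hbad : Bad p H) {V : Subgroup G}
    (hV : InSocle V H) (hX : IsPGroup p X) (hXH : X ≤ oddPart H) {v : G} (hv : v ∈ V) (hv2 : orderOf v = 2)
    (hvX : v ∈ normalizer (X : Set G)) : ∀ x ∈ X, Commute v x := by
  haveI : Fact (Nat.Prime 2) := ⟨Nat.prime_two⟩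
  haveI := Cores.pPrimeCore_normal p H
  haveI := Cores.pPrimeCore_normal 2 H
  have hXle : X ≤ H := hXH.trans (GWKlein.oddPart_le H)
  set O1 := Cfsg.pPrimeCore p H
  set q := QuotientGroup.mk' O1 with hq
  set O2 := Cfsg.pPrimeCore 2 H with hO2
  have hXO : ∀ x : H, (x : G) ∈ X → x ∈ O2 := fun x hx => by
    obtain ⟨x', hx', he⟩ := hXH hx
    exact (Subtype.ext he : x' = x) ▸ hx'
  haveI : (O2.map q).Normal := (inferInstance : O2.Normal).map q (QuotientGroup.mk'_surjective O1)
  haveI := Cores.pCore_normal p (H ⧸ O1)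
  set P := Cfsg.pCore p (H ⧸ O1) ⊓ O2.map q with hP
  have hodd2 : Odd (Nat.card O2) := Nat.not_even_iff_odd.1 fun e =>
    Cores.not_dvd_card_pPrimeCore (p := 2) (G := H) (even_iff_two_dvd.1 e)
  haveI : Group.IsSolvable O2 := S0205.result hodd2
  haveI : Group.IsSolvable (O2.map q) := Group.isSolvable_of_surjective (q.subgroupMap_surjective O2)
  have hbot : Cfsg.pPrimeCore p (O2.map q) = ⊥ := by
    refine (map_eq_bot_iff_of_injective _ (O2.map q).subtype_injective).1 ?_
    rw [Cores.pPrimeCore_map_subtype, Cores.pPrimeCore_quotient_self, bot_inf_eq]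
  have hself : ∀ z ∈ O2.map q, z ∈ centralizer (P : Set (H ⧸ O1)) → z ∈ P := by
    intro z hz hzc
    have h1 : (⟨z, hz⟩ : O2.map q) ∈ centralizer (Cfsg.pCore p (O2.map q) : Set (O2.map q)) :=
      mem_centralizer_iff.2 fun w hw => Subtype.ext (mem_centralizer_iff.1 hzc (w : H ⧸ O1)
        (hP ▸ Cores.pCore_map_subtype (O2.map q) p ▸ mem_map_of_mem (O2.map q).subtype hw))
    rw [hP, ← Cores.pCore_map_subtype]
    exact mem_map_of_mem (O2.map q).subtype (SylowLift.centralizer_pCore_le_of_solvable hbot h1)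
  have hPc : centralizer (Cfsg.pCore p (H ⧸ O1) : Set (H ⧸ O1)) ≤ centralizer (P : Set (H ⧸ O1)) :=
    centralizer_le inf_le_left
  set M := (centralizer (Cfsg.pCore p (H ⧸ O1) : Set (H ⧸ O1))).comap q with hM
  haveI : M.Normal := inferInstance
  have hO1M : O1 ≤ M := fun z hz => by
    rw [hM, mem_comap, show q z = 1 from (QuotientGroup.eq_one_iff z).2 hz]
    exact one_mem _
  have hMeven : Even (Nat.card M) := by
    by_contra hodd
    rw [Nat.not_even_iff_odd] at hodd
    have hMO : M ≤ O2 := Cores.le_pPrimeCore inferInstance (Nat.coprime_two_right.2 hodd)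
    refine hbad ⟨(Constrained.isPConstrained_iff).2 ?_, S0205.result (hodd.of_dvd_nat (card_dvd_of_le hO1M))⟩
    intro y hy
    obtain ⟨m, rfl⟩ := QuotientGroup.mk'_surjective O1 y
    exact (hself _ (mem_map_of_mem q (hMO hy)) (hPc hy)).1
  intro x hx
  let v' : H := ⟨v, hV.1 hv⟩
  let x' : H := ⟨x, hXle hx⟩
  have hvM : v' ∈ M := hV.2 M inferInstance hMeven (mem_subgroupOf.2 hv)
  have hord : (orderOf (q v')).Coprime p := by
    refine Nat.Coprime.coprime_dvd_left (orderOf_map_dvd q v') ?_
    rw [← Subgroup.orderOf_coe]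
    exact GWKlein.Hyp.coprime_orderOf hv2 Fact.out hp2
  set X' := (X.subgroupOf H).map q with hX'
  have hX'O : X' ≤ O2.map q := map_mono fun z hz => hXO z hz
  have hQp : IsPGroup p (X' ⊔ P : Subgroup (H ⧸ O1)) :=
    (hX.comap_subtype.map q).to_sup_of_normal_right ((Cores.isPGroup_pCore p _).to_le inf_le_left)
  have hvX' : q v' ∈ normalizer (X' : Set (H ⧸ O1)) :=
    le_normalizer_map q (mem_map_of_mem q (Coprime.mem_normalizer_of_forall fun z hz =>
      (mem_normalizer_iff.1 hvX (z : G)).1 hz))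
  have hvn : q v' ∈ normalizer ((X' ⊔ P : Subgroup (H ⧸ O1)) : Set (H ⧸ O1)) := by
    refine Cores.normalizer_inf_le_normalizer_sup X' P ⟨hvX', ?_⟩
    rw [normalizer_eq_top]
    exact mem_top _
  have hc := Components.mem_centralizer_of_mem_centralizer ((Cores.isPGroup_pCore p _).to_le inf_le_left) hQp
    ((le_sup_right : P ≤ X' ⊔ P).trans le_normalizer) hord hvn (hPc hvM) fun w hw hwP => by
      have hwO : w ∈ O2.map q := sup_le hX'O inf_le_right hw
      exact (mem_centralizer_iff.1 (hPc hvM) w (hself w hwO hwP)).symm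
  have h3 := mem_centralizer_iff.1 hc (q x') (mem_sup_left (mem_map_of_mem q (show x' ∈ X.subgroupOf H from hx)))
  have h4 : v' * x' * v'⁻¹ * x'⁻¹ ∈ O1 := by
    rw [← QuotientGroup.eq_one_iff]
    show q (v' * x' * v'⁻¹ * x'⁻¹) = 1
    rw [map_mul, map_mul, map_mul, map_inv, map_inv, ← h3]
    group
  have h5 : v * x * v⁻¹ * x⁻¹ ∈ X := mul_mem ((mem_normalizer_iff.1 hvX x).1 hx) (inv_mem hx)
  have h6 : v * x * v⁻¹ * x⁻¹ ∈ O1.map H.subtype := ⟨_, h4, rfl⟩
  have hcop : (Nat.card X).Coprime (Nat.card (O1.map H.subtype)) := by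
    obtain ⟨k, hk⟩ := IsPGroup.iff_card.1 hX
    rw [hk, Cores.card_map_subtype]
    exact ((Cores.coprime_card_pPrimeCore p).symm).pow_left _
  exact mul_inv_eq_iff_eq_mul.1 (mul_inv_eq_one.1 (Coprime.eq_one_of_mem_of_mem hcop h5 h6))

omit [Fact p.Prime] in
/-- A group of Gorenstein-Walter type has an involution in all its normal subgroups of even order. -/
theorem exists_socle_involution {H : Subgroup G} (hH : IsGWLike H) :
    ∃ (x : G) (hxH : x ∈ H), orderOf x = 2 ∧
      ∀ N : Subgroup H, N.Normal → Even (Nat.card N) → (⟨x, hxH⟩ : H) ∈ N := by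
  haveI : Fact (Nat.Prime 2) := ⟨Nat.prime_two⟩
  obtain ⟨L, hLn, hC, hL'⟩ := hH
  haveI := hLn
  have hL : Socle L := hL'
  set π := QuotientGroup.mk' (Cfsg.oddCore H) with hπ
  obtain ⟨l, hl⟩ := hL.exists_involution
  obtain ⟨z, hz⟩ := QuotientGroup.mk'_surjective (Cfsg.oddCore H) (l : H ⧸ Cfsg.oddCore H)
  have h2 : 2 ∣ orderOf z := by
    have := orderOf_map_dvd π z
    rwa [show π z = _ from hz, Subgroup.orderOf_coe, hl] at this
  obtain ⟨w, hw⟩ := exists_prime_orderOf_dvd_card' (G := L.comap π) 2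
    (h2.trans (orderOf_dvd_natCard _ (by rw [mem_comap, show π z = _ from hz]; exact l.2)))
  have hwo : orderOf ((w : H) : G) = 2 := by rw [Subgroup.orderOf_coe, Subgroup.orderOf_coe, hw]
  have hin : InSocle (zpowers ((w : H) : G)) H :=
    Local.inSocle_of_mem hL hC (zpowers_le.2 (w : H).2)
      (IsPGroup.of_card (n := 1) (by rw [Nat.card_zpowers, hwo, pow_one])) fun x hx => by
        obtain ⟨i, hi⟩ := mem_zpowers_iff.1 hx
        have : x = (w : H) ^ i := Subtype.ext (by rw [SubgroupClass.coe_zpow]; exact hi.symm)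
        rw [this, map_zpow]
        exact zpow_mem w.2 i
  exact ⟨_, (w : H).2, hwo, fun N hN hNe => hin.2 N hN hNe (mem_subgroupOf.2 (mem_zpowers _))⟩

variable {n : ℕ} {t r σ : G}

omit [Fact p.Prime] in
/-- A pair of commuting involutions is conjugate to `(t, r)` or to `(t, r * σ)`. -/
theorem DHyp.exists_conj_pair [IsSimpleGroup G] (h : DHyp n t r σ) {x y : G} (hx : orderOf x = 2)
    (hy : orderOf y = 2) (hne : y ≠ x) (hc : Commute x y) :
    ∃ g : G, g * x * g⁻¹ = t ∧ (g * y * g⁻¹ = r ∨ g * y * g⁻¹ = r * σ) := by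
  obtain ⟨g, hg⟩ := isConj_iff.1 (h.isConj_t hx).symm
  set y1 := g * y * g⁻¹ with hy1
  have hy1o : orderOf y1 = 2 :=
    (orderOf_injective (MulAut.conj g).toMonoidHom (MulAut.conj g).injective y).trans hy
  have hy1t : Commute t y1 := by
    have := hc.map (MulAut.conj g).toMonoidHom
    simpa [hg] using this
  have hy1ne : y1 ≠ t := fun e => hne ((MulAut.conj g).injective (by simpa [hg] using e))
  have hT : fourV t y1 ≤ centralizer ({t} : Set G) := GWKlein.fourV_le_iff.2
    ⟨mem_centralizer_singleton_iff.2 rfl, mem_centralizer_singleton_iff.2 hy1t.symm.eq⟩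
  obtain ⟨c, hct, hc'⟩ := h.exists_conj_le (Local.isPGroup_fourV h.order_t hy1o hy1t) hT
  have hy2 := hc' y1 (GWKlein.right_mem_fourV t y1)
  rcases h.mem_sylow_cases hy2 with ⟨k, hk⟩ | ⟨k, hk⟩
  · exfalso
    have ho : orderOf (σ ^ k) = 2 := by
      rw [← hk]
      exact (orderOf_injective (MulAut.conj c).toMonoidHom (MulAut.conj c).injective y1).trans hy1o
    have e : c * y1 * c⁻¹ = c * t * c⁻¹ := by
      rw [hk, h.eq_t_of_rotation ho, hct.eq, mul_inv_cancel_right]
    exact hy1ne (conj_injective e)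
  · obtain ⟨m, hm⟩ := Nat.even_or_odd' k
    have hσt : Commute (σ ^ m) t := (h.comm_t_σ.pow_right m).symm
    refine ⟨σ ^ m * c * g, ?_, ?_⟩
    · rw [show σ ^ m * c * g * x * (σ ^ m * c * g)⁻¹ = σ ^ m * (c * (g * x * g⁻¹) * c⁻¹) * (σ ^ m)⁻¹ by group,
        hg, hct.eq, mul_inv_cancel_right, hσt.eq, mul_inv_cancel_right]
    · have e1 : σ ^ m * r = r * (σ ^ m)⁻¹ := by
        rw [← Involution.inverts_pow h.conj_σ m, Involution.inv_eq h.order_r, ← mul_assoc r, ← mul_assoc r,
          h.mul_self_r, one_mul]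
      have e : σ ^ m * c * g * y * (σ ^ m * c * g)⁻¹ = r * ((σ ^ m)⁻¹ * σ ^ k * (σ ^ m)⁻¹) := by
        rw [show σ ^ m * c * g * y * (σ ^ m * c * g)⁻¹ = σ ^ m * (c * y1 * c⁻¹) * (σ ^ m)⁻¹ by
          rw [hy1]; group, hk, ← mul_assoc (σ ^ m) r, e1]
        group
      rw [e]
      rcases hm with hm | hm
      · left
        rw [hm, two_mul, pow_add]
        group
      · right
        rw [hm, pow_succ, two_mul, pow_add]
        have hcm : σ * (σ ^ m)⁻¹ = (σ ^ m)⁻¹ * σ := ((Commute.refl σ).pow_right m).inv_right.eq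
        rw [show (σ ^ m)⁻¹ * (σ ^ m * σ ^ m * σ) * (σ ^ m)⁻¹ = σ ^ m * (σ * (σ ^ m)⁻¹) by group, hcm,
          mul_inv_cancel_left]

/-- If `p` is not `PGood` there is a bad centraliser of an element of one of the two `W`. -/
theorem DHyp.exists_bad_of_not_pGood [IsSimpleGroup G] (h : DHyp n t r σ) (hind : ProperGWLike G) (hp : p ≠ 2)
    (hbad : ¬ GWKlein.PGood G p) :
    ∃ r' y, (r' = r ∨ r' = r * σ) ∧ y ∈ coreW t r' ∧ orderOf y = p ∧
      InSocle (fourV t r') (centralizer ({y} : Set G)) ∧ IsGWLike (centralizer ({y} : Set G) : Subgroup G) ∧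
      ∀ X : Subgroup G, IsPGroup p X → fourV t r' ≤ normalizer (X : Set G) →
        X ≤ oddPart (centralizer ({y} : Set G)) → X ≤ centralizer (fourV t r' : Set G) := by
  obtain ⟨a, ha, hbad'⟩ : ∃ a : G, orderOf a = p ∧ Bad p (centralizer ({a} : Set G)) := by
    by_contra hcon
    push Not at hcon
    exact hbad (GWKlein.pGood_of_centralizers fun a ha => not_not.1 (hcon a ha))
  -- the centraliser is proper
  have hCne : ∀ b : G, orderOf b = p → centralizer ({b} : Set G) ≠ ⊤ := by
    intro b hb htop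
    have hbc : b ∈ center G := mem_center_iff.2 fun g =>
      mem_centralizer_singleton_iff.1 (htop.ge (mem_top g))
    rcases (inferInstance : (center G).Normal).eq_bot_or_eq_top with e | e
    · rw [e, mem_bot] at hbc
      rw [hbc, orderOf_one] at hb
      exact (Fact.out : p.Prime).one_lt.ne hb
    · obtain ⟨k, hk⟩ := h.exists_add
      have hcomm : r * σ = σ * r := (mem_center_iff.1 (e.ge (mem_top σ)) r)
      have h1 := h.conj_σ
      rw [hcomm, mul_inv_cancel_right] at h1
      have h2 : orderOf σ ∣ 2 :=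
        orderOf_dvd_of_pow_eq_one (by rw [pow_two]; exact eq_inv_iff_mul_eq_one.1 h1)
      have := Nat.le_of_dvd two_pos h2
      have := h.four_le_order
      omega
  have hGW : IsGWLike (centralizer ({a} : Set G) : Subgroup G) :=
    hind _ (hCne a ha) fun hs => not_bad_of_isSolvable hs hbad'
  obtain ⟨x, hxH, hx, hall⟩ := exists_socle_involution hGW
  obtain ⟨y, -, hy, hyx, hxy, hV⟩ := GWDihedral.exists_inSocle hGW hxH hx hall
  obtain ⟨g, hgx, hgy⟩ := h.exists_conj_pair hx hy hyx hxy
  set r' := g * y * g⁻¹ with hr'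
  have hH' : (centralizer ({a} : Set G)).map (MulAut.conj g).toMonoidHom =
      centralizer ({g * a * g⁻¹} : Set G) := GWKlein.map_conj_centralizer_singleton g a
  have hV' : InSocle (fourV t r') (centralizer ({g * a * g⁻¹} : Set G)) := by
    have h1 := hV.conj g
    rw [hH'] at h1
    convert h1 using 1
    rw [fourV, fourV, MonoidHom.map_closure, Set.image_pair, ← hgx]
    rfl
  have hbad2 : Bad p (centralizer ({g * a * g⁻¹} : Set G)) := hH' ▸ hbad'.conj g
  have hao : orderOf (g * a * g⁻¹) = p :=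
    (orderOf_injective (MulAut.conj g).toMonoidHom (MulAut.conj g).injective a).trans ha
  have hmem : g * a * g⁻¹ ∈ coreW t r' := by
    have ht := mem_centralizer_singleton_iff.1 (hV'.1 (GWKlein.left_mem_fourV t r'))
    have hr := mem_centralizer_singleton_iff.1 (hV'.1 (GWKlein.right_mem_fourV t r'))
    have hodd : Odd (orderOf (g * a * g⁻¹)) := hao ▸ (Fact.out : p.Prime).odd_of_ne_two hp
    exact ⟨h.mem_coreU.2 ⟨(show Commute t _ from ht).symm, hodd⟩,
      Involution.mem_centralizer_iff_commute.2 (show Commute r' _ from hr).symm⟩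
  refine ⟨r', g * a * g⁻¹, hgy, hmem, hao, hV',
    hind _ (hCne _ hao) fun hs => not_bad_of_isSolvable hs hbad2, fun X hX hXV hXO x hx => ?_⟩
  have hr'o : orderOf r' = 2 :=
    (orderOf_injective (MulAut.conj g).toMonoidHom (MulAut.conj g).injective y).trans hy
  refine GWKlein.mem_centralizer_fourV.2 ⟨(commute_of_bad hp hbad2 hV' hX hXO
    (GWKlein.left_mem_fourV t r') h.order_t (hXV (GWKlein.left_mem_fourV t r')) x hx).symm,
    (commute_of_bad hp hbad2 hV' hX hXO (GWKlein.right_mem_fourV t r') hr'o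
      (hXV (GWKlein.right_mem_fourV t r')) x hx).symm⟩

end Cfsg.Agent.GWDihedral
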