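import Cfsg.Agent.Lib.GWDihedral.LocalMixed

/-!
# Gorenstein-Walter, dihedral Sylow subgroups of order eight: the corner of (2.1)

* `Corner` : what is left of (2.1) after the generic argument, section 2.1A of `notes/gw_dihedral_eight.md`
-/

set_option autoImplicit false

namespace Cfsg.Agent.GWDihedral

open Subgroup
open Cfsg.Agent.GWKlein (coreU coreW fourV oddPart)

universe u

variable {G : Type u} [Group G]

/-- An invariant Sylow 3-subgroup `W` of `U` centralised by `r`, not centralised and not inverted by `r * σ`;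
`w` is central of order 3 and inverted, and it generates what is inverted in the centralisers of the fixed
elements. -/
structure Corner (t r σ : G) (W : Subgroup G) (w : G) : Prop where
  le : W ≤ coreW t r
  isPGroup : IsPGroup 3 W
  card : Nat.card W = 3 ^ (Nat.card (coreU t)).factorization 3
  inv : closure ({σ, r} : Set G) ≤ normalizer (W : Set G)
  fixed_ne : W ⊓ coreW t (r * σ) ≠ ⊥
  card_fixed : Nat.card (W ⊓ coreW t (r * σ) : Subgroup G) = 3 ^ (Nat.card (coreW t (r * σ))).factorization 3
  mem_w : w ∈ W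
  order_w : orderOf w = 3
  central : W ≤ centralizer ({w} : Set G)
  inv_w : r * σ * w * (r * σ)⁻¹ = w⁻¹
  excP : MixedExc t r σ (centralizer ((W ⊓ coreW t (r * σ) : Subgroup G) : Set G))
  exc : ∀ c ∈ W ⊓ coreW t (r * σ), c ≠ 1 → MixedExc t r σ (centralizer ({c} : Set G))
  inverted : ∀ c ∈ W ⊓ coreW t (r * σ), c ≠ 1 → ∀ x ∈ W, Commute x c →
    r * σ * x * (r * σ)⁻¹ = x⁻¹ → x ∈ zpowers w

/-- (2.1) at the primes other than three. -/
def OtherPrimes (t r : G) : Prop :=
  ∀ l : ℕ, l.Prime → l ≠ 3 → ∀ L : Subgroup G, L ≤ coreW t r → IsPGroup l L →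
    ∃ s, Rot t r s ∧ s ∈ centralizer (L : Set G)

end Cfsg.Agent.GWDihedral
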