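import Cfsg.Agent.Lib.GWDihedral.RotTools
import Cfsg.Agent.Lib.Signalizer.Transitivity

/-!
# Gorenstein-Walter, dihedral Sylow subgroups: rotations inverted by a reflection of the other class

* `Rot.mem_normalizer`, `Rot.exists_pow`, `DHyp.rot_or_inv` : rotations and their powers
* `DHyp.exists_inverted_rot` : a rotation in a subgroup invariant under `r * σ` gives one inverted by it, of
  3-power order
-/

set_option autoImplicit false
set_option linter.unusedSectionVars false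

namespace Cfsg.Agent.GWDihedral

open Subgroup
open Cfsg.Agent.GWKlein (coreU coreW fourV oddPart)

universe u

variable {G : Type u} [Group G] [Finite G] {n : ℕ} {t r σ s : G}

/-- An element of odd order commutes with what its square commutes with. -/
theorem commute_of_sq_odd {x m : G} (hx : Odd (orderOf x)) (h : Commute (x * x) m) : Commute x m := by
  obtain ⟨j, hj⟩ := hx
  have e : x = (x * x) ^ (j + 1) := by
    rw [← pow_two, ← pow_mul, show 2 * (j + 1) = orderOf x + 1 by omega, pow_succ, pow_orderOf_eq_one, one_mul]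
  rw [e]
  exact h.pow_left _

theorem odd_of_three_pow {x : G} {k : ℕ} (hx : x ^ 3 ^ k = 1) : Odd (orderOf x) :=
  (Odd.pow (⟨1, rfl⟩ : Odd 3)).of_dvd_nat (orderOf_dvd_of_pow_eq_one hx)

namespace Rot

theorem commute_cube (hs : Rot t r s) (h : DHyp n t r σ) : Commute (s ^ 3) t ∧ Commute (s ^ 3) r := by
  have e := Rot.conj_mul hs h.comm_t_r h.mul_self_r
  rw [show s ^ 3 = s * s * s by simp [pow_succ, mul_assoc]]
  constructor <;> refine mul_inv_eq_iff_eq_mul.1 ?_
  · calc s * s * s * t * (s * s * s)⁻¹ = s * (s * (s * t * s⁻¹) * s⁻¹) * s⁻¹ := by group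
      _ = t := by rw [hs.1, hs.2, e]
  · calc s * s * s * r * (s * s * s)⁻¹ = s * (s * (s * r * s⁻¹) * s⁻¹) * s⁻¹ := by group
      _ = r := by rw [hs.2, e, hs.1]

theorem not_commute (hs : Rot t r s) (h : DHyp n t r σ) : ¬ Commute s t := fun hc =>
  h.ne (by rw [← hs.1, hc.eq, mul_inv_cancel_right])

theorem mem_normalizer (hs : Rot t r s) (h : DHyp n t r σ) : s ∈ normalizer (fourV t r : Set G) := by
  refine Coprime.mem_normalizer_of_forall fun v hv => ?_
  rcases h.mem_fourV_iff.1 hv with rfl | rfl | rfl | rfl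
  · simp
  · rw [hs.1]; exact GWKlein.right_mem_fourV _ _
  · rw [hs.2]; exact mul_mem (GWKlein.left_mem_fourV _ _) (GWKlein.right_mem_fourV _ _)
  · rw [Rot.conj_mul hs h.comm_t_r h.mul_self_r]; exact GWKlein.left_mem_fourV _ _

/-- A power of a rotation is a rotation of 3-power order. -/
theorem exists_pow (hs : Rot t r s) (h : DHyp n t r σ) :
    ∃ m k : ℕ, Rot t r (s ^ m) ∧ (s ^ m) ^ 3 ^ k = 1 := by
  have hrot : ∀ j : ℕ, Rot t r (s ^ (3 * j + 1)) := fun j => by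
    rw [pow_succ, pow_mul]
    exact hs.mul_left ((hs.commute_cube h).1.pow_left j) ((hs.commute_cube h).2.pow_left j)
  set o := orderOf s
  have ho : o ≠ 0 := (orderOf_pos s).ne'
  set m0 := ordCompl[3] o with hm0
  have h3 : ¬ 3 ∣ m0 := Nat.not_dvd_ordCompl Nat.prime_three ho
  have hpow : ∀ a, (s ^ (a * m0)) ^ 3 ^ (o.factorization 3) = 1 := fun a => by
    rw [← pow_mul, show a * m0 * 3 ^ o.factorization 3 = (3 ^ o.factorization 3 * m0) * a by ring, pow_mul,
      hm0, Nat.ordProj_mul_ordCompl_eq_self, pow_orderOf_eq_one, one_pow]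
  rcases (by omega : m0 % 3 = 1 ∨ m0 % 3 = 2) with hr | hr
  · exact ⟨1 * m0, _, by rw [show 1 * m0 = 3 * (m0 / 3) + 1 by omega]; exact hrot _, hpow 1⟩
  · exact ⟨2 * m0, _, by rw [show 2 * m0 = 3 * ((2 * m0) / 3) + 1 by omega]; exact hrot _, hpow 2⟩

end Rot

namespace DHyp

/-- Conjugation by the other reflection. -/
theorem tau_conj (h : DHyp 3 t r σ) :
    r * σ * t * (r * σ)⁻¹ = t ∧ r * σ * r * (r * σ)⁻¹ = t * r ∧ r * σ * (t * r) * (r * σ)⁻¹ = r := by
  have e1 : r * σ * t * (r * σ)⁻¹ = t := by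
    rw [mul_inv_eq_iff_eq_mul]; exact ((h.comm_t_r.mul_right h.comm_t_σ).eq).symm
  have h2 : σ * σ = t := by rw [h.t_eq]; show σ * σ = σ ^ 2; rw [pow_two]
  have h3 : σ * r = r * σ⁻¹ := by
    rw [eq_mul_inv_iff_mul_eq, mul_assoc, mul_inv_eq_iff_eq_mul.1 h.conj_σ, mul_inv_cancel_left]
  have e2 : r * σ * r * (r * σ)⁻¹ = t * r := by
    rw [mul_assoc r σ r, h3, ← mul_assoc, h.mul_self_r, one_mul, _root_.mul_inv_rev, Involution.inv_eq h.order_r,
      ← mul_assoc, ← mul_inv_rev, h2, Involution.inv_eq h.order_t]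
  exact ⟨e1, e2, by rw [← _root_.conj_mul, e1, e2, ← mul_assoc, h.mul_self_t, one_mul]⟩

/-- An element of odd order normalising the four-group and moving `t` is a rotation or the inverse of one. -/
theorem rot_or_inv (h : DHyp n t r σ) {g : G} (hg : g ∈ normalizer (fourV t r : Set G)) (ho : Odd (orderOf g))
    (hne : ¬ Commute g t) : Rot t r g ∨ Rot t r g⁻¹ := by
  have himg : ∀ v ∈ fourV t r, v ≠ 1 → g * v * g⁻¹ = t ∨ g * v * g⁻¹ = r ∨ g * v * g⁻¹ = t * r :=
    fun v hv hv1 => mem_fourV_cases h ((mem_normalizer_iff.1 hg v).1 hv) (mt conj_eq_one_iff.1 hv1)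
  have hno : ∀ v, g * t * g⁻¹ = v → g * v * g⁻¹ = t → False := fun v e1 e2 => hne (commute_of_sq_odd ho
    (mul_inv_eq_iff_eq_mul.1 (by
      calc g * g * t * (g * g)⁻¹ = g * (g * t * g⁻¹) * g⁻¹ := by group
        _ = t := by rw [e1, e2])))
  rcases himg t (GWKlein.left_mem_fourV _ _) h.ne_one_t with e | e | e
  · exact absurd (mul_inv_eq_iff_eq_mul.1 e) hne
  · refine Or.inl ⟨e, ?_⟩
    rcases himg r (GWKlein.right_mem_fourV _ _) h.ne_one_r with e' | e' | e'
    · exact (hno r e e').elim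
    · exact absurd (conj_injective (x := g) (e.trans e'.symm)) h.ne
    · exact e'
  · refine Or.inr ?_
    have e' : g * r * g⁻¹ = t := by
      rcases himg r (GWKlein.right_mem_fourV _ _) h.ne_one_r with e' | e' | e'
      · exact e'
      · refine (hno (t * r) e ?_).elim
        rw [← _root_.conj_mul, e, e', mul_assoc, h.mul_self_r, mul_one]
      · exact absurd (conj_injective (x := g) (e.trans e'.symm)) h.ne
    have e'' : g * (t * r) * g⁻¹ = r := by
      rw [← _root_.conj_mul, e, e', mul_assoc, h.comm_t_r.symm.eq, ← mul_assoc, h.mul_self_t, one_mul]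
    exact ⟨by nth_rw 1 [← e']; group, by nth_rw 1 [← e'']; group⟩

/-- A rotation inverted by `r * σ`, of 3-power order. -/
theorem exists_inverted_rot (h : DHyp 3 t r σ) {X : Subgroup G}
    (hX : ∀ a ∈ X, r * σ * a * (r * σ)⁻¹ ∈ X) (hs : Rot t r s) (hsX : s ∈ X) :
    ∃ d ∈ X, Rot t r d ∧ r * σ * d * (r * σ)⁻¹ = d⁻¹ ∧ ∃ k, d ^ 3 ^ k = 1 := by
  obtain ⟨e1, e2, e3⟩ := h.tau_conj
  have hv := Involution.inv_eq h.order_r_mul_σ
  set τ := r * σ
  rw [hv] at e1 e2 e3
  have i1 : s⁻¹ * t * s = t * r := by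
    nth_rw 1 [← Rot.conj_mul hs h.comm_t_r h.mul_self_r]; group
  have i2 : s⁻¹ * r * s = t := by nth_rw 1 [← hs.1]; group
  have hd : Rot t r (τ * s * τ⁻¹ * s⁻¹) := by
    constructor
    · calc τ * s * τ⁻¹ * s⁻¹ * t * (τ * s * τ⁻¹ * s⁻¹)⁻¹ = τ * (s * (τ⁻¹ * (s⁻¹ * t * s) * τ) * s⁻¹) * τ⁻¹ := by
            group
        _ = r := by rw [i1, hv, e3, hs.2, e3]
    · calc τ * s * τ⁻¹ * s⁻¹ * r * (τ * s * τ⁻¹ * s⁻¹)⁻¹ = τ * (s * (τ⁻¹ * (s⁻¹ * r * s) * τ) * s⁻¹) * τ⁻¹ := by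
            group
        _ = t * r := by rw [i2, hv, e1, hs.1, e2]
  have hτ2 : τ * τ = 1 := Involution.mul_self h.order_r_mul_σ
  obtain ⟨m, k, hm, hk⟩ := hd.exists_pow h
  refine ⟨_, pow_mem (mul_mem (hX s hsX) (inv_mem hsX)) m, hm, ?_, k, hk⟩
  rw [← conj_pow, ← inv_pow]
  congr 1
  calc τ * (τ * s * τ⁻¹ * s⁻¹) * τ⁻¹ = τ * τ * (s * τ⁻¹ * s⁻¹ * τ⁻¹) := by group
    _ = s * τ⁻¹⁻¹ * s⁻¹ * τ⁻¹ := by rw [hτ2, one_mul, hv, hv]
    _ = _ := by group

end DHyp

end Cfsg.Agent.GWDihedral
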