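import Cfsg.Agent.Lib.GWDihedral.Setup
import Cfsg.Agent.Lib.GWKlein.Functor
import Cfsg.Agent.Lib.Quadratic.Stable
import Cfsg.Agent.Lib.QdCrit.Stable

/-!
# Gorenstein-Walter, dihedral Sylow 2-subgroups: `p`-stability and the functor

* `SqAb T`: outside an abelian subgroup `T` has only elements with square one
* `pStableSections_of_sqAb`: then no section is `SL₂(p)`, so all sections are `p`-stable, `p` odd
* `DHyp.pStableSections`, `DHyp.exists_overgroup`: FUNCTOR of `notes/gw_dihedral_eight.md`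
-/

set_option autoImplicit false
set_option linter.style.haveILetI false

namespace Cfsg.Agent.GWDihedral

open Subgroup

universe u

/-- Outside some abelian subgroup all elements of `T` have square one. -/
def SqAb {G : Type*} [Group G] (T : Subgroup G) : Prop :=
  ∃ A : Subgroup G, (∀ x ∈ A, ∀ y ∈ A, Commute x y) ∧ ∀ x ∈ T, x ∉ A → x * x = 1

theorem SqAb.mono {G : Type*} [Group G] {T U : Subgroup G} (h : SqAb T) (hU : U ≤ T) : SqAb U :=
  let ⟨A, hA, h2⟩ := h; ⟨A, hA, fun x hx => h2 x (hU hx)⟩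

theorem SqAb.map {G H : Type*} [Group G] [Group H] {T : Subgroup G} (h : SqAb T) (f : G →* H) :
    SqAb (T.map f) := by
  obtain ⟨A, hA, h2⟩ := h
  refine ⟨A.map f, ?_, ?_⟩
  · rintro _ ⟨a, ha, rfl⟩ _ ⟨b, hb, rfl⟩
    exact (hA a ha b hb).map f
  · rintro _ ⟨x, hx, rfl⟩ hxA
    rw [← map_mul, h2 x hx fun h => hxA ⟨x, h, rfl⟩, map_one]

section

variable {p : ℕ} [Fact p.Prime]

/-- In `SL₂(p)` the elements of square one are central, so `SqAb` 2-subgroups are abelian. -/
theorem not_sqAb_sl2 (hp : p ≠ 2)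
    (T : Sylow 2 (PSL2.SL2 (ZMod p))) : ¬ SqAb (T : Subgroup (PSL2.SL2 (ZMod p))) := by
  rintro ⟨A, hA, h2⟩
  refine Quadratic.not_comm_sylow_two_sl2 hp T ⟨⟨fun a b => Subtype.ext ?_⟩⟩
  have hc : ∀ x : PSL2.SL2 (ZMod p), x * x = 1 → ∀ y, Commute x y := fun x hx y => by
    by_cases h1 : x = 1
    · exact h1 ▸ Commute.one_left y
    · rw [QdCrit.eq_neg_one_of_sq hp hx h1]
      show -1 * y = y * -1
      rw [neg_one_mul, mul_neg_one]
  by_cases ha : (a : PSL2.SL2 (ZMod p)) ∈ A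
  · by_cases hb : (b : PSL2.SL2 (ZMod p)) ∈ A
    · exact hA _ ha _ hb
    · exact (hc _ (h2 _ b.2 hb) _).symm
  · exact hc _ (h2 _ a.2 ha) _

/-- No section `SL₂(p)`. -/
theorem pStableSections_of_sqAb {G : Type u} [Group G] [Finite G] (hp : p ≠ 2)
    (h : ∀ T : Sylow 2 G, SqAb (T : Subgroup G)) : GWKlein.PStableSections G p := by
  haveI : Fact (Nat.Prime 2) := ⟨Nat.prime_two⟩
  intro H O _ P _ hP a ha
  by_contra hna
  obtain ⟨K, L, hL, -, ⟨e⟩⟩ :=
    Quadratic.section_sl2_of_not_stable hp hP (Quadratic.commute_of_quad ha) hna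
  haveI := hL
  let π := QuotientGroup.mk' O
  let q : ↥(K.comap π) →* PSL2.SL2 (ZMod p) :=
    (e.toMonoidHom.comp (QuotientGroup.mk' (L.subgroupOf K))).comp (π.subgroupComap K)
  have hq : Function.Surjective q := by
    refine (e.surjective.comp (QuotientGroup.mk'_surjective _)).comp ?_
    rintro ⟨y, hy⟩
    obtain ⟨x, rfl⟩ := QuotientGroup.mk'_surjective O y
    exact ⟨⟨x, hy⟩, rfl⟩
  obtain ⟨U⟩ : Nonempty (Sylow 2 ↥(K.comap π)) := inferInstance
  set j : ↥(K.comap π) →* G := H.subtype.comp (K.comap π).subtype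
  have hj : Function.Injective j := H.subtype_injective.comp (K.comap π).subtype_injective
  obtain ⟨T, hT⟩ := (U.2.map j).exists_le_sylow
  obtain ⟨A, hA, h2⟩ := h T
  have hU : SqAb (U : Subgroup ↥(K.comap π)) :=
    ⟨A.comap j, fun x hx y hy => hj (by rw [map_mul, map_mul]; exact hA _ hx _ hy),
      fun x hx hxA => hj (by rw [map_mul, map_one]; exact h2 _ (hT ⟨x, hx, rfl⟩) hxA)⟩
  exact not_sqAb_sl2 hp (U.mapSurjective hq) (by rw [Sylow.coe_mapSurjective]; exact hU.map q)

end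

variable {G : Type u} [Group G] {n : ℕ} {t r σ : G}

/-- A dihedral Sylow subgroup: the rotations are abelian, the other elements are involutions. -/
theorem DHyp.sqAb [Finite G] (h : DHyp n t r σ) (T : Sylow 2 G) : SqAb (T : Subgroup G) := by
  haveI : Fact (Nat.Prime 2) := ⟨Nat.prime_two⟩
  obtain ⟨P, hP⟩ := h.sylow
  have hPa : SqAb (P : Subgroup G) := by
    refine ⟨zpowers σ, fun x hx y hy => ?_, fun x hx hxA => ?_⟩
    · obtain ⟨i, rfl⟩ := mem_zpowers_iff.1 hx
      obtain ⟨j, rfl⟩ := mem_zpowers_iff.1 hy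
      exact (Commute.refl σ).zpow_zpow i j
    · have hn : zpowers r ≤ normalizer (zpowers σ : Set G) := by
        refine zpowers_le.2 (mem_normalizer_fintype ?_)
        rintro _ ⟨i, rfl⟩
        exact ⟨-i, by show σ ^ (-i) = _; rw [← conj_zpow, h.conj_σ, inv_zpow, zpow_neg]⟩
      have hx' : x ∈ zpowers r ⊔ zpowers σ := by
        rw [hP] at hx
        refine closure_le _ |>.2 ?_ hx
        rintro y (rfl | rfl)
        · exact mem_sup_right (mem_zpowers y)
        · exact mem_sup_left (mem_zpowers y)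
      rw [← SetLike.mem_coe, coe_mul_of_left_le_normalizer_right _ _ hn] at hx'
      obtain ⟨y, hy, z, hz, rfl⟩ := hx'
      obtain ⟨i, rfl⟩ := mem_zpowers_iff.1 hz
      obtain ⟨k, rfl⟩ := mem_zpowers_iff.1 hy
      show r ^ k * σ ^ i * (r ^ k * σ ^ i) = 1
      rcases Int.even_or_odd' k with ⟨m, rfl | rfl⟩
      · refine absurd ?_ hxA
        show r ^ (2 * m) * σ ^ i ∈ zpowers σ
        rw [zpow_mul, zpow_two, h.mul_self_r, one_zpow, one_mul]; exact hz
      · rw [zpow_add, zpow_mul, zpow_two, h.mul_self_r, one_zpow, one_mul, zpow_one]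
        have e : r * σ ^ i * r⁻¹ = (σ ^ i)⁻¹ := by rw [← conj_zpow, h.conj_σ, inv_zpow]
        rw [Involution.inv_eq h.order_r] at e
        rw [← mul_assoc, e, inv_mul_cancel]
  obtain ⟨g, hg⟩ := MulAction.exists_smul_eq G P T
  rw [← hg, Sylow.coe_subgroup_smul]
  exact hPa.map _

/-- All sections are `p`-stable, `p` odd. -/
theorem DHyp.pStableSections [Finite G] {p : ℕ} [Fact p.Prime] (h : DHyp n t r σ) (hp : p ≠ 2) :
    GWKlein.PStableSections G p :=
  pStableSections_of_sqAb hp h.sqAb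

theorem DHyp.not_isSolvable [Finite G] [IsSimpleGroup G] (h : DHyp n t r σ) :
    ¬ Group.IsSolvable G := by
  intro hs
  have hc : IsMulCommutative G := by
    rcases (inferInstance : (commutator G).Normal).eq_bot_or_eq_top with hb | ht
    · exact ⟨⟨fun a b => commutatorElement_eq_one_iff_mul_comm.1
        (mem_bot.1 (hb ▸ Subgroup.commutator_mem_commutator (mem_top a) (mem_top b)))⟩⟩
    · exact absurd ht (Group.IsSolvable.commutator_lt_top_of_nontrivial G).ne
  have e : r * σ * r⁻¹ = σ := by rw [hc.is_comm.comm r σ, mul_inv_cancel_right]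
  rw [h.conj_σ] at e
  have h2 := Nat.le_of_dvd two_pos (orderOf_dvd_of_pow_eq_one (x := σ) (n := 2)
    (by rw [sq]; exact mul_eq_one_iff_eq_inv.2 e.symm))
  have := h.four_le_order
  omega

/-- **FUNCTOR**: over a rank three subgroup of a `p`-group `X` a proper `M ≥ N(X)` with the centralisers
of all rank three subgroups of `M` and the `p`-constrained groups over their subgroups of order `p ^ 2`. -/
theorem DHyp.exists_overgroup [Finite G] [IsSimpleGroup G] {p : ℕ} [Fact p.Prime] (h : DHyp n t r σ)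
    (hp : p ≠ 2) (hloc : GWKlein.PGood G p) {X A : Subgroup G} (hX : IsPGroup p X) (hAX : A ≤ X)
    (hA : Cfsg.IsElementaryAbelian p A) (hA3 : p ^ 3 ≤ Nat.card A) :
    ∃ M : Subgroup G, M ≠ ⊤ ∧ X ≤ M ∧ normalizer (X : Set G) ≤ M ∧
      ∀ F ≤ M, Cfsg.IsElementaryAbelian p F → p ^ 3 ≤ Nat.card F →
        (∀ a ∈ F, a ≠ 1 → centralizer ({a} : Set G) ≤ M) ∧
        ∀ B ≤ F, Nat.card B = p ^ 2 → ∀ H : Subgroup G, Cfsg.IsPConstrained p H → B ≤ H → H ≤ M := by
  obtain ⟨M, hM, hXM, hNX, hF⟩ := GWKlein.exists_overgroup_simple_full inferInstance h.not_isSolvable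
    (h.pStableSections hp) hp hloc hX hAX hA hA3
  exact ⟨M, hM, hXM, hNX, fun F hFM hFe hF3 =>
    ⟨(hF F hFM hFe hF3).1, fun B hB hBc => ((hF F hFM hFe hF3).2 B hB hBc).2⟩⟩

end Cfsg.Agent.GWDihedral
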