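import Cfsg.Agent.Lib.GWDihedral.Growth
import Cfsg.Agent.Lib.GWDihedral.Functor
import Cfsg.Agent.Lib.GWDihedral.Ratio
import Cfsg.Agent.Lib.GWKlein.General.TypesBase
import Cfsg.Agent.Lib.GWKlein.Mixed
import Cfsg.Agent.Lib.OddPrime.Tools
import Cfsg.Agent.Lib.TIHall.Basic

/-!
# Gorenstein-Walter, dihedral Sylow subgroups of order at least eight: a full side, all locals constrained

Section (1.2) of `notes/gw_dihedral_eight.md`, given `PGood`.

* `FullSide.exists_elem` : an element of `C_R(U_p)` of order `p` fixed by `r` and inverted by `t`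
* `not_opposite` : no two elements fixing different lines of an elementary group of order `p ^ 2`
* `FullSide.isCyclic_of_pGood`, `FullSide.not_normal_of_pGood`
-/

set_option autoImplicit false
set_option linter.unusedSectionVars false

namespace Cfsg.Agent.GWDihedral

open Subgroup
open scoped commutatorElement
open Cfsg.Agent.GWKlein (coreU coreW fourV oddPart PGood)

universe u

variable {G : Type u} [Group G] [Finite G] {n : ℕ} {t r σ s : G} {p : ℕ} [Fact p.Prime]

omit [Fact p.Prime] in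
theorem Side.swap (h : DHyp n t r σ) {R : Subgroup G} (hR : Side p t r σ R) : Side p t (r * σ) σ⁻¹ R :=
  ⟨hR.isPGroup, by rw [h.closure_swap]; exact hR.inv, hR.moved, hR.meets⟩

omit [Fact p.Prime] in
theorem FullSide.swap (h : DHyp n t r σ) {R : Subgroup G} (hR : FullSide p t r σ R) :
    FullSide p t (r * σ) σ⁻¹ R :=
  ⟨hR.toSide.swap h, hR.card⟩

namespace DHyp

theorem isSolvable_centralizer_t (h : DHyp n t r σ) : Group.IsSolvable (centralizer ({t} : Set G)) := by
  set C := centralizer ({t} : Set G)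
  haveI : Group.IsSolvable (coreU t) := h.isSolvable_coreU
  set N := (coreU t).subgroupOf C
  haveI : N.Normal := Cores.subgroupOf_normal_of_le_normalizer (GWKlein.centralizer_le_normalizer_coreU t)
  have hN : Nat.card N = Nat.card (coreU t) := Cores.card_subgroupOf (GWKlein.coreU_le_centralizer t)
  haveI : Group.IsSolvable N :=
    Group.isSolvable_of_surjective (subgroupOfEquivOfLe (GWKlein.coreU_le_centralizer t)).symm.surjective
      (f := (subgroupOfEquivOfLe (GWKlein.coreU_le_centralizer t)).symm.toMonoidHom)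
  have hc : Nat.card (C ⧸ N) = 2 ^ n := by
    have h1 := card_eq_card_quotient_mul_card_subgroup N
    rw [hN, h.card_centralizer] at h1
    exact (Nat.eq_of_mul_eq_mul_right Nat.card_pos h1).symm
  haveI := Fact.mk Nat.prime_two
  haveI : Group.IsNilpotent (C ⧸ N) := (IsPGroup.of_card (p := 2) hc).isNilpotent
  exact (Group.isSolvable_iff_subgroup_quotient N).2 ⟨inferInstance, inferInstance⟩

/-- The same for any conjugate involution. -/
theorem isSolvable_centralizer_r (h : DHyp n t r σ) (hs : Rot t r s) :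
    Group.IsSolvable (centralizer ({r} : Set G)) := by
  haveI := h.isSolvable_centralizer_t
  have e := GWKlein.map_conj_centralizer_singleton s t
  rw [hs.1] at e
  rw [← e]
  exact Group.isSolvable_of_surjective (f := (((centralizer ({t} : Set G)).equivMapOfInjective
    (MulAut.conj s).toMonoidHom (MulAut.conj s).injective)).toMonoidHom) (MulEquiv.surjective _)

end DHyp

omit [Finite G] [Fact p.Prime] in
theorem Rot.commute_t (hs : Rot t r s) {x : G} (hx : Commute x r) : Commute (s⁻¹ * x * s) t := by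
  have e : t = s⁻¹ * r * s := by rw [← hs.1]; group
  rw [e]
  show s⁻¹ * x * s * (s⁻¹ * r * s) = s⁻¹ * r * s * (s⁻¹ * x * s)
  calc s⁻¹ * x * s * (s⁻¹ * r * s) = s⁻¹ * (x * r) * s := by group
    _ = _ := by rw [hx.eq]; group

/-- An invariant `p`-group moved by `t` has an element of order `p` fixed by `r` and inverted by `t`. -/
theorem exists_fixed_inverted (h : DHyp n t r σ) (hp : p ≠ 2) {X : Subgroup G} (hX : IsPGroup p X)
    (hS : closure ({σ, r} : Set G) ≤ normalizer (X : Set G)) (hm : ¬ X ≤ centralizer ({t} : Set G)) :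
    ∃ f ∈ X, orderOf f = p ∧ Commute f r ∧ t * f * t⁻¹ = f⁻¹ := by
  obtain ⟨y, hy, hyt, hyr⟩ := h.exists_quarter
  exact exists_fixed_inverted_of_quarter h hp hX (h.fourV_le_sylow.trans hS)
    (hS (zpowers_le.2 h.sylow_mem_σ hy)) hyt hyr hm

namespace FullSide

variable {R : Subgroup G}

/-- The part of the side centralising its Sylow subgroup of `U`. -/
theorem centralizer_part (hR : FullSide p t r σ R) (h : DHyp n t r σ) (hp : p ≠ 2) :
    closure ({σ, r} : Set G) ≤
        normalizer ((R ⊓ centralizer ((R ⊓ coreU t : Subgroup G) : Set G) : Subgroup G) : Set G) ∧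
      ¬ R ⊓ centralizer ((R ⊓ coreU t : Subgroup G) : Set G) ≤ centralizer ({t} : Set G) := by
  set P := R ⊓ coreU t
  have hSP : closure ({σ, r} : Set G) ≤ normalizer (P : Set G) :=
    (le_inf hR.inv h.sylow_le_normalizer_coreU).trans inf_normalizer_le_normalizer_inf
  refine ⟨?_, fun hle => hR.moved fun x hx => ?_⟩
  · refine (le_inf hR.inv (hSP.trans fun g hg => ?_)).trans inf_normalizer_le_normalizer_inf
    refine Coprime.mem_normalizer_of_forall fun y hy => mem_centralizer_iff.2 fun d hd => ?_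
    have h1 : g⁻¹ * d * g ∈ P := by
      have := (mem_normalizer_iff.1 (inv_mem hg) d).1 hd
      rwa [inv_inv] at this
    have h2 := mem_centralizer_iff.1 hy _ h1
    calc d * (g * y * g⁻¹) = g * ((g⁻¹ * d * g) * y) * g⁻¹ := by group
      _ = g * (y * (g⁻¹ * d * g)) * g⁻¹ := by rw [h2]
      _ = g * y * g⁻¹ * d := by group
  · have hc := Components.mem_centralizer_of_mem_centralizer (l := t) (hR.isPGroup.to_le (inf_le_left : P ≤ R))
      hR.isPGroup (inf_le_left.trans le_normalizer)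
      (by rw [h.order_t]; exact (Nat.coprime_primes Nat.prime_two Fact.out).2 (Ne.symm hp))
      (hR.inv h.sylow_mem_t)
      (mem_centralizer_iff.2 fun d hd => (GWKlein.commute_of_mem_coreU hd.2).eq)
      fun y hy hyP => (mem_centralizer_t.1 (hle ⟨hy, hyP⟩)).symm.eq
    exact mem_centralizer_t.2 (mem_centralizer_iff.1 hc x hx)

theorem exists_elem (hR : FullSide p t r σ R) (h : DHyp n t r σ) (hp : p ≠ 2) :
    ∃ f ∈ R, orderOf f = p ∧ Commute f r ∧ t * f * t⁻¹ = f⁻¹ ∧
      ∀ d ∈ R ⊓ coreU t, Commute d f := by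
  obtain ⟨f, hf, ho, hr, hi⟩ := exists_fixed_inverted h hp (hR.isPGroup.to_le inf_le_left)
    (hR.centralizer_part h hp).1 (hR.centralizer_part h hp).2
  exact ⟨f, hf.1, ho, hr, hi, fun d hd => mem_centralizer_iff.1 hf.2 d hd⟩

theorem isPGroup_fixed (hR : FullSide p t r σ R) : IsPGroup p (R ⊓ coreU t : Subgroup G) :=
  hR.isPGroup.to_le inf_le_left

/-- Elements of `U` of `p`-power order are conjugate into the side. -/
theorem exists_conj_mem (hR : FullSide p t r σ R) {x : G} (hx : x ∈ coreU t) (hxp : x ^ p = 1) :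
    ∃ c ∈ coreU t, c * x * c⁻¹ ∈ R ⊓ coreU t := by
  set P := R ⊓ coreU t
  have hPU : P ≤ coreU t := inf_le_right
  obtain ⟨Q, hQ⟩ := (IsPGroup.of_card (p := p) (G := zpowers (⟨x, hx⟩ : coreU t)) (n := (orderOf x).factorization p) (by
    rw [Nat.card_zpowers, Subgroup.orderOf_mk]
    rcases (Nat.dvd_prime Fact.out).1 (orderOf_dvd_of_pow_eq_one hxp) with e | e <;> rw [e]
    · simp
    · rw [(Fact.out : p.Prime).factorization_self, pow_one])).exists_le_sylow
  let S : Sylow p (coreU t) := Sylow.ofCard (P.subgroupOf (coreU t)) (by rw [Cores.card_subgroupOf hPU, hR.card])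
  obtain ⟨c, hc⟩ := MulAction.exists_smul_eq (coreU t) Q S
  refine ⟨c, c.2, ?_⟩
  have h1 : c * ⟨x, hx⟩ * c⁻¹ ∈ (S : Subgroup (coreU t)) := by
    rw [← hc, Transfer.sylow_coe_smul]
    exact ⟨_, hQ (mem_zpowers _), rfl⟩
  exact mem_subgroupOf.1 h1

end FullSide

/-- Consequence of `p`-stability: elements fixing different lines of `E` do not both normalise it. -/
theorem not_opposite (h : DHyp n t r σ) (hp : p ≠ 2) {E : Subgroup G} (hE : Cfsg.IsElementaryAbelian p E)
    {a b : G} (haE : a ∈ normalizer (E : Set G)) (hbE : b ∈ normalizer (E : Set G))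
    (ha : ∀ v ∈ E, Commute a (a * v * a⁻¹ * v⁻¹)) (hb : ∀ v ∈ E, Commute b (b * v * b⁻¹ * v⁻¹))
    (hne : E ≠ ⊥) : ∃ v ∈ E, v ≠ 1 ∧ Commute a v ∧ Commute b v := by
  classical
  set N := normalizer (E : Set G)
  set π := QuotientGroup.mk' (⊥ : Subgroup N)
  set V := (E.subgroupOf N).map π
  haveI : (E.subgroupOf N).Normal := Cores.subgroupOf_normal_of_le_normalizer le_rfl
  haveI : V.Normal := Normal.map inferInstance π (QuotientGroup.mk'_surjective _)
  have hVp : IsPGroup p V := ((Signalizer.isPGroup_of_elemAb hE).comap_subtype (K := N)).map π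
  have hst := h.pStableSections hp N ⊥ V hVp
  have inj : Function.Injective π := fun x y e =>
    inv_mul_eq_one.1 (mem_bot.1 (QuotientGroup.eq.1 e))
  set O := Cfsg.pCore p ((N ⧸ (⊥ : Subgroup N)) ⧸ centralizer (V : Set (N ⧸ (⊥ : Subgroup N))))
  set D := (O.comap (QuotientGroup.mk' (centralizer (V : Set (N ⧸ (⊥ : Subgroup N)))))).comap π
  have key : ∀ g : N, (∀ v ∈ E, Commute (g : G) ((g : G) * v * (g : G)⁻¹ * v⁻¹)) → g ∈ D := by
    intro g hg
    refine hst (π g) (eq_bot_iff.2 ?_)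
    refine commutator_le.2 fun x hx y hy => mem_bot.2 ?_
    obtain ⟨i, rfl⟩ := mem_zpowers_iff.1 hy
    suffices hle : ⁅V, zpowers (π g)⁆ ≤ centralizer ({π g} : Set (N ⧸ (⊥ : Subgroup N))) from
      commutatorElement_eq_one_iff_mul_comm.2
        ((show Commute x (π g) from mem_centralizer_singleton_iff.1 (hle hx)).zpow_right i).eq
    refine commutator_le.2 fun w hw z hz => mem_centralizer_singleton_iff.2 ?_
    obtain ⟨v, hv, rfl⟩ := hw
    obtain ⟨k, rfl⟩ := mem_powers_iff_mem_zpowers.2 hz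
    simp only
    rw [← map_pow, ← map_commutatorElement, ← map_mul, ← map_mul]
    congr 1
    refine Subtype.ext ?_
    show ⁅(v : G), (g : G) ^ k⁆ * g = g * ⁅(v : G), (g : G) ^ k⁆
    have hk : Commute (g : G) ((g : G) ^ k * v * ((g : G) ^ k)⁻¹ * (v : G)⁻¹) := by
      clear hz
      induction k with
      | zero => simp
      | succ k ih =>
        have e : (g : G) ^ (k + 1) * v * ((g : G) ^ (k + 1))⁻¹ * (v : G)⁻¹ =
            (g : G) * ((g : G) ^ k * v * ((g : G) ^ k)⁻¹ * (v : G)⁻¹) * (g : G)⁻¹ *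
              ((g : G) * v * (g : G)⁻¹ * (v : G)⁻¹) := by
          rw [pow_succ']; group
        rw [e, ih.eq, mul_inv_cancel_right]
        exact ih.mul_right (hg v (mem_subgroupOf.1 hv))
    have := hk.inv_right
    rw [show ((g : G) ^ k * v * ((g : G) ^ k)⁻¹ * (v : G)⁻¹)⁻¹ = ⁅(v : G), (g : G) ^ k⁆ by
      rw [commutatorElement_def]; group] at this
    exact this.symm.eq
  -- the group generated acts on `E` as a `p`-group
  set φ : N →* MulAut E := E.normalizerMonoidHom
  have hφ : IsPGroup p (D.map φ) := by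
    rintro ⟨_, g, hg, rfl⟩
    obtain ⟨k, hk⟩ := Cores.isPGroup_pCore p _ ⟨_, hg⟩
    refine ⟨k, Subtype.ext ?_⟩
    show φ g ^ p ^ k = 1
    rw [← map_pow]
    have hc : π (g ^ p ^ k) ∈ centralizer (V : Set (N ⧸ (⊥ : Subgroup N))) := by
      rw [← QuotientGroup.eq_one_iff, map_pow]
      exact congrArg Subtype.val hk
    refine MulEquiv.ext fun v => Subtype.ext ?_
    have h1 := mem_centralizer_iff.1 hc (π ⟨v, le_normalizer v.2⟩) ⟨_, mem_subgroupOf.2 v.2, rfl⟩
    rw [← map_mul, ← map_mul] at h1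
    have h2 : (v : G) * ((g ^ p ^ k : N) : G) = ((g ^ p ^ k : N) : G) * v := congrArg Subtype.val (inj h1)
    show ((g ^ p ^ k : N) : G) * v * ((g ^ p ^ k : N) : G)⁻¹ = v
    rw [← h2, mul_inv_cancel_right]
  obtain ⟨k, hk⟩ := IsPGroup.iff_card.1 (Signalizer.isPGroup_of_elemAb hE)
  have hk0 : k ≠ 0 := by rintro rfl; exact hne (Subgroup.card_eq_one.1 (by rw [hk, pow_zero]))
  have hone : (1 : E) ∈ MulAction.fixedPoints (D.map φ) E := fun g => map_one (g : MulAut E)
  have hdvd : p ∣ Nat.card (MulAction.fixedPoints (D.map φ) E) :=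
    (Nat.ModEq.dvd_iff (hφ.card_modEq_card_fixedPoints E) dvd_rfl).1 (hk ▸ dvd_pow_self p hk0)
  haveI : Nonempty (MulAction.fixedPoints (D.map φ) E) := ⟨⟨1, hone⟩⟩
  haveI : Nontrivial (MulAction.fixedPoints (D.map φ) E) :=
    Finite.one_lt_card_iff_nontrivial.1 ((Fact.out : p.Prime).one_lt.trans_le (Nat.le_of_dvd Nat.card_pos hdvd))
  obtain ⟨⟨v, hv⟩, hv1⟩ := exists_ne (⟨1, hone⟩ : MulAction.fixedPoints (D.map φ) E)
  have hfix : ∀ g : N, g ∈ D → Commute (g : G) (v : G) := fun g hg => by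
    have h2 : (g : G) * v * (g : G)⁻¹ = v := congrArg Subtype.val (hv ⟨φ g, g, hg, rfl⟩)
    exact mul_inv_eq_iff_eq_mul.1 h2
  exact ⟨v, v.2, fun e => hv1 (Subtype.ext (Subtype.ext e)),
    hfix ⟨a, haE⟩ (key _ ha), hfix ⟨b, hbE⟩ (key _ hb)⟩

/-- The functor with a full side and an element `f` gives a rank three group and the centralisers. -/
theorem centralizer_r_le (h : DHyp n t r σ) (hp : p ≠ 2) (hs : Rot t r s) {R M : Subgroup G}
    (hR : FullSide p t r σ R) (hRM : R ≤ M) (hCt : centralizer ({t} : Set G) ≤ M)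
    (hM : ∀ F ≤ M, Cfsg.IsElementaryAbelian p F → p ^ 3 ≤ Nat.card F →
      (∀ a ∈ F, a ≠ 1 → centralizer ({a} : Set G) ≤ M) ∧
        ∀ B ≤ F, Nat.card B = p ^ 2 → ∀ H : Subgroup G, Cfsg.IsPConstrained p H → B ≤ H → H ≤ M)
    (hnc : ¬ IsCyclic (R ⊓ coreU t : Subgroup G)) : centralizer ({r} : Set G) ≤ M := by
  set P := R ⊓ coreU t
  obtain ⟨f, hfR, hfo, hfr, hft, hfP⟩ := hR.exists_elem h hp
  have hfp : f ^ p = 1 := hfo ▸ pow_orderOf_eq_one f
  have hf1 : f ≠ 1 := fun e => (Fact.out : p.Prime).ne_one (by rw [← hfo, e, orderOf_one])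
  have hfU : f ∉ P := fun hf => not_commute_of_inverted
    (hfo ▸ (Fact.out : p.Prime).odd_of_ne_two hp) hf1 hft (GWKlein.commute_of_mem_coreU hf.2)
  -- the conjugate of `f` in `U`, moved into the side
  have hf'U : s⁻¹ * f * s ∈ coreU t := h.mem_coreU.2 ⟨hs.commute_t hfr, by
    have := orderOf_injective (MulAut.conj s⁻¹).toMonoidHom (MulAut.conj s⁻¹).injective f
    simp only [MulEquiv.coe_toMonoidHom, MulAut.conj_apply, inv_inv] at this
    rw [this, hfo]; exact (Fact.out : p.Prime).odd_of_ne_two hp⟩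
  have hf'p : (s⁻¹ * f * s) ^ p = 1 := by
    have e : (s⁻¹ * f * s⁻¹⁻¹) ^ p = s⁻¹ * f ^ p * s⁻¹⁻¹ := conj_pow
    rw [inv_inv] at e
    rw [e, hfp]; group
  obtain ⟨c, hcU, hcP⟩ := hR.exists_conj_mem hf'U hf'p
  set f₀ := c * (s⁻¹ * f * s) * c⁻¹
  have hf₀p : f₀ ^ p = 1 := by rw [conj_pow, hf'p, mul_one, mul_inv_cancel]
  have hf₀1 : f₀ ≠ 1 := fun e => hf1 (by
    have := conj_eq_one_iff.1 e
    calc f = s * (s⁻¹ * f * s) * s⁻¹ := by group
      _ = 1 := by rw [this]; group)
  -- an elementary subgroup of `P` of order `p ^ 2` through it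
  obtain ⟨B, hBP, hB, hBc, hf₀B⟩ : ∃ B ≤ P, Cfsg.IsElementaryAbelian p B ∧ Nat.card B = p ^ 2 ∧ f₀ ∈ B := by
    obtain ⟨A, hAP, hA, hAc⟩ := OddPrime.exists_elementary_of_not_cyclic hp hR.isPGroup_fixed hnc
    have hPne : P ≠ ⊥ := fun e => hf₀1 (mem_bot.1 (e ▸ hcP))
    obtain ⟨z, hz, hz1, hzp⟩ := PLocal.exists_central_of_order_p hR.isPGroup_fixed hPne
    have hzc : ∀ x ∈ P, Commute x z := fun x hx => mem_centralizer_iff.1 hz.2 x hx
    have mk : ∀ z : G, z ∈ P → z ^ p = 1 → Commute f₀ z → z ∉ zpowers f₀ →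
        ∃ B ≤ P, Cfsg.IsElementaryAbelian p B ∧ Nat.card B = p ^ 2 ∧ f₀ ∈ B := by
      intro z hzP hzp hzc hzn
      have hc1 : ∀ b ∈ zpowers f₀, Commute b z := by
        rintro _ ⟨i, rfl⟩; exact hzc.zpow_left i
      obtain ⟨he, hec⟩ := GWKlein.elemAb_sup_zpowers (GWKlein.elemAb_zpowers hf₀p) hzp hc1 hzn
      refine ⟨_, sup_le (zpowers_le.2 hcP) (zpowers_le.2 hzP), he, ?_, mem_sup_left (mem_zpowers _)⟩
      rw [hec, Nat.card_zpowers, orderOf_eq_prime hf₀p hf₀1, pow_two]
    by_cases hzn : z ∈ zpowers f₀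
    · obtain ⟨w, hwA, hw⟩ : ∃ w ∈ A, w ∉ zpowers f₀ := by
        by_contra! hle
        have := card_le_of_le (show A ≤ zpowers f₀ from hle)
        rw [hAc, Nat.card_zpowers, orderOf_eq_prime hf₀p hf₀1] at this
        have := (Fact.out : p.Prime).one_lt
        nlinarith
      have he : zpowers z = zpowers f₀ := eq_of_le_of_card_ge (zpowers_le.2 hzn)
        (by rw [Nat.card_zpowers, Nat.card_zpowers, orderOf_eq_prime hf₀p hf₀1, orderOf_eq_prime hzp hz1])
      obtain ⟨i, hi⟩ := mem_zpowers_iff.1 (show f₀ ∈ zpowers z from he ▸ mem_zpowers f₀)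
      exact mk w (hAP hwA) (hA.2 w hwA) (hi ▸ (hzc w (hAP hwA)).symm.zpow_left i) hw
    · exact mk z hz.1 hzp (hzc f₀ hcP) hzn
  -- the rank three group and its conjugates
  obtain ⟨hF, hFc⟩ := GWKlein.elemAb_sup_zpowers hB hfp (fun b hb => hfP b (hBP hb)) fun e => hfU (hBP e)
  set F := B ⊔ zpowers f
  have hFM : F ≤ M := sup_le (hBP.trans (inf_le_left.trans hRM)) (zpowers_le.2 (hRM hfR))
  have hF3 : p ^ 3 ≤ Nat.card F := by rw [hFc, hBc, ← pow_succ]
  have hCf : centralizer ({f} : Set G) ≤ M :=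
    (hM F hFM hF hF3).1 f (mem_sup_right (mem_zpowers f)) hf1
  set g := s * c⁻¹
  set F' := F.map (MulAut.conj g).toMonoidHom
  have hgf : g * f₀ * g⁻¹ = f := by simp only [g, f₀]; group
  have hfF' : f ∈ F' := ⟨f₀, mem_sup_left hf₀B, hgf⟩
  have hF'e : Cfsg.IsElementaryAbelian p F' := GWKlein.elemAb_map_conj hF g
  have hF'M : F' ≤ M := fun x hx => hCf (mem_centralizer_singleton_iff.2
    (Signalizer.commute_of_isMulCommutative hF'e.1 hx hfF'))
  refine (hM F' hF'M hF'e (by rw [card_map_of_injective (MulAut.conj g).injective]; exact hF3)).2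
    (B.map (MulAut.conj g).toMonoidHom) (map_mono le_sup_left)
    (by rw [card_map_of_injective (MulAut.conj g).injective, hBc]) _
    (@HallHigman.isPConstrained_of_isSolvable _ _ _ _ _ (h.isSolvable_centralizer_r hs)) ?_
  rintro _ ⟨b, hb, rfl⟩
  refine mem_centralizer_singleton_iff.2 ?_
  have h1 : Commute (c⁻¹ * b * c) t :=
    GWKlein.commute_of_mem_coreU (mul_mem (mul_mem (inv_mem hcU) (hBP hb).2) hcU)
  have h2 := h1.map (MulAut.conj s).toMonoidHom
  simp only [MulEquiv.coe_toMonoidHom, MulAut.conj_apply, hs.1] at h2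
  show g * b * g⁻¹ * r = r * (g * b * g⁻¹)
  rw [show g * b * g⁻¹ = s * (c⁻¹ * b * c) * s⁻¹ by simp only [g]; group]
  exact h2.eq

/-- A full side with all locals constrained: `U_p` is cyclic. -/
theorem FullSide.isCyclic_of_pGood [IsSimpleGroup G] {R : Subgroup G} (hR : FullSide p t r σ R)
    (h : DHyp n t r σ) (hp : p ≠ 2) (hloc : PGood G p) : IsCyclic (R ⊓ coreU t : Subgroup G) := by
  by_contra hnc
  set P := R ⊓ coreU t
  obtain ⟨B, hBP, hB, hBc⟩ := OddPrime.exists_elementary_of_not_cyclic hp hR.isPGroup_fixed hnc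
  obtain ⟨f, hfR, hfo, hfr, hft, hfP⟩ := hR.exists_elem h hp
  have hf1 : f ≠ 1 := fun e => (Fact.out : p.Prime).ne_one (by rw [← hfo, e, orderOf_one])
  have hfB : f ∉ B := fun hf => not_commute_of_inverted
    (hfo ▸ (Fact.out : p.Prime).odd_of_ne_two hp) hf1 hft (GWKlein.commute_of_mem_coreU (hBP hf).2)
  obtain ⟨hF, hFc⟩ := GWKlein.elemAb_sup_zpowers hB (hfo ▸ pow_orderOf_eq_one f)
    (fun b hb => hfP b (hBP hb)) hfB
  set A := B ⊔ zpowers f
  have hA3 : p ^ 3 ≤ Nat.card A := by rw [hFc, hBc, ← pow_succ]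
  have hAR : A ≤ R := sup_le (hBP.trans inf_le_left) (zpowers_le.2 hfR)
  obtain ⟨M, hMtop, hRM, -, hM⟩ := h.exists_overgroup hp hloc hR.isPGroup hAR hF hA3
  have hC : centralizer ({t} : Set G) ≤ M :=
    (hM A (hAR.trans hRM) hF hA3).2 B le_sup_left hBc _
      (@HallHigman.isPConstrained_of_isSolvable _ _ _ _ _ h.isSolvable_centralizer_t)
      (hBP.trans (inf_le_right.trans (GWKlein.coreU_le_centralizer t)))
  obtain ⟨s, hs⟩ := h.exists_rot
  obtain ⟨s', hs'⟩ := h.swap.exists_rot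
  exact h.noFusedOvergroup M hMtop hC
    (h.fused_of_centralizer_le_of_rot hs hC (centralizer_r_le h hp hs hR hRM hC hM hnc))
    (h.swap.fused_of_centralizer_le_of_rot hs' hC
      (centralizer_r_le h.swap hp hs' (hR.swap h) hRM hC hM hnc))

end Cfsg.Agent.GWDihedral
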