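import Cfsg.Agent.Lib.GWDihedral.Corner
import Cfsg.Agent.Lib.GWDihedral.CornerRot
import Cfsg.Agent.Lib.GWDihedral.SidesFunctor
import Cfsg.Agent.Lib.GWDihedral.InvertedTorus
import Cfsg.Agent.Lib.GWKlein.General.AbelianSetup

/-!
# Gorenstein-Walter, dihedral Sylow subgroups of order eight: part I of the corner of (2.1), first facts

`Corner.exists_base` : `P = ⟨c⟩` of order three and an inverted `x` in the normaliser of `P ⟨w⟩` with `c ↦ c w`;
`Corner.mem_fixed_pair`, `Corner.mem_zpowers_of_core` : the 3-parts of `W₁ ∩ C(c)` and of the core of `C(c)`.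
-/

set_option autoImplicit false
set_option linter.unusedSectionVars false
set_option linter.style.haveILetI false

namespace Cfsg.Agent.GWDihedral

open Subgroup
open Cfsg.Agent.GWKlein (coreU coreW fourV oddPart)

universe u

variable {G : Type u} [Group G] [Finite G] {t r σ w c : G} {W : Subgroup G}

/-- The fixed part. -/
abbrev cornerP (t r σ : G) (W : Subgroup G) : Subgroup G := W ⊓ coreW t (r * σ)

theorem mem_zpowers_three {a b : G} (ha : a ^ 3 = 1) (hb : b ∈ zpowers a) : b = 1 ∨ b = a ∨ b = a ^ 2 := by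
  rw [← mem_powers_iff_mem_zpowers] at hb
  obtain ⟨j, rfl⟩ := hb
  show a ^ j = 1 ∨ a ^ j = a ∨ a ^ j = a ^ 2
  rw [pow_eq_pow_mod j ha]
  rcases (by omega : j % 3 = 0 ∨ j % 3 = 1 ∨ j % 3 = 2) with e | e | e <;> simp [e]

/-- Invariant subgroups: a fixed element times an inverted one. -/
theorem exists_fixed_mul_inverted {Y : Subgroup G} (hY : Odd (Nat.card Y)) {τ : G} (hτ : τ * τ = 1)
    (hinv : ∀ y ∈ Y, τ * y * τ⁻¹ ∈ Y) {y : G} (hy : y ∈ Y) :
    ∃ f ∈ Y, ∃ i ∈ Y, τ * f * τ⁻¹ = f ∧ τ * i * τ⁻¹ = i⁻¹ ∧ y = f * i := by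
  let φ : Y →* Y :=
    { toFun := fun a => ⟨τ * a * τ⁻¹, hinv a a.2⟩
      map_one' := Subtype.ext (by simp)
      map_mul' := fun a b => Subtype.ext (by simp [mul_assoc]) }
  obtain ⟨f, i, h1, h2, h3⟩ := InvTorus.exists_fixed_mul (f := φ) hY (fun a => Subtype.ext (by
    show τ * (τ * (a : G) * τ⁻¹) * τ⁻¹ = a
    rw [show τ * (τ * (a : G) * τ⁻¹) * τ⁻¹ = τ * τ * a * (τ * τ)⁻¹ by group, hτ, one_mul, inv_one, mul_one]))
    ⟨y, hy⟩
  exact ⟨f, f.2, i, i.2, congrArg Subtype.val h1, congrArg Subtype.val h2, congrArg Subtype.val h3⟩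

namespace Corner

variable (h : DHyp 3 t r σ) (hC : Corner t r σ W w)
include h hC

theorem three_pow {y : G} (hy : y ∈ W) : ∃ k, y ^ 3 ^ k = 1 :=
  let ⟨k, hk⟩ := hC.isPGroup ⟨y, hy⟩; ⟨k, congrArg Subtype.val hk⟩

theorem odd {y : G} (hy : y ∈ W) : Odd (orderOf y) :=
  let ⟨_, hk⟩ := three_pow h hC hy; odd_of_three_pow hk

theorem odd_le {Y : Subgroup G} (hY : Y ≤ W) : Odd (Nat.card Y) :=
  h.odd_coreW.of_dvd_nat (card_dvd_of_le (hY.trans hC.le))

theorem tau_mem {y : G} (hy : y ∈ W) : r * σ * y * (r * σ)⁻¹ ∈ W :=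
  (mem_normalizer_iff.1 (hC.inv (mul_mem h.sylow_mem_r h.sylow_mem_σ)) y).1 hy

theorem commute_central {y : G} (hy : y ∈ W) : Commute y w := mem_centralizer_singleton_iff.1 (hC.central hy)

theorem pow_w : w ^ 3 = 1 := hC.order_w ▸ pow_orderOf_eq_one w

theorem mem_fixed {y : G} (hy : y ∈ W) (hτ : r * σ * y * (r * σ)⁻¹ = y) : y ∈ cornerP t r σ W :=
  ⟨hy, h.swap.mem_coreW.2 ⟨(h.mem_coreW.1 (hC.le hy)).1,
    (mul_inv_eq_iff_eq_mul.1 hτ).symm, odd h hC hy⟩⟩

theorem fixed_commute {y : G} (hy : y ∈ cornerP t r σ W) : r * σ * y * (r * σ)⁻¹ = y :=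
  mul_inv_eq_iff_eq_mul.2 (h.swap.mem_coreW.1 hy.2).2.1.symm.eq

/-- What commutes with a fixed element is in `P ⟨w⟩`. -/
theorem exists_of_commute {p : G} (hp : p ∈ cornerP t r σ W) (hp1 : p ≠ 1) {y : G} (hy : y ∈ W)
    (hc : Commute y p) : ∃ f ∈ cornerP t r σ W, ∃ i ∈ zpowers w, y = f * i := by
  have hinv : ∀ a ∈ W ⊓ centralizer ({p} : Set G), r * σ * a * (r * σ)⁻¹ ∈ W ⊓ centralizer ({p} : Set G) := by
    refine fun a ha => ⟨tau_mem h hC ha.1, mem_centralizer_singleton_iff.2 ?_⟩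
    have := (show Commute a p from mem_centralizer_singleton_iff.1 ha.2).map (MulAut.conj (r * σ)).toMonoidHom
    simp only [MulEquiv.coe_toMonoidHom, MulAut.conj_apply] at this
    rw [fixed_commute h hC hp] at this
    exact this.eq
  obtain ⟨f, hf, i, hi, e1, e2, e3⟩ := exists_fixed_mul_inverted (odd_le h hC inf_le_left)
    (Involution.mul_self h.order_r_mul_σ) hinv (⟨hy, mem_centralizer_singleton_iff.2 hc.eq⟩ : y ∈ W ⊓ _)
  exact ⟨f, mem_fixed h hC hf.1 e1, i,
    hC.inverted p hp hp1 i hi.1 (mem_centralizer_singleton_iff.1 hi.2) e2, e3⟩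

/-- `|P| = 3`, and an inverted element of the normaliser of `P ⟨w⟩` maps `c` to `c w`. -/
theorem exists_base (hI : ¬ W ≤ cornerP t r σ W ⊔ zpowers w) :
    ∃ c x : G, c ∈ cornerP t r σ W ∧ orderOf c = 3 ∧ cornerP t r σ W = zpowers c ∧ x ∈ W ∧
      r * σ * x * (r * σ)⁻¹ = x⁻¹ ∧ x * c * x⁻¹ = c * w := by
  haveI := Fact.mk Nat.prime_three
  set τ := r * σ with hτdef
  set P := cornerP t r σ W
  set M := P ⊔ zpowers w with hM
  have hPW : P ≤ W := inf_le_left
  have hMW : M ≤ W := sup_le hPW (zpowers_le.2 hC.mem_w)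
  have hPn : P ≤ normalizer (zpowers w : Set G) := fun a ha =>
    Coprime.mem_normalizer_of_forall fun b hb => by
      obtain ⟨i, rfl⟩ := hb
      show a * w ^ i * a⁻¹ ∈ _
      rw [((commute_central h hC (hPW ha)).zpow_right i).eq, mul_inv_cancel_right]
      exact zpow_mem (mem_zpowers w) i
  have hform : ∀ y ∈ M, ∃ f ∈ P, ∃ j : ℕ, y = f * w ^ j := fun y hy => by
    rw [← SetLike.mem_coe, hM, coe_mul_of_left_le_normalizer_right _ _ hPn] at hy
    obtain ⟨f, hf, i, hi, rfl⟩ := hy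
    obtain ⟨j, rfl⟩ := mem_powers_iff_mem_zpowers.2 hi
    exact ⟨f, hf, j, rfl⟩
  obtain ⟨y, hyW, hyN, hyM⟩ := Signalizer.exists_mem_normalizer_not_mem hC.isPGroup hMW
    fun e => hI (le_of_eq e.symm)
  have hτM : τ ∈ normalizer (M : Set G) := Coprime.mem_normalizer_of_forall fun a ha => by
    obtain ⟨f, hf, j, rfl⟩ := hform a ha
    have hw' : w⁻¹ ∈ M := inv_mem (mem_sup_right (mem_zpowers w))
    rw [← _root_.conj_mul, fixed_commute h hC hf, ← conj_pow, hC.inv_w]
    exact mul_mem (mem_sup_left hf) (pow_mem hw' _)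
  have hinv : ∀ a ∈ W ⊓ normalizer (M : Set G), τ * a * τ⁻¹ ∈ W ⊓ normalizer (M : Set G) :=
    fun a ha => mem_inf.2 ⟨tau_mem h hC (mem_inf.1 ha).1, mul_mem (mul_mem hτM (mem_inf.1 ha).2) (inv_mem hτM)⟩
  obtain ⟨f, hf, x, ⟨hxW, hxN⟩, e1, e2, rfl⟩ := exists_fixed_mul_inverted (odd_le h hC inf_le_left)
    (Involution.mul_self h.order_r_mul_σ) hinv (⟨hyW, hyN⟩ : y ∈ W ⊓ _)
  have hxM : x ∉ M := fun hx => hyM (mul_mem (mem_sup_left (mem_fixed h hC hf.1 e1)) hx)
  -- the only fixed element staying fixed is one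
  have key : ∀ p ∈ P, x * p * x⁻¹ ∈ P → p = 1 := by
    intro p hp hxp
    by_contra hp1
    have e : τ * (x * p * x⁻¹) * τ⁻¹ = x⁻¹ * p * x := by
      rw [← _root_.conj_mul, ← _root_.conj_mul, e2, fixed_commute h hC hp, ← conj_inv, e2, inv_inv]
    rw [fixed_commute h hC hxp] at e
    have h2 : Commute (x * x) p := mul_inv_eq_iff_eq_mul.1 (by
      calc x * x * p * (x * x)⁻¹ = x * (x * p * x⁻¹) * x⁻¹ := by group
        _ = p := by rw [e]; group)
    exact hxM (mem_sup_right (hC.inverted p hp hp1 x hxW (commute_of_sq_odd (odd h hC hxW) h2) e2))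
  have himg : ∀ p ∈ P, ∃ f ∈ P, ∃ j : ℕ, j < 3 ∧ x * p * x⁻¹ = f * w ^ j := fun p hp => by
    obtain ⟨f, hf, j, e⟩ := hform _ ((mem_normalizer_iff.1 hxN p).1 (mem_sup_left hp))
    exact ⟨f, hf, j % 3, Nat.mod_lt _ (by norm_num), by rw [← pow_eq_pow_mod j (pow_w h hC)]; exact e⟩
  choose! F hF J hJ hFJ using himg
  have hcard : Nat.card P ≤ 3 := by
    rw [← Nat.card_fin 3]
    refine Nat.card_le_card_of_injective (fun p : P => (⟨J p, hJ p p.2⟩ : Fin 3)) fun p q e => ?_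
    have e' : J p = J q := congrArg Fin.val e
    have := key _ (mul_mem p.2 (inv_mem q.2)) (by
      rw [← _root_.conj_mul, ← conj_inv, hFJ p p.2, hFJ q q.2, e']
      exact (show F p * w ^ J q * (F q * w ^ J q)⁻¹ = F p * (F q)⁻¹ by group) ▸
        mul_mem (hF p p.2) (inv_mem (hF q q.2)))
    exact Subtype.ext (mul_inv_eq_one.1 this)
  obtain ⟨k, hk⟩ := IsPGroup.iff_card.1 (hC.isPGroup.to_le hPW)
  have hk1 : k = 1 := by
    rcases Nat.lt_trichotomy k 1 with h0 | h0 | h0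
    · exact absurd (Subgroup.card_eq_one.1 (by rw [hk, show k = 0 by omega, pow_zero])) hC.fixed_ne
    · exact h0
    · have : 3 ^ 2 ≤ 3 ^ k := Nat.pow_le_pow_right (by norm_num) h0
      omega
  rw [hk1, pow_one] at hk
  obtain ⟨c, hcP, hc1⟩ := (Subgroup.bot_or_exists_ne_one P).resolve_left hC.fixed_ne
  have hc3 : orderOf c = 3 := by
    have : orderOf c ∣ 3 := by rw [← hk]; exact orderOf_dvd_natCard P hcP
    exact ((Nat.dvd_prime Nat.prime_three).1 this).resolve_left fun e => hc1 (orderOf_eq_one_iff.1 e)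
  have hPc : P = zpowers c := (eq_of_le_of_card_ge (zpowers_le.2 hcP) (by rw [Nat.card_zpowers, hc3, hk])).symm
  have hcc : c ^ 3 = 1 := hc3 ▸ pow_orderOf_eq_one c
  have hwc : Commute w c := (commute_central h hC (hPW hcP)).symm
  have hxw : ∀ j : ℕ, x * w ^ j * x⁻¹ = w ^ j := fun j => by
    rw [((commute_central h hC hxW).pow_right j).eq, mul_inv_cancel_right]
  obtain ⟨f₁, hf₁, b, hb, e⟩ : ∃ f ∈ P, ∃ j < 3, x * c * x⁻¹ = f * w ^ j :=
    ⟨_, hF c hcP, _, hJ c hcP, hFJ c hcP⟩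
  have hb0 : b ≠ 0 := fun e0 => hc1 (key c hcP (by rw [e, e0, pow_zero, mul_one]; exact hf₁))
  rcases mem_zpowers_three hcc (hPc.le hf₁) with rfl | rfl | rfl
  · -- `c` would be inverted
    have e3 : c = w ^ b := by
      rw [one_mul, ← hxw b] at e
      exact conj_injective e
    refine absurd ?_ hc1
    have h1 : r * σ * c * (r * σ)⁻¹ = c⁻¹ := by rw [e3, ← conj_pow, hC.inv_w, inv_pow]
    rw [fixed_commute h hC hcP] at h1
    exact orderOf_eq_one_iff.1 (Nat.eq_one_of_dvd_coprimes (by norm_num : Nat.Coprime 3 2) hc3.dvd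
      (orderOf_dvd_of_pow_eq_one (by rw [pow_two]; exact mul_eq_one_iff_eq_inv.2 h1)))
  · rcases (by omega : b = 1 ∨ b = 2) with rfl | rfl
    · exact ⟨f₁, x, hcP, hc3, hPc, hxW, e2, by rw [e, pow_one]⟩
    · refine ⟨f₁, x⁻¹, hcP, hc3, hPc, inv_mem hxW, by rw [← conj_inv, e2], ?_⟩
      have h1 : f₁ = x⁻¹ * f₁ * x * w ^ 2 := by
        calc f₁ = x⁻¹ * (x * f₁ * x⁻¹) * x := by group
          _ = x⁻¹ * f₁ * (w ^ 2 * x) := by rw [e]; group
          _ = x⁻¹ * f₁ * x * w ^ 2 := by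
            rw [((commute_central h hC hxW).pow_right 2).symm.eq, ← mul_assoc]
      rw [inv_inv, eq_comm]
      calc f₁ * w = x⁻¹ * f₁ * x * w ^ 3 := by rw [pow_succ, ← mul_assoc, ← h1]
        _ = _ := by rw [pow_w h hC, mul_one]
  · refine absurd (key c hcP ?_) hc1
    have h2 : Commute (x * x) c := mul_inv_eq_iff_eq_mul.1 (by
      calc x * x * c * (x * x)⁻¹ = x * (x * c * x⁻¹) * x⁻¹ := by group
        _ = x * c * x⁻¹ * (x * c * x⁻¹) * w ^ b := by rw [e, pow_two, ← _root_.conj_mul, ← _root_.conj_mul, hxw, e, pow_two]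
        _ = c * (c ^ 3 * (w ^ 3) ^ b) := by
          have a1 := hwc.pow_left b
          rw [e, pow_two]
          calc c * c * w ^ b * (c * c * w ^ b) * w ^ b = c * c * (w ^ b * (c * c)) * (w ^ b * w ^ b) := by group
            _ = c * c * (c * c * w ^ b) * (w ^ b * w ^ b) := by rw [(a1.mul_right a1).eq]
            _ = _ := by
              rw [← pow_mul, ← pow_add, show c ^ 3 = c * c * c by simp [pow_succ, mul_assoc],
                show 3 * b = b + (b + b) by omega, pow_add w b (b + b)]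
              simp only [mul_assoc]
        _ = c := by rw [hcc, pow_w h hC, one_pow, mul_one, mul_one])
    rw [(commute_of_sq_odd (odd h hC hxW) h2).eq, mul_inv_cancel_right]
    exact hcP

/-- A 3-subgroup of `C(t, r σ)` over `P` is `P`. -/
theorem mem_zpowers_of_coreW (hcP : c ∈ cornerP t r σ W) (hc3 : orderOf c = 3) (hPc : cornerP t r σ W = zpowers c)
    {Q : Subgroup G} (hQ : IsPGroup 3 Q) (hQ2 : Q ≤ coreW t (r * σ)) {q : G} (hq : q ∈ Q) (hqc : c ∈ Q) :
    q ∈ zpowers c := by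
  haveI := Fact.mk Nat.prime_three
  have h2 := hC.card_fixed
  rw [show W ⊓ coreW t (r * σ) = zpowers c from hPc, Nat.card_zpowers, hc3] at h2
  obtain ⟨j, hj⟩ := IsPGroup.iff_card.1 hQ
  have hle : j ≤ (Nat.card (coreW t (r * σ))).factorization 3 :=
    (Nat.prime_three.pow_dvd_iff_le_factorization Nat.card_pos.ne').1 (hj ▸ card_dvd_of_le hQ2)
  have : Nat.card Q ≤ Nat.card (zpowers c) := by
    rw [Nat.card_zpowers, hc3, hj]; exact (Nat.pow_le_pow_right (by norm_num) hle).trans h2.ge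
  rw [eq_of_le_of_card_ge (zpowers_le.2 hqc) this]
  exact hq

theorem centralizer_facts (hcP : c ∈ cornerP t r σ W) :
    fourV t r ≤ centralizer ({c} : Set G) ∧ closure ({σ, r} : Set G) ≤ centralizer ({c} : Set G) := by
  obtain ⟨h1, h2, -⟩ := h.mem_coreW.1 (hC.le hcP.1)
  have h3 : Commute c (r * σ) := (h.swap.mem_coreW.1 hcP.2).2.1
  refine ⟨GWKlein.fourV_le_iff.2 ⟨mem_centralizer_singleton_iff.2 h1.symm.eq,
    mem_centralizer_singleton_iff.2 h2.symm.eq⟩, (closure_le _).2 ?_⟩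
  have h4 : Commute c σ := by
    have := h2.mul_right h3
    rwa [← mul_assoc, h.mul_self_r, one_mul] at this
  rintro y (rfl | rfl)
  · exact mem_centralizer_singleton_iff.2 h4.symm.eq
  · exact mem_centralizer_singleton_iff.2 h2.symm.eq

/-- (3): the 3-part of the core of `C(c)` is `⟨c⟩`. -/
theorem mem_zpowers_of_core (hS : SideRot t r σ) (hS' : SideRot t (r * σ) σ⁻¹)
    (hcP : c ∈ cornerP t r σ W) (hc3 : orderOf c = 3) (hPc : cornerP t r σ W = zpowers c) {z : G}
    (hz : z ∈ oddPart (centralizer ({c} : Set G))) (hz3 : ∃ k, z ^ 3 ^ k = 1) : z ∈ zpowers c := by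
  haveI := Fact.mk Nat.prime_three
  haveI := Fact.mk Nat.prime_two
  set C := centralizer ({c} : Set G)
  set O := oddPart C
  obtain ⟨hV, hSC⟩ := centralizer_facts h hC hcP
  have hc1 : c ≠ 1 := fun e => by rw [e, orderOf_one] at hc3; omega
  have hM := hC.exc c hcP hc1
  have hcO : c ∈ O := GWKlein.mem_oddPart_centralizer (hc3 ▸ ⟨1, rfl⟩)
  have hO : Odd (Nat.card O) := GWKlein.odd_card_oddPart C
  have hcg : IsPGroup 3 (zpowers c) := IsPGroup.of_card (n := 1) (by rw [Nat.card_zpowers, hc3, pow_one])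
  have hcS : closure ({σ, r} : Set G) ≤ normalizer (zpowers c : Set G) := fun g hg =>
    Coprime.mem_normalizer_of_forall fun b hb => by
      obtain ⟨i, rfl⟩ := hb
      show g * c ^ i * g⁻¹ ∈ _
      rw [((show Commute g c from mem_centralizer_singleton_iff.1 (hSC hg)).zpow_right i).eq, mul_inv_cancel_right]
      exact zpow_mem (mem_zpowers c) i
  obtain ⟨Q, hcQ, hQO, hQS, hQ, hQc⟩ := h.exists_invariant_sylow h.isPGroup_sylow hO
    (hSC.trans (GWKlein.le_normalizer_oddPart C)) (zpowers_le.2 hcO) hcg hcS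
  have hd1 : 3 ∣ Nat.card (coreW t r) := hc3 ▸ orderOf_dvd_natCard _ (hC.le hcP.1)
  have hd2 : 3 ∣ Nat.card (coreW t (r * σ)) := hc3 ▸ orderOf_dvd_natCard _ hcP.2
  have h1 := h.central_of_rot hS hd1 hV hM.fused hQ hQO (h.fourV_le_sylow.trans hQS)
  have hV' : fourV t (r * σ) ≤ closure ({σ, r} : Set G) := h.closure_swap ▸ h.swap.fourV_le_sylow
  have h2 := h.swap.central_of_rot hS' hd2 (hV'.trans hSC) hM.fused' hQ hQO (hV'.trans hQS)
  have hQ2 : Q ≤ coreW t (r * σ) := fun q hq => by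
    refine h.swap.mem_coreW.2 ⟨?_, ?_, hO.of_dvd_nat (orderOf_dvd_natCard _ (hQO hq))⟩
    · exact mem_centralizer_iff.1 (h2 (GWKlein.left_mem_fourV _ _)) q hq
    · exact mem_centralizer_iff.1 (h2 (GWKlein.right_mem_fourV _ _)) q hq
  have hQe : Q = zpowers c := le_antisymm
    (fun q hq => mem_zpowers_of_coreW h hC hcP hc3 hPc hQ hQ2 hq (hcQ (mem_zpowers c))) hcQ
  obtain ⟨k, hk⟩ := hz3
  obtain ⟨j, -, hj⟩ := (Nat.dvd_prime_pow Nat.prime_three).1 (orderOf_dvd_of_pow_eq_one hk)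
  have hzc : zpowers z ≤ normalizer (zpowers c : Set G) := zpowers_le.2 <|
    Coprime.mem_normalizer_of_forall fun b hb => by
      obtain ⟨i, rfl⟩ := hb
      show z * c ^ i * z⁻¹ ∈ _
      rw [((show Commute z c from mem_centralizer_singleton_iff.1 (GWKlein.oddPart_le C hz)).zpow_right i).eq,
        mul_inv_cancel_right]
      exact zpow_mem (mem_zpowers c) i
  have hsup : IsPGroup 3 (zpowers z ⊔ zpowers c : Subgroup G) :=
    IsPGroup.to_sup_of_normal_right' (IsPGroup.of_card (by rw [Nat.card_zpowers, hj])) hcg hzc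
  obtain ⟨i, hi⟩ := IsPGroup.iff_card.1 hsup
  have hle : i ≤ (Nat.card O).factorization 3 := (Nat.prime_three.pow_dvd_iff_le_factorization
    Nat.card_pos.ne').1 (hi ▸ card_dvd_of_le (sup_le (zpowers_le.2 hz) (zpowers_le.2 hcO)))
  have hcard : Nat.card (zpowers z ⊔ zpowers c : Subgroup G) ≤ Nat.card (zpowers c) := by
    rw [hi, ← hQe, hQc]; exact Nat.pow_le_pow_right (by norm_num) hle
  rw [eq_of_le_of_card_ge le_sup_right hcard]
  exact mem_sup_left (mem_zpowers z)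

/-- `w` is not in the core of `C(c)`. -/
theorem not_mem_core (hS : SideRot t r σ) (hS' : SideRot t (r * σ) σ⁻¹)
    (hcP : c ∈ cornerP t r σ W) (hc3 : orderOf c = 3) (hPc : cornerP t r σ W = zpowers c) :
    w ∉ oddPart (centralizer ({c} : Set G)) := fun hw => by
  have h1 := hPc.ge (mem_zpowers_of_core h hC hS hS' hcP hc3 hPc hw ⟨1, by simpa using pow_w h hC⟩)
  have h2 := fixed_commute h hC h1
  rw [hC.inv_w] at h2
  have h3 : w = 1 := orderOf_eq_one_iff.1 (Nat.eq_one_of_dvd_coprimes (by norm_num : Nat.Coprime 3 2)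
    hC.order_w.dvd (orderOf_dvd_of_pow_eq_one (by rw [pow_two]; exact mul_eq_one_iff_eq_inv.2 h2.symm)))
  have := hC.order_w
  rw [h3, orderOf_one] at this
  omega

/-- (2): what of 3-power order in `W₁` centralises `⟨c, w⟩` is in it. -/
theorem mem_fixed_pair (hS : SideRot t r σ) (hS' : SideRot t (r * σ) σ⁻¹)
    (hcP : c ∈ cornerP t r σ W) (hc3 : orderOf c = 3) (hPc : cornerP t r σ W = zpowers c) :
    IsPGroup 3 (closure ({c, w} : Set G)) ∧
      Nat.card (closure ({c, w} : Set G)) = 3 ^ (Nat.card (coreW t r ⊓ centralizer ({c} : Set G) : Subgroup G)).factorization 3 ∧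
      ∀ z ∈ coreW t r, Commute z c → Commute z w → (∃ k, z ^ 3 ^ k = 1) → z ∈ closure ({c, w} : Set G) := by
  haveI := Fact.mk Nat.prime_three
  haveI := Fact.mk Nat.prime_two
  set K := coreW t r ⊓ centralizer ({c} : Set G)
  set M := closure ({c, w} : Set G)
  obtain ⟨hV, hSC⟩ := centralizer_facts h hC hcP
  have hc1 : c ≠ 1 := fun e => by rw [e, orderOf_one] at hc3; omega
  have hwc : Commute w c := (commute_central h hC hcP.1).symm
  have hMK : M ≤ K := (closure_le _).2 (by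
    rintro y (rfl | rfl)
    · exact ⟨hC.le hcP.1, mem_centralizer_singleton_iff.2 rfl⟩
    · exact ⟨hC.le hC.mem_w, mem_centralizer_singleton_iff.2 hwc.eq⟩)
  have hMg : IsPGroup 3 M := hC.isPGroup.to_le ((closure_le _).2 (by
    rintro y (rfl | rfl)
    · exact hcP.1
    · exact hC.mem_w))
  refine ⟨hMg, ?_⟩
  have hK : Odd (Nat.card K) := h.odd_coreW.of_dvd_nat (card_dvd_of_le inf_le_left)
  have hgen : ∀ X : Subgroup G, (∀ y ∈ X, r * y * r⁻¹ ∈ X) → (∀ y ∈ X, r * σ * y * (r * σ)⁻¹ ∈ X) →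
      closure ({σ, r} : Set G) ≤ normalizer (X : Set G) := by
    intro X hr hτ
    have h1 := Coprime.mem_normalizer_of_forall hr
    have h2 := Coprime.mem_normalizer_of_forall hτ
    refine (closure_le _).2 ?_
    rintro y (rfl | rfl)
    · have h3 := mul_mem h1 h2
      rwa [← mul_assoc, h.mul_self_r, one_mul] at h3
    · exact h1
  have hfixr : ∀ y ∈ coreW t r, r * y * r⁻¹ = y := fun y hy =>
    mul_inv_eq_iff_eq_mul.2 (h.mem_coreW.1 hy).2.1.symm.eq
  have hτc := fixed_commute h hC hcP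
  have hSM : closure ({σ, r} : Set G) ≤ normalizer (M : Set G) := by
    refine hgen M (fun y hy => by rw [hfixr y (hMK hy).1]; exact hy) fun y hy => ?_
    induction hy using closure_induction with
    | mem y hy =>
      rcases hy with rfl | rfl
      · rw [hτc]; exact subset_closure (Set.mem_insert _ _)
      · rw [hC.inv_w]; exact inv_mem (subset_closure (Set.mem_insert_of_mem _ rfl))
    | one => simp
    | mul y z _ _ hy hz => rw [← _root_.conj_mul]; exact mul_mem hy hz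
    | inv y _ hy => rw [← conj_inv]; exact inv_mem hy
  have hSK : closure ({σ, r} : Set G) ≤ normalizer (K : Set G) := by
    refine hgen K (fun y hy => by rw [hfixr y hy.1]; exact hy) fun y hy => ?_
    obtain ⟨hyt, hyr, hyo⟩ := h.mem_coreW.1 hy.1
    obtain ⟨e1, e2, -⟩ := h.tau_conj
    set φ := (MulAut.conj (r * σ)).toMonoidHom
    have m1 := hyt.map φ
    have m2 := hyr.map φ
    have m3 := (show Commute y c from mem_centralizer_singleton_iff.1 hy.2).map φ
    simp only [φ, MulEquiv.coe_toMonoidHom, MulAut.conj_apply, e1, e2, hτc] at m1 m2 m3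
    refine ⟨h.mem_coreW.2 ⟨m1, ?_, ?_⟩, mem_centralizer_singleton_iff.2 m3.eq⟩
    · have := m1.mul_right m2
      rwa [← mul_assoc, h.mul_self_t, one_mul] at this
    · rwa [← orderOf_injective (MulAut.conj (r * σ)).toMonoidHom (MulAut.conj (r * σ)).injective y] at hyo
  obtain ⟨X, hMX, hXK, hXS, hX, hXc⟩ := h.exists_invariant_sylow h.isPGroup_sylow hK hSK hMK hMg hSM
  have hXM : X = M := by
    refine le_antisymm (fun y hy => ?_) hMX
    obtain ⟨f, hf, i, hi, e1, e2, rfl⟩ := exists_fixed_mul_inverted (hK.of_dvd_nat (card_dvd_of_le hXK))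
      (Involution.mul_self h.order_r_mul_σ)
      (fun a ha => (mem_normalizer_iff.1 (hXS (mul_mem h.sylow_mem_r h.sylow_mem_σ)) a).1 ha) hy
    refine mul_mem ?_ ?_
    · have hFc : X ⊓ coreW t (r * σ) ≤ coreW t (r * σ) := inf_le_right
      have hfW : f ∈ coreW t (r * σ) := h.swap.mem_coreW.2 ⟨(h.mem_coreW.1 (hXK hf).1).1,
        (mul_inv_eq_iff_eq_mul.1 e1).symm, hK.of_dvd_nat (orderOf_dvd_natCard _ (hXK hf))⟩
      have := mem_zpowers_of_coreW h hC hcP hc3 hPc (hX.to_le (inf_le_left : X ⊓ coreW t (r * σ) ≤ X)) hFc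
        ⟨hf, hfW⟩ ⟨hMX (subset_closure (Set.mem_insert _ _)), hcP.2⟩
      exact zpowers_le.2 (subset_closure (Set.mem_insert _ _)) this
    · have hwX : w ∈ X := hMX (subset_closure (Set.mem_insert_of_mem _ rfl))
      have hmix : ∀ z ∈ X, r * σ * z * (r * σ)⁻¹ = z⁻¹ → MixedElt t r σ (centralizer ({c} : Set G)) z :=
        fun z hz hzi => ⟨(hXK hz).2, hK.of_dvd_nat (orderOf_dvd_natCard _ (hXK hz)),
          (h.mem_coreW.1 (hXK hz).1).1, (h.mem_coreW.1 (hXK hz).1).2.1, hzi⟩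
      have hwO := not_mem_core h hC hS hS' hcP hc3 hPc
      obtain ⟨k, hk⟩ := (hC.exc c hcP hc1).unique w i (hmix w hwX hC.inv_w) (hmix i hi e2) hwO
      have hm : i * w ^ k ∈ X := mul_mem hi (pow_mem hwX k)
      obtain ⟨l, hl⟩ := hX ⟨_, hm⟩
      have h1 := mem_zpowers_of_core h hC hS hS' hcP hc3 hPc hk ⟨l, congrArg Subtype.val hl⟩
      have := mul_mem (zpowers_le.2 (subset_closure (Set.mem_insert c {w})) h1)
        (inv_mem (pow_mem (subset_closure (Set.mem_insert_of_mem c rfl) : w ∈ M) k))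
      rwa [mul_inv_cancel_right] at this
  rw [hXM] at hXc
  refine ⟨hXc, fun z hz hzc hzw hz3 => ?_⟩
  obtain ⟨k, hk⟩ := hz3
  obtain ⟨j, -, hj⟩ := (Nat.dvd_prime_pow Nat.prime_three).1 (orderOf_dvd_of_pow_eq_one hk)
  have hn : zpowers z ≤ normalizer (M : Set G) := zpowers_le.2 <| by
    refine Coprime.mem_normalizer_of_forall fun b hb => ?_
    have hle : M ≤ centralizer {z} := (closure_le _).2 (by
      rintro y (rfl | rfl)
      · exact mem_centralizer_singleton_iff.2 hzc.symm.eq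
      · exact mem_centralizer_singleton_iff.2 hzw.symm.eq)
    rw [← (show Commute b z from mem_centralizer_singleton_iff.1 (hle hb)).eq, mul_inv_cancel_right]
    exact hb
  have hsup : IsPGroup 3 (zpowers z ⊔ M : Subgroup G) :=
    IsPGroup.to_sup_of_normal_right' (IsPGroup.of_card (by rw [Nat.card_zpowers, hj])) hMg hn
  obtain ⟨i, hi⟩ := IsPGroup.iff_card.1 hsup
  have hle : i ≤ (Nat.card K).factorization 3 := (Nat.prime_three.pow_dvd_iff_le_factorization
    Nat.card_pos.ne').1 (hi ▸ card_dvd_of_le (sup_le (zpowers_le.2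
      (show z ∈ K from ⟨hz, mem_centralizer_singleton_iff.2 hzc.eq⟩)) hMK))
  have hcard : Nat.card (zpowers z ⊔ M : Subgroup G) ≤ Nat.card M := by
    rw [hi, hXc]; exact Nat.pow_le_pow_right (by norm_num) hle
  rw [eq_of_le_of_card_ge le_sup_right hcard]
  exact mem_sup_left (mem_zpowers z)

end Corner

end Cfsg.Agent.GWDihedral
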