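import Cfsg.Agent.Lib.GWDihedral.Setup
import Cfsg.Agent.Lib.GWSeven.SectionFormula
import Cfsg.Agent.Lib.PGroup.CyclicMaximal
import Cfsg.Agent.Lib.Blocks.Simple

/-!
# Gorenstein-Walter, dihedral case: Brauer's order formula

`DHyp.orderFormula`: the formula of S4482 for the first exceptional character of the principal block, and
`DHyp.card_le`, the bound it gives.
-/

set_option autoImplicit false

namespace Cfsg.Agent.GWDihedral

open Cfsg Subgroup
open Cfsg.Agent.GWKlein (coreU coreW)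

universe u

variable {G : Type u} [Group G] {n : ℕ} {t r σ : G}

theorem closure_mul_right (r σ : G) : closure ({σ, r * σ} : Set G) = closure {σ, r} := by
  have hσ : ∀ x : G, σ ∈ closure ({σ, x} : Set G) := fun x => Subgroup.subset_closure (Set.mem_insert _ _)
  have hx : ∀ x : G, x ∈ closure ({σ, x} : Set G) := fun x =>
    Subgroup.subset_closure (Set.mem_insert_of_mem _ rfl)
  refine le_antisymm ((closure_le _).2 ?_) ((closure_le _).2 ?_)
  · rintro x (e | e)
    · exact e ▸ hσ r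
    · exact e ▸ mul_mem (hx r) (hσ r)
  · rintro x (e | e)
    · exact e ▸ hσ (r * σ)
    · have := mul_mem (hx (r * σ)) (inv_mem (hσ (r * σ)))
      rw [mul_inv_cancel_right] at this
      exact e ▸ this

theorem DHyp.mul_σ_mul (h : DHyp n t r σ) : σ * (r * σ) = r := by
  have h1 : r * σ = σ⁻¹ * r := by
    rw [← h.conj_σ, inv_mul_cancel_right]
  rw [h1, mul_inv_cancel_left]

/-- The elements of the dihedral subgroup. -/
theorem DHyp.exists_normal_form (h : DHyp n t r σ) {p : G} (hp : p ∈ closure ({σ, r} : Set G)) :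
    ∃ k : ℤ, p = σ ^ k ∨ p = r * σ ^ k := by
  have hri : r⁻¹ = r := inv_eq_of_mul_eq_one_right h.mul_self_r
  have hmv : ∀ k : ℤ, σ ^ k * r = r * σ ^ (-k) := fun k => by
    have e := conj_zpow (a := r) (b := σ) (i := k)
    rw [h.conj_σ, inv_zpow', hri] at e
    rw [e, ← mul_assoc, ← mul_assoc, h.mul_self_r, one_mul]
  induction hp using closure_induction with
  | mem x hx =>
    rcases hx with rfl | rfl
    · exact ⟨1, Or.inl (zpow_one _).symm⟩
    · exact ⟨0, Or.inr (by rw [zpow_zero, mul_one])⟩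
  | one => exact ⟨0, Or.inl (zpow_zero _).symm⟩
  | mul x y _ _ hx hy =>
    obtain ⟨i, rfl | rfl⟩ := hx <;> obtain ⟨j, rfl | rfl⟩ := hy
    · exact ⟨i + j, Or.inl (zpow_add _ _ _).symm⟩
    · exact ⟨-i + j, Or.inr (by rw [← mul_assoc, hmv, mul_assoc, ← zpow_add])⟩
    · exact ⟨i + j, Or.inr (by rw [mul_assoc, ← zpow_add])⟩
    · exact ⟨-i + j, Or.inl (by rw [mul_assoc, ← mul_assoc (σ ^ i), hmv, mul_assoc r, ← zpow_add,
        ← mul_assoc, h.mul_self_r, one_mul])⟩
  | inv x _ hx =>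
    obtain ⟨i, rfl | rfl⟩ := hx
    · exact ⟨-i, Or.inl (zpow_neg _ _).symm⟩
    · exact ⟨i, Or.inr (by rw [mul_inv_rev, hri, ← zpow_neg, hmv, neg_neg])⟩

theorem DHyp.orderOf_eq_two_of_not_mem (h : DHyp n t r σ) {p : G} (hp : p ∈ closure ({σ, r} : Set G))
    (hpσ : p ∉ zpowers σ) : orderOf p = 2 := by
  obtain ⟨k, rfl | rfl⟩ := h.exists_normal_form hp
  · exact absurd (zpow_mem (mem_zpowers σ) k) hpσ
  · refine orderOf_eq_prime ?_ fun e => hpσ (e ▸ one_mem _)
    have e := conj_zpow (a := r) (b := σ) (i := k)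
    rw [h.conj_σ, inv_zpow, inv_eq_of_mul_eq_one_right h.mul_self_r] at e
    rw [sq, ← mul_assoc, ← e, inv_mul_cancel]

variable [Finite G]

/-- The first exceptional character of the principal block. -/
theorem DHyp.orderFormula_of (h : DHyp n t r σ) [IsSimpleGroup G]
    (hinv : ∀ x : G, orderOf x = 2 → IsConj t x)
    (hC : Nat.card (centralizer ({t} : Set G)) = 2 ^ n * Nat.card (coreU t))
    (hCr : Nat.card (centralizer ({t, r} : Set G)) = 4 * Nat.card (coreW t r))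
    (hCs : Nat.card (centralizer ({t, r * σ} : Set G)) = 4 * Nat.card (coreW t (r * σ))) :
    DOrderFormula n t r σ := by
  classical
  haveI := Fact.mk Nat.prime_two
  obtain ⟨P, hP, hiso⟩ : ∃ P : Sylow 2 G, (P : Subgroup G) = closure {σ, r} ∧
      Nonempty ((P : Subgroup G) ≃* DihedralGroup (2 ^ (n - 1))) := by
    obtain ⟨a, rfl⟩ := h.exists_add
    obtain ⟨P, hP, D, -⟩ := h.exists_data
    exact ⟨P, hP, show a + 3 - 1 = a + 2 by omega ▸ D.iso⟩
  have hσP : σ ∈ (P : Subgroup G) := hP ▸ Subgroup.subset_closure (Set.mem_insert _ _)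
  have hrP : r ∈ (P : Subgroup G) := hP ▸ Subgroup.subset_closure (Set.mem_insert_of_mem _ rfl)
  have hne : r * σ * r⁻¹ ≠ σ := fun e => by
    have e' : σ * σ = 1 := mul_eq_one_iff_eq_inv.2 (e.symm.trans h.conj_σ)
    rw [← sq, ← orderOf_dvd_iff_pow_eq_one, h.order_σ] at e'
    have := h.three_le
    have : 2 ^ 2 ≤ 2 ^ (n - 1) := Nat.pow_le_pow_right two_pos (by omega)
    have := Nat.le_of_dvd two_pos e'
    omega
  obtain ⟨M, hM⟩ := Blocks.exists_isPModular (p := 2) Nat.prime_two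
  obtain ⟨ζ, hζ⟩ : ∃ ζ : ℂ, IsPrimitiveRoot ζ (2 ^ (n - 1)) :=
    ⟨_, Complex.isPrimitiveRoot_exp (2 ^ (n - 1)) (pow_ne_zero _ two_ne_zero)⟩
  obtain ⟨-, A, B, B', χ', δ, δ₂, δ₃, hδ, -, -, -, hA1, -, -, -, -, -, -, hB0, hvals, -⟩ :=
    Cfsg.Agent.S4481.result M hM n h.three_le P hiso σ hσP h.order_σ ζ hζ
  have hAB : A ∈ principalBlock M G := by rw [hB0]; exact Or.inr (Or.inl rfl)
  have hval : ∀ l : ℕ, 0 < l → l < 2 ^ (n - 1) → (A : G → ℂ) (σ ^ l) = δ := fun l hl hl' =>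
    (hvals l hl hl').1
  obtain ⟨hx1, hx⟩ := Cfsg.Agent.S4482.result M hM n h.three_le P σ (r * σ) hσP (mul_mem hrP hσP)
    h.order_σ h.order_r_mul_σ
    (by rw [inv_eq_of_mul_eq_one_right h.mul_σ_sq, mul_assoc, h.mul_σ_mul, mul_assoc, ← h.conj_σ,
      ← mul_assoc, inv_eq_of_mul_eq_one_right h.mul_self_r])
    ((closure_mul_right r σ).trans hP.symm)
    (by rw [← h.t_eq, h.mul_σ_mul]; exact ⟨hinv _ h.order_r_mul_σ, hinv _ h.order_r⟩) A hAB hA1 δ hδ hval
  rw [← h.t_eq, h.mul_σ_mul, hC, hCr, hCs] at hx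
  -- the value at all non-identity elements of the Sylow subgroup
  have hPv : ∀ p ∈ (P : Subgroup G), p ≠ 1 → (A : G → ℂ) p = δ := by
    have hrot : ∀ p ∈ zpowers σ, p ≠ 1 → (A : G → ℂ) p = δ := fun p hp hp1 => by
      rw [← mem_powers_iff_mem_zpowers, Submonoid.mem_powers_iff] at hp
      obtain ⟨l, rfl⟩ := hp
      rw [← pow_mod_orderOf, h.order_σ] at hp1 ⊢
      exact hval _ (Nat.pos_of_ne_zero fun e => hp1 (by rw [e, pow_zero])) (Nat.mod_lt _ (by positivity))
    have ht1 : t ≠ 1 := fun e => by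
      obtain ⟨c, hc⟩ := isConj_iff.1 (hinv r h.order_r)
      rw [e, mul_one, mul_inv_cancel] at hc
      have := h.order_r
      rw [← hc, orderOf_one] at this
      omega
    intro p hp hp1
    by_cases hpσ : p ∈ zpowers σ
    · exact hrot p hpσ hp1
    obtain ⟨c, hc⟩ := isConj_iff.1 (hinv p (h.orderOf_eq_two_of_not_mem (hP ▸ hp) hpσ))
    rw [← hc, Char.IsIrrCharacter.isClassFunction A.2]
    exact hrot t (h.t_eq ▸ pow_mem (mem_zpowers σ) _) ht1
  have hdvd := GWSeven.card_dvd_degree_sub A (P : Subgroup G) δ _ (ClassCount.apply_one_eq_charDegree A) hPv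
  rw [hP, h.card_sylow] at hdvd
  set d := charDegree (A : G → ℂ) with hd
  have hd1 : d ≠ 1 := fun e => hA1 (Blocks.eq_one_of_degree_one ⟨r, σ, fun c => hne
    (by rw [c, mul_inv_cancel_right])⟩ (by rw [ClassCount.apply_one_eq_charDegree, ← hd, e, Nat.cast_one]))
  have hδ2 : δ * δ = 1 := by rcases hδ with e | e <;> rw [e] <;> norm_num
  refine ⟨δ * d, ?_, fun e => hx1 (by linear_combination δ * e - (d : ℤ) * hδ2),
    fun e => hd1 ?_, ?_⟩
  · rw [show δ * (d : ℤ) - 1 = δ * ((d : ℤ) - δ) by linear_combination hδ2]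
    exact dvd_mul_of_dvd_right (by exact_mod_cast hdvd) _
  · rcases hδ with e' | e' <;> rw [e'] at e <;> omega
  · have ha : (Nat.card (coreW t r) : ℚ) ≠ 0 := Nat.cast_ne_zero.2 Nat.card_pos.ne'
    have hb : (Nat.card (coreW t (r * σ)) : ℚ) ≠ 0 := Nat.cast_ne_zero.2 Nat.card_pos.ne'
    have hδq : (δ : ℚ) * δ = 1 := by exact_mod_cast hδ2
    have hpow : (2 : ℚ) ^ (3 * n) = 8 * 2 ^ (3 * n - 3) := by
      have := h.three_le
      rw [show (3 * n) = 3 + (3 * n - 3) by omega, pow_add, show 3 + (3 * n - 3) - 3 = 3 * n - 3 by omega]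
      norm_num
    have key : (Nat.card G : ℚ) * ((δ : ℚ) * d - 1) ^ 2 * (Nat.card (coreW t r) : ℚ) ^ 2 *
        (Nat.card (coreW t (r * σ)) : ℚ) ^ 2 = 2 ^ (3 * n - 3) * (Nat.card (coreU t) : ℚ) ^ 3 *
        ((Nat.card (coreW t r) : ℚ) + Nat.card (coreW t (r * σ))) ^ 2 * ((δ : ℚ) * d * ((δ : ℚ) * d + 1)) := by
      push_cast at hx
      field_simp at hx
      rw [pow_mul', ← mul_comm n] at hpow
      linear_combination (norm := skip) hx / 16
      rcases hδ with e | e <;> subst e <;> push_cast <;> (try rw [hpow]) <;> ring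
    exact_mod_cast key

omit [Finite G] in
theorem card_le_of_orderFormula (hn : 3 ≤ n) (h : DOrderFormula n t r σ) :
    64 * Nat.card G * Nat.card (coreW t r) ^ 2 * Nat.card (coreW t (r * σ)) ^ 2 ≤
      90 * 2 ^ (3 * n - 3) * Nat.card (coreU t) ^ 3 *
        (Nat.card (coreW t r) + Nat.card (coreW t (r * σ))) ^ 2 := by
  obtain ⟨X, hX, hX1, -, e⟩ := h
  have h8 : (8 : ℤ) ∣ X - 1 := dvd_trans (pow_dvd_pow 2 hn) hX
  have hk : 64 * (X * (X + 1)) ≤ 90 * (X - 1) ^ 2 := by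
    obtain ⟨j, hj⟩ := h8
    have hj0 : j ≠ 0 := fun e => hX1 (by rw [e] at hj; linarith)
    obtain rfl : X = 8 * j + 1 := by linarith
    rcases lt_or_gt_of_ne hj0 with hj1 | hj1
    · nlinarith [mul_nonneg (show (0 : ℤ) ≤ -j - 1 by omega) (show (0 : ℤ) ≤ -j by omega)]
    · nlinarith [mul_nonneg (show (0 : ℤ) ≤ j - 1 by omega) (show (0 : ℤ) ≤ j by omega)]
  have hpos : (0 : ℤ) < (X - 1) ^ 2 := by have := sub_ne_zero.2 hX1; positivity
  have hR : (0 : ℤ) ≤ 2 ^ (3 * n - 3) * (Nat.card (coreU t) : ℤ) ^ 3 *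
      ((Nat.card (coreW t r) : ℤ) + Nat.card (coreW t (r * σ))) ^ 2 := by positivity
  have := mul_le_mul_of_nonneg_left hk hR
  have key : (64 : ℤ) * Nat.card G * (Nat.card (coreW t r) : ℤ) ^ 2 * (Nat.card (coreW t (r * σ)) : ℤ) ^ 2 ≤
      90 * 2 ^ (3 * n - 3) * (Nat.card (coreU t) : ℤ) ^ 3 *
        ((Nat.card (coreW t r) : ℤ) + Nat.card (coreW t (r * σ))) ^ 2 := by
    refine le_of_mul_le_mul_right ?_ hpos
    linear_combination this + 64 * e
  exact_mod_cast key

/-- Brauer's order formula in a simple group. -/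
theorem DHyp.orderFormula [IsSimpleGroup G] (h : DHyp n t r σ) : DOrderFormula n t r σ :=
  h.orderFormula_of (fun _ hx => h.isConj_t hx) h.card_centralizer h.card_centralizer_pair
    h.swap.card_centralizer_pair

/-- The bound `X (X + 1) / (X - 1) ^ 2 ≤ 90 / 64` in the order formula. -/
theorem DHyp.card_le [IsSimpleGroup G] (h : DHyp n t r σ) :
    64 * Nat.card G * Nat.card (coreW t r) ^ 2 * Nat.card (coreW t (r * σ)) ^ 2 ≤
      90 * 2 ^ (3 * n - 3) * Nat.card (coreU t) ^ 3 *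
        (Nat.card (coreW t r) + Nat.card (coreW t (r * σ))) ^ 2 :=
  card_le_of_orderFormula h.three_le h.orderFormula

end Cfsg.Agent.GWDihedral
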