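import Cfsg.Agent.Lib.GWDihedral.Steps
import Cfsg.Agent.Lib.GWDihedral.Ratio
import Cfsg.Agent.Lib.GWDihedral.OrderFormula
import Cfsg.Agent.Lib.GWSeven.SectionFormula
import Cfsg.Agent.Lib.Char.Inner

/-!
# Gorenstein-Walter, dihedral Sylow 2-subgroup of order eight: the characters in the corner of (2.1A)

* `twentyfour_le_degree` : an element `z` of order three centralised by a 2-group `P` of order eight and a
  commutator of elements of its centraliser, with `χ(p z^j) = χ(p)` on `P#`, forces `24 ≤ χ(1)`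
* `degree_arith` : the inequality
* `corner_false` : last paragraph of 2.1A II of `notes/gw_dihedral_eight.md`
-/

set_option autoImplicit false
set_option linter.style.haveILetI false

namespace Cfsg.Agent.GWDihedral

open Subgroup Module
open Cfsg
open Cfsg.Agent.GWKlein (coreU coreW fourV)

universe u

variable {G : Type u} [Group G]

/-- The eigenspace of `z` for a primitive cube root of unity has dimension divisible by three, as `z` is a
commutator of elements acting on it, and by eight, as the restricted character of `P` vanishes off `1`. -/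
theorem twentyfour_le_degree [Finite G] [IsSimpleGroup G] (χ : IrrCharacter G)
    (hχ : (χ : G → ℂ) ≠ fun _ => 1) (P : Subgroup G) (hP : Nat.card P = 8) {z w s : G}
    (hz : orderOf z = 3) (hzP : ∀ p ∈ P, Commute p z) (hwz : Commute w z) (hsz : Commute s z)
    (hcomm : s * w * s⁻¹ = w * z)
    (hval : ∀ p ∈ P, p ≠ 1 → (χ : G → ℂ) (p * z) = (χ : G → ℂ) p ∧
      (χ : G → ℂ) (p * (z * z)) = (χ : G → ℂ) p)
    {d : ℕ} (hd : (χ : G → ℂ) 1 = d) : 24 ≤ d := by
  classical
  haveI := Fintype.ofFinite G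
  haveI := Fintype.ofFinite P
  have hχirr := χ.2
  obtain ⟨n, ρ, hirr, hρ⟩ := χ.2
  have hdn : d = n := by
    have h := Representation.char_one ρ
    rw [hρ, hd, Module.finrank_fin_fun] at h
    exact_mod_cast h
  -- `z` is not in the kernel
  have hρz : ρ z ≠ 1 := by
    intro h
    rcases (MonoidHom.normal_ker ρ).eq_bot_or_eq_top with e | e
    · rw [MonoidHom.ker_eq_bot_iff] at e
      have : z = 1 := e (h.trans (map_one ρ).symm)
      rw [this, orderOf_one] at hz
      omega
    · have hconst : (χ : G → ℂ) = (n : ℂ) • (1 : G → ℂ) := by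
        funext g
        have hg : ρ g = 1 := MonoidHom.mem_ker.mp (e ▸ mem_top g)
        rw [← hρ, Pi.smul_apply, Pi.one_apply, smul_eq_mul, mul_one, Representation.character, hg,
          LinearMap.trace_one, Module.finrank_fin_fun]
      have hne : (χ : G → ℂ) ≠ (1 : G → ℂ) := fun h => hχ (h.trans rfl)
      have h0 := Char.classInner_irr_of_ne hχirr Char.isIrrCharacter_one hne
      rw [hconst, Char.classInner_smul_left, Char.classInner_irr_self Char.isIrrCharacter_one] at h0
      have hn0 : n = 0 := by simpa using h0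
      exact Char.IsIrrCharacter.apply_one_ne_zero hχirr (by rw [hd, hdn, hn0, Nat.cast_zero])
  obtain ⟨b, μ, hμ, hroot⟩ := Char.exists_eigenbasis ρ z
  obtain ⟨i, hi⟩ : ∃ i, μ i ≠ 1 := by
    by_contra hall
    push Not at hall
    exact hρz (b.ext fun i => by rw [hμ i, hall i, one_smul, Module.End.one_apply])
  set ω := μ i with hωdef
  have hω3 : ω ^ 3 = 1 := hz ▸ hroot i
  have hω2 : 1 + ω + ω * ω = 0 := by
    have h : (ω - 1) * (1 + ω + ω * ω) = 0 := by linear_combination hω3
    exact (mul_eq_zero.mp h).resolve_left (sub_ne_zero.mpr hi)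
  -- the eigenspace and the elements acting on it
  set E := Module.End.eigenspace (ρ z) ω with hE
  have hmem : ∀ v, v ∈ E ↔ ρ z v = ω • v := fun v => Module.End.mem_eigenspace_iff
  have hinv : ∀ g : G, Commute g z → ∀ v ∈ E, ρ g v ∈ E := fun g hg v hv => by
    rw [hmem] at hv ⊢
    rw [← Module.End.mul_apply, ← map_mul, ← hg.eq, map_mul, Module.End.mul_apply, hv, map_smul]
  have hk0 : 0 < finrank ℂ E :=
    Module.finrank_pos_iff_exists_ne_zero.mpr ⟨⟨b i, (hmem _).mpr (hμ i)⟩, fun h =>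
      b.ne_zero i (congrArg Subtype.val h)⟩
  -- three divides the dimension
  have h3 : 3 ∣ finrank ℂ E := by
    let R : ∀ g : G, Commute g z → Module.End ℂ E := fun g hg => (ρ g).restrict (hinv g hg)
    have hR : ∀ g hg (v : E), (R g hg v : Fin n → ℂ) = ρ g v := fun g hg v => rfl
    have hdet : ∀ g hg, LinearMap.det (R g hg) ≠ 0 := by
      intro g hg
      have e : R g hg * R g⁻¹ hg.inv_left = 1 := by
        refine LinearMap.ext fun v => Subtype.ext ?_
        rw [Module.End.mul_apply, hR, hR, ← Module.End.mul_apply, ← map_mul, mul_inv_cancel, map_one]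
        · rfl
        all_goals first | assumption | exact hg.inv_left
      have := congrArg LinearMap.det e
      rw [map_mul, map_one] at this
      exact left_ne_zero_of_mul_eq_one this
    have e : R s hsz * R w hwz = ω • (R w hwz * R s hsz) := by
      refine LinearMap.ext fun v => Subtype.ext ?_
      rw [Module.End.mul_apply, hR, hR, ← Module.End.mul_apply, ← map_mul,
        show s * w = w * (s * z) by
          rw [hsz.eq, ← mul_assoc, ← hcomm, inv_mul_cancel_right],
        map_mul, map_mul, Module.End.mul_apply, Module.End.mul_apply, (hmem _).mp v.2, map_smul, map_smul]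
      · rfl
      all_goals assumption
    have h1 := congrArg LinearMap.det e
    rw [map_mul, LinearMap.det_smul, map_mul, mul_comm (LinearMap.det (R w hwz))] at h1
    have h2 : ω ^ finrank ℂ E = 1 := (mul_eq_right₀ (mul_ne_zero (hdet s hsz) (hdet w hwz))).mp h1.symm
    have ho : orderOf ω = 3 := orderOf_eq_prime hω3 hi
    exact ho ▸ orderOf_dvd_of_pow_eq_one h2
  -- eight divides the dimension
  have h8 : 8 ∣ finrank ℂ E := by
    set Z := ρ z with hZ
    set e : Module.End ℂ (Fin n → ℂ) := (3 : ℂ)⁻¹ • (1 + (ω * ω) • Z + ω • (Z * Z)) with hedef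
    have hZ3 : Z * (Z * Z) = 1 := by
      rw [hZ, ← map_mul, ← map_mul, show z * (z * z) = z ^ 3 by rw [pow_succ, sq, mul_assoc], ← hz, pow_orderOf_eq_one, map_one]
    have hZe : Z * e = ω • e := by
      simp only [hedef, mul_smul_comm, mul_add, mul_one, hZ3, smul_add, smul_smul]
      match_scalars <;> first | linear_combination (3 : ℂ)⁻¹ * hω3 | linear_combination -(3 : ℂ)⁻¹ * hω3 | ring
    have hproj : LinearMap.IsProj E e := by
      refine ⟨fun v => (hmem _).mpr (LinearMap.congr_fun hZe v), fun v hv => ?_⟩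
      have hv' : Z v = ω • v := (hmem v).mp hv
      simp only [hedef, LinearMap.smul_apply, LinearMap.add_apply, Module.End.one_apply, Module.End.mul_apply,
        hv', map_smul, smul_smul]
      match_scalars
      field_simp
      linear_combination (2 : ℂ) * hω3
    have hce : ∀ p : P, Commute (ρ (p : G)) e := fun p => by
      have h1 : Commute (ρ (p : G)) Z := (hzP p p.2).map ρ
      exact (((Commute.one_right _).add_right (h1.smul_right _)).add_right
        ((h1.mul_right h1).smul_right _)).smul_right _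
    set A : Module.End ℂ (Fin n → ℂ) := ∑ p : P, ρ (p : G) with hA
    have hAA : A * A = (8 : ℂ) • A := by
      rw [hA, Finset.sum_mul]
      have hp : ∀ p : P, ρ (p : G) * ∑ q : P, ρ (q : G) = ∑ q : P, ρ (q : G) := fun p => by
        rw [Finset.mul_sum]
        exact Fintype.sum_equiv (Equiv.mulLeft p) _ _ fun q => by
          rw [Equiv.coe_mulLeft, Subgroup.coe_mul, map_mul]
      rw [Finset.sum_congr rfl fun p _ => hp p, Finset.sum_const, Finset.card_univ,
        ← Nat.card_eq_fintype_card, hP, ← Nat.cast_smul_eq_nsmul ℂ]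
      norm_num
    have hAe : Commute A e := Commute.sum_left _ _ _ fun p _ => hce p
    set B := (8 : ℂ)⁻¹ • (A * e) with hB
    have hee : e * e = e := LinearMap.ext fun v => hproj.map_id _ (hproj.map_mem v)
    have hBB : IsIdempotentElem B := by
      rw [IsIdempotentElem, hB, smul_mul_smul_comm, mul_assoc, ← mul_assoc e, ← hAe.eq, mul_assoc A e, hee,
        ← mul_assoc, hAA, smul_mul_assoc, smul_smul]
      norm_num
    have htB : LinearMap.trace ℂ _ B = finrank ℂ (LinearMap.range B) :=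
      (LinearMap.IsIdempotentElem.isProj_range B hBB).trace
    have htp : ∀ p : P, p ≠ 1 → LinearMap.trace ℂ _ (ρ (p : G) * e) = 0 := by
      intro p hp
      obtain ⟨h1, h2⟩ := hval p p.2 fun h => hp (Subtype.ext h)
      have hc : ∀ g, LinearMap.trace ℂ _ (ρ g) = (χ : G → ℂ) g := fun g => by rw [← hρ]; rfl
      rw [hedef, mul_smul_comm, mul_add, mul_add, mul_one, mul_smul_comm, mul_smul_comm, hZ, ← map_mul,
        ← map_mul, ← map_mul, map_smul, map_add, map_add, map_smul, map_smul, hc, hc, hc, h1, h2]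
      simp only [smul_eq_mul]
      linear_combination (3 : ℂ)⁻¹ * (χ : G → ℂ) p * hω2
    have htB' : LinearMap.trace ℂ _ ((8 : ℂ)⁻¹ • (A * e)) = finrank ℂ (LinearMap.range B) := by
      rw [← hB]; exact htB
    clear htB
    rename' htB' => htB
    rw [map_smul, hA, Finset.sum_mul, map_sum, Finset.sum_eq_single (1 : P) (fun p _ hp => htp p hp)
      (fun h => absurd (Finset.mem_univ _) h), Subgroup.coe_one, map_one, one_mul, hproj.trace] at htB
    refine ⟨finrank ℂ (LinearMap.range B), ?_⟩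
    rw [smul_eq_mul, inv_mul_eq_iff_eq_mul₀ (by norm_num)] at htB
    exact_mod_cast htB
  have hle : finrank ℂ E ≤ n := (Submodule.finrank_le E).trans (Module.finrank_fin_fun ℂ).le
  have h24 := Nat.le_of_dvd hk0 ((show Nat.Coprime 3 8 by norm_num).mul_dvd_of_dvd_of_dvd h3 h8)
  omega


set_option maxHeartbeats 1000000 in
/-- The inequality: three signed degrees of absolute value at least `24`. -/
theorem degree_arith {X Y Z : ℤ} (hX : (8 : ℤ) ∣ X - 1) (hX24 : 24 ≤ |X|) (hY : 24 ≤ |Y|) (hZ : 24 ≤ |Z|)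
    (hsum : Y + Z = X + 1) {a b : ℤ} (ha : 0 < a) (hb : 0 < b) (hd : 4 * (a + b) ^ 2 ≤ 25 * (a - b) ^ 2)
    (he : (a + b) ^ 2 * (X * (X + 1) ^ 2) =
      (4 * X * (a + b) ^ 2 + (a - b) ^ 2 * (X - 1) ^ 2) * (Y * Z)) : False := by
  obtain ⟨k, hk⟩ := hX
  have hs : 0 < (a + b) ^ 2 := by positivity
  -- the relation with `d` replaced by `4/25`
  have hm : 0 ≤ (25 * (a - b) ^ 2 - 4 * (a + b) ^ 2) * (X - 1) ^ 2 :=
    mul_nonneg (by linarith) (sq_nonneg _)
  have hXcase : 25 ≤ X ∨ X ≤ -31 := by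
    rcases le_abs.mp hX24 with h | h <;> omega
  rcases le_abs.mp hY with hY' | hY' <;> rcases le_abs.mp hZ with hZ' | hZ'
  · -- both positive
    have hX47 : 47 ≤ X := by linarith
    have hYZ : 24 * (X - 23) ≤ Y * Z := by nlinarith [mul_nonneg (sub_nonneg.mpr hY') (sub_nonneg.mpr hZ')]
    have hpos : 0 ≤ Y * Z := by positivity
    have h1 : (4 * (X - 1) ^ 2 + 100 * X) * (Y * Z) ≤ 25 * (X * (X + 1) ^ 2) := by
      refine le_of_mul_le_mul_left ?_ hs
      nlinarith [mul_nonneg hm hpos]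
    have h2 : 0 ≤ 4 * (X - 1) ^ 2 + 100 * X := by positivity
    have h3 := mul_le_mul_of_nonneg_left hYZ h2
    nlinarith [mul_nonneg (mul_nonneg (show (0 : ℤ) ≤ X - 47 by linarith) (show (0 : ℤ) ≤ X by linarith))
      (show (0 : ℤ) ≤ X by linarith)]
  · exact mixed hXcase hs hm (mul_nonpos_of_nonneg_of_nonpos (by linarith) (by linarith))
      (by nlinarith [mul_nonneg (sub_nonneg.mpr hY') (show (0 : ℤ) ≤ 24 - Z by linarith)]) hsum he
  · exact mixed hXcase hs hm (mul_nonpos_of_nonpos_of_nonneg (by linarith) (by linarith))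
      (by nlinarith [mul_nonneg (sub_nonneg.mpr hZ') (show (0 : ℤ) ≤ 24 - Y by linarith)]) hsum he
  · -- both negative
    have hX49 : X ≤ -49 := by linarith
    have hpos : 0 < Y * Z := mul_pos_of_neg_of_neg (by linarith) (by linarith)
    have h1 : (4 * (X - 1) ^ 2 + 100 * X) * (Y * Z) ≤ 25 * (X * (X + 1) ^ 2) := by
      refine le_of_mul_le_mul_left ?_ hs
      nlinarith [mul_nonneg hm hpos.le]
    have h2 : 0 < 4 * (X - 1) ^ 2 + 100 * X := by nlinarith
    have h3 : X * (X + 1) ^ 2 < 0 := mul_neg_of_neg_of_pos (by linarith) (by nlinarith)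
    nlinarith [mul_pos h2 hpos]
where
  mixed {X Y Z a b : ℤ} (hXcase : 25 ≤ X ∨ X ≤ -31) (hs : 0 < (a + b) ^ 2)
      (hm : 0 ≤ (25 * (a - b) ^ 2 - 4 * (a + b) ^ 2) * (X - 1) ^ 2) (hneg : Y * Z ≤ 0)
      (hb1 : Y * Z ≤ 24 * (X - 23)) (hsum : Y + Z = X + 1)
      (he : (a + b) ^ 2 * (X * (X + 1) ^ 2) =
        (4 * X * (a + b) ^ 2 + (a - b) ^ 2 * (X - 1) ^ 2) * (Y * Z)) : False := by
    have h1 : 25 * (X * (X + 1) ^ 2) ≤ (4 * (X - 1) ^ 2 + 100 * X) * (Y * Z) := by
      refine le_of_mul_le_mul_left ?_ hs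
      nlinarith [mul_nonpos_of_nonneg_of_nonpos hm hneg]
    rcases hXcase with hX | hX
    · have h2 : 0 < X * (X + 1) ^ 2 := by positivity
      have h3 : (4 * (X - 1) ^ 2 + 100 * X) * (Y * Z) ≤ 0 :=
        mul_nonpos_of_nonneg_of_nonpos (by positivity) hneg
      linarith
    · have h2 : 0 ≤ 4 * (X - 1) ^ 2 + 100 * X := by nlinarith
      have h3 := mul_le_mul_of_nonneg_left hb1 h2
      nlinarith [mul_nonneg (mul_nonneg (show (0 : ℤ) ≤ -31 - X by linarith) (show (0 : ℤ) ≤ -X by linarith))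
        (show (0 : ℤ) ≤ -X by linarith)]

variable {t r σ z w s : G}

/-- Last paragraph of 2.1A II: an element of order three centralising the Sylow 2-subgroup, a commutator in
its centraliser and fused there on the reflections, bounds `((a - b) / (a + b)) ^ 2` below `4 / 25`. -/
theorem corner_false [Finite G] [IsSimpleGroup G] (c : Ctx 3 t r σ) (z w s : G) (hz : orderOf z = 3)
    (hzS : z ∈ centralizer (closure ({σ, r} : Set G) : Set G)) (hwz : Commute w z) (hsz : Commute s z)
    (hcomm : s * w * s⁻¹ = w * z)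
    (hfus : ∀ v ∈ closure ({σ, r} : Set G), orderOf v = 2 → ∃ g, Commute g z ∧ g * t * g⁻¹ = v)
    (hd : 4 * ((Nat.card (coreW t r) : ℤ) + Nat.card (coreW t (r * σ))) ^ 2 ≤
      25 * ((Nat.card (coreW t r) : ℤ) - Nat.card (coreW t (r * σ))) ^ 2) : False := by
  classical
  haveI := Fact.mk Nat.prime_two
  have h := c.hyp
  obtain ⟨M, hM⟩ := Blocks.exists_isPModular (p := 2) Nat.prime_two
  obtain ⟨P, hP, D, hmid⟩ := h.exists_data (a := 0)
  have ht : σ ^ 2 ^ (0 + 1) = t := hmid
  have hzP : ∀ p ∈ (P : Subgroup G), Commute p z := fun p hp =>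
    mem_centralizer_iff.mp hzS p (by rw [hP] at hp; exact hp)
  have hzodd : ∀ u ∈ zpowers z, ∀ (x : G) (hu : Commute x u),
      ¬ 2 ∣ orderOf (⟨u, mem_centralizer_singleton_iff.mpr hu.symm.eq⟩ : centralizer ({x} : Set G)) := by
    intro u hu x _
    rw [Subgroup.orderOf_mk]
    intro h2
    have := h2.trans (orderOf_dvd_of_mem_zpowers hu)
    omega
  -- the values on the sections of the elements of the Sylow subgroup
  have hshift : ∀ χ : IrrCharacter G, χ ∈ principalBlock M G → ∀ u ∈ zpowers z,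
      ∀ p ∈ (P : Subgroup G), p ≠ 1 → (χ : G → ℂ) (p * u) = (χ : G → ℂ) p := by
    intro χ hχ u hu p hp hp1
    obtain ⟨k, rfl⟩ := mem_zpowers_iff.mp hu
    have key : ∀ x ∈ zpowers σ, x ∈ (P : Subgroup G) → x ≠ 1 →
        (χ : G → ℂ) (x * z ^ k) = (χ : G → ℂ) x := by
      intro x hx hxP hx1
      have hcp : HasNormalPComplement 2 (centralizer ({x} : Set G)) := by
        by_cases e : x * x = 1
        · rw [(D.eq_one_or_mid hx e).resolve_left hx1]
          exact D.complement_mid.1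
        · exact (D.complement_rot hx e).1
      have hc : Commute x (z ^ k) := (hzP x hxP).zpow_right k
      exact SecondMain.apply_shift_principal hM (D.isPow_two hxP)
        (fun _ => SecondMain.commute_iff_mem_centralizer_singleton) hcp hχ (hzodd _ hu x hc)
    by_cases hpσ : p ∈ zpowers σ
    · exact key p hpσ hp hp1
    have hp2 : orderOf p = 2 := h.orderOf_eq_two_of_not_mem (hP ▸ hp) hpσ
    obtain ⟨g, hgz, hgt⟩ := hfus p (hP ▸ hp) hp2
    have hcls := Char.IsIrrCharacter.isClassFunction χ.2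
    have ht' := key t h.t_mem_zpowers (D.zpowers_le h.t_mem_zpowers) h.ne_one_t
    have e : g * (t * z ^ k) * g⁻¹ = p * z ^ k := by
      rw [← hgt]
      have := (hgz.zpow_right k).eq
      calc g * (t * z ^ k) * g⁻¹ = g * t * g⁻¹ * (g * z ^ k * g⁻¹) := by group
        _ = g * t * g⁻¹ * z ^ k := by rw [this, mul_inv_cancel_right]
    rw [← e, hcls, ht', ← hgt, hcls]
  have hdeg : ∀ χ : IrrCharacter G, χ ∈ principalBlock M G → (χ : G → ℂ) ≠ (fun _ => 1) →
      ∀ d : ℕ, (χ : G → ℂ) 1 = d → 24 ≤ d := fun χ hχ hne d hd =>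
    twentyfour_le_degree χ hne (P : Subgroup G) (by rw [hP, h.card_sylow]; norm_num) hz hzP hwz hsz hcomm
      (fun p hp hp1 => ⟨hshift χ hχ z (mem_zpowers z) p hp hp1,
        hshift χ hχ (z * z) (mul_mem (mem_zpowers z) (mem_zpowers z)) p hp hp1⟩) hd
  have hc1 : IsConj t r := h.isConj_t h.order_r
  have hc2 : IsConj t (σ * r) := (h.isConj_t h.order_r_mul_σ).trans (isConj_iff.2 ⟨σ, by group⟩)
  obtain ⟨x₁, x₂, x₃, δ₁, δ₂, δ₃, hx₁, hx₂, hx₃, hδ₁, hδ₂, hδ₃, hsum, ⟨hPc, hdvd⟩, hf1, hf2, hge⟩ :=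
    GWSeven.degree_equations_ge M hM 0 P σ r D.mem (hP ▸ subset_closure (Set.mem_insert_of_mem _ rfl))
      D.order h.order_r h.conj_σ hP.symm (ht.symm ▸ ⟨hc1, hc2⟩)
  obtain ⟨hg1, hg2, hg3⟩ := hge 24 hdeg
  have hsw : Nat.card (centralizer ({t, σ * r} : Set G)) = Nat.card (centralizer ({t, r * σ} : Set G)) :=
    (Nat.card_congr ((MulAut.conj σ).toEquiv.subtypeEquiv fun g => (conj_swap h g).symm)).symm
  rw [ht, h.card_centralizer, h.card_centralizer_pair, hsw, h.swap.card_centralizer_pair] at hf1 hf2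
  set A := Nat.card (coreW t r) with hAdef
  set B := Nat.card (coreW t (r * σ)) with hBdef
  set U := Nat.card (coreU t) with hUdef
  have hA : (A : ℚ) ≠ 0 := Nat.cast_ne_zero.mpr Nat.card_pos.ne'
  have hB : (B : ℚ) ≠ 0 := Nat.cast_ne_zero.mpr Nat.card_pos.ne'
  have hU : (U : ℚ) ≠ 0 := Nat.cast_ne_zero.mpr Nat.card_pos.ne'
  have hG : (Nat.card G : ℚ) ≠ 0 := Nat.cast_ne_zero.mpr Nat.card_pos.ne'
  have hd₁ : δ₁ * δ₁ = 1 := by rcases hδ₁ with e | e <;> rw [e] <;> norm_num
  have hd₂ : δ₂ * δ₂ = 1 := by rcases hδ₂ with e | e <;> rw [e] <;> norm_num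
  have hd₃ : δ₃ * δ₃ = 1 := by rcases hδ₃ with e | e <;> rw [e] <;> norm_num
  set X : ℤ := δ₁ * x₁ with hXdef
  set Y : ℤ := -(δ₂ * x₂) with hYdef
  set Z : ℤ := -(δ₃ * x₃) with hZdef
  have habs : ∀ (δ : ℤ) (x : ℕ), (δ = 1 ∨ δ = -1) → 24 ≤ x → (24 : ℤ) ≤ |δ * x| := by
    intro δ x hδ hx
    rcases hδ with e | e <;> rw [e] <;> simp <;> omega
  refine degree_arith (X := X) (Y := Y) (Z := Z) ?_ (habs _ _ hδ₁ hg1) (by rw [abs_neg]; exact habs _ _ hδ₂ hg2)
    (by rw [abs_neg]; exact habs _ _ hδ₃ hg3) ?_ (a := (A : ℤ)) (b := (B : ℤ))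
    (Int.natCast_pos.mpr Nat.card_pos) (Int.natCast_pos.mpr Nat.card_pos) hd ?_
  · rw [show X - 1 = δ₁ * ((x₁ : ℤ) - δ₁) by rw [hXdef]; linear_combination hd₁]
    refine dvd_mul_of_dvd_right ?_ _
    rw [hPc] at hdvd
    simpa using hdvd
  · rw [hXdef, hYdef, hZdef]
    linear_combination -hsum
  · -- the two formulas together
    have q1 : (Nat.card G : ℚ) * ((X : ℚ) - 1) ^ 2 * (A : ℚ) ^ 2 * (B : ℚ) ^ 2 =
        64 * (U : ℚ) ^ 3 * ((X : ℚ) * ((X : ℚ) + 1)) * ((A : ℚ) + B) ^ 2 := by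
      push_cast at hf1
      field_simp at hf1
      rcases hδ₁ with e | e <;> rw [hXdef, e] <;> rw [e] at hf1 <;> push_cast at hf1 ⊢ <;>
        linear_combination hf1 / 16
    have hxq : (x₁ : ℚ) ≠ 0 ∧ (x₂ : ℚ) ≠ 0 ∧ (x₃ : ℚ) ≠ 0 :=
      ⟨Nat.cast_ne_zero.mpr hx₁.ne', Nat.cast_ne_zero.mpr hx₂.ne', Nat.cast_ne_zero.mpr hx₃.ne'⟩
    obtain ⟨hxq1, hxq2, hxq3⟩ := hxq
    have q2 : (Nat.card G : ℚ) * ((A : ℚ) * B) * ((X : ℚ) * Y * Z + (Y : ℚ) * Z - (X : ℚ) * Z - (X : ℚ) * Y) =
        256 * (U : ℚ) ^ 3 * ((X : ℚ) * Y * Z) := by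
      push_cast at hf2
      field_simp at hf2
      rcases hδ₁ with e | e <;> rcases hδ₂ with e' | e' <;> rcases hδ₃ with e'' | e'' <;>
        rw [hXdef, hYdef, hZdef, e, e', e''] <;> rw [e, e', e''] at hf2 <;> push_cast at hf2 ⊢ <;>
        first | linear_combination hf2 / 16 | linear_combination -hf2 / 16
    have hs : (X : ℚ) + 1 = (Y : ℚ) + Z := by
      have : X + 1 = Y + Z := by rw [hXdef, hYdef, hZdef]; linear_combination hsum
      exact_mod_cast this
    refine Int.cast_injective (α := ℚ) ?_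
    push_cast
    refine mul_left_cancel₀ (mul_ne_zero hG (mul_ne_zero hA hB)) ?_
    linear_combination 4 * (Y : ℚ) * Z * q1 - ((X : ℚ) + 1) * ((A : ℚ) + B) ^ 2 * q2 +
      (Nat.card G : ℚ) * ((A : ℚ) * B) * X * ((X : ℚ) + 1) * ((A : ℚ) + B) ^ 2 * hs

end Cfsg.Agent.GWDihedral
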