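import Cfsg.Agent.Lib.GWDihedral.Functor
import Mathlib.GroupTheory.SpecificGroups.Alternating

/-!
# Gorenstein-Walter, dihedral Sylow subgroups of order eight: tools for part I of the corner of (2.1)

* `alt_seven_normalizer` : a Sylow 3-subgroup of `A7` is elementary, self-centralising, and some element of its
  normaliser has a square inverting it
* `Triple` : coordinates modulo 3 in an elementary abelian group of order 27
* `DHyp.false_of_quaternion` : no quaternion group is induced on a subgroup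
-/

set_option autoImplicit false
set_option linter.style.haveILetI false

namespace Cfsg.Agent.GWDihedral

open Subgroup

namespace CornerAlt

open Equiv

local notation "A₇" => alternatingGroup (Fin 7)

/-- `(0 1 2)`. -/
def a₀ : A₇ := ⟨swap 0 1 * swap 1 2, Equiv.Perm.mem_alternatingGroup.2 (by decide)⟩

/-- `(3 4 5)`. -/
def b₀ : A₇ := ⟨swap 3 4 * swap 4 5, Equiv.Perm.mem_alternatingGroup.2 (by decide)⟩

/-- `(0 3)(1 4 2 5)`. -/
def g₀ : A₇ := ⟨swap 0 3 * swap 1 4 * swap 4 2 * swap 2 5, Equiv.Perm.mem_alternatingGroup.2 (by decide)⟩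

theorem facts : a₀ ^ 3 = 1 ∧ b₀ ^ 3 = 1 ∧ Commute a₀ b₀ ∧ a₀ ≠ 1 ∧ g₀ * a₀ * g₀⁻¹ = b₀ ∧
    g₀ * b₀ * g₀⁻¹ = a₀⁻¹ ∧ (∀ i : Fin 3, b₀ ≠ a₀ ^ i.val) := by
  unfold Commute SemiconjBy
  decide

/-- In `A7` the centraliser of `⟨(0 1 2), (3 4 5)⟩` is that group. -/
theorem mem_closure_of_commute {y : A₇} (ha : Commute y a₀) (hb : Commute y b₀) :
    y ∈ closure ({a₀, b₀} : Set A₇) := by
  have hpt : ∀ (p q : A₇), Commute p q → ∀ z, (p : Perm (Fin 7)) ((q : Perm (Fin 7)) z) =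
      (q : Perm (Fin 7)) ((p : Perm (Fin 7)) z) := fun p q h z =>
    congrArg (fun f : A₇ => (f : Perm (Fin 7)) z) h.eq
  have h6 : ∀ z : Fin 7, (a₀ : Perm (Fin 7)) z = z → (b₀ : Perm (Fin 7)) z = z → z = 6 := by decide
  have h0 : ∀ z : Fin 7, (b₀ : Perm (Fin 7)) z = z → (a₀ : Perm (Fin 7)) z ≠ z →
      ∃ i : Fin 3, ((a₀ ^ i.val : A₇) : Perm (Fin 7)) 0 = z := by decide
  have h3 : ∀ z : Fin 7, (a₀ : Perm (Fin 7)) z = z → (b₀ : Perm (Fin 7)) z ≠ z →
      ∃ i : Fin 3, ((b₀ ^ i.val : A₇) : Perm (Fin 7)) 3 = z := by decide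
  have hfix : ∀ (p q : A₇), Commute p q → ∀ z, (q : Perm (Fin 7)) z = z →
      (q : Perm (Fin 7)) ((p : Perm (Fin 7)) z) = (p : Perm (Fin 7)) z := fun p q h z e => by
    rw [← hpt p q h z, e]
  have hmov : ∀ (p q : A₇), Commute p q → ∀ z, (q : Perm (Fin 7)) z ≠ z →
      (q : Perm (Fin 7)) ((p : Perm (Fin 7)) z) ≠ (p : Perm (Fin 7)) z := fun p q h z e e' => by
    rw [← hpt p q h z] at e'
    exact e ((p : Perm (Fin 7)).injective e')
  obtain ⟨i, hi⟩ := h0 _ (hfix y b₀ hb 0 (by decide)) (hmov y a₀ ha 0 (by decide))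
  obtain ⟨j, hj⟩ := h3 _ (hfix y a₀ ha 3 (by decide)) (hmov y b₀ hb 3 (by decide))
  set p := (a₀ ^ i.val * b₀ ^ j.val)⁻¹ * y with hp
  have hai : a₀ ∈ closure ({a₀, b₀} : Set A₇) := subset_closure (Set.mem_insert _ _)
  have hbi : b₀ ∈ closure ({a₀, b₀} : Set A₇) := subset_closure (Set.mem_insert_of_mem _ rfl)
  have hcomm := facts.2.2.1
  have hpa : Commute p a₀ :=
    ((((Commute.refl a₀).pow_left _).mul_left (hcomm.symm.pow_left _)).inv_left).mul_left ha
  have hpb : Commute p b₀ :=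
    (((hcomm.pow_left _).mul_left ((Commute.refl b₀).pow_left _)).inv_left).mul_left hb
  have hfb : ((b₀ ^ j.val : A₇) : Perm (Fin 7)) 0 = 0 :=
    (by decide : ∀ j : Fin 3, ((b₀ ^ j.val : A₇) : Perm (Fin 7)) 0 = 0) j
  have hfa : ((a₀ ^ i.val : A₇) : Perm (Fin 7)) 3 = 3 :=
    (by decide : ∀ i : Fin 3, ((a₀ ^ i.val : A₇) : Perm (Fin 7)) 3 = 3) i
  have p0 : (p : Perm (Fin 7)) 0 = 0 := by
    rw [hp, Subgroup.coe_mul, Subgroup.coe_inv, Perm.mul_apply, ← hi]
    rw [Perm.inv_eq_iff_eq, Subgroup.coe_mul, Perm.mul_apply, hfb]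
  have p3 : (p : Perm (Fin 7)) 3 = 3 := by
    rw [hp, Subgroup.coe_mul, Subgroup.coe_inv, Perm.mul_apply, ← hj]
    rw [Perm.inv_eq_iff_eq, (hcomm.pow_pow i.val j.val).eq, Subgroup.coe_mul, Perm.mul_apply, hfa]
  have p6 : (p : Perm (Fin 7)) 6 = 6 := h6 _ (hfix p a₀ hpa 6 (by decide)) (hfix p b₀ hpb 6 (by decide))
  have e : p = 1 := Subtype.ext <| Equiv.ext fun z => by
    show (p : Perm (Fin 7)) z = z
    have s1 := hpt p a₀ hpa 0
    have s2 := hpt p a₀ hpa 1
    have s4 := hpt p b₀ hpb 3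
    have s5 := hpt p b₀ hpb 4
    rw [p0] at s1
    rw [p3] at s4
    have e1 : (a₀ : Perm (Fin 7)) 0 = 1 := by decide
    have e2 : (a₀ : Perm (Fin 7)) 1 = 2 := by decide
    have e4 : (b₀ : Perm (Fin 7)) 3 = 4 := by decide
    have e5 : (b₀ : Perm (Fin 7)) 4 = 5 := by decide
    rw [e1] at s1
    rw [e2, s1, e2] at s2
    rw [e4] at s4
    rw [e5, s4, e5] at s5
    fin_cases z
    exacts [p0, s1, s2, p3, s4, s5, p6]
  rw [hp, inv_mul_eq_one] at e
  exact e ▸ mul_mem (pow_mem hai _) (pow_mem hbi _)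

theorem isPGroup_closure {K : Type*} [Group K] {u v : K} (hu : u ^ 3 = 1) (hv : ∃ k, v ^ 3 ^ k = 1)
    (hc : Commute u v) : IsPGroup 3 (closure ({u, v} : Set K)) := by
  obtain ⟨k, hk⟩ := hv
  refine fun ⟨x, hx⟩ => ⟨k + 1, Subtype.ext ?_⟩
  show x ^ 3 ^ (k + 1) = 1
  have hcc : closure ({u, v} : Set K) ≤ centralizer (closure ({u, v} : Set K) : Set K) := by
    rw [centralizer_closure]
    refine (closure_le _).2 ?_
    rintro y (rfl | rfl) <;> refine mem_centralizer_iff.2 ?_ <;> rintro z (rfl | rfl)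
    exacts [rfl, hc.symm.eq, hc.eq, rfl]
  induction hx using closure_induction with
  | mem y hy =>
    rcases hy with rfl | rfl
    · rw [pow_succ', pow_mul, hu, one_pow]
    · rw [pow_succ, pow_mul, hk, one_pow]
  | one => exact one_pow _
  | mul y z hy hz iy iz =>
    rw [(show Commute y z from (mem_centralizer_iff.1 (hcc hz) y hy)).mul_pow, iy, iz, one_mul]
  | inv y _ iy => rw [inv_pow, iy, inv_one]

/-- A subgroup generated by two independent commuting 3-elements is a Sylow subgroup. -/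
theorem exists_sylow {u v : A₇} (hu : u ^ 3 = 1) (hu1 : u ≠ 1) (hv : ∃ k, v ^ 3 ^ k = 1) (hc : Commute u v)
    (hne : v ∉ zpowers u) : ∃ P : Sylow 3 A₇, (P : Subgroup A₇) = closure {u, v} := by
  haveI := Fact.mk Nat.prime_three
  set K := closure ({u, v} : Set A₇)
  have hK := isPGroup_closure hu hv hc
  obtain ⟨P, hP⟩ := hK.exists_le_sylow
  refine ⟨P, (eq_of_le_of_card_ge hP ?_).symm⟩
  have hu3 : Nat.card (zpowers u) = 3 := by rw [Nat.card_zpowers, orderOf_eq_prime hu hu1]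
  have hlt : zpowers u < K := lt_of_le_of_ne (zpowers_le.2 (subset_closure (Set.mem_insert _ _))) fun e =>
    hne (e ▸ subset_closure (Set.mem_insert_of_mem _ rfl))
  have h3 : 3 < Nat.card K := by
    rw [← hu3]
    exact lt_of_le_of_ne (card_le_of_le hlt.le) fun e => hlt.ne (eq_of_le_of_card_ge hlt.le e.ge)
  obtain ⟨m, hm⟩ := IsPGroup.iff_card.1 hK
  rw [hm] at h3
  have hm2 : 2 ≤ m := by
    by_contra hm2
    have : 3 ^ m ≤ 3 ^ 1 := Nat.pow_le_pow_right (by norm_num) (by omega)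
    rw [pow_one] at this
    omega
  rw [P.card_eq_multiplicity, nat_card_alternatingGroup, Nat.card_fin,
    show Nat.factorial 7 / 2 = 3 ^ 2 * 280 by decide, Nat.factorization_mul (by norm_num) (by norm_num),
    Finsupp.add_apply, Nat.Prime.factorization_pow Nat.prime_three, Finsupp.single_eq_same,
    Nat.factorization_eq_zero_of_not_dvd (show ¬ 3 ∣ 280 by norm_num), add_zero, hm]
  exact Nat.pow_le_pow_right (by norm_num) hm2

end CornerAlt

open CornerAlt in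
/-- Sylow 3-subgroups of `A7`. -/
theorem alt_seven_normalizer {u v : alternatingGroup (Fin 7)} (hu : u ^ 3 = 1) (hu1 : u ≠ 1)
    (hv : ∃ k, v ^ 3 ^ k = 1) (hc : Commute u v) (hne : v ∉ zpowers u) :
    v ^ 3 = 1 ∧ (∀ y, Commute y u → Commute y v → y ∈ closure ({u, v} : Set (alternatingGroup (Fin 7)))) ∧
      ∃ g, ∀ y ∈ closure ({u, v} : Set (alternatingGroup (Fin 7))),
        g * y * g⁻¹ ∈ closure ({u, v} : Set (alternatingGroup (Fin 7))) ∧ g * (g * y * g⁻¹) * g⁻¹ = y⁻¹ := by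
  haveI := Fact.mk Nat.prime_three
  obtain ⟨ha, hb, hab, ha1, hga, hgb, hba⟩ := facts
  have hne0 : b₀ ∉ zpowers a₀ := fun hm => by
    rw [← mem_powers_iff_mem_zpowers] at hm
    obtain ⟨n, hn⟩ := hm
    exact hba ⟨n % 3, Nat.mod_lt _ (by norm_num)⟩ (by
      rw [show (b₀ : alternatingGroup (Fin 7)) = a₀ ^ n from hn.symm]; exact (pow_mod_orderOf a₀ n).symm.trans
        (by rw [orderOf_eq_prime ha ha1]))
  obtain ⟨P, hP⟩ := exists_sylow hu hu1 hv hc hne
  obtain ⟨P₀, hP₀⟩ := exists_sylow ha ha1 ⟨1, by simpa using hb⟩ hab hne0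
  set K₀ := closure ({a₀, b₀} : Set (alternatingGroup (Fin 7)))
  obtain ⟨k, hk⟩ := MulAction.exists_smul_eq (alternatingGroup (Fin 7)) P₀ P
  have hmem : ∀ y, y ∈ closure ({u, v} : Set (alternatingGroup (Fin 7))) ↔ k⁻¹ * y * k ∈ K₀ := fun y => by
    rw [← hP, ← hk, Sylow.coe_subgroup_smul, ← hP₀, Subgroup.mem_pointwise_smul_iff_inv_smul_mem]
    simp [MulAut.smul_def, MulAut.conj_apply, ← map_inv]
  have hK : ∀ y ∈ K₀, y ^ 3 = 1 ∧ g₀ * y * g₀⁻¹ ∈ K₀ ∧ g₀ * (g₀ * y * g₀⁻¹) * g₀⁻¹ = y⁻¹ := by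
    have hcc : K₀ ≤ centralizer (K₀ : Set (alternatingGroup (Fin 7))) := by
      rw [centralizer_closure]
      refine (closure_le _).2 ?_
      rintro y (rfl | rfl) <;> refine mem_centralizer_iff.2 ?_ <;> rintro z (rfl | rfl)
      exacts [rfl, hab.symm.eq, hab.eq, rfl]
    intro y hy
    induction hy using closure_induction with
    | mem y hy =>
      rcases hy with rfl | rfl
      · exact ⟨ha, by rw [hga]; exact subset_closure (Set.mem_insert_of_mem _ rfl), by rw [hga, hgb]⟩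
      · refine ⟨hb, by rw [hgb]; exact inv_mem (subset_closure (Set.mem_insert _ _)), ?_⟩
        rw [hgb, show g₀ * a₀⁻¹ * g₀⁻¹ = (g₀ * a₀ * g₀⁻¹)⁻¹ by group, hga]
    | one => simp
    | mul y z hy hz iy iz =>
      have hyz : Commute y z := mem_centralizer_iff.1 (hcc hz) y hy
      refine ⟨by rw [hyz.mul_pow, iy.1, iz.1, one_mul], ?_, ?_⟩
      · rw [← conj_mul]; exact mul_mem iy.2.1 iz.2.1
      · rw [← conj_mul (a := y) (c := z), ← conj_mul (a := g₀ * y * g₀⁻¹), iy.2.2, iz.2.2, ← mul_inv_rev, hyz.eq]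
    | inv y hy iy =>
      refine ⟨by rw [inv_pow, iy.1, inv_one], ?_, ?_⟩
      · rw [← conj_inv]; exact inv_mem iy.2.1
      · rw [← conj_inv, ← conj_inv, iy.2.2]
  have hgen : ∀ z₀ ∈ K₀, k * z₀ * k⁻¹ ∈ closure ({u, v} : Set (alternatingGroup (Fin 7))) := fun z₀ hz₀ =>
    (hmem _).2 (by rwa [show k⁻¹ * (k * z₀ * k⁻¹) * k = z₀ by group])
  refine ⟨?_, fun y h1 h2 => (hmem y).2 ?_, k * g₀ * k⁻¹, fun y hy => ?_⟩
  · have := (hK _ ((hmem v).1 (subset_closure (Set.mem_insert_of_mem _ rfl)))).1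
    rw [show k⁻¹ * v * k = k⁻¹ * v * k⁻¹⁻¹ by group, conj_pow, conj_eq_one_iff] at this
    exact this
  · have hle : closure ({u, v} : Set (alternatingGroup (Fin 7))) ≤ centralizer {y} := by
      refine (closure_le _).2 ?_
      rintro z (rfl | rfl)
      · exact mem_centralizer_singleton_iff.2 h1.symm.eq
      · exact mem_centralizer_singleton_iff.2 h2.symm.eq
    have key : ∀ z₀ ∈ K₀, Commute (k⁻¹ * y * k) z₀ := fun z₀ hz₀ => by
      have h3 : Commute y (k * z₀ * k⁻¹) :=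
        (show Commute (k * z₀ * k⁻¹) y from mem_centralizer_singleton_iff.1 (hle (hgen z₀ hz₀))).symm
      have h4 := h3.map (MulAut.conj k⁻¹).toMonoidHom
      simpa [mul_assoc] using h4
    exact mem_closure_of_commute (key _ (subset_closure (Set.mem_insert _ _)))
      (key _ (subset_closure (Set.mem_insert_of_mem _ rfl)))
  · obtain ⟨-, h1, h2⟩ := hK _ ((hmem y).1 hy)
    refine ⟨(hmem _).2 ?_, ?_⟩
    · convert h1 using 1
      group
    · calc k * g₀ * k⁻¹ * (k * g₀ * k⁻¹ * y * (k * g₀ * k⁻¹)⁻¹) * (k * g₀ * k⁻¹)⁻¹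
            = k * (g₀ * (g₀ * (k⁻¹ * y * k) * g₀⁻¹) * g₀⁻¹) * k⁻¹ := by group
        _ = y⁻¹ := by rw [h2]; group

/-- The same in a subgroup isomorphic to `A7`. -/
theorem alt_seven_subgroup {Q : Type*} [Group Q] {L : Subgroup Q} (e : L ≃* alternatingGroup (Fin 7)) {u v : Q}
    (huL : u ∈ L) (hvL : v ∈ L) (hu : u ^ 3 = 1) (hu1 : u ≠ 1) (hv : ∃ k, v ^ 3 ^ k = 1) (hc : Commute u v)
    (hne : v ∉ zpowers u) :
    v ^ 3 = 1 ∧ (∀ y ∈ L, Commute y u → Commute y v → y ∈ closure ({u, v} : Set Q)) ∧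
      ∃ g ∈ L, ∀ y ∈ closure ({u, v} : Set Q),
        g * y * g⁻¹ ∈ closure ({u, v} : Set Q) ∧ g * (g * y * g⁻¹) * g⁻¹ = y⁻¹ := by
  set f : alternatingGroup (Fin 7) →* Q := L.subtype.comp e.symm.toMonoidHom with hf
  have hfi : Function.Injective f := L.subtype_injective.comp e.symm.injective
  have hfe : ∀ (z : Q) (hz : z ∈ L), f (e ⟨z, hz⟩) = z := fun z hz => by simp [hf]
  set u' := e ⟨u, huL⟩
  set v' := e ⟨v, hvL⟩
  have eu : f u' = u := hfe u huL
  have ev : f v' = v := hfe v hvL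
  have hmap : (closure ({u', v'} : Set (alternatingGroup (Fin 7)))).map f = closure ({u, v} : Set Q) := by
    rw [MonoidHom.map_closure, Set.image_pair, eu, ev]
  obtain ⟨h3, hcen, g, hg⟩ := alt_seven_normalizer (u := u') (v := v') (hfi (by rw [map_pow, eu, hu, map_one]))
    (fun e1 => hu1 (by rw [← eu, e1, map_one]))
    (hv.imp fun k hk => hfi (by rw [map_pow, ev, hk, map_one]))
    (hfi (by rw [map_mul, map_mul, eu, ev, hc.eq]))
    (fun hm => hne (by
      rw [← ev, ← eu, ← MonoidHom.map_zpowers]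
      exact ⟨_, hm, rfl⟩))
  refine ⟨by rw [← ev, ← map_pow, h3, map_one], fun y hy h1 h2 => ?_, f g, SetLike.coe_mem _, fun y hy => ?_⟩
  · rw [← hmap]
    exact ⟨e ⟨y, hy⟩, hcen _ (hfi (by rw [map_mul, map_mul, hfe, eu, h1.eq]))
      (hfi (by rw [map_mul, map_mul, hfe, ev, h2.eq])), hfe y hy⟩
  · rw [← hmap] at hy ⊢
    obtain ⟨a, ha, rfl⟩ := hy
    obtain ⟨h1, h2⟩ := hg a ha
    exact ⟨⟨_, h1, by rw [map_mul, map_mul, map_inv]⟩, by rw [← map_inv, ← map_inv, ← map_mul, ← map_mul, ← map_mul, ← map_mul, h2]⟩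

/-- `(a, b, d)` stands for `c ^ a * w ^ b * s ^ d`. -/
abbrev Z33 : Type := ZMod 3 × ZMod 3 × ZMod 3

/-- Three commuting elements with cube one. -/
structure Triple {G : Type*} [Group G] (c w s : G) : Prop where
  c3 : c ^ 3 = 1
  w3 : w ^ 3 = 1
  s3 : s ^ 3 = 1
  cw : Commute c w
  cs : Commute c s
  ws : Commute w s

/-- The element with given coordinates. -/
def coord {G : Type*} [Group G] (c w s : G) (v : Z33) : G := c ^ v.1.val * w ^ v.2.1.val * s ^ v.2.2.val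

namespace Triple

variable {G : Type*} [Group G] {c w s : G}

theorem pow_val_add {x : G} (hx : x ^ 3 = 1) (a b : ZMod 3) : x ^ (a + b).val = x ^ a.val * x ^ b.val := by
  rw [← pow_add, ZMod.val_add]
  exact (pow_eq_pow_mod _ hx).symm

theorem coord_add (T : Triple c w s) (u v : Z33) : coord c w s (u + v) = coord c w s u * coord c w s v := by
  simp only [coord, Prod.fst_add, Prod.snd_add, pow_val_add T.c3, pow_val_add T.w3, pow_val_add T.s3]
  rw [((T.cs.pow_pow v.1.val u.2.2.val).symm.mul_right (T.ws.pow_pow v.2.1.val u.2.2.val).symm).mul_mul_mul_comm,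
    (T.cw.pow_pow v.1.val u.2.1.val).symm.mul_mul_mul_comm]

theorem coord_zero : coord c w s 0 = 1 := by simp [coord]

/-- The coordinates as a homomorphism. -/
def hom (T : Triple c w s) : Multiplicative Z33 →* G where
  toFun v := coord c w s (Multiplicative.toAdd v)
  map_one' := coord_zero
  map_mul' _ _ := T.coord_add _ _

theorem coord_nsmul (T : Triple c w s) (n : ℕ) (v : Z33) : coord c w s (n • v) = coord c w s v ^ n :=
  map_pow T.hom (Multiplicative.ofAdd v) n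

theorem coord_neg (T : Triple c w s) (v : Z33) : coord c w s (-v) = (coord c w s v)⁻¹ :=
  map_inv T.hom (Multiplicative.ofAdd v)

theorem coord_c : coord c w s (1, 0, 0) = c := by simp [coord, show (1 : ZMod 3).val = 1 from rfl]

theorem coord_w : coord c w s (0, 1, 0) = w := by simp [coord, show (1 : ZMod 3).val = 1 from rfl]

theorem coord_s : coord c w s (0, 0, 1) = s := by simp [coord, show (1 : ZMod 3).val = 1 from rfl]

/-- Conjugation, read in coordinates. -/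
theorem conj_coord (T : Triple c w s) {g : G} {e₁ e₂ e₃ : Z33} (h1 : g * c * g⁻¹ = coord c w s e₁)
    (h2 : g * w * g⁻¹ = coord c w s e₂) (h3 : g * s * g⁻¹ = coord c w s e₃) (v : Z33) :
    g * coord c w s v * g⁻¹ = coord c w s (v.1.val • e₁ + v.2.1.val • e₂ + v.2.2.val • e₃) := by
  rw [T.coord_add, T.coord_add, T.coord_nsmul, T.coord_nsmul, T.coord_nsmul, ← h1, ← h2, ← h3]
  simp only [conj_pow, conj_mul]
  rfl

end Triple

namespace CornerWords

/-- The action of `g`. -/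
def fg (i : ZMod 3) (v : Z33) : Z33 := (v.1, i * v.2.1 + (-1 - i * i) * v.2.2, v.2.1 - i * v.2.2)

/-- The action of `x`. -/
def fx (k : ZMod 3) (v : Z33) : Z33 := (v.1 + k * v.2.2, v.1 + v.2.1 - k * v.2.2, v.2.2)

/-- The first word. -/
def fa (k i : ZMod 3) (v : Z33) : Z33 :=
  fg i (fx k (fx k (fg i (fx k (fg i (fx k (fg i (fx k (fg i (fx k v))))))))))

/-- The second word. -/
def fb (k i : ZMod 3) (v : Z33) : Z33 :=
  fx k (fg i (fx k (fg i (fx k (fg i (fx k (fg i (fx k (fx k (fg i v))))))))))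

theorem fg_eq : ∀ (i : ZMod 3) (v : Z33),
    fg i v = v.1.val • ((1, 0, 0) : Z33) + v.2.1.val • (0, i, 1) + v.2.2.val • (0, -1 - i * i, -i) := by
  decide +kernel

theorem fx_eq : ∀ (k : ZMod 3) (v : Z33),
    fx k v = v.1.val • ((1, 1, 0) : Z33) + v.2.1.val • (0, 1, 0) + v.2.2.val • (k, -k, 1) := by
  decide +kernel

theorem relations : ∀ k i : ZMod 3, k ≠ 0 →
    (∃ v, fa k i (fa k i v) ≠ v) ∧ (∀ v, fa k i (fa k i (fa k i (fa k i v))) = v) ∧
      (∀ v, fb k i (fb k i v) = fa k i (fa k i v)) ∧ ∀ v, fa k i (fb k i (fa k i v)) = fb k i v := by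
  decide +kernel

end CornerWords

section Quaternion

variable {G : Type*} [Group G] [Finite G] {n : ℕ} {t r σ : G}

/-- No quaternion group of order eight is induced on `E`. -/
theorem DHyp.false_of_quaternion (h : DHyp n t r σ) {E : Subgroup G} {A B : G}
    (hA : A ∈ normalizer (E : Set G)) (hB : B ∈ normalizer (E : Set G))
    (h2 : ∃ e ∈ E, A * (A * e * A⁻¹) * A⁻¹ ≠ e)
    (h4 : ∀ e ∈ E, A * (A * (A * (A * e * A⁻¹) * A⁻¹) * A⁻¹) * A⁻¹ = e)
    (hb : ∀ e ∈ E, B * (B * e * B⁻¹) * B⁻¹ = A * (A * e * A⁻¹) * A⁻¹)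
    (hab : ∀ e ∈ E, A * (B * (A * e * A⁻¹) * B⁻¹) * A⁻¹ = B * e * B⁻¹) : False := by
  haveI := Fact.mk Nat.prime_two
  set N := normalizer (E : Set G)
  set φ : N →* MulAut E := E.normalizerMonoidHom
  set a := φ ⟨A, hA⟩
  set b := φ ⟨B, hB⟩
  have e4 : a ^ 4 = 1 := MulEquiv.ext fun e => Subtype.ext (by
    simp only [pow_succ, pow_zero, one_mul, MulAut.mul_apply, MulAut.one_apply]
    exact h4 e e.2)
  have eb : b * b = a * a := MulEquiv.ext fun e => Subtype.ext (hb e e.2)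
  have eab : a * b * a = b := MulEquiv.ext fun e => Subtype.ext (hab e e.2)
  have e2 : a * a ≠ 1 := by
    obtain ⟨e, he, hne⟩ := h2
    exact fun hh => hne (congrArg Subtype.val (show (a * a) ⟨e, he⟩ = (1 : MulAut E) ⟨e, he⟩ by rw [hh]))
  have hbn : b ∈ normalizer (zpowers a : Set (MulAut E)) := by
    refine mem_normalizer_fintype ?_
    rintro _ ⟨i, rfl⟩
    refine ⟨-i, ?_⟩
    show a ^ (-i) = b * a ^ i * b⁻¹
    rw [← conj_zpow, zpow_neg, ← inv_zpow]
    congr 1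
    rw [eq_mul_inv_iff_mul_eq, inv_mul_eq_iff_eq_mul, ← mul_assoc, eab]
  have hQ : IsPGroup 2 (zpowers b ⊔ zpowers a : Subgroup (MulAut E)) := by
    have hp : ∀ {x : MulAut E}, x ^ 4 = 1 → IsPGroup 2 (zpowers x) := fun {x} hx => by
      obtain ⟨j, -, hj⟩ := (Nat.dvd_prime_pow Nat.prime_two).1
        (show orderOf x ∣ 2 ^ 2 from orderOf_dvd_of_pow_eq_one hx)
      exact IsPGroup.of_card (by rw [Nat.card_zpowers, hj])
    refine IsPGroup.to_sup_of_normal_right' (hp ?_) (hp e4) (zpowers_le.2 hbn)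
    rw [show b ^ 4 = b * b * (b * b) by simp [pow_succ, mul_assoc], eb,
      show a * a * (a * a) = a ^ 4 by simp [pow_succ, mul_assoc], e4]
  set Q : Subgroup (MulAut E) := zpowers b ⊔ zpowers a with hQdef
  have hQr : Q ≤ φ.range := sup_le (zpowers_le.2 ⟨_, rfl⟩) (zpowers_le.2 ⟨_, rfl⟩)
  set f : Q.comap φ →* Q := φ.subgroupComap Q
  have hf : Function.Surjective f := fun ⟨y, hy⟩ => by
    obtain ⟨x, rfl⟩ := hQr hy
    exact ⟨⟨x, hy⟩, rfl⟩
  obtain ⟨T⟩ : Nonempty (Sylow 2 (Q.comap φ)) := inferInstance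
  set j : Q.comap φ →* G := N.subtype.comp (Q.comap φ).subtype
  have hj : Function.Injective j := N.subtype_injective.comp (Q.comap φ).subtype_injective
  obtain ⟨T', hT'⟩ := (T.2.map j).exists_le_sylow
  obtain ⟨C, hC, hC2⟩ := h.sqAb T'
  have hT : SqAb (T : Subgroup (Q.comap φ)) :=
    ⟨C.comap j, fun x hx y hy => hj (by rw [map_mul, map_mul]; exact hC _ hx _ hy),
      fun x hx hxC => hj (by rw [map_mul, map_one]; exact hC2 _ (hT' ⟨x, hx, rfl⟩) hxC)⟩
  have htop : ((T.mapSurjective hf : Sylow 2 Q) : Subgroup Q) = ⊤ :=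
    ((T.mapSurjective hf).is_maximal' (hQ.of_equiv (Subgroup.topEquiv (G := Q)).symm) le_top).symm
  have hT2 := hT.map f
  rw [← Sylow.coe_mapSurjective hf T, htop] at hT2
  obtain ⟨C', hC', hC2'⟩ := hT2
  have hin : ∀ (y : MulAut E) (hy : y ∈ Q), y * y ≠ 1 → (⟨y, hy⟩ : Q) ∈ C' := fun y hy hne => by
    by_contra hn
    exact hne (congrArg Subtype.val (hC2' ⟨y, hy⟩ trivial hn))
  have haQ : a ∈ Q := mem_sup_right (mem_zpowers a)
  have hbQ : b ∈ Q := mem_sup_left (mem_zpowers b)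
  have hcom : a * b = b * a :=
    congrArg Subtype.val (hC' _ (hin a haQ e2) _ (hin b hbQ (eb ▸ e2))).eq
  rw [hcom, mul_assoc] at eab
  exact e2 (mul_eq_left.1 eab)

end Quaternion

end Cfsg.Agent.GWDihedral
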