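import Cfsg.Agent.Lib.GWDihedral.CornerStep
import Cfsg.Agent.Lib.GWDihedral.CornerTools

/-!
# Gorenstein-Walter, dihedral Sylow subgroups of order eight: part I of the corner of (2.1), the group `⟨c, w, s⟩`

* `Corner.exists_normalizing` : `s ^ 3 = 1` and an element of `C(c)` of order four on `⟨w, s⟩`
* `Corner.commute_rot` : the element `x` centralises the rotation `s`
-/

set_option autoImplicit false
set_option linter.unusedSectionVars false
set_option linter.style.haveILetI false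

namespace Cfsg.Agent.GWDihedral

open Subgroup
open Cfsg.Agent.GWKlein (coreU coreW fourV oddPart)

universe u

variable {G : Type u} [Group G] [Finite G] {t r σ w c x s : G} {W : Subgroup G}

/-- The rotation `s` above `⟨c, w⟩`. -/
structure CornerRot (t r σ c w s : G) : Prop where
  rot : Rot t r s
  comm_c : Commute s c
  comm_w : Commute s w
  inverts : r * σ * s * (r * σ)⁻¹ = s⁻¹
  pow : ∃ k, s ^ 3 ^ k = 1

namespace CornerWords

theorem three_nsmul : ∀ v : Z33, (3 : ℕ) • v = 0 := by decide +kernel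

theorem fst_zero : ∀ a i j : ZMod 3,
    a.val • ((1, 0, 0) : Z33) + i.val • (0, -1, 0) + j.val • (0, 0, -1) + -(-(a, i, j)) = 0 → a = 0 := by
  decide +kernel

theorem no_root : ∀ i : ZMod 3, ¬ (-((0, 1, 0) : Z33) + -(i.val • (0, i, 0)) = 0) := by decide +kernel

theorem image_s : ∀ i : ZMod 3, -((0, 1, 0) : Z33) + (-i).val • (0, i, 1) = (0, -1 - i * i, -i) := by decide +kernel

theorem neg_two : ∀ i : ZMod 3, -((0, i, 2) : Z33) = (0, -i, 1) := by decide +kernel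

theorem one_or_two : ∀ j : ZMod 3, j ≠ 0 → j = 1 ∨ j = 2 := by decide

theorem neg_w : ((0, -1, 0) : Z33) = -(0, 1, 0) := by decide

theorem neg_s : ((0, 0, -1) : Z33) = -(0, 0, 1) := by decide

end CornerWords

open CornerWords

namespace Corner

variable (h : DHyp 3 t r σ) (hC : Corner t r σ W w) (hS : SideRot t r σ) (hS' : SideRot t (r * σ) σ⁻¹)
  (hcP : c ∈ cornerP t r σ W) (hc3 : orderOf c = 3) (hPc : cornerP t r σ W = zpowers c)
  (hR : CornerRot t r σ c w s)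
include h hC hS hS' hcP hc3 hPc hR

theorem not_commute_rot : ∀ z ∈ coreW t r, s ≠ z := fun z hz e =>
  hR.rot.not_commute h (e ▸ (h.mem_coreW.1 hz).1)

theorem tau_cube : r * σ * s ^ 3 * (r * σ)⁻¹ = (s ^ 3)⁻¹ := by rw [← conj_pow, hR.inverts, inv_pow]

theorem cube_mem : s ^ 3 ∈ zpowers w := by
  obtain ⟨k, hk⟩ := hR.pow
  have hc := hR.rot.commute_cube h
  have hM := (mem_fixed_pair h hC hS hS' hcP hc3 hPc).2.2 (s ^ 3)
    (h.mem_coreW.2 ⟨hc.1, hc.2, odd_of_three_pow (k := k) (by rw [← pow_mul, mul_comm, pow_mul, hk, one_pow])⟩)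
    (hR.comm_c.pow_left 3) (hR.comm_w.pow_left 3) ⟨k, by rw [← pow_mul, mul_comm, pow_mul, hk, one_pow]⟩
  have hc1 : c ≠ 1 := fun e => by rw [e, orderOf_one] at hc3; omega
  exact hC.inverted c hcP hc1 _ (pair_le h hC hcP hM) (hR.comm_c.pow_left 3) (tau_cube h hC hS hS' hcP hc3 hPc hR)

theorem coord_inj (T : Triple c w s) {v : Z33} (hv : coord c w s v = 1) : v = 0 := by
  obtain ⟨a, b, d⟩ := v
  simp only [coord] at hv
  have hzc : ∀ z : G, z ∈ coreW t r → Commute z t := fun z hz => (h.mem_coreW.1 hz).1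
  have hs : Commute (s ^ d.val) t := by
    have e : s ^ d.val = (c ^ a.val * w ^ b.val)⁻¹ := eq_inv_of_mul_eq_one_right hv
    rw [e]
    exact (hzc _ (mul_mem (pow_mem (hC.le hcP.1) _) (pow_mem (hC.le hC.mem_w) _))).inv_left
  have hd : d = 0 := by
    rcases (by decide : ∀ d : ZMod 3, d = 0 ∨ d = 1 ∨ d = 2) d with rfl | rfl | rfl
    · rfl
    · rw [show (1 : ZMod 3).val = 1 from rfl, pow_one] at hs
      exact absurd hs (hR.rot.not_commute h)
    · rw [show (2 : ZMod 3).val = 2 from rfl] at hs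
      refine absurd ?_ (hR.rot.not_commute h)
      have := hs.pow_left 2
      rwa [← pow_mul, show 2 * 2 = 3 + 1 from rfl, pow_succ, T.s3, one_mul] at this
  subst hd
  rw [ZMod.val_zero, pow_zero, mul_one] at hv
  have e : c ^ a.val = (w ^ b.val)⁻¹ := eq_inv_of_mul_eq_one_left hv
  have hf : (c ^ a.val) ^ 2 = 1 := by
    have h1 : r * σ * c ^ a.val * (r * σ)⁻¹ = (c ^ a.val)⁻¹ := by
      rw [e, inv_inv, ← conj_inv, ← conj_pow, hC.inv_w, inv_pow, inv_inv]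
    rw [← conj_pow, fixed_commute h hC hcP] at h1
    rw [pow_two]; exact mul_eq_one_iff_eq_inv.2 h1
  rw [← pow_mul] at hf
  have ha' := orderOf_dvd_of_pow_eq_one hf
  rw [hc3] at ha'
  have ha : a = 0 := (by decide : ∀ a : ZMod 3, 3 ∣ a.val * 2 → a = 0) a ha'
  subst ha
  rw [ZMod.val_zero, pow_zero, one_mul] at hv
  have hb' := orderOf_dvd_of_pow_eq_one hv
  rw [hC.order_w] at hb'
  have hb : b = 0 := (by decide : ∀ b : ZMod 3, 3 ∣ b.val → b = 0) b hb'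
  subst hb
  rfl

/-- In `C(c) / O`: `s` has order three and `g₁` acts with order four on `⟨w, s⟩`. -/
theorem exists_local : Triple c w s ∧ ∃ (hw : w ∈ centralizer ({c} : Set G)) (hs : s ∈ centralizer ({c} : Set G))
    (hτ : r * σ ∈ centralizer ({c} : Set G)) (g₁ : centralizer ({c} : Set G)),
    ∀ K, K = closure ({QuotientGroup.mk' (Cfsg.oddCore (centralizer ({c} : Set G))) ⟨w, hw⟩,
        QuotientGroup.mk' (Cfsg.oddCore (centralizer ({c} : Set G))) ⟨s, hs⟩} : Set _) →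
      (∀ y ∈ K, QuotientGroup.mk' _ g₁ * y * (QuotientGroup.mk' _ g₁)⁻¹ ∈ K) ∧
      QuotientGroup.mk' _ (g₁ * g₁ * ⟨r * σ, hτ⟩) ∈ K := by
  haveI := Fact.mk Nat.prime_three
  haveI := Fact.mk Nat.prime_two
  set C := centralizer ({c} : Set G)
  set O := oddPart C
  set π := QuotientGroup.mk' (Cfsg.oddCore C)
  obtain ⟨-, hSC⟩ := centralizer_facts h hC hcP
  have hc1 : c ≠ 1 := fun e => by rw [e, orderOf_one] at hc3; omega
  obtain ⟨L, hLn, -, ⟨e⟩⟩ := (hC.exc c hcP hc1).socle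
  have hmemC : ∀ {z : G}, Commute z c → z ∈ C := fun hz => mem_centralizer_singleton_iff.2 hz.eq
  have hcomC : ∀ {z : G}, z ∈ C → Commute z c := fun hz => mem_centralizer_singleton_iff.1 hz
  have hker : ∀ z : C, π z = 1 ↔ (z : G) ∈ O := fun z => Local.bar_eq_one
  have hτC : r * σ ∈ C := mul_mem (hSC h.sylow_mem_r) (hSC h.sylow_mem_σ)
  set τ : C := ⟨r * σ, hτC⟩
  -- `τ` is in the socle
  have hτL : π τ ∈ L := by
    obtain ⟨TL⟩ : Nonempty (Sylow 2 (C ⧸ Cfsg.oddCore C)) := inferInstance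
    obtain ⟨P, hP⟩ := h.sylow
    let P' : Sylow 2 (C ⧸ Cfsg.oddCore C) :=
      (P.subtype (hP ▸ hSC)).mapSurjective (QuotientGroup.mk'_surjective _)
    have hP'8 : Nat.card (P' : Subgroup (C ⧸ Cfsg.oddCore C)) ≤ 8 := by
      refine le_trans (Nat.le_of_dvd Nat.card_pos (card_map_dvd _ _)) (le_of_eq ?_)
      rw [show Nat.card ((P.subtype (hP ▸ hSC) : Sylow 2 C) : Subgroup C) = Nat.card (P : Subgroup G) from
        Nat.card_congr (subgroupOfEquivOfLe (hP ▸ hSC)).toEquiv, hP, h.card_sylow]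
      norm_num
    have hL : Nat.card L = 2 ^ 3 * 315 := by
      rw [Nat.card_congr e.toEquiv, nat_card_alternatingGroup, Nat.card_fin]; decide
    have hdiv : 2 ^ 3 * 315 * L.index = Nat.card (C ⧸ Cfsg.oddCore C) := by
      rw [← hL]; exact L.card_mul_index
    have hodd : Odd L.index := by
      by_contra hev
      rw [Nat.not_odd_iff_even] at hev
      obtain ⟨q, hq⟩ := hev
      have h4 : 2 ^ 4 ∣ Nat.card (C ⧸ Cfsg.oddCore C) := ⟨315 * q, by rw [← hdiv, hq]; ring⟩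
      obtain ⟨Q, hQc⟩ := Sylow.exists_subgroup_card_pow_prime 2 h4
      obtain ⟨Q', hQ'⟩ := (IsPGroup.of_card hQc).exists_le_sylow
      have h5 : Nat.card (Q' : Subgroup (C ⧸ Cfsg.oddCore C)) ≤ 8 :=
        le_of_eq_of_le (Nat.card_congr (Q'.equiv P').toEquiv) hP'8
      have := card_le_of_le hQ'
      rw [hQc] at this
      omega
    rw [← QuotientGroup.eq_one_iff (N := L)]
    refine orderOf_eq_one_iff.1 (Nat.eq_one_of_dvd_coprimes (Nat.coprime_two_right.2 hodd) ?_ ?_)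
    · rw [index_eq_card]; exact orderOf_dvd_natCard _
    · refine orderOf_dvd_of_pow_eq_one ?_
      rw [← QuotientGroup.mk_pow, ← map_pow, show τ ^ 2 = 1 from Subtype.ext (by
        rw [pow_two]; exact Involution.mul_self h.order_r_mul_σ)]
      simp
  have hL3 : ∀ z : C, r * σ * (z : G) * (r * σ)⁻¹ = (z : G)⁻¹ → (∃ k, (z : G) ^ 3 ^ k = 1) → π z ∈ L := by
    rintro z hz ⟨k, hk⟩
    have hi : π τ * π z * (π τ)⁻¹ = (π z)⁻¹ := by
      rw [← map_inv, ← map_mul, ← map_mul, ← map_inv]; exact congrArg π (Subtype.ext hz)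
    have h1 : π τ * (π z * (π τ)⁻¹ * (π z)⁻¹) ∈ L := mul_mem hτL (hLn.conj_mem _ (inv_mem hτL) _)
    rw [show π τ * (π z * (π τ)⁻¹ * (π z)⁻¹) = π τ * π z * (π τ)⁻¹ * (π z)⁻¹ by group, hi,
      ← mul_inv_rev, inv_mem_iff] at h1
    obtain ⟨j, hj⟩ := odd_of_three_pow hk
    have e1 : z = (z * z) ^ (j + 1) := Subtype.ext (by
      rw [SubmonoidClass.coe_pow, Subgroup.coe_mul, ← pow_two, ← pow_mul,
        show 2 * (j + 1) = orderOf (z : G) + 1 by omega, pow_succ, pow_orderOf_eq_one, one_mul])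
    rw [e1, map_pow, map_mul]
    exact pow_mem h1 _
  obtain ⟨ks, hks⟩ := hR.pow
  have hw3 : w ^ 3 = 1 := pow_w h hC
  have hwC : w ∈ C := hmemC (commute_cw h hC hcP).symm
  have hsC : s ∈ C := hmemC hR.comm_c
  have hwL := hL3 ⟨w, hwC⟩ hC.inv_w ⟨1, by simpa using hw3⟩
  have hsL := hL3 ⟨s, hsC⟩ hR.inverts ⟨ks, hks⟩
  set U := π ⟨w, hwC⟩ with hUd
  set V := π ⟨s, hsC⟩ with hVd
  have hcore := fun {z : G} (hz : z ∈ O) (hz3 : ∃ k, z ^ 3 ^ k = 1) =>
    mem_zpowers_of_core h hC hS hS' hcP hc3 hPc hz hz3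
  have hU3 : U ^ 3 = 1 := by
    rw [← map_pow, show (⟨w, hwC⟩ : C) ^ 3 = 1 from Subtype.ext hw3, map_one]
  have hU1 : U ≠ 1 := fun hu => not_mem_core h hC hS hS' hcP hc3 hPc ((hker _).1 hu)
  have hV3 : ∃ k, V ^ 3 ^ k = 1 := ⟨ks, by
    rw [← map_pow, show (⟨s, hsC⟩ : C) ^ 3 ^ ks = 1 from Subtype.ext hks, map_one]⟩
  have hUV : Commute U V := (show Commute (⟨w, hwC⟩ : C) ⟨s, hsC⟩ from Subtype.ext hR.comm_w.symm.eq).map π
  have hne : V ∉ zpowers U := by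
    intro hv
    rw [← mem_powers_iff_mem_zpowers] at hv
    obtain ⟨j, hj : U ^ j = V⟩ := hv
    have h2 : (w ^ j)⁻¹ * s ∈ O := (hker ((⟨w, hwC⟩ ^ j)⁻¹ * ⟨s, hsC⟩)).1 (by
      rw [map_mul, map_inv, map_pow, ← hUd, ← hVd, hj, inv_mul_cancel])
    have h3 := hcore h2 ⟨ks + 1, by
      rw [((hR.comm_w.symm.pow_left j).inv_left).mul_pow, inv_pow, pow_succ (a := 3), mul_comm (3 ^ ks),
        ← pow_mul, mul_left_comm, pow_mul, hw3, one_pow, inv_one, one_mul, mul_comm 3, pow_mul, hks, one_pow]⟩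
    have h4 : s = w ^ j * ((w ^ j)⁻¹ * s) := by group
    exact not_commute_rot h hC hS hS' hcP hc3 hPc hR _
      (mul_mem (pow_mem (hC.le hC.mem_w) j) (zpowers_le.2 (hC.le hcP.1) h3)) h4
  obtain ⟨hV3', hcent, g₀, hg₀L, hg₀⟩ := alt_seven_subgroup e hwL hsL hU3 hU1 hV3 hUV hne
  -- `s ^ 3 = 1`
  have hs3 : s ^ 3 = 1 := by
    have h0 : s ^ 3 ∈ O := (hker (⟨s, hsC⟩ ^ 3)).1 (by rw [map_pow]; exact hV3')
    have h1 := hcore h0 ⟨ks, by rw [← pow_mul, mul_comm, pow_mul, hks, one_pow]⟩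
    have h2 := fixed_commute h hC (hPc.ge h1)
    rw [tau_cube h hC hS hS' hcP hc3 hPc hR] at h2
    refine orderOf_eq_one_iff.1 (Nat.eq_one_of_dvd_coprimes ?_ dvd_rfl
      (orderOf_dvd_of_pow_eq_one (n := 2) (by rw [pow_two]; exact mul_eq_one_iff_eq_inv.2 h2.symm)))
    exact Nat.coprime_two_right.2 (odd_of_three_pow (k := ks) (by rw [← pow_mul, mul_comm, pow_mul, hks, one_pow]))
  refine ⟨⟨hc3 ▸ pow_orderOf_eq_one c, hw3, hs3, commute_cw h hC hcP, hR.comm_c.symm, hR.comm_w.symm⟩, hwC, hsC,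
    hτC, ?_⟩
  obtain ⟨g₁, hg₁⟩ := QuotientGroup.mk'_surjective (Cfsg.oddCore C) g₀
  refine ⟨g₁, fun K hK => ?_⟩
  subst hK
  refine ⟨fun y hy => by rw [hg₁]; exact (hg₀ y hy).1, hcent _ ?_ ?_ ?_⟩
  · rw [map_mul, map_mul, hg₁]; exact mul_mem (mul_mem hg₀L hg₀L) hτL
  all_goals
    rw [map_mul, map_mul, hg₁]
    refine mul_inv_eq_iff_eq_mul.1 ?_
    first
      | calc _ = g₀ * (g₀ * (π τ * U * (π τ)⁻¹) * g₀⁻¹) * g₀⁻¹ := by group; rfl
          _ = U := by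
            rw [show π τ * U * (π τ)⁻¹ = U⁻¹ by
              rw [← map_inv, ← map_inv, ← map_mul, ← map_mul]; exact congrArg π (Subtype.ext hC.inv_w),
              (hg₀ _ (inv_mem (subset_closure (Set.mem_insert _ _)))).2, inv_inv]
      | calc _ = g₀ * (g₀ * (π τ * V * (π τ)⁻¹) * g₀⁻¹) * g₀⁻¹ := by group; rfl
          _ = V := by
            rw [show π τ * V * (π τ)⁻¹ = V⁻¹ by
              rw [← map_inv, ← map_inv, ← map_mul, ← map_mul]; exact congrArg π (Subtype.ext hR.inverts),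
              (hg₀ _ (inv_mem (subset_closure (Set.mem_insert_of_mem _ rfl)))).2, inv_inv]

/-- `s` has order three and some element of `C(c)` has order four on `⟨w, s⟩`. -/
theorem exists_normalizing : Triple c w s ∧ ∃ (g : G) (i : ZMod 3), Commute g c ∧
    g * w * g⁻¹ = coord c w s (0, i, 1) ∧ g * s * g⁻¹ = coord c w s (0, -1 - i * i, -i) := by
  haveI := Fact.mk Nat.prime_three
  set C := centralizer ({c} : Set G) with hCdef
  set O := oddPart C
  set π := QuotientGroup.mk' (Cfsg.oddCore C) with hπdef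
  obtain ⟨T, hwC, hsC, hτC, g₁, hK⟩ := exists_local h hC hS hS' hcP hc3 hPc hR
  obtain ⟨hg₀, hu₀⟩ := hK _ rfl
  set U := π ⟨w, hwC⟩
  set V := π ⟨s, hsC⟩
  have hmemC : ∀ {z : G}, Commute z c → z ∈ C := fun hz => mem_centralizer_singleton_iff.2 hz.eq
  have hcomC : ∀ {z : G}, z ∈ C → Commute z c := fun hz => mem_centralizer_singleton_iff.1 hz
  have hker : ∀ z : C, π z = 1 ↔ (z : G) ∈ O := fun z => Local.bar_eq_one
  have hcore := fun {z : G} (hz : z ∈ O) (hz3 : ∃ k, z ^ 3 ^ k = 1) =>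
    mem_zpowers_of_core h hC hS hS' hcP hc3 hPc hz hz3
  refine ⟨T, ?_⟩
  set E := T.hom.range with hE
  have memE : ∀ {y : G}, y ∈ E ↔ ∃ v, coord c w s v = y := fun {y} =>
    ⟨fun ⟨v, hv⟩ => ⟨Multiplicative.toAdd v, hv⟩, fun ⟨v, hv⟩ => ⟨Multiplicative.ofAdd v, hv⟩⟩
  have hEC : E ≤ C := fun y hy => by
    obtain ⟨v, rfl⟩ := memE.1 hy
    exact mul_mem (mul_mem (pow_mem (hmemC (Commute.refl c)) _) (pow_mem hwC _)) (pow_mem hsC _)
  have hcE : c ∈ E := memE.2 ⟨_, Triple.coord_c⟩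
  have hwE : w ∈ E := memE.2 ⟨_, Triple.coord_w⟩
  have hsE : s ∈ E := memE.2 ⟨_, Triple.coord_s⟩
  have hcO : c ∈ O := GWKlein.mem_oddPart_centralizer (hc3 ▸ ⟨1, rfl⟩)
  have hcbar : π ⟨c, hmemC (Commute.refl c)⟩ = 1 := (hker _).2 hcO
  have hEL : ∀ (y : C), (y : G) ∈ E → π y ∈ closure {U, V} := by
    intro y hy
    obtain ⟨v, hv⟩ := memE.1 hy
    have ey : y = (⟨c, hmemC (Commute.refl c)⟩ : C) ^ v.1.val * (⟨w, hwC⟩ : C) ^ v.2.1.val *
        (⟨s, hsC⟩ : C) ^ v.2.2.val := Subtype.ext (by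
      rw [Subgroup.coe_mul, Subgroup.coe_mul, SubmonoidClass.coe_pow, SubmonoidClass.coe_pow, SubmonoidClass.coe_pow]
      exact hv.symm)
    have ey' : π y = U ^ v.2.1.val * V ^ v.2.2.val :=
      calc π y = π ((⟨c, hmemC (Commute.refl c)⟩ : C) ^ v.1.val * (⟨w, hwC⟩ : C) ^ v.2.1.val *
            (⟨s, hsC⟩ : C) ^ v.2.2.val) := congrArg π ey
        _ = _ := by rw [map_mul, map_mul, map_pow, map_pow, map_pow, hcbar, one_pow, one_mul]
    rw [ey']
    exact mul_mem (pow_mem (subset_closure (Set.mem_insert U {V})) _)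
      (pow_mem (subset_closure (Set.mem_insert_of_mem U (Set.mem_singleton V))) _)
  have hback : ∀ z : C, π z ∈ closure {U, V} → ∃ y ∈ E, ∃ o ∈ O, (z : G) = y * o := by
    have hcl : closure {U, V} ≤ (E.subgroupOf C).map π := by
      refine (closure_le _).2 ?_
      rintro a (rfl | rfl)
      · exact ⟨⟨w, hwC⟩, mem_subgroupOf.2 hwE, rfl⟩
      · exact ⟨⟨s, hsC⟩, mem_subgroupOf.2 hsE, rfl⟩
    intro z hz
    obtain ⟨y, hy, hyz⟩ := hcl hz
    refine ⟨y, hy, (y : G)⁻¹ * z, (hker (y⁻¹ * z)).1 ?_, by group⟩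
    rw [map_mul, map_inv, hyz, inv_mul_cancel]
  set F := E ⊔ O
  have hEn : E ≤ normalizer (O : Set G) := hEC.trans (GWKlein.le_normalizer_oddPart C)
  have hF : ∀ y ∈ F, ∃ a ∈ E, ∃ o ∈ O, y = a * o := fun y hy => by
    rw [← SetLike.mem_coe, coe_mul_of_left_le_normalizer_right _ _ hEn] at hy
    obtain ⟨a, ha, o, ho, rfl⟩ := hy
    exact ⟨a, ha, o, ho, rfl⟩
  set E' := E.map (MulAut.conj (g₁ : G)).toMonoidHom
  have hE'F : E' ≤ F := by
    rintro _ ⟨y, hy, rfl⟩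
    obtain ⟨a, ha, o, ho, e1⟩ := hback (g₁ * ⟨y, hEC hy⟩ * g₁⁻¹) (by
      rw [map_mul, map_mul, map_inv]; exact hg₀ _ (hEL ⟨y, hEC hy⟩ hy))
    show (g₁ : G) * y * (g₁ : G)⁻¹ ∈ F
    rw [show (g₁ : G) * y * (g₁ : G)⁻¹ = a * o from e1]
    exact mul_mem (mem_sup_left ha) (mem_sup_right ho)
  have hEg : IsPGroup 3 E := fun ⟨y, hy⟩ => ⟨1, Subtype.ext (by
    obtain ⟨v, rfl⟩ := memE.1 hy
    show coord c w s v ^ 3 ^ 1 = 1
    rw [pow_one, ← T.coord_nsmul, CornerWords.three_nsmul v,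
      Triple.coord_zero])⟩
  obtain ⟨P₁, hP₁⟩ := (hEg.of_equiv (subgroupOfEquivOfLe (le_sup_left : E ≤ F)).symm).exists_le_sylow
  have hP₁E : (P₁ : Subgroup F) = E.subgroupOf F := by
    refine le_antisymm (fun y hy => mem_subgroupOf.2 ?_) hP₁
    obtain ⟨a, ha, o, ho, e1⟩ := hF _ y.2
    have hoP : (⟨o, mem_sup_right ho⟩ : F) ∈ (P₁ : Subgroup F) := by
      rw [show (⟨o, mem_sup_right ho⟩ : F) = ⟨a, mem_sup_left ha⟩⁻¹ * y from Subtype.ext (by
        simp [e1])]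
      exact mul_mem (inv_mem (hP₁ (mem_subgroupOf.2 ha))) hy
    obtain ⟨l, hl⟩ := P₁.2 ⟨_, hoP⟩
    rw [e1]
    exact mul_mem ha (zpowers_le.2 hcE (hcore ho ⟨l, congrArg (fun q : (P₁ : Subgroup F) => ((q : F) : G)) hl⟩))
  obtain ⟨P₂, hP₂⟩ := ((hEg.map (MulAut.conj (g₁ : G)).toMonoidHom).of_equiv
    (subgroupOfEquivOfLe hE'F).symm).exists_le_sylow
  have hP₂E : (P₂ : Subgroup F) = E'.subgroupOf F := by
    refine (eq_of_le_of_card_ge hP₂ (le_of_eq ?_)).symm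
    rw [Nat.card_congr (P₂.equiv P₁).toEquiv, hP₁E, Nat.card_congr (subgroupOfEquivOfLe (le_sup_left : E ≤ F)).toEquiv,
      Nat.card_congr (subgroupOfEquivOfLe hE'F).toEquiv, Subgroup.card_map_of_injective (MulAut.conj (g₁ : G)).injective]
  obtain ⟨f, hf⟩ := MulAction.exists_smul_eq F P₂ P₁
  obtain ⟨a, ha, o, ho, hfe⟩ := hF _ f.2
  set g : C := ⟨o, GWKlein.oddPart_le C ho⟩ * g₁
  have hπg : π g = π g₁ := by
    rw [map_mul, (hker ⟨o, GWKlein.oddPart_le C ho⟩).2 ho, one_mul]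
  have hgE : ∀ y ∈ E, (g : G) * y * (g : G)⁻¹ ∈ E := fun y hy => by
    have h1 : (⟨(g₁ : G) * y * (g₁ : G)⁻¹, hE'F ⟨y, hy, rfl⟩⟩ : F) ∈ (P₂ : Subgroup F) := by
      rw [hP₂E]; exact mem_subgroupOf.2 ⟨y, hy, rfl⟩
    have h2 : f * ⟨(g₁ : G) * y * (g₁ : G)⁻¹, hE'F ⟨y, hy, rfl⟩⟩ * f⁻¹ ∈ (P₁ : Subgroup F) := by
      rw [← hf, Transfer.sylow_coe_smul]; exact ⟨_, h1, rfl⟩
    rw [hP₁E, mem_subgroupOf] at h2
    have h3 := mul_mem (mul_mem (inv_mem ha) h2) ha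
    rw [Subgroup.coe_mul, Subgroup.coe_mul, Subgroup.coe_inv, hfe] at h3
    convert h3 using 1
    show o * (g₁ : G) * y * (o * (g₁ : G))⁻¹ = _
    group
  have hgc : Commute (g : G) c := hcomC g.2
  set hh : C := g * g
  have hhE : ∀ y ∈ E, (hh : G) * y * (hh : G)⁻¹ ∈ E := fun y hy => by
    rw [show (hh : G) * y * (hh : G)⁻¹ = g * (g * y * (g : G)⁻¹) * (g : G)⁻¹ by
      show (g : G) * g * y * ((g : G) * g)⁻¹ = _; group]
    exact hgE _ (hgE y hy)
  -- `g ^ 2` acts as `τ`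
  set uu : C := hh * ⟨r * σ, hτC⟩
  obtain ⟨a', ha', o', ho', hue⟩ := hback uu (by
    have e1 : π uu = π (g₁ * g₁ * ⟨r * σ, hτC⟩) := by rw [map_mul, map_mul, hπg, map_mul, map_mul]
    rw [e1]; exact hu₀)
  have hτE : ∀ y ∈ E, r * σ * y * (r * σ)⁻¹ ∈ E := fun y hy => by
    obtain ⟨v, rfl⟩ := memE.1 hy
    simp only [coord, ← _root_.conj_mul, ← conj_pow, fixed_commute h hC hcP, hC.inv_w, hR.inverts]
    exact mul_mem (mul_mem (pow_mem hcE _) (pow_mem (inv_mem hwE) _)) (pow_mem (inv_mem hsE) _)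
  have hEcomm : ∀ a ∈ E, ∀ b ∈ E, Commute a b := fun a ha b hb => by
    obtain ⟨u', rfl⟩ := memE.1 ha
    obtain ⟨v', rfl⟩ := memE.1 hb
    rw [Commute, SemiconjBy, ← T.coord_add, ← T.coord_add, add_comm]
  have huE : ∀ y ∈ E, (uu : G) * y * (uu : G)⁻¹ = y := fun y hy => by
    have h0 : (uu : G) * y * (uu : G)⁻¹ ∈ E := by
      rw [show (uu : G) * y * (uu : G)⁻¹ = hh * (r * σ * y * (r * σ)⁻¹) * (hh : G)⁻¹ by
        show (hh : G) * (r * σ) * y * ((hh : G) * (r * σ))⁻¹ = _; group]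
      exact hhE _ (hτE y hy)
    have ho'E : o' * y * o'⁻¹ ∈ E := by
      rw [show o' * y * o'⁻¹ = a'⁻¹ * ((uu : G) * y * (uu : G)⁻¹) * a' by rw [hue]; group]
      exact mul_mem (mul_mem (inv_mem ha') h0) ha'
    have h1 : o' * y * o'⁻¹ * y⁻¹ ∈ O := by
      rw [show o' * y * o'⁻¹ * y⁻¹ = o' * (y * o'⁻¹ * y⁻¹) by group]
      exact mul_mem ho' ((mem_normalizer_iff.1 (hEn hy) _).1 (inv_mem ho'))
    have hz := mul_mem ho'E (inv_mem hy)
    obtain ⟨l, hl⟩ := hEg ⟨_, hz⟩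
    set z := o' * y * o'⁻¹ * y⁻¹ with hzdef
    have hzc : z ∈ zpowers c := hcore h1 ⟨l, congrArg Subtype.val hl⟩
    have hoz : Commute o' z := by
      obtain ⟨i, hi⟩ := hzc
      rw [← show c ^ i = z from hi]
      exact (hcomC (GWKlein.oddPart_le C ho')).zpow_right i
    have hit : ∀ n : ℕ, o' ^ n * y * (o' ^ n)⁻¹ = z ^ n * y := fun n => by
      induction n with
      | zero => simp
      | succ n ih =>
        calc o' ^ (n + 1) * y * (o' ^ (n + 1))⁻¹ = o' * (o' ^ n * y * (o' ^ n)⁻¹) * o'⁻¹ := by rw [pow_succ']; group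
          _ = o' * z ^ n * o'⁻¹ * (o' * y * o'⁻¹) := by rw [ih]; group
          _ = z ^ (n + 1) * y := by
            rw [(hoz.pow_right n).eq, mul_inv_cancel_right, show o' * y * o'⁻¹ = z * y by rw [hzdef]; group, pow_succ,
              mul_assoc (z ^ n) z y]
    set q := orderOf o'
    have hq : q ≠ 0 := (orderOf_pos o').ne'
    set m0 := ordCompl[3] q
    have hm0 : ¬ 3 ∣ m0 := Nat.not_dvd_ordCompl Nat.prime_three hq
    have h3pow : (o' ^ m0) ^ 3 ^ (q.factorization 3) = 1 := by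
      rw [← pow_mul, mul_comm, Nat.ordProj_mul_ordCompl_eq_self, pow_orderOf_eq_one]
    have h2 := hcore (pow_mem ho' m0) ⟨_, h3pow⟩
    have h3 : o' ^ m0 * y * (o' ^ m0)⁻¹ = y := by
      rw [(hEcomm _ (zpowers_le.2 hcE h2) y hy).eq, mul_inv_cancel_right]
    rw [hit] at h3
    have h4 : z ^ m0 = 1 := mul_eq_right.1 h3
    have h5 : z = 1 := by
      refine orderOf_eq_one_iff.1 (Nat.eq_one_of_dvd_coprimes (Nat.Prime.coprime_iff_not_dvd Nat.prime_three |>.2 hm0)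
        ?_ (orderOf_dvd_of_pow_eq_one h4))
      have := orderOf_dvd_natCard _ hzc
      rwa [Nat.card_zpowers, hc3] at this
    rw [show (uu : G) * y * (uu : G)⁻¹ = a' * (z * y) * a'⁻¹ by rw [hue, hzdef]; group, h5, one_mul,
      (hEcomm a' ha' y hy).eq, mul_inv_cancel_right]
  have hinvE : ∀ y ∈ E, r * σ * y * (r * σ)⁻¹ = y⁻¹ → (hh : G) * y * (hh : G)⁻¹ = y⁻¹ := fun y hy hty => by
    have e1 := huE _ (inv_mem hy)
    rw [show (uu : G) * y⁻¹ * (uu : G)⁻¹ = hh * (r * σ * y⁻¹ * (r * σ)⁻¹) * (hh : G)⁻¹ by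
      show (hh : G) * (r * σ) * y⁻¹ * ((hh : G) * (r * σ))⁻¹ = _; group, ← conj_inv, hty, inv_inv] at e1
    exact e1
  have hh2 : ∀ y, (g : G) * ((g : G) * y * (g : G)⁻¹) * (g : G)⁻¹ = (hh : G) * y * (hh : G)⁻¹ := fun y => by
    show _ = (g : G) * g * y * ((g : G) * g)⁻¹
    group
  have hgw := hinvE w hwE hC.inv_w
  have hgs := hinvE s hsE hR.inverts
  obtain ⟨⟨a₁, i, j⟩, hv⟩ := memE.1 (hgE w hwE)
  have hhc : (hh : G) * c * (hh : G)⁻¹ = c := by rw [(hcomC hh.2).eq, mul_inv_cancel_right]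
  have ha₁ : a₁ = 0 := by
    have e1 : (hh : G) * ((g : G) * w * (g : G)⁻¹) * (hh : G)⁻¹ = ((g : G) * w * (g : G)⁻¹)⁻¹ := by
      calc _ = (g : G) * ((hh : G) * w * (hh : G)⁻¹) * (g : G)⁻¹ := by
            show (g : G) * g * ((g : G) * w * (g : G)⁻¹) * ((g : G) * g)⁻¹ =
              (g : G) * ((g : G) * g * w * ((g : G) * g)⁻¹) * (g : G)⁻¹
            group
        _ = _ := by rw [hgw, conj_inv]
    rw [← hv, T.conj_coord (e₁ := (1, 0, 0)) (e₂ := (0, -1, 0)) (e₃ := (0, 0, -1))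
      (by rw [hhc, Triple.coord_c])
      (by rw [hgw, neg_w, T.coord_neg, Triple.coord_w])
      (by rw [hgs, neg_s, T.coord_neg, Triple.coord_s]), ← T.coord_neg,
      ← mul_inv_eq_one, ← T.coord_neg, ← T.coord_add] at e1
    have h6 := coord_inj h hC hS hS' hcP hc3 hPc hR T e1
    exact fst_zero a₁ i j h6
  subst ha₁
  have hj : j ≠ 0 := fun hj => by
    subst hj
    have e1 : (g : G) * coord c w s (0, i, 0) * (g : G)⁻¹ = coord c w s (i.val • (0, i, 0)) := by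
      rw [T.coord_nsmul]
      conv_lhs => rw [show coord c w s (0, i, 0) = w ^ i.val by simp [coord]]
      rw [hv, conj_pow]
    rw [hv, hh2, hgw, show w⁻¹ = coord c w s (-(0, 1, 0)) by rw [T.coord_neg, Triple.coord_w], ← mul_inv_eq_one,
      ← T.coord_neg, ← T.coord_add] at e1
    exact no_root i (coord_inj h hC hS hS' hcP hc3 hPc hR T e1)
  have hfin : ∀ (g' : G) (i' : ZMod 3), Commute g' c → g' * w * g'⁻¹ = coord c w s (0, i', 1) →
      g' * (g' * w * g'⁻¹) * g'⁻¹ = w⁻¹ → g' * s * g'⁻¹ = coord c w s (0, -1 - i' * i', -i') := by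
    intro g' i' hg'c h1 h2
    have es : s = (g' * w * g'⁻¹) * coord c w s (0, -i', 0) := by
      rw [h1, ← T.coord_add]
      conv_lhs => rw [← Triple.coord_s (c := c) (w := w) (s := s)]
      congr 1
      simp
    conv_lhs => rw [es]
    rw [← _root_.conj_mul, h2, show coord c w s (0, -i', 0) = w ^ (-i').val by simp [coord], ← conj_pow, h1,
      ← T.coord_nsmul, show w⁻¹ = coord c w s (-(0, 1, 0)) by rw [T.coord_neg, Triple.coord_w], ← T.coord_add]
    rw [image_s]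
  rcases one_or_two j hj with rfl | rfl
  · exact ⟨g, i, hgc, hv.symm, hfin g i hgc hv.symm (by rw [hh2, hgw])⟩
  · have hgw' : (hh : G)⁻¹ * w * hh = w⁻¹ := by
      calc (hh : G)⁻¹ * w * hh = (hh : G)⁻¹ * ((hh : G) * w * (hh : G)⁻¹)⁻¹ * hh := by rw [hgw, inv_inv]
        _ = w⁻¹ := by group
    have h1 : (g : G)⁻¹ * w * (g : G)⁻¹⁻¹ = coord c w s (0, -i, 1) := by
      calc _ = (g : G) * ((hh : G)⁻¹ * w * hh) * (g : G)⁻¹ := by
            show _ = (g : G) * (((g : G) * g)⁻¹ * w * ((g : G) * g)) * (g : G)⁻¹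
            group
        _ = ((g : G) * w * (g : G)⁻¹)⁻¹ := by rw [hgw', conj_inv]
        _ = _ := by rw [← hv, ← T.coord_neg, CornerWords.neg_two i]
    refine ⟨(g : G)⁻¹, -i, hgc.inv_left, h1, hfin _ _ hgc.inv_left h1 ?_⟩
    calc _ = (hh : G)⁻¹ * w * hh := by
          show _ = ((g : G) * g)⁻¹ * w * ((g : G) * g)
          group
      _ = w⁻¹ := hgw'

/-- (4): `x` centralises `s`. -/
theorem commute_rot (hxW : x ∈ W) (hxi : r * σ * x * (r * σ)⁻¹ = x⁻¹) (hxc : x * c * x⁻¹ = c * w)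
    (hxs : x * s * x⁻¹ * s⁻¹ ∈ closure ({c, w} : Set G)) : Commute x s := by
  obtain ⟨T, g, i, hgc, hgw, hgs⟩ := exists_normalizing h hC hS hS' hcP hc3 hPc hR
  obtain ⟨a, b, e⟩ := exists_pair_form h hC hcP hxs
  set k : ZMod 3 := (a : ZMod 3)
  set l : ZMod 3 := (b : ZMod 3)
  have hxwc : x * w * x⁻¹ = w := by rw [(commute_central h hC hxW).eq, mul_inv_cancel_right]
  have exs : x * s * x⁻¹ = coord c w s (k, l, 1) := by
    rw [mul_inv_eq_iff_eq_mul.1 e]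
    simp only [coord, k, l, ZMod.val_natCast, show (1 : ZMod 3).val = 1 from rfl, pow_one, ← pow_eq_pow_mod _ T.c3,
      ← pow_eq_pow_mod _ T.w3]
  have e11 : x * c * x⁻¹ = coord c w s (1, 1, 0) := by
    rw [hxc]; simp [coord, show (1 : ZMod 3).val = 1 from rfl]
  have e22 : x * w * x⁻¹ = coord c w s (0, 1, 0) := by rw [hxwc, Triple.coord_w]
  have hτ := fun v => T.conj_coord (g := r * σ) (e₁ := (1, 0, 0)) (e₂ := (0, -1, 0)) (e₃ := (0, 0, -1))
    (by rw [fixed_commute h hC hcP, Triple.coord_c])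
    (by rw [hC.inv_w, neg_w, T.coord_neg, Triple.coord_w])
    (by rw [hR.inverts, neg_s, T.coord_neg, Triple.coord_s]) v
  have hx := fun v => T.conj_coord (g := x) e11 e22 exs v
  have hlk : l = -k := by
    have h1 : x * (r * σ * (x * (r * σ * coord c w s (0, 0, 1) * (r * σ)⁻¹) * x⁻¹) * (r * σ)⁻¹) * x⁻¹ =
        coord c w s (0, 0, 1) := by
      have hv := Involution.inv_eq h.order_r_mul_σ
      calc _ = x * (r * σ * x * (r * σ)) * coord c w s (0, 0, 1) * (x * (r * σ * x * (r * σ)))⁻¹ := by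
            generalize r * σ = τ at hv ⊢
            simp only [hv, _root_.mul_inv_rev, mul_assoc]
        _ = _ := by
          rw [show r * σ * x * (r * σ) = r * σ * x * (r * σ)⁻¹ by rw [hv], hxi, mul_inv_cancel, one_mul, inv_one,
            mul_one]
    rw [hτ, hx, hτ, hx, ← mul_inv_eq_one, ← T.coord_neg, ← T.coord_add] at h1
    have h6 := coord_inj h hC hS hS' hcP hc3 hPc hR T h1
    revert h6
    generalize k = k', l = l'
    revert k' l'
    decide +kernel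
  by_cases hk : k = 0
  · rw [hlk, hk, neg_zero] at exs
    rw [Triple.coord_s] at exs
    exact mul_inv_eq_iff_eq_mul.1 exs
  exfalso
  rw [hlk] at exs
  have fx' : ∀ v, x * coord c w s v * x⁻¹ = coord c w s (CornerWords.fx k v) := fun v => by
    rw [T.conj_coord e11 e22 exs v, CornerWords.fx_eq]
  have fg' : ∀ v, g * coord c w s v * g⁻¹ = coord c w s (CornerWords.fg i v) := fun v => by
    rw [T.conj_coord (by rw [hgc.eq, mul_inv_cancel_right, Triple.coord_c]) hgw hgs v, CornerWords.fg_eq]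
  set E := T.hom.range
  have memE : ∀ {y : G}, y ∈ E ↔ ∃ v, coord c w s v = y := fun {y} =>
    ⟨fun ⟨v, hv⟩ => ⟨Multiplicative.toAdd v, hv⟩, fun ⟨v, hv⟩ => ⟨Multiplicative.ofAdd v, hv⟩⟩
  have hgN : g ∈ normalizer (E : Set G) := Coprime.mem_normalizer_of_forall fun y hy => by
    obtain ⟨v, rfl⟩ := memE.1 hy; exact memE.2 ⟨_, (fg' v).symm⟩
  have hxN : x ∈ normalizer (E : Set G) := Coprime.mem_normalizer_of_forall fun y hy => by
    obtain ⟨v, rfl⟩ := memE.1 hy; exact memE.2 ⟨_, (fx' v).symm⟩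
  have cc : ∀ a b y : G, a * b * y * (a * b)⁻¹ = a * (b * y * b⁻¹) * a⁻¹ := fun a b y => by group
  set A := g * x * x * g * x * g * x * g * x * g * x with hA
  set B := x * g * x * g * x * g * x * g * x * x * g with hB
  have hAv : ∀ v, A * coord c w s v * A⁻¹ = coord c w s (CornerWords.fa k i v) := fun v => by
    simp only [hA, cc, fg', fx', CornerWords.fa]
  have hBv : ∀ v, B * coord c w s v * B⁻¹ = coord c w s (CornerWords.fb k i v) := fun v => by
    simp only [hB, cc, fg', fx', CornerWords.fb]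
  obtain ⟨⟨v, hv⟩, r4, rb, rab⟩ := CornerWords.relations k i hk
  refine h.false_of_quaternion (E := E) (A := A) (B := B) ?_ ?_ ⟨_, memE.2 ⟨v, rfl⟩, fun e' => hv ?_⟩ ?_ ?_ ?_
  · repeat' apply mul_mem
    all_goals first | exact hgN | exact hxN
  · repeat' apply mul_mem
    all_goals first | exact hgN | exact hxN
  · rw [hAv, hAv, ← mul_inv_eq_one, ← T.coord_neg, ← T.coord_add] at e'
    exact eq_of_sub_eq_zero (by rw [sub_eq_add_neg]; exact coord_inj h hC hS hS' hcP hc3 hPc hR T e')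
  · intro y hy; obtain ⟨v, rfl⟩ := memE.1 hy; rw [hAv, hAv, hAv, hAv, r4]
  · intro y hy; obtain ⟨v, rfl⟩ := memE.1 hy; rw [hBv, hBv, hAv, hAv, rb]
  · intro y hy; obtain ⟨v, rfl⟩ := memE.1 hy; rw [hAv, hBv, hAv, hBv, rab]

end Corner

end Cfsg.Agent.GWDihedral
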