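import Cfsg.Agent.Lib.GWDihedral.CornerElem

/-!
# Gorenstein-Walter, dihedral Sylow subgroups of order eight: part I of the corner of (2.1)

`cornerI` : when `W` is larger than `P ⟨w⟩` a rotation centralises it.
-/

set_option autoImplicit false
set_option linter.unusedSectionVars false

namespace Cfsg.Agent.GWDihedral

open Subgroup
open Cfsg.Agent.GWKlein (coreU coreW fourV oddPart)

universe u

variable {G : Type u} [Group G] [Finite G] {t r σ w : G} {W : Subgroup G}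

theorem cornerI [IsSimpleGroup G] (ctx : Ctx 3 t r σ) (hS : SideRot t r σ) (hS' : SideRot t (r * σ) σ⁻¹)
    (hC : Corner t r σ W w) (hI : ¬ W ≤ (W ⊓ coreW t (r * σ)) ⊔ zpowers w) :
    ∃ s, Rot t r s ∧ s ∈ centralizer (W : Set G) := by
  haveI := Fact.mk Nat.prime_three
  have h := ctx.hyp
  obtain ⟨c, x, hcP, hc3, hPc, hxW, hxi, hxc⟩ := Corner.exists_base h hC hI
  obtain ⟨s₁, hs₁, hs₁c⟩ := Corner.exists_rot_pair h hC hS hS' hcP hc3 hPc hxW hxc
  set M := closure ({c, w} : Set G) with hM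
  have hMW : M ≤ W := Corner.pair_le h hC hcP
  have hcM : c ∈ M := subset_closure (Set.mem_insert c {w})
  have hwM : w ∈ M := subset_closure (Set.mem_insert_of_mem c (Set.mem_singleton w))
  have hcw : Commute c w := Corner.commute_cw h hC hcP
  have hxw : ∀ j : ℕ, x * w ^ j * x⁻¹ = w ^ j := fun j => by
    rw [((Corner.commute_central h hC hxW).pow_right j).eq, mul_inv_cancel_right]
  have hτM : ∀ y ∈ M, r * σ * y * (r * σ)⁻¹ ∈ M := fun y hy => by
    obtain ⟨a, b, rfl⟩ := Corner.exists_pair_form h hC hcP hy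
    rw [← _root_.conj_mul, ← conj_pow, ← conj_pow, Corner.fixed_commute h hC hcP, hC.inv_w]
    exact mul_mem (pow_mem hcM _) (pow_mem (inv_mem hwM) _)
  have hxM : x ∈ normalizer (M : Set G) := Coprime.mem_normalizer_of_forall fun y hy => by
    obtain ⟨a, b, rfl⟩ := Corner.exists_pair_form h hC hcP hy
    rw [← _root_.conj_mul, ← conj_pow, hxc, hxw]
    exact mul_mem (pow_mem (mul_mem hcM hwM) _) (pow_mem hwM _)
  -- a rotation centralises `⟨c, w, x⟩`
  obtain ⟨s, hs, hsc, hsi, hs3, hsn⟩ :=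
    Corner.exists_step h hC hS hS' hcP hc3 hPc hMW le_rfl hτM hs₁ hs₁c
  have hR : CornerRot t r σ c w s :=
    ⟨hs, (mem_centralizer_iff.1 hsc c hcM).symm, (mem_centralizer_iff.1 hsc w hwM).symm, hsi, hs3⟩
  have hxs := Corner.commute_rot h hC hS hS' hcP hc3 hPc hR hxW hxi hxc (hsn x hxW hxM).2
  set W₁ := closure ({c, w, x} : Set G)
  have hMW₁ : M ≤ W₁ := closure_mono (by
    rintro y (rfl | rfl)
    · exact Or.inl rfl
    · exact Or.inr (Or.inl rfl))
  -- a maximal such subgroup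
  set 𝒮 : Set (Subgroup G) := {Y | Y ≤ W ∧ W₁ ≤ Y ∧ (∀ y ∈ Y, r * σ * y * (r * σ)⁻¹ ∈ Y) ∧
    ∃ s, Rot t r s ∧ s ∈ centralizer (Y : Set G)}
  have h0 : W₁ ∈ 𝒮 := by
    refine ⟨(closure_le _).2 ?_, le_rfl, fun y hy => ?_, s, hs, ?_⟩
    · rintro y (rfl | rfl | rfl)
      · exact hcP.1
      · exact hC.mem_w
      · exact hxW
    · induction hy using closure_induction with
      | mem y hy =>
        rcases hy with rfl | rfl | rfl
        · rw [Corner.fixed_commute h hC hcP]; exact subset_closure (Or.inl rfl)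
        · rw [hC.inv_w]; exact inv_mem (subset_closure (Or.inr (Or.inl rfl)))
        · rw [hxi]; exact inv_mem (subset_closure (Or.inr (Or.inr rfl)))
      | one => simp
      | mul a b _ _ ha hb => rw [← _root_.conj_mul]; exact mul_mem ha hb
      | inv a _ ha => rw [← conj_inv]; exact inv_mem ha
    · rw [centralizer_closure]
      refine mem_centralizer_iff.2 ?_
      rintro y (rfl | rfl | rfl)
      · exact mem_centralizer_iff.1 hsc _ hcM
      · exact mem_centralizer_iff.1 hsc _ hwM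
      · exact hxs.eq
  obtain ⟨Y, ⟨hYW, hW₁Y, hτY, s₂, hs₂, hs₂c⟩, hmax⟩ := (Set.toFinite 𝒮).exists_maximal ⟨W₁, h0⟩
  rcases eq_or_ne Y W with rfl | hne
  · exact ⟨s₂, hs₂, hs₂c⟩
  exfalso
  obtain ⟨z, hzW, hzN, hzY⟩ := Signalizer.exists_mem_normalizer_not_mem hC.isPGroup hYW hne
  obtain ⟨s', hs', hs'c, hs'i, hs'3, hs'n⟩ :=
    Corner.exists_step h hC hS hS' hcP hc3 hPc hYW (hMW₁.trans hW₁Y) hτY hs₂ hs₂c
  set Y' := W ⊓ normalizer (Y : Set G)
  have hYn : r * σ ∈ normalizer (Y : Set G) := Coprime.mem_normalizer_of_forall hτY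
  have hτY' : ∀ y ∈ Y', r * σ * y * (r * σ)⁻¹ ∈ Y' := fun y hy => mem_inf.2
    ⟨Corner.tau_mem h hC (mem_inf.1 hy).1, mul_mem (mul_mem hYn (mem_inf.1 hy).2) (inv_mem hYn)⟩
  have hxY : x ∈ Y := hW₁Y (subset_closure (Or.inr (Or.inr rfl)))
  have hcY : c ∈ Y := hW₁Y (hMW₁ hcM)
  have hwY : w ∈ Y := hW₁Y (hMW₁ hwM)
  have hsw : Commute w s' := mem_centralizer_iff.1 hs'c w hwY
  have hcen : ∀ y ∈ Y', Commute y s' := by
    intro y hy
    obtain ⟨f, hf, i, hi, e1, e2, rfl⟩ := exists_fixed_mul_inverted (Corner.odd_le h hC inf_le_left)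
      (Involution.mul_self h.order_r_mul_σ) hτY' hy
    refine Commute.mul_left ?_ ?_
    · have hfc := hPc.le (Corner.mem_fixed h hC (mem_inf.1 hf).1 e1)
      exact mem_centralizer_iff.1 hs'c f (zpowers_le.2 hcY hfc)
    obtain ⟨h1, h2⟩ := hs'n i (mem_inf.1 hi).1 (mem_inf.1 hi).2
    set z := i * s' * i⁻¹ * s'⁻¹ with hz
    obtain ⟨a, b, hab⟩ := Corner.exists_pair_form h hC hcP h2
    have ha : c ^ a = 1 := by
      have hzx : Commute x z := mem_centralizer_iff.1 h1 x hxY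
      rw [hab] at hzx
      have e3 : x * (c ^ a * w ^ b) * x⁻¹ = c ^ a * w ^ b := by rw [hzx.eq, mul_inv_cancel_right]
      rw [← _root_.conj_mul, ← conj_pow, hxc, hxw, hcw.mul_pow, mul_left_inj, mul_eq_left] at e3
      have h3 := orderOf_dvd_of_pow_eq_one e3
      rw [hC.order_w, ← hc3] at h3
      exact orderOf_dvd_iff_pow_eq_one.1 h3
    rw [ha, one_mul] at hab
    have e4 : i * s' * i⁻¹ = w ^ b * s' := by rw [← hab, hz]; group
    -- apply `r σ`
    have e5 : i⁻¹ * s'⁻¹ * i = (w ^ b)⁻¹ * s'⁻¹ := by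
      have e := congrArg (fun v => r * σ * v * (r * σ)⁻¹) e4
      simp only [← _root_.conj_mul, ← conj_inv, ← conj_pow, e2, hs'i, hC.inv_w, inv_inv, inv_pow] at e
      exact e
    have e6 : i⁻¹ * s' * i = (w ^ b)⁻¹ * s' := by
      calc i⁻¹ * s' * i = i⁻¹ * ((w ^ b)⁻¹ * (i * s' * i⁻¹)) * i := by rw [e4]; group
        _ = i⁻¹ * (w ^ b)⁻¹ * i * s' := by group
        _ = (w ^ b)⁻¹ * s' := by
          rw [(((Corner.commute_central h hC (mem_inf.1 hi).1).pow_right b).inv_left.inv_right).eq,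
            inv_mul_cancel_right]
    have e7 : (w ^ b)⁻¹ * s' = s' * w ^ b := by
      rw [← e6, show i⁻¹ * s' * i = (i⁻¹ * s'⁻¹ * i)⁻¹ by group, e5, mul_inv_rev, inv_inv, inv_inv]
    rw [← (hsw.pow_left b).eq, mul_left_inj] at e7
    have hwb : w ^ b = 1 := by
      have h3 : (w ^ b) ^ 2 = 1 := by rw [pow_two]; nth_rw 1 [← e7]; exact inv_mul_cancel _
      exact orderOf_eq_one_iff.1 (Nat.eq_one_of_dvd_coprimes
        (Nat.coprime_two_right.2 (Corner.odd h hC (pow_mem hC.mem_w b))) dvd_rfl (orderOf_dvd_of_pow_eq_one h3))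
    rw [hwb, one_mul] at e4
    exact mul_inv_eq_iff_eq_mul.1 e4
  exact hzY (hmax (⟨inf_le_left, hW₁Y.trans (le_inf hYW le_normalizer), hτY', s', hs',
      mem_centralizer_iff.2 fun y hy => (hcen y hy).eq⟩ : Y' ∈ 𝒮) (le_inf hYW le_normalizer)
    (mem_inf.2 ⟨hzW, hzN⟩))

end Cfsg.Agent.GWDihedral
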