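import Cfsg.Agent.Lib.GWDihedral.CornerQuot
import Cfsg.Agent.Lib.GWDihedral.CornerChar
import Cfsg.Agent.Lib.GWDihedral.CaseASocle

/-!
# Gorenstein-Walter, dihedral Sylow subgroups of order eight: the corner of (2.1), case II

* `cornerII` : if `W = P × ⟨w⟩` a rotation centralises `W` (2.1A II of `notes/gw_dihedral_eight.md`)
-/

set_option autoImplicit false
set_option linter.unusedSectionVars false
set_option linter.style.haveILetI false

namespace Cfsg.Agent.GWDihedral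

open Subgroup
open scoped Pointwise
open Cfsg.Agent.GWKlein (coreU coreW fourV oddPart)

universe u

variable {G : Type u} [Group G] [Finite G] {t r σ w : G} {W : Subgroup G}

theorem rot_mem_normalizer_coreW (h : DHyp 3 t r σ) {s : G} (hs : Rot t r s) :
    s ∈ normalizer (coreW t r : Set G) := by
  refine Coprime.mem_normalizer_of_forall fun v hv => ?_
  obtain ⟨hvt, hvr, ho⟩ := h.mem_coreW.1 hv
  have h1 := hvt.map (MulAut.conj s).toMonoidHom
  have h2 := hvr.map (MulAut.conj s).toMonoidHom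
  simp only [MulEquiv.coe_toMonoidHom, MulAut.conj_apply, hs.1, hs.2] at h1 h2
  have h3 : Commute (s * v * s⁻¹) t := by
    have h4 := h2.mul_right h1
    rwa [mul_assoc t r r, h.mul_self_r, mul_one] at h4
  exact h.mem_coreW.2 ⟨h3, h1, (Involution.orderOf_conj s v).symm ▸ ho⟩

/-- A rotation in `C(P)` normalising `W`, moving `w` by an element of `P`. -/
theorem Corner.exists_rot (h : DHyp 3 t r σ) (hC : Corner t r σ W w)
    (hII : W ≤ (W ⊓ coreW t (r * σ)) ⊔ zpowers w) :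
    ∃ s, Rot t r s ∧ s ∈ centralizer ((W ⊓ coreW t (r * σ) : Subgroup G) : Set G) ∧
      s ∈ normalizer (W : Set G) ∧ ∃ p ∈ W ⊓ coreW t (r * σ), p ^ 3 = 1 ∧ s * w * s⁻¹ = w * p := by
  haveI := Fact.mk Nat.prime_three
  haveI := Fact.mk Nat.prime_two
  set P := W ⊓ coreW t (r * σ) with hP
  have hPW : P ≤ W := inf_le_left
  have hWU : W ≤ coreU t := hC.le.trans inf_le_left
  have hwP : ∀ y ∈ P, Commute w y := fun y hy =>
    (mem_centralizer_singleton_iff.1 (hC.central (hPW hy))).symm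
  have hn : zpowers w ≤ normalizer (P : Set G) := zpowers_le.2
    (Coprime.mem_normalizer_of_forall fun y hy => by
      rw [(hwP y hy).eq, mul_inv_cancel_right]; exact hy)
  set K := coreW t r ⊓ centralizer (P : Set G) with hK
  set H := normalizer (K : Set G) ⊓ centralizer (P : Set G) with hH
  have hWV : ∀ x ∈ W, Commute x t ∧ Commute x r := fun x hx =>
    ⟨(h.mem_coreW.1 (hC.le hx)).1, (h.mem_coreW.1 (hC.le hx)).2.1⟩
  have hKV : fourV t r ≤ centralizer (K : Set G) := GWKlein.fourV_le_centralizer_iff.2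
    ⟨mem_centralizer_iff.2 fun x hx => (h.mem_coreW.1 (mem_inf.1 hx).1).1.eq,
      mem_centralizer_iff.2 fun x hx => (h.mem_coreW.1 (mem_inf.1 hx).1).2.1.eq⟩
  have hVH : fourV t r ≤ H := le_inf (hKV.trans (centralizer_le_normalizer _))
    (GWKlein.fourV_le_centralizer_iff.2 ⟨mem_centralizer_iff.2 fun x hx => (hWV x (hPW hx)).1.eq,
      mem_centralizer_iff.2 fun x hx => (hWV x (hPW hx)).2.eq⟩)
  have hF : Fused t r H := by
    obtain ⟨s, hs, hrot⟩ := hC.excP.fused
    refine ⟨s, ⟨Coprime.mem_normalizer_of_forall fun x hx => ?_, hs⟩, hrot⟩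
    exact mem_inf.2 ⟨(mem_normalizer_iff.1 (rot_mem_normalizer_coreW h hrot) x).1 (mem_inf.1 hx).1,
      mul_mem (mul_mem hs (mem_inf.1 hx).2) (inv_mem hs)⟩
  have hQK : W ⊓ centralizer (P : Set G) ≤ K := inf_le_inf_right _ hC.le
  obtain ⟨X, s, hsH, hs, hsX, hQX, hXK, -, hXp, -⟩ := h.exists_invariant_rot (H := H)
    (h.odd_coreW.of_dvd_nat (card_dvd_of_le inf_le_left)) (le_inf le_normalizer inf_le_right) inf_le_left
    hVH hF hQK (hC.isPGroup.to_le inf_le_left)
    ((hKV.trans (centralizer_le hQK)).trans (centralizer_le_normalizer _))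
  have hsP : ∀ x ∈ P, Commute s x := fun x hx => (mem_centralizer_iff.1 (mem_inf.1 hsH).2 x hx).symm
  have hXn : X ≤ normalizer (P : Set G) :=
    (hXK.trans inf_le_right).trans (centralizer_le_normalizer _)
  have hwX : w ∈ X := hQX (mem_inf.2 ⟨hC.mem_w, mem_centralizer_iff.2 fun y hy => (hwP y hy).eq.symm⟩)
  have hWe : X ⊔ P = W := by
    have hle : W ≤ X ⊔ P := hII.trans (sup_le le_sup_right (zpowers_le.2 (mem_sup_left hwX)))
    refine (eq_of_le_of_card_ge hle ?_).symm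
    rw [hC.card]
    exact Coprime.card_le_of_isPGroup (hXp.to_sup_of_normal_right' (hC.isPGroup.to_le hPW) hXn)
      (sup_le (hXK.trans (inf_le_left.trans inf_le_left)) (hPW.trans hWU))
  have hsW : s ∈ normalizer (W : Set G) := Coprime.mem_normalizer_of_forall fun x hx => by
    rw [← hWe, sup_comm, Coprime.mem_sup_iff hXn] at hx
    obtain ⟨p, hp, a, ha, rfl⟩ := hx
    rw [← hWe, show s * (p * a) * s⁻¹ = s * p * s⁻¹ * (s * a * s⁻¹) by group, (hsP p hp).eq,
      mul_inv_cancel_right]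
    exact mul_mem (mem_sup_right hp) (mem_sup_left ((mem_normalizer_iff.1 hsX a).1 ha))
  -- the third power fixes the four-group
  have e3 : s * (t * r) * s⁻¹ = t := hs.conj_mul h.comm_t_r h.mul_self_r
  have hc3 : Commute (s ^ 3) t ∧ Commute (s ^ 3) r := by
    constructor <;> refine mul_inv_eq_iff_eq_mul.1 ?_
    · rw [show s ^ 3 * t * (s ^ 3)⁻¹ = s * (s * (s * t * s⁻¹) * s⁻¹) * s⁻¹ by
        rw [pow_succ, pow_two]; group, hs.1, hs.2, e3]
    · rw [show s ^ 3 * r * (s ^ 3)⁻¹ = s * (s * (s * r * s⁻¹) * s⁻¹) * s⁻¹ by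
        rw [pow_succ, pow_two]; group, hs.2, e3, hs.1]
  have hs4 : Rot t r (s ^ 4) := by
    rw [pow_succ]
    exact hs.mul_left hc3.1 hc3.2
  have hs4P : s ^ 4 ∈ centralizer (P : Set G) := pow_mem (mem_inf.1 hsH).2 _
  -- the image of `w`
  obtain ⟨p, hp, z, hz, e⟩ := (Coprime.mem_sup_iff hn).1 (hII ((mem_normalizer_iff.1 hsW w).1 hC.mem_w))
  obtain ⟨k, rfl⟩ := mem_zpowers_iff.1 hz
  have hw3 : w ^ 3 = 1 := hC.order_w ▸ pow_orderOf_eq_one w
  have hw1 : w ≠ 1 := fun e => by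
    have := hC.order_w
    rw [e, orderOf_one] at this
    omega
  have hp3 : p ^ 3 = 1 := by
    have h1 : (p * w ^ k) ^ 3 = 1 := by rw [e, conj_pow, hw3, mul_one, mul_inv_cancel]
    rwa [((hwP p hp).symm.zpow_right k).mul_pow, ← zpow_natCast (w ^ k), ← zpow_mul, mul_comm, zpow_mul,
      zpow_natCast, hw3, one_zpow, mul_one] at h1
  have hwk : w ^ k = w ^ (k % 3) := by
    conv_lhs => rw [← Int.mul_ediv_add_emod k 3, zpow_add, zpow_mul, zpow_ofNat, hw3, one_zpow, one_mul]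
  rcases (show k % 3 = 0 ∨ k % 3 = 1 ∨ k % 3 = 2 by omega) with hk | hk | hk <;> rw [hwk, hk] at e
  · exfalso
    rw [zpow_zero, mul_one] at e
    have e' : w = p := by
      calc w = s⁻¹ * (s * w * s⁻¹) * s := by group
        _ = p := by rw [← e, (hsP p hp).inv_left.eq, inv_mul_cancel_right]
    have hc : Commute w (r * σ) := (h.swap.mem_coreW.1 (mem_inf.1 (e' ▸ hp)).2).2.1
    exact hw1 (eq_one_of_inverted_commute (hC.order_w ▸ by decide) hC.inv_w hc.symm)
  · rw [zpow_one] at e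
    refine ⟨s ^ 4, hs4, hs4P, pow_mem hsW 4, p, hp, hp3, ?_⟩
    have hit : ∀ i : ℕ, s ^ i * w * (s ^ i)⁻¹ = w * p ^ i := by
      intro i
      induction i with
      | zero => simp
      | succ i ih =>
        rw [pow_succ' s, show s * s ^ i * w * (s * s ^ i)⁻¹ = s * (s ^ i * w * (s ^ i)⁻¹) * s⁻¹ by group, ih,
          show s * (w * p ^ i) * s⁻¹ = s * w * s⁻¹ * (s * p ^ i * s⁻¹) by group, ← e,
          ((hsP p hp).pow_right i).eq, mul_inv_cancel_right, (hwP p hp).symm.eq, mul_assoc, ← pow_succ']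
    rw [hit, pow_succ p 3, hp3, one_mul]
  · have e' : s * w * s⁻¹ = p * w⁻¹ := by
      rw [← e]
      congr 1
      rw [zpow_ofNat]
      exact (inv_eq_of_mul_eq_one_right (by rw [← pow_succ', hw3])).symm
    have h2 : s ^ 2 * w * (s ^ 2)⁻¹ = w := by
      rw [show s ^ 2 * w * (s ^ 2)⁻¹ = s * (s * w * s⁻¹) * s⁻¹ by rw [pow_two]; group, e',
        show s * (p * w⁻¹) * s⁻¹ = s * p * s⁻¹ * (s * w * s⁻¹)⁻¹ by group, e', (hsP p hp).eq,
        mul_inv_cancel_right, mul_inv_rev, inv_inv, ← mul_assoc, ← (hwP p hp).eq, mul_inv_cancel_right]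
    refine ⟨s ^ 4, hs4, hs4P, pow_mem hsW 4, 1, one_mem _, one_pow _, ?_⟩
    rw [mul_one, show s ^ 4 * w * (s ^ 4)⁻¹ = s ^ 2 * (s ^ 2 * w * (s ^ 2)⁻¹) * (s ^ 2)⁻¹ by
      rw [show s ^ 4 = s ^ 2 * s ^ 2 by rw [← pow_add]]; group, h2, h2]

/-- The fixed points of `r` on `O` are centralised by `p`. -/
theorem Corner.fixed_le_centralizer (h : DHyp 3 t r σ) (hother : OtherPrimes t r) (hC : Corner t r σ W w)
    (hII : W ≤ (W ⊓ coreW t (r * σ)) ⊔ zpowers w) {s p : G} (hs : Rot t r s) (hsW : s ∈ normalizer (W : Set G))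
    (hp : p ∈ W) (hp3 : p ^ 3 = 1) (hsw : s * w * s⁻¹ = w * p) :
    core3 t ⊓ centralizer ({r} : Set G) ≤ centralizer ({p} : Set G) := by
  obtain ⟨hr, hwc, -⟩ := hC.core_facts h hII
  haveI := Fact.mk Nat.prime_three
  set O := core3 t ⊓ centralizer ({r} : Set G) with hO
  have hOW : O ≤ coreW t r := inf_le_inf_right _ (core3_le t)
  have hcop : (Nat.card O).Coprime 3 :=
    (coprime_card_core3 t).coprime_dvd_left (card_dvd_of_le inf_le_left)
  have hWn : coreW t r ≤ normalizer (O : Set G) := fun x hx => Coprime.mem_normalizer_of_forall fun y hy =>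
    mem_inf.2 ⟨(mem_normalizer_iff.1 (coreU_le_normalizer_core3 t (mem_inf.1 hx).1) y).1 (mem_inf.1 hy).1,
      mul_mem (mul_mem (mem_inf.1 hx).2 (mem_inf.1 hy).2) (inv_mem (mem_inf.1 hx).2)⟩
  -- rotations normalise `O`
  have hrotO : ∀ g, Rot t r g → g ∈ normalizer (O : Set G) := by
    intro g hg
    have hgW := rot_mem_normalizer_coreW h hg
    set N := O.map (MulAut.conj g).toMonoidHom with hN
    have hNW : N ≤ coreW t r := by
      rintro _ ⟨x, hx, rfl⟩
      exact (mem_normalizer_iff.1 hgW x).1 (hOW hx)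
    have hNn : coreW t r ≤ normalizer (N : Set G) := fun x hx => Coprime.mem_normalizer_of_forall fun y hy => by
      rw [hN, Transfer.mem_map_conj_iff] at hy ⊢
      have hx' : g⁻¹ * x * g ∈ coreW t r := by
        have := (mem_normalizer_iff.1 (inv_mem hgW) x).1 hx
        simpa using this
      have := (mem_normalizer_iff.1 (hWn hx') _).1 hy
      convert this using 1
      group
    have hNc : N ≤ normalizer (core3 t : Set G) :=
      (hNW.trans inf_le_left).trans (coreU_le_normalizer_core3 t)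
    have hU : coreU t ≤ normalizer ((core3 t ⊔ N : Subgroup G) : Set G) := by
      intro u hu
      obtain ⟨f, hf, o, ho, rfl⟩ := exists_fixed_mul h.mul_self_r (core3_le t)
        (h.odd_coreU.of_dvd_nat (card_dvd_of_le (core3_le t))) hr hu
      refine mul_mem (Coprime.mem_normalizer_of_forall fun x hx => ?_) (le_normalizer (mem_sup_left ho))
      obtain ⟨a, ha, b, hb, rfl⟩ := (Coprime.mem_sup_iff hNc).1 hx
      rw [show f * (a * b) * f⁻¹ = f * a * f⁻¹ * (f * b * f⁻¹) by group]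
      exact mul_mem (mem_sup_left ((mem_normalizer_iff.1 (coreU_le_normalizer_core3 t (mem_inf.1 hf).1) a).1 ha))
        (mem_sup_right ((mem_normalizer_iff.1 (hNn hf) b).1 hb))
    have hle : core3 t ⊔ N ≤ core3 t := le_core3 (sup_le (core3_le t) (hNW.trans inf_le_left)) hU (by
      have h1 := Coprime.card_mul_inf (core3 t) N
      rw [← coe_mul_of_right_le_normalizer_left _ _ hNc] at h1
      refine Nat.Coprime.coprime_dvd_left ⟨_, h1.symm⟩ (Nat.Coprime.mul_left (coprime_card_core3 t) ?_)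
      rw [hN, card_map_of_injective (MulAut.conj g).injective]
      exact hcop)
    refine Coprime.mem_normalizer_of_forall fun x hx => ?_
    exact mem_inf.2 ⟨hle (mem_sup_right ⟨x, hx, rfl⟩), ((mem_normalizer_iff.1 hgW x).1 (hOW hx)).2⟩
  have hWO : W ≤ normalizer (O : Set G) := hC.le.trans hWn
  have hWcop : (Nat.card W).Coprime (Nat.card O) := by rw [hC.card]; exact hcop.symm.pow_left _
  have hWsol := Coprime.isSolvable_of_isPGroup hC.isPGroup
  -- Sylow by Sylow
  have key : Nat.card O ∣ Nat.card (O ⊓ centralizer ({p} : Set G) : Subgroup G) := by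
    refine (Nat.dvd_iff_prime_pow_dvd_dvd _ _).2 fun l k hl hk => ?_
    rcases Nat.eq_zero_or_pos k with rfl | hk0
    · rw [pow_zero]; exact one_dvd _
    have hl3 : l ≠ 3 := by
      rintro rfl
      exact Nat.prime_three.ne_one (Nat.eq_one_of_dvd_coprimes hcop ((dvd_pow_self _ hk0.ne').trans hk) dvd_rfl)
    haveI := Fact.mk hl
    obtain ⟨L, -, hLO, hLW, hLc⟩ := Coprime.exists_invariant_card hWO hWcop (Or.inl hWsol) l
      (U := ⊥) bot_le IsPGroup.of_bot (fun x _ => Coprime.mem_normalizer_of_forall fun y hy => by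
        rw [mem_bot.1 hy, mul_one, mul_inv_cancel]; exact one_mem _)
    suffices hLp : L ≤ centralizer ({p} : Set G) by
      refine dvd_trans ?_ (card_dvd_of_le (le_inf hLO hLp))
      rw [hLc]
      exact pow_dvd_pow l ((hl.pow_dvd_iff_le_factorization Nat.card_pos.ne').1 hk)
    -- a rotation normalising `W` and `L`
    have hsO := hrotO s hs
    obtain ⟨c, hc, hcL⟩ := Coprime.exists_mem_centralizer_conj_of_card hWO hWcop (Or.inl hWsol) hLO
      (R := MulAut.conj s • L)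
      (fun x hx => by
        rw [Coprime.mem_conj] at hx
        have := (mem_normalizer_iff.1 hsO _).1 (hLO hx)
        simpa [mul_assoc] using this)
      hLW
      (fun x hx => Coprime.mem_normalizer_of_forall fun y hy => by
        rw [Coprime.mem_conj] at hy ⊢
        have hx' : s⁻¹ * x * s ∈ W := by
          have := (mem_normalizer_iff.1 (inv_mem hsW) x).1 hx
          simpa using this
        have := (mem_normalizer_iff.1 (hLW hx') _).1 hy
        convert this using 1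
        group)
      hLc ((Coprime.card_conj s L).trans hLc)
    obtain ⟨hcO, hcW⟩ := mem_inf.1 hc
    set s' := c * s with hs'
    have hs'L : s' ∈ normalizer (L : Set G) := Coprime.mem_normalizer_of_conj_eq (by rw [hs', map_mul, mul_smul, hcL])
    have hs'w : s' * w * s'⁻¹ = w * p := by
      rw [hs', show c * s * w * (c * s)⁻¹ = c * (s * w * s⁻¹) * c⁻¹ by group, hsw,
        ← mem_centralizer_iff.1 hcW _ (mul_mem hC.mem_w hp), mul_inv_cancel_right]
    have hs'r : Rot t r s' :=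
      hs.mul_left (h.mem_coreW.1 (hOW hcO)).1 (h.mem_coreW.1 (hOW hcO)).2.1
    have hLp' : IsPGroup l L := Coprime.isPGroup_of_card hLc
    obtain ⟨s₁, hs₁, hs₁L⟩ := hother l hl hl3 L (hLO.trans hOW) hLp'
    -- their difference
    set d := s₁⁻¹ * s' with hd
    have hdv : ∀ a b : G, s₁ * a * s₁⁻¹ = b → s' * a * s'⁻¹ = b → Commute d a := by
      intro a b h1 h2
      refine mul_inv_eq_iff_eq_mul.1 ?_
      rw [hd, show s₁⁻¹ * s' * a * (s₁⁻¹ * s')⁻¹ = s₁⁻¹ * (s' * a * s'⁻¹) * s₁ by group, h2, ← h1]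
      group
    obtain ⟨u, hu, v, hv, huv⟩ := h.exists_mul_of_commute (hdv t r hs₁.1 hs'r.1) (hdv r (t * r) hs₁.2 hs'r.2)
    have hwL : w ∈ normalizer (L : Set G) := hLW hC.mem_w
    have hdL : d ∈ normalizer (L : Set G) :=
      mul_mem (inv_mem (centralizer_le_normalizer _ hs₁L)) hs'L
    set o := w⁻¹ * (d * w * d⁻¹) with ho
    have hvw : Commute v w :=
      mem_centralizer_iff.1 (h.coreW_le_centralizer (hC.le hC.mem_w)) v hv
    have hod : o = w⁻¹ * (u * w * u⁻¹) := by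
      rw [ho, huv, show u * v * w * (u * v)⁻¹ = u * (v * w * v⁻¹) * u⁻¹ by group, hvw.eq, mul_inv_cancel_right]
    have hoO : o ∈ O := by
      rw [hod]
      refine mem_inf.2 ⟨hwc u (mem_inf.1 hu).1, ?_⟩
      exact (mul_mem (inv_mem (hC.le hC.mem_w)) (mul_mem (mul_mem hu (hC.le hC.mem_w)) (inv_mem hu))
        : _ ∈ coreW t r).2
    have hact : ∀ x ∈ L, o * x * o⁻¹ = p * x * p⁻¹ := by
      intro x hx
      have hpe : p = w⁻¹ * (s₁ * (d * w * d⁻¹) * s₁⁻¹) := by
        rw [hd, show s₁ * (s₁⁻¹ * s' * w * (s₁⁻¹ * s')⁻¹) * s₁⁻¹ = s' * w * s'⁻¹ by group, hs'w,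
          inv_mul_cancel_left]
      have hfix : ∀ y ∈ L, s₁ * y * s₁⁻¹ = y := fun y hy => by
        rw [← mem_centralizer_iff.1 hs₁L y hy, mul_inv_cancel_right]
      have hdn : d * w * d⁻¹ ∈ normalizer (L : Set G) := mul_mem (mul_mem hdL hwL) (inv_mem hdL)
      have h1 := hfix _ ((mem_normalizer_iff.1 hdn x).1 hx)
      have h2 : s₁⁻¹ * x * s₁ = x := by
        conv_lhs => rw [← hfix x hx]
        group
      calc o * x * o⁻¹ = w⁻¹ * (d * w * d⁻¹ * x * (d * w * d⁻¹)⁻¹) * w := by rw [ho]; group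
        _ = w⁻¹ * (s₁ * (d * w * d⁻¹ * (s₁⁻¹ * x * s₁) * (d * w * d⁻¹)⁻¹) * s₁⁻¹) * w := by rw [h2, h1]
        _ = p * x * p⁻¹ := by rw [hpe]; group
    have hpL : p ∈ normalizer (L : Set G) := hLW hp
    have hpow : ∀ i : ℕ, ∀ x ∈ L, o ^ i * x * (o ^ i)⁻¹ = p ^ i * x * (p ^ i)⁻¹ := by
      intro i
      induction i with
      | zero => intro x _; simp
      | succ i ih =>
        intro x hx
        rw [pow_succ o, pow_succ p, show o ^ i * o * x * (o ^ i * o)⁻¹ = o ^ i * (o * x * o⁻¹) * (o ^ i)⁻¹ by group,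
          hact x hx, ih _ ((mem_normalizer_iff.1 hpL x).1 hx)]
        group
    have hoc : (orderOf o).Coprime 3 := hcop.coprime_dvd_left (Subgroup.orderOf_dvd_natCard O hoO)
    intro x hx
    refine mem_centralizer_singleton_iff.2 ?_
    have h1 := hpow (orderOf o) x hx
    rw [pow_orderOf_eq_one, one_mul, inv_one, mul_one] at h1
    have h2 : Commute (p ^ orderOf o) x := mul_inv_eq_iff_eq_mul.1 h1.symm
    obtain ⟨i, -, hi⟩ := Nat.exists_mul_mod_eq_one_of_coprime hoc (by norm_num)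
    have h3 : p = (p ^ orderOf o) ^ i := by
      rw [← pow_mul, pow_eq_pow_mod _ hp3, hi, pow_one]
    rw [h3]
    exact (h2.pow_left i).eq.symm
  exact (eq_of_le_of_card_ge (inf_le_left : O ⊓ centralizer ({p} : Set G) ≤ O)
    (Nat.le_of_dvd Nat.card_pos key)).symm.le.trans inf_le_right

/-- Over `A7` an element of `C(t)` of order prime to three inverted by an involution of the socle is in the core. -/
theorem mem_oddPart_of_inverted {X : Subgroup G} {L : Subgroup (X ⧸ Cfsg.oddCore X)} [L.Normal]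
    (e : L ≃* alternatingGroup (Fin 7)) (ht : orderOf t = 2) {v c : G} (htX : t ∈ X) (hv : v ∈ X)
    (htL : QuotientGroup.mk' (Cfsg.oddCore X) ⟨t, htX⟩ ∈ L) (hvL : QuotientGroup.mk' (Cfsg.oddCore X) ⟨v, hv⟩ ∈ L)
    (hc : c ∈ X) (hct : Commute c t) (hco : Odd (orderOf c)) (hc3 : (orderOf c).Coprime 3)
    (hi : v * c * v⁻¹ = c⁻¹) : c ∈ oddPart X := by
  set π := QuotientGroup.mk' (Cfsg.oddCore X)
  set C := π ⟨c, hc⟩ with hC
  set V := π ⟨v, hv⟩ with hV
  have hCi : V * C * V⁻¹ = C⁻¹ := by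
    rw [hV, hC, ← map_inv, ← map_mul, ← map_mul, ← map_inv]
    exact congrArg π (Subtype.ext hi)
  have hd : orderOf C ∣ orderOf c := (orderOf_map_dvd π _).trans (by rw [Subgroup.orderOf_mk])
  have hCo : Odd (orderOf C) := hco.of_dvd_nat hd
  have hCL : C ∈ L := by
    have h1 : V * (C * V⁻¹ * C⁻¹) ∈ L := mul_mem hvL (‹L.Normal›.conj_mem _ (inv_mem hvL) C)
    rw [show V * (C * V⁻¹ * C⁻¹) = V * C * V⁻¹ * C⁻¹ by group, hCi] at h1
    have h2 : C ^ 2 ∈ L := by
      rw [show C ^ 2 = (C⁻¹ * C⁻¹)⁻¹ by rw [pow_two, mul_inv_rev, inv_inv]]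
      exact inv_mem h1
    obtain ⟨k, hk⟩ := hCo
    have h3 := pow_mem h2 (k + 1)
    rwa [← pow_mul, show 2 * (k + 1) = orderOf C + 1 by omega, pow_add, pow_orderOf_eq_one, one_mul,
      pow_one] at h3
  refine Local.bar_eq_one.1 (show C = 1 from ?_)
  by_contra hC1
  have h1 := CaseA.alt_seven_small (u := e ⟨_, htL⟩) (z := e ⟨C, hCL⟩)
    (by rw [e.orderOf_eq, Subgroup.orderOf_mk]; exact Local.orderOf_bar (by rw [Subgroup.orderOf_mk, ht]))
    (fun h' => hC1 (congrArg Subtype.val (e.injective (h'.trans (map_one e).symm))))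
    (by rwa [e.orderOf_eq, Subgroup.orderOf_mk])
    ((show Commute (⟨C, hCL⟩ : L) ⟨_, htL⟩ from
      Subtype.ext ((show Commute (⟨c, hc⟩ : X) ⟨t, htX⟩ from Subtype.ext hct.eq).map π).eq).map e.toMonoidHom)
  have h2 := orderOf_dvd_of_pow_eq_one h1.1
  rw [e.orderOf_eq, Subgroup.orderOf_mk] at h2
  exact hC1 (orderOf_eq_one_iff.1 (Nat.eq_one_of_dvd_coprimes (hc3.coprime_dvd_left hd) dvd_rfl h2))

/-- In `C(p)` the fixed points of `r` and of `r σ` on `O` are equal in number. -/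
theorem Corner.card_fixed_eq (c : Ctx 3 t r σ) (hS' : SideRot t (r * σ) σ⁻¹) (hC : Corner t r σ W w)
    (hII : W ≤ (W ⊓ coreW t (r * σ)) ⊔ zpowers w) {p : G} (hp : p ∈ W ⊓ coreW t (r * σ)) (hp1 : p ≠ 1) :
    Nat.card (core3 t ⊓ centralizer ({p} : Set G) ⊓ centralizer ({r} : Set G) : Subgroup G) =
      Nat.card (core3 t ⊓ centralizer ({p} : Set G) ⊓ centralizer ({r * σ} : Set G) : Subgroup G) := by
  haveI := Fact.mk Nat.prime_three
  haveI := Fact.mk Nat.prime_two
  have h := c.hyp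
  obtain ⟨hr, hwc, hτ⟩ := hC.core_facts h hII
  set X := centralizer ({p} : Set G) with hX
  obtain ⟨hns, hfus, hfus', -, -, L, hLn, hLC, ⟨e⟩⟩ := hC.exc p hp hp1
  haveI := hLn
  have hwX : w ∈ X := mem_centralizer_singleton_iff.2
    (mem_centralizer_singleton_iff.1 (hC.central (mem_inf.1 hp).1)).symm
  have hpc : Commute p t ∧ Commute p r ∧ Commute p (r * σ) :=
    ⟨(h.mem_coreW.1 (hC.le (mem_inf.1 hp).1)).1, (h.mem_coreW.1 (hC.le (mem_inf.1 hp).1)).2.1,
      (h.swap.mem_coreW.1 (mem_inf.1 hp).2).2.1⟩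
  have hrX : r ∈ X := mem_centralizer_singleton_iff.2 hpc.2.1.symm.eq
  have htX : t ∈ X := mem_centralizer_singleton_iff.2 hpc.1.symm.eq
  have hτX : r * σ ∈ X := mem_centralizer_singleton_iff.2 hpc.2.2.symm.eq
  have hSX : closure ({σ, r} : Set G) ≤ X := (closure_le _).2 <| by
    rintro x (rfl | rfl)
    · have := mul_mem (inv_mem hrX) hτX
      rwa [inv_mul_cancel_left] at this
    · exact hrX
  -- the involutions in the socle
  set π := QuotientGroup.mk' (Cfsg.oddCore X)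
  have hGW : IsGWLike X := ⟨L, hLn, hLC, Or.inr ⟨e⟩⟩
  have hL : Socle L := Or.inr ⟨e⟩
  have htL : π ⟨t, htX⟩ ∈ L := by
    rcases h.inSocle_fourV_or hGW hSX with hV | hV <;>
      exact Local.mem_of_inSocle hL hV (x := ⟨t, htX⟩) (GWKlein.left_mem_fourV _ _)
  have hvL : ∀ v (hv : v ∈ X), Fused t v X → π ⟨v, hv⟩ ∈ L := by
    rintro v hv ⟨g, hg, hgt, -⟩
    rw [show (⟨v, hv⟩ : X) = ⟨g, hg⟩ * ⟨t, htX⟩ * ⟨g, hg⟩⁻¹ from Subtype.ext hgt.symm, map_mul, map_mul,
      map_inv]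
    exact hLn.conj_mem _ htL _
  set K := oddPart X with hK
  have hKodd : Odd (Nat.card K) := GWKlein.odd_card_oddPart X
  have hXK : X ≤ normalizer (K : Set G) := GWKlein.le_normalizer_oddPart X
  set M := K ⊓ centralizer ({t} : Set G) with hM
  have hMU : M ≤ coreU t := fun x hx => h.mem_coreU.2 ⟨mem_centralizer_singleton_iff.1 (mem_inf.1 hx).2,
    hKodd.of_dvd_nat (Subgroup.orderOf_dvd_natCard K (mem_inf.1 hx).1)⟩
  set E := core3 t ⊓ X with hE
  set E0 := core3 t ⊓ K with hE0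
  have hO : Odd (Nat.card (core3 t)) := h.odd_coreU.of_dvd_nat (card_dvd_of_le (core3_le t))
  have hE0odd : Odd (Nat.card E0) := hO.of_dvd_nat (card_dvd_of_le inf_le_left)
  have hE0M : E0 ≤ M := fun x hx => mem_inf.2 ⟨(mem_inf.1 hx).2,
    GWKlein.coreU_le_centralizer t (core3_le t (mem_inf.1 hx).1)⟩
  have hE0E : E0 ≤ E := inf_le_inf_left _ (GWKlein.oddPart_le X)
  have hOn : ∀ v ∈ closure ({σ, r} : Set G), v ∈ normalizer (core3 t : Set G) := fun v hv =>
    normalizer_le_normalizer_core3 t (h.sylow_le_normalizer_coreU hv)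
  have hrS := h.sylow_mem_r
  have hτS : r * σ ∈ closure ({σ, r} : Set G) := mul_mem hrS h.sylow_mem_σ
  -- on `E / E0`
  have hEc : ∀ v, v * v = 1 → v ∈ closure ({σ, r} : Set G) → Fused t v X →
      ∀ x ∈ E, x⁻¹ * (v * x * v⁻¹) ∈ E0 := by
    intro v hv2 hvS hf x hx
    have hvX := hSX hvS
    have hy : x⁻¹ * (v * x * v⁻¹) ∈ E := mul_mem (inv_mem hx)
      (mem_inf.2 ⟨(mem_normalizer_iff.1 (hOn v hvS) x).1 (mem_inf.1 hx).1,
        mul_mem (mul_mem hvX (mem_inf.1 hx).2) (inv_mem hvX)⟩)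
    obtain ⟨hy1, hy2⟩ := mem_inf.1 hy
    refine mem_inf.2 ⟨hy1, mem_oddPart_of_inverted e h.order_t htX hvX htL (hvL v hvX hf) hy2
      (GWKlein.commute_of_mem_coreU (core3_le t hy1)) (hO.of_dvd_nat (Subgroup.orderOf_dvd_natCard _ hy1))
      ((coprime_card_core3 t).coprime_dvd_left (Subgroup.orderOf_dvd_natCard _ hy1)) ?_⟩
    have hvi : v⁻¹ = v := inv_eq_of_mul_eq_one_right hv2
    simp only [hvi, mul_inv_rev, inv_inv]
    rw [show v * (x⁻¹ * (v * x * v)) * v = v * x⁻¹ * v * x * (v * v) by group, hv2, mul_one]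
    group
  -- on `M / E0`
  have hMm : ∀ v ∈ closure ({σ, r} : Set G), ∀ x ∈ M, x⁻¹ * (v * x * v⁻¹) ∈ M := fun v hv x hx =>
    mul_mem (inv_mem hx) (mem_inf.2 ⟨(mem_normalizer_iff.1 (hXK (hSX hv)) x).1 (mem_inf.1 hx).1,
      mul_mem (mul_mem (h.sylow_le_centralizer hv) (mem_inf.1 hx).2) (inv_mem (h.sylow_le_centralizer hv))⟩)
  have hMr : ∀ x ∈ M, x⁻¹ * (r * x * r⁻¹) ∈ E0 := fun x hx =>
    mem_inf.2 ⟨hr x (hMU hx), (mem_inf.1 (hMm r hrS x hx)).1⟩
  -- `w` is no element of `M O`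
  have hnot : ∀ m ∈ M, m⁻¹ * w ∉ core3 t := by
    intro m hm hmw
    set N := Cfsg.pPrimeCore 3 (coreU t) with hN
    set ρ := QuotientGroup.mk' N with hρ
    have hWU : W ≤ coreU t := hC.le.trans inf_le_left
    set w' : coreU t := ⟨w, hWU hC.mem_w⟩ with hw'
    set m' : coreU t := ⟨m, hMU hm⟩ with hm'
    have he : ρ m' = ρ w' := by
      have := (mem_core3_iff (x := m'⁻¹ * w')).1 hmw
      rwa [map_mul, map_inv, inv_mul_eq_one] at this
    have hcen : ∀ u : coreU t, Commute (ρ w') (ρ u) := fun u => by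
      have := (mem_core3_iff (x := w'⁻¹ * (u * w' * u⁻¹))).1 (hwc u u.2)
      rw [map_mul, map_inv, map_mul, map_mul, map_inv, inv_mul_eq_one] at this
      exact (mul_inv_eq_iff_eq_mul.1 this.symm).symm
    -- a Sylow subgroup of `M` centralised by `r σ`
    have hVX : fourV t (r * σ) ≤ X := GWKlein.fourV_le_iff.2 ⟨htX, hτX⟩
    have hVM : fourV t (r * σ) ≤ normalizer (M : Set G) := fun v hv => Coprime.mem_normalizer_of_forall
      fun x hx => mem_inf.2 ⟨(mem_normalizer_iff.1 (hXK (hVX hv)) x).1 (mem_inf.1 hx).1,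
        mul_mem (mul_mem (h.swap.fourV_le_centralizer_t hv) (mem_inf.1 hx).2)
          (inv_mem (h.swap.fourV_le_centralizer_t hv))⟩
    have hMo : Odd (Nat.card M) := hKodd.of_dvd_nat (card_dvd_of_le inf_le_left)
    obtain ⟨Q, -, hQM, hQV, hQp, hQc⟩ := h.swap.exists_invariant_sylow (p := 3) h.swap.isPGroup_fourV hMo hVM
      (Q := ⊥) bot_le IsPGroup.of_bot (fun x _ => Coprime.mem_normalizer_of_forall fun y hy => by
        rw [mem_bot.1 hy, mul_one, mul_inv_cancel]; exact one_mem _)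
    have h3 : 3 ∣ Nat.card (coreW t (r * σ)) := by
      obtain ⟨j, hj⟩ := IsPGroup.iff_card.1 (hC.isPGroup.to_le (inf_le_left : W ⊓ coreW t (r * σ) ≤ W))
      have hj0 : j ≠ 0 := fun e0 => hC.fixed_ne (Subgroup.card_eq_one.1 (by rw [hj, e0, pow_zero]))
      exact (hj ▸ dvd_pow_self 3 hj0 : 3 ∣ Nat.card (W ⊓ coreW t (r * σ) : Subgroup G)).trans
        (card_dvd_of_le inf_le_right)
    have hQf : fourV t (r * σ) ≤ centralizer (Q : Set G) :=
      h.swap.central_of_rot hS' h3 hVX hfus' hQp (hQM.trans inf_le_left) hQV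
    -- a 3-element of `M` over `w`, moved into `Q`
    obtain ⟨j, n, hn, hjn⟩ := Nat.exists_eq_pow_mul_and_not_dvd (orderOf_pos m).ne' 3 (by norm_num)
    have hnn : n * n % 3 = 1 := by
      have : n % 3 = 1 ∨ n % 3 = 2 := by omega
      rcases this with h | h <;> rw [Nat.mul_mod, h]
    set g : M := ⟨m, hm⟩ ^ (n * n) with hg
    obtain ⟨S, hSQ⟩ := Coprime.exists_sylow_map_eq hQM hQc
    obtain ⟨S', hS'g⟩ := (IsPGroup.iff_orderOf.2 fun x => by
      obtain ⟨i, hi⟩ := (Nat.dvd_prime_pow Nat.prime_three).1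
        (orderOf_dvd_of_pow_eq_one (x := g) (n := 3 ^ j) (Subtype.ext (by
          rw [hg, ← pow_mul, Subgroup.coe_pow, show n * n * 3 ^ j = 3 ^ j * n * n by ring, pow_mul, ← hjn]
          show (m ^ orderOf m) ^ n = 1
          rw [pow_orderOf_eq_one, one_pow])))
      obtain ⟨l, -, hl⟩ := (Nat.dvd_prime_pow Nat.prime_three).1
        ((orderOf_dvd_natCard x).trans (by rw [Nat.card_zpowers, hi.2]) : orderOf x ∣ 3 ^ i)
      exact ⟨l, hl⟩ : IsPGroup 3 (zpowers g)).exists_le_sylow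
    obtain ⟨y, hy⟩ := MulAction.exists_smul_eq M S' S
    have hq : ((y * g * y⁻¹ : M) : G) ∈ Q := by
      rw [← hSQ]
      refine ⟨y * g * y⁻¹, ?_, rfl⟩
      rw [← hy, Transfer.sylow_coe_smul]
      exact ⟨g, hS'g (mem_zpowers g), rfl⟩
    set q : coreU t := ⟨_, hMU (hQM hq)⟩ with hqdef
    have hqw : ρ q = ρ w' := by
      have hq' : q = ⟨(y : G), hMU y.2⟩ * m' ^ (n * n) * (⟨(y : G), hMU y.2⟩ : coreU t)⁻¹ := rfl
      rw [hq', map_mul, map_mul, map_inv, map_pow, he,
        pow_eq_pow_mod (n := 3) _ (by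
          rw [← map_pow, show w' ^ 3 = 1 from Subtype.ext (by
            show w ^ 3 = 1
            rw [← hC.order_w, pow_orderOf_eq_one]), map_one]), hnn, pow_one, ← (hcen _).eq, mul_inv_cancel_right]
    have hi1 : r * σ * (q : G) * (r * σ)⁻¹ = q := by
      rw [← mem_centralizer_iff.1 (hQf (GWKlein.right_mem_fourV t (r * σ))) _ hq, mul_inv_cancel_right]
    have h4 : (q : G)⁻¹ * w ∈ core3 t := (mem_core3_iff (x := q⁻¹ * w')).2 (by
      rw [map_mul, map_inv, hqw, inv_mul_cancel])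
    have h5 := (mem_normalizer_iff.1 (hOn _ hτS) _).1 h4
    rw [show r * σ * ((q : G)⁻¹ * w) * (r * σ)⁻¹ = (r * σ * q * (r * σ)⁻¹)⁻¹ * (r * σ * w * (r * σ)⁻¹) by group,
      hi1, hC.inv_w] at h5
    have h6 := mul_mem (inv_mem h5) h4
    rw [show ((q : G)⁻¹ * w⁻¹)⁻¹ * ((q : G)⁻¹ * w) = w ^ 2 by rw [pow_two]; group] at h6
    have h7 : orderOf (w ^ 2) = 3 := by
      rw [(show (orderOf w).Coprime 2 by rw [hC.order_w]; norm_num).orderOf_pow, hC.order_w]
    exact Nat.prime_three.ne_one (Nat.eq_one_of_dvd_coprimes (coprime_card_core3 t)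
      (h7 ▸ Subgroup.orderOf_dvd_natCard _ h6) dvd_rfl)
  have hMτ : ∀ x ∈ M, x⁻¹ * (r * σ * x * (r * σ)⁻¹) ∈ E0 := by
    intro x hx
    have hy := hMm _ hτS x hx
    obtain ⟨k, hk⟩ := hτ x (hMU hx)
    refine mem_inf.2 ⟨?_, (mem_inf.1 hy).1⟩
    set y := x⁻¹ * (r * σ * x * (r * σ)⁻¹)
    have hw3 : w ^ 3 = 1 := hC.order_w ▸ pow_orderOf_eq_one w
    have hwk : w ^ k = w ^ (k % 3) := by
      conv_lhs => rw [← Int.mul_ediv_add_emod k 3, zpow_add, zpow_mul, zpow_ofNat, hw3, one_zpow, one_mul]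
    rw [hwk] at hk
    rcases (show k % 3 = 0 ∨ k % 3 = 1 ∨ k % 3 = 2 by omega) with h3 | h3 | h3 <;> rw [h3] at hk
    · rwa [zpow_zero, mul_one] at hk
    · rw [zpow_one] at hk
      exact absurd (by rwa [inv_inv]) (hnot _ (inv_mem hy))
    · have hw2 : w ^ (2 : ℤ) = w⁻¹ := by
        rw [zpow_ofNat]
        exact (inv_eq_of_mul_eq_one_right (by rw [← pow_succ', hw3])).symm
      rw [hw2] at hk
      refine absurd ?_ (hnot _ hy)
      have h8 := (mem_normalizer_iff.1 (coreU_le_normalizer_core3 t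
        (inv_mem (hMU hy))) _).1 (inv_mem hk)
      rwa [show y⁻¹ * (y * w⁻¹)⁻¹ * y⁻¹⁻¹ = y⁻¹ * w by group] at h8
  -- count
  have A1 := card_fixed_mul h.mul_self_r hE0E hE0odd (hEc r h.mul_self_r hrS hfus)
  have A2 := card_fixed_mul h.mul_σ_sq hE0E hE0odd (hEc _ h.mul_σ_sq hτS hfus')
  have B1 := card_fixed_mul h.mul_self_r hE0M hE0odd hMr
  have B2 := card_fixed_mul h.mul_σ_sq hE0M hE0odd hMτ
  have hV : Nat.card (M ⊓ centralizer ({r} : Set G) : Subgroup G) =
      Nat.card (M ⊓ centralizer ({r * σ} : Set G) : Subgroup G) := by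
    obtain ⟨g, hg, hg1, hg2⟩ := hfus
    obtain ⟨g', hg', hg1', hg2'⟩ := hfus'
    have F1 := card_fixed_four h.mul_self_t h.mul_self_r h.comm_t_r hKodd (hXK htX) (hXK hrX) (hXK hg) hg1 hg2
    have F2 := card_fixed_four h.mul_self_t h.mul_σ_sq (h.comm_t_r.mul_right h.comm_t_σ) hKodd (hXK htX)
      (hXK hτX) (hXK hg') hg1' hg2'
    exact Nat.pow_left_injective two_ne_zero (Nat.eq_of_mul_eq_mul_left Nat.card_pos (F1.trans F2.symm))
  rw [hV, B2] at B1
  have hE0eq := Nat.eq_of_mul_eq_mul_left Nat.card_pos B1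
  rw [← hE0eq, ← A2] at A1
  exact Nat.eq_of_mul_eq_mul_right Nat.card_pos A1

/-- (2.1A II): if `W = P × ⟨w⟩` a rotation centralises `W`. -/
theorem cornerII [IsSimpleGroup G] (c : Ctx 3 t r σ) (hS : SideRot t r σ) (hS' : SideRot t (r * σ) σ⁻¹)
    (hother : OtherPrimes t r) (hC : Corner t r σ W w) (hII : W ≤ (W ⊓ coreW t (r * σ)) ⊔ zpowers w) :
    ∃ s, Rot t r s ∧ s ∈ centralizer (W : Set G) := by
  haveI := Fact.mk Nat.prime_three
  have h := c.hyp
  obtain ⟨s, hs, hsP, hsW, p, hp, hp3, hsw⟩ := hC.exists_rot h hII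
  by_cases hp1 : p = 1
  · refine ⟨s, hs, ?_⟩
    have hle : W ≤ centralizer ({s} : Set G) := hII.trans (sup_le
      (fun x hx => mem_centralizer_singleton_iff.2 (mem_centralizer_iff.1 hsP x hx))
      (zpowers_le.2 (mem_centralizer_singleton_iff.2 (by
        rw [hp1, mul_one, mul_inv_eq_iff_eq_mul] at hsw
        exact hsw.symm))))
    exact mem_centralizer_iff.2 fun x hx => mem_centralizer_singleton_iff.1 (hle hx)
  exfalso
  obtain ⟨hr, hwc, hτ⟩ := hC.core_facts h hII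
  have hpW : p ∈ W := (mem_inf.1 hp).1
  have hpU : p ∈ coreU t := (hC.le hpW).1
  have hpo : orderOf p = 3 := orderOf_eq_prime hp3 hp1
  have hwp : Commute w p := (mem_centralizer_singleton_iff.1 (hC.central hpW)).symm
  have hsp : Commute s p := (mem_centralizer_iff.1 hsP p hp).symm
  have hpr : Commute p r := (h.mem_coreW.1 (hC.le hpW)).2.1
  have hpτ : Commute p (r * σ) := (h.swap.mem_coreW.1 (mem_inf.1 hp).2).2.1
  have hpS : p ∈ centralizer (closure ({σ, r} : Set G) : Set G) := by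
    rw [centralizer_closure]
    refine mem_centralizer_iff.2 ?_
    rintro x (rfl | rfl)
    · have := hpr.inv_right.mul_right hpτ
      rw [inv_mul_cancel_left] at this
      exact this.symm.eq
    · exact hpr.symm.eq
  -- fusion in `C(p)`
  obtain ⟨-, hfus, hfus', -⟩ := hC.exc p hp hp1
  have hfusv : ∀ v ∈ closure ({σ, r} : Set G), orderOf v = 2 → ∃ g, Commute g p ∧ g * t * g⁻¹ = v := by
    intro v hv hv2
    obtain ⟨g, hg, hg1, hg2⟩ := hfus
    obtain ⟨g', hg', hg1', hg2'⟩ := hfus'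
    have hgp : Commute g p := mem_centralizer_singleton_iff.1 hg
    have hgp' : Commute g' p := mem_centralizer_singleton_iff.1 hg'
    have two : ∀ a x y : G, a * t * a⁻¹ = x → a * x * a⁻¹ = y → a ^ 2 * t * (a ^ 2)⁻¹ = y := fun a x y e1 e2 => by
      rw [show a ^ 2 * t * (a ^ 2)⁻¹ = a * (a * t * a⁻¹) * a⁻¹ by rw [pow_two]; group, e1, e2]
    have ht2 : σ * σ = t := by rw [h.t_eq]; exact (pow_two σ).symm
    rcases h.mem_sylow_cases hv with ⟨k, hk⟩ | ⟨k, hk⟩
    · rw [hk] at hv2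
      exact ⟨1, Commute.one_left _, by rw [hk, h.eq_t_of_rotation hv2, one_mul, inv_one, mul_one]⟩
    · have h4 : σ ^ 4 = 1 := by
        rw [show (4 : ℕ) = 2 * 2 from rfl, pow_mul, pow_two σ, ht2, pow_two, h.mul_self_t]
      rw [pow_eq_pow_mod k h4] at hk
      have hr1 : r * t = t * r := h.comm_t_r.symm.eq
      rcases (show k % 4 = 0 ∨ k % 4 = 1 ∨ k % 4 = 2 ∨ k % 4 = 3 by omega) with e | e | e | e <;> rw [e] at hk
      · exact ⟨g, hgp, by rw [hk, pow_zero, mul_one, hg1]⟩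
      · exact ⟨g', hgp', by rw [hk, pow_one, hg1']⟩
      · exact ⟨g ^ 2, hgp.pow_left 2, by rw [two g r _ hg1 hg2, hk, pow_two, ht2, hr1]⟩
      · refine ⟨g' ^ 2, hgp'.pow_left 2, ?_⟩
        rw [two g' _ _ hg1' hg2', hk, pow_succ, pow_two, ht2, ← mul_assoc t, ← hr1, mul_assoc]
  -- count
  refine corner_false c p w s hpo hpS hwp hsp hsw hfusv ?_
  have hOp := hC.fixed_le_centralizer h hother hII hs hsW hpW hp3 hsw
  have hE := hC.card_fixed_eq c hS' hII hp hp1
  set O := core3 t with hOdef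
  set D := O ⊓ centralizer ({r * σ} : Set G) with hD
  have e1 : O ⊓ centralizer ({p} : Set G) ⊓ centralizer ({r} : Set G) = O ⊓ centralizer ({r} : Set G) := by
    rw [inf_right_comm]; exact inf_eq_left.2 hOp
  rw [e1, inf_right_comm] at hE
  -- the index is one modulo three
  obtain ⟨L, hL⟩ : Nat.card (D ⊓ centralizer ({p} : Set G) : Subgroup G) ∣ Nat.card D := card_dvd_of_le inf_le_left
  have hDodd : Odd (Nat.card D) :=
    h.odd_coreU.of_dvd_nat (card_dvd_of_le (inf_le_left.trans (core3_le t)))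
  have hLodd : Odd L := hDodd.of_dvd_nat ⟨_, hL.trans (mul_comm _ _)⟩
  have hL3 : L % 3 = 1 := by
    have hpn : p ∈ normalizer (D : Set G) := Coprime.mem_normalizer_of_forall fun x hx =>
      mem_inf.2 ⟨(mem_normalizer_iff.1 (coreU_le_normalizer_core3 t hpU) x).1 (mem_inf.1 hx).1,
        mul_mem (mul_mem (mem_centralizer_singleton_iff.2 hpτ.eq) (mem_inf.1 hx).2)
          (inv_mem (mem_centralizer_singleton_iff.2 hpτ.eq))⟩
    let act : zpowers p →* MulAut D := D.normalizerMonoidHom.comp (Subgroup.inclusion (zpowers_le.2 hpn))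
    letI : MulAction (zpowers p) D := MulAction.compHom D act
    have hP : IsPGroup 3 (zpowers p) := IsPGroup.of_card (n := 1) (by rw [Nat.card_zpowers, hpo, pow_one])
    have hfix : ∀ x : D, x ∈ MulAction.fixedPoints (zpowers p) D ↔ Commute p (x : G) := by
      intro x
      have hact : ∀ g : zpowers p, ((g • x : D) : G) = g * x * (g : G)⁻¹ := fun g => rfl
      constructor
      · intro hx
        have := congrArg Subtype.val (hx ⟨p, mem_zpowers p⟩)
        rw [hact] at this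
        exact mul_inv_eq_iff_eq_mul.1 this
      · rintro hx ⟨g, hg⟩
        refine Subtype.ext ?_
        rw [hact]
        obtain ⟨j, rfl⟩ := mem_zpowers_iff.1 hg
        rw [(hx.zpow_left j).eq, mul_inv_cancel_right]
    have hF : Nat.card (MulAction.fixedPoints (zpowers p) D) =
        Nat.card (D ⊓ centralizer ({p} : Set G) : Subgroup G) := Nat.card_congr
      { toFun := fun x => ⟨(x.1 : G), x.1.2, mem_centralizer_singleton_iff.2 ((hfix _).1 x.2).symm.eq⟩
        invFun := fun x => ⟨⟨(x : G), x.2.1⟩, (hfix _).2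
          (show Commute p (x : G) from (mem_centralizer_singleton_iff.1 x.2.2).symm)⟩
        left_inv := fun x => rfl
        right_inv := fun x => rfl }
    have hm := hP.card_modEq_card_fixedPoints D
    rw [hF, hL] at hm
    have hd3 := (Nat.prime_three.coprime_iff_not_dvd).1 ((coprime_card_core3 t).coprime_dvd_left
      (card_dvd_of_le (inf_le_left.trans inf_le_left : D ⊓ centralizer ({p} : Set G) ≤ O))).symm
    generalize Nat.card (D ⊓ centralizer ({p} : Set G) : Subgroup G) = d at hm hd3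
    rw [Nat.dvd_iff_mod_eq_zero] at hd3
    rw [Nat.ModEq, Nat.mul_mod] at hm
    rcases (show d % 3 = 1 ∨ d % 3 = 2 by omega) with e | e <;>
      rcases (show L % 3 = 0 ∨ L % 3 = 1 ∨ L % 3 = 2 by omega) with e' | e' | e' <;>
        simp [e, e'] at hm ⊢
  -- the orders of the centralisers
  have hUn := coreU_le_normalizer_core3 t
  have hWc : (Nat.card O).Coprime (Nat.card (zpowers w)) := by
    rw [Nat.card_zpowers, hC.order_w]; exact coprime_card_core3 t
  have hwn : zpowers w ≤ normalizer (O : Set G) := (zpowers_le.2 (hC.le hC.mem_w).1).trans hUn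
  have hOw : O ⊔ zpowers w ≤ coreU t := sup_le (core3_le t) (zpowers_le.2 (hC.le hC.mem_w).1)
  have F1 : Nat.card (coreW t r) * Nat.card O =
      Nat.card (coreU t) * Nat.card (O ⊓ centralizer ({r} : Set G) : Subgroup G) :=
    card_fixed_mul h.mul_self_r (core3_le t) (h.odd_coreU.of_dvd_nat (card_dvd_of_le (core3_le t))) hr
  have F2 := card_fixed_mul h.mul_σ_sq hOw (h.odd_coreU.of_dvd_nat (card_dvd_of_le hOw)) fun u hu => by
    obtain ⟨k, hk⟩ := hτ u hu
    have := mul_mem (mem_sup_left (T := zpowers w) hk) (mem_sup_right (inv_mem (zpow_mem (mem_zpowers w) k)))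
    rwa [mul_inv_cancel_right] at this
  have hDeq : (O ⊔ zpowers w) ⊓ centralizer ({r * σ} : Set G) = D := by
    refine le_antisymm ?_ (inf_le_inf_right _ le_sup_left)
    rintro x ⟨hx, hxc⟩
    obtain ⟨o, ho, z, hz, rfl⟩ := (Coprime.mem_sup_iff hwn).1 hx
    refine mem_inf.2 ⟨?_, hxc⟩
    have hzi : r * σ * z * (r * σ)⁻¹ = z⁻¹ := by
      obtain ⟨k, rfl⟩ := mem_zpowers_iff.1 hz
      exact Involution.inverts_zpow hC.inv_w k
    have ho' := (mem_normalizer_iff.1 (normalizer_le_normalizer_core3 t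
      (h.sylow_le_normalizer_coreU (mul_mem h.sylow_mem_r h.sylow_mem_σ))) o).1 ho
    have e : o * z = r * σ * o * (r * σ)⁻¹ * z⁻¹ := by
      rw [← hzi]
      calc o * z = r * σ * (o * z) * (r * σ)⁻¹ := by
            rw [← (mem_centralizer_singleton_iff.1 hxc), mul_inv_cancel_right]
        _ = r * σ * o * (r * σ)⁻¹ * (r * σ * z * (r * σ)⁻¹) := by group
    have h2 : z ^ 2 ∈ O := by
      have h3 := mul_mem (inv_mem ho) ho'
      rwa [show o⁻¹ * (r * σ * o * (r * σ)⁻¹) = o⁻¹ * (r * σ * o * (r * σ)⁻¹ * z⁻¹) * z by group, ← e,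
        inv_mul_cancel_left, ← pow_two] at h3
    have h4 : z ^ 2 = 1 := Coprime.eq_one_of_mem_of_mem hWc h2 (pow_mem hz 2)
    have h5 : z = 1 := orderOf_eq_one_iff.1 (Nat.eq_one_of_dvd_coprimes (show Nat.Coprime 3 2 by norm_num)
      (hC.order_w ▸ orderOf_dvd_of_mem_zpowers hz) (orderOf_dvd_of_pow_eq_one h4))
    rw [h5, mul_one]
    exact ho
  rw [hDeq, Coprime.card_sup_of_coprime hwn hWc, Nat.card_zpowers, hC.order_w] at F2
  change Nat.card (coreW t (r * σ)) * _ = _ at F2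
  rw [hL, ← hE] at F2
  have hab : 3 * Nat.card (coreW t (r * σ)) = L * Nat.card (coreW t r) := by
    refine Nat.eq_of_mul_eq_mul_right (Nat.card_pos (α := O)) ?_
    calc 3 * Nat.card (coreW t (r * σ)) * Nat.card O
        = Nat.card (coreW t (r * σ)) * (Nat.card O * 3) := by ring
      _ = L * (Nat.card (coreU t) * Nat.card (O ⊓ centralizer ({r} : Set G) : Subgroup G)) := by rw [F2]; ring
      _ = L * Nat.card (coreW t r) * Nat.card O := by rw [← F1]; ring
  have hLcases : L = 1 ∨ 7 ≤ L := by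
    obtain ⟨k, hk⟩ := hLodd
    omega
  generalize Nat.card (coreW t r) = A at hab
  generalize Nat.card (coreW t (r * σ)) = B at hab
  have hab' : 3 * (B : ℤ) = (L : ℤ) * A := by exact_mod_cast hab
  have key : 9 * (25 * ((A : ℤ) - B) ^ 2 - 4 * ((A : ℤ) + B) ^ 2) =
      (A : ℤ) ^ 2 * ((3 * (L : ℤ) - 21) * (7 * (L : ℤ) - 9)) := by
    rw [show (9 : ℤ) * (25 * ((A : ℤ) - B) ^ 2 - 4 * ((A : ℤ) + B) ^ 2) =
      25 * (3 * (A : ℤ) - 3 * B) ^ 2 - 4 * (3 * (A : ℤ) + 3 * B) ^ 2 by ring, hab']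
    ring
  have hpos : (0 : ℤ) ≤ (3 * (L : ℤ) - 21) * (7 * (L : ℤ) - 9) := by
    rcases hLcases with rfl | h7
    · norm_num
    · have : (7 : ℤ) ≤ L := by exact_mod_cast h7
      exact mul_nonneg (by linarith) (by linarith)
  have := mul_nonneg (sq_nonneg (A : ℤ)) hpos
  linarith

end Cfsg.Agent.GWDihedral
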