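import Cfsg.Agent.Lib.GWDihedral.CaseAFixed
import Cfsg.Agent.Lib.GWDihedral.Corner
import Cfsg.Agent.Lib.SylowLift.Solvable
import Cfsg.Agent.Lib.DegThreeP.Four

/-!
# Gorenstein-Walter, dihedral Sylow subgroups of order eight: the corner of (2.1A II), the group `U/O_{3'}(U)`

* `Fixed.quotient_facts` : abstract form, two involutory automorphisms of a group with trivial `O_{3'}`
* `exists_fixed_mul`, `card_fixed_mul` : fixed points in a coset, their number
* `card_fixed_four` : the formula of Brauer and Wielandt for a four-group with a rotation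
* `core3` : `O_{3'}(U)` inside `G`
* `Corner.core_facts` : `r` centralises `U/O`, `w` is central there and generates what `r σ` inverts
-/

set_option autoImplicit false
set_option linter.unusedSectionVars false
set_option linter.style.haveILetI false

namespace Cfsg.Agent.GWDihedral

open Subgroup
open scoped Pointwise

namespace Fixed

variable {A : Type*} [Group A] [Finite A]

/-- `ρ` fixes a Sylow 3-subgroup `B`; `φ` fixes `B0` and inverts `w`, central of order three in `B = B0 ⟨w⟩`. -/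
theorem quotient_facts (hO : Cfsg.pPrimeCore 3 A = ⊥) {ρ φ : A ≃* A} (hρ : InvolAut ρ) (hφ : InvolAut φ)
    {B B0 : Subgroup A} {w : A} (hBc : Nat.card B = 3 ^ (Nat.card A).factorization 3)
    (hw : orderOf w = 3) (hwc : ∀ x ∈ B, Commute w x) (hB0 : B0 ≤ B)
    (hgen : B ≤ B0 ⊔ zpowers w) (hρB : ∀ x ∈ B, ρ x = x) (hfix : ∀ x ∈ B0, φ x = x) (hwi : φ w = w⁻¹)
    (hSyl : ∀ e, Inv φ e → (∃ k, e ^ 3 ^ k = 1) → ∃ c, φ c = c ∧ c * e * c⁻¹ ∈ B) :
    (∀ a, ρ a = a) ∧ (∀ a, Commute w a) ∧ ∀ a, a⁻¹ * φ a ∈ zpowers w := by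
  haveI := Fact.mk Nat.prime_three
  haveI : Group.IsSolvable A := S0205.result hφ.odd
  have hw1 : w ≠ 1 := fun e => by rw [e, orderOf_one] at hw; omega
  have hw3 : w ^ 3 = 1 := hw ▸ pow_orderOf_eq_one w
  set F := Cfsg.pCore 3 A with hF
  haveI hFn : F.Normal := Cores.pCore_normal 3 A
  have hFC := SylowLift.centralizer_pCore_le_of_solvable hO
  have hFB : F ≤ B := Cores.pCore_le_sylow (Sylow.ofCard B hBc)
  have hFρ : ∀ a : A, ρ a = a := by
    intro a
    have hcF : a⁻¹ * ρ a ∈ F := hFC (mem_centralizer_iff.2 fun x hx => by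
      have h1 := hρB _ (hFB (hFn.conj_mem x hx a))
      rw [map_mul, map_mul, map_inv, hρB x (hFB hx)] at h1
      calc x * (a⁻¹ * ρ a) = a⁻¹ * (a * x * a⁻¹) * ρ a := by group
        _ = a⁻¹ * (ρ a * x * (ρ a)⁻¹) * ρ a := by rw [h1]
        _ = a⁻¹ * ρ a * x := by group)
    have h1 : ρ (a⁻¹ * ρ a) = (a⁻¹ * ρ a)⁻¹ := inv_diff hρ.sq a
    rw [hρB _ (hFB hcF)] at h1
    exact (inv_mul_eq_one.1 (hρ.eq_one_of_inverted_eq h1)).symm
  -- the inverted elements of `B`
  have hsmallB : ∀ x ∈ B, Inv φ x → x ∈ zpowers w := by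
    intro x hx hxi
    have hn : zpowers w ≤ normalizer (B0 : Set A) := zpowers_le.2
      (Coprime.mem_normalizer_of_forall fun y hy => by
        rw [(hwc y (hB0 hy)).eq, mul_inv_cancel_right]; exact hy)
    obtain ⟨b, hb, u, hu, rfl⟩ := (Coprime.mem_sup_iff hn).1 (hgen hx)
    have hbu : Commute u b := by
      obtain ⟨k, rfl⟩ := mem_zpowers_iff.1 hu
      exact (hwc b (hB0 hb)).zpow_left k
    have hui : φ u = u⁻¹ := inv_of_mem_zpowers hwi hu
    rw [Inv, map_mul, hfix b hb, hui, mul_inv_rev, hbu.inv_inv.eq] at hxi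
    rw [hφ.eq_one_of_inverted_eq (mul_right_cancel hxi), one_mul]
    exact hu
  have hwF : w ∈ F := hFC (mem_centralizer_iff.2 fun x hx => ((hwc x (hFB hx)).eq).symm)
  have hFi : ∀ x ∈ F, φ x ∈ F := fun x hx => by
    have := mem_map_of_mem φ.toMonoidHom hx
    rwa [Cores.pCore_map_mulEquiv φ 3] at this
  have hdiff : ∀ x ∈ F, x⁻¹ * φ x ∈ zpowers w := fun x hx =>
    hsmallB _ (hFB (mul_mem (inv_mem hx) (hFi x hx))) (inv_diff hφ.sq x)
  -- the elements of order three of the centre of `F`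
  let X : Subgroup A :=
    { carrier := {x | x ∈ F ∧ (∀ y ∈ F, Commute x y) ∧ x ^ 3 = 1}
      one_mem' := ⟨one_mem _, fun y _ => Commute.one_left y, one_pow _⟩
      mul_mem' := fun {a b} ha hb => ⟨mul_mem ha.1 hb.1, fun y hy => (ha.2.1 y hy).mul_left (hb.2.1 y hy),
        by rw [(ha.2.1 b hb.1).mul_pow, ha.2.2, hb.2.2, one_mul]⟩
      inv_mem' := fun {a} ha => ⟨inv_mem ha.1, fun y hy => (ha.2.1 y hy).inv_left,
        by rw [inv_pow, ha.2.2, inv_one]⟩ }
  have hXmem : ∀ x, x ∈ X ↔ x ∈ F ∧ (∀ y ∈ F, Commute x y) ∧ x ^ 3 = 1 := fun x => Iff.rfl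
  haveI hXn : X.Normal := ⟨fun x hx g => by
    obtain ⟨h1, h2, h3⟩ := (hXmem x).1 hx
    refine (hXmem _).2 ⟨hFn.conj_mem x h1 g, fun y hy => ?_, by rw [conj_pow, h3, mul_one, mul_inv_cancel]⟩
    have hy' : g⁻¹ * y * g ∈ F := by simpa using hFn.conj_mem y hy g⁻¹
    have := (h2 _ hy').map (MulAut.conj g).toMonoidHom
    simpa [mul_assoc] using this⟩
  have hXi : ∀ x ∈ X, φ x ∈ X := by
    intro x hx
    obtain ⟨h1, h2, h3⟩ := (hXmem x).1 hx
    refine (hXmem _).2 ⟨hFi x h1, fun y hy => ?_, by rw [← map_pow, h3, map_one]⟩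
    have := (h2 _ (hFi y hy)).map φ.toMonoidHom
    simpa [hφ.sq] using this
  have hwX : w ∈ X := (hXmem w).2 ⟨hwF, fun y hy => hwc y (hFB hy), hw3⟩
  have hs : Small φ (X : Set A) := by
    intro e he hei he1
    have hew := hsmallB e (hFB he.1) hei
    have heo : orderOf e = 3 := orderOf_eq_prime he.2.2 he1
    have hzz : zpowers e = zpowers w := eq_of_le_of_card_ge (zpowers_le.2 hew)
      (by rw [Nat.card_zpowers, Nat.card_zpowers, heo, hw])
    exact ⟨he.2.2, fun e' he' he'i => hzz ▸ hsmallB e' (hFB he'.1) he'i⟩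
  -- the inverted elements are 3-elements
  have h5 : ∀ (e : A) (q : ℕ), q.Prime → 5 ≤ q → Inv φ e → e ^ q = 1 → e = 1 := by
    intro e q hq hq5 hei heq
    haveI := Fact.mk hq
    have hew : Commute e w := hφ.commute_of_small hXi (fun a ha b hb => ha.2.1 b hb.1) hs hwX hwi hw1
      (fun x hx => hx.2.2) hei hq5 (i := 1) (by rw [pow_one]; exact heq) hwX
    have heF : e ∈ F := hFC (mem_centralizer_iff.2 fun x hx => by
      obtain ⟨i, hi⟩ := mem_zpowers_iff.1 (hdiff x hx)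
      have hy := hFn.conj_mem x hx e
      obtain ⟨j, hj⟩ := mem_zpowers_iff.1 (hdiff _ hy)
      have h1 : φ (e * x * e⁻¹) = e⁻¹ * (x * w ^ i) * e := by
        rw [map_mul, map_mul, map_inv, hei, inv_inv, hi, mul_inv_cancel_left]
      have h2 : φ (e * x * e⁻¹) = e * x * e⁻¹ * w ^ j := by rw [hj, mul_inv_cancel_left]
      have h3 : e ^ 2 * x * (e ^ 2)⁻¹ = x * (w ^ i * (w ^ j)⁻¹) := by
        have hc1 : e * (w ^ j)⁻¹ * e⁻¹ = (w ^ j)⁻¹ := by
          rw [(hew.zpow_right j).inv_right.eq, mul_inv_cancel_right]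
        calc e ^ 2 * x * (e ^ 2)⁻¹ = e * (e * x * e⁻¹ * w ^ j) * (w ^ j)⁻¹ * e⁻¹ := by rw [pow_two]; group
          _ = e * (e⁻¹ * (x * w ^ i) * e) * (w ^ j)⁻¹ * e⁻¹ := by rw [← h2, h1]
          _ = x * w ^ i * (e * (w ^ j)⁻¹ * e⁻¹) := by group
          _ = x * (w ^ i * (w ^ j)⁻¹) := by rw [hc1, mul_assoc]
      set a := w ^ i * (w ^ j)⁻¹
      have hea : Commute (e ^ 2) a :=
        ((hew.zpow_right i).mul_right (hew.zpow_right j).inv_right).pow_left 2
      have hiter : ∀ m : ℕ, (e ^ 2) ^ m * x * ((e ^ 2) ^ m)⁻¹ = x * a ^ m := by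
        intro m
        induction m with
        | zero => simp
        | succ m ih =>
          rw [pow_succ' (e ^ 2) m, show e ^ 2 * (e ^ 2) ^ m * x * (e ^ 2 * (e ^ 2) ^ m)⁻¹ =
              e ^ 2 * ((e ^ 2) ^ m * x * ((e ^ 2) ^ m)⁻¹) * (e ^ 2)⁻¹ by group, ih,
            show e ^ 2 * (x * a ^ m) * (e ^ 2)⁻¹ = e ^ 2 * x * (e ^ 2)⁻¹ * (e ^ 2 * a ^ m * (e ^ 2)⁻¹) by group,
            h3, (hea.pow_right m).eq, mul_inv_cancel_right, mul_assoc, ← pow_succ']
      have h4 := hiter q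
      rw [← pow_mul, mul_comm 2 q, pow_mul, heq, one_pow, one_mul, inv_one, mul_one, left_eq_mul] at h4
      have ha3 : a ^ 3 = 1 := by
        rw [((Commute.refl w).zpow_zpow i j).inv_right.mul_pow, inv_pow, ← zpow_natCast, ← zpow_natCast,
          ← zpow_mul, ← zpow_mul, mul_comm i, mul_comm j, zpow_mul, zpow_mul, zpow_natCast, hw3, one_zpow,
          one_zpow, inv_one, mul_one]
      have ha1 : a = 1 := orderOf_eq_one_iff.1 (Nat.eq_one_of_dvd_coprimes
        ((Nat.coprime_primes hq Nat.prime_three).2 (by omega)) (orderOf_dvd_of_pow_eq_one h4)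
        (orderOf_dvd_of_pow_eq_one ha3))
      rw [ha1, mul_one, mul_inv_eq_iff_eq_mul] at h3
      exact (hφ.commute_of_sq (u := x) (by rw [← pow_two]; exact h3)).eq.symm)
    obtain ⟨k, hk⟩ := Cores.isPGroup_pCore 3 A ⟨e, heF⟩
    exact orderOf_eq_one_iff.1 (Nat.eq_one_of_dvd_coprimes
      (((Nat.coprime_primes hq Nat.prime_three).2 (by omega)).pow_right k)
      (orderOf_dvd_of_pow_eq_one heq) (orderOf_dvd_of_pow_eq_one (congrArg Subtype.val hk)))
  have hinv3 : ∀ e, Inv φ e → ∃ k, e ^ 3 ^ k = 1 := by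
    intro e he
    obtain ⟨k, m, hm, hkm⟩ := Nat.exists_eq_pow_mul_and_not_dvd (orderOf_pos e).ne' 3 (by norm_num)
    refine ⟨k, ?_⟩
    suffices hm1 : m = 1 by
      have := pow_orderOf_eq_one e
      rwa [hkm, hm1, mul_one] at this
    by_contra hm1
    obtain ⟨q, hq, hqm⟩ := Nat.exists_prime_and_dvd hm1
    have hqe : q ∣ orderOf e := hqm.trans ⟨3 ^ k, by rw [hkm, mul_comm]⟩
    have hq3 : q ≠ 3 := fun e' => hm (e' ▸ hqm)
    have hq2 : q ≠ 2 := by
      rintro rfl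
      exact Nat.not_even_iff_odd.2 (hφ.odd.of_dvd_nat (orderOf_dvd_natCard e)) (even_iff_two_dvd.2 hqe)
    have hq5 : 5 ≤ q := by
      have := hq.two_le
      rcases (show q = 4 ∨ 5 ≤ q by omega) with rfl | h
      · exact absurd hq (by norm_num)
      · exact h
    have h1 := h5 (e ^ (orderOf e / q)) q hq hq5 (inv_of_mem_zpowers he (pow_mem (mem_zpowers e) _))
      (by rw [← pow_mul, Nat.div_mul_cancel hqe, pow_orderOf_eq_one])
    have h2 := orderOf_dvd_of_pow_eq_one h1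
    have h3 : 0 < orderOf e / q := Nat.div_pos (Nat.le_of_dvd (orderOf_pos e) hqe) hq.pos
    have h4 := Nat.le_of_dvd h3 h2
    exact absurd h4 (not_le.2 (Nat.div_lt_self (orderOf_pos e) hq.one_lt))
  -- fixed elements centralise `w`
  have hfixw : ∀ c, φ c = c → Commute c w := by
    intro c hc
    have h1 : c * w * c⁻¹ ∈ zpowers w := hsmallB _ (hFB (hFn.conj_mem w hwF c)) (by
      rw [Inv, map_mul, map_mul, map_inv, hc, hwi, conj_inv])
    obtain ⟨k, hk⟩ := mem_zpowers_iff.1 h1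
    refine hφ.commute_of_sq ?_
    have h2 : c * c * w * (c * c)⁻¹ = w ^ (k * k) := by
      rw [show c * c * w * (c * c)⁻¹ = c * (c * w * c⁻¹) * c⁻¹ by group, ← hk, ← conj_zpow, ← hk, ← zpow_mul]
    have h3 : w ^ (k * k) = w := by
      have hk3 : ¬ (3 : ℤ) ∣ k := by
        rintro ⟨l, rfl⟩
        rw [zpow_mul, zpow_ofNat, hw3, one_zpow, eq_comm, conj_eq_one_iff] at hk
        exact hw1 hk
      have h4 : w ^ (k * k) = w ^ (1 : ℤ) := zpow_eq_zpow_iff_modEq.2 (by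
        rw [hw]
        show k * k % 3 = 1 % 3
        have : k % 3 = 1 ∨ k % 3 = 2 := by omega
        rcases this with h | h <;> rw [Int.mul_emod, h] <;> rfl)
      rwa [zpow_one] at h4
    rw [h3] at h2
    exact mul_inv_eq_iff_eq_mul.1 h2
  have hInv : ∀ e, Inv φ e → e ∈ zpowers w := by
    intro e he
    obtain ⟨c, hc, hcB⟩ := hSyl e he (hinv3 e he)
    have h1 := hsmallB _ hcB (by rw [Inv, map_mul, map_mul, map_inv, hc, he, conj_inv])
    obtain ⟨k, hk⟩ := mem_zpowers_iff.1 h1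
    refine mem_zpowers_iff.2 ⟨k, ?_⟩
    calc w ^ k = c⁻¹ * w ^ k * c := by
          rw [((hfixw c hc).zpow_right k).inv_left.eq, inv_mul_cancel_right]
      _ = e := by rw [hk]; group
  refine ⟨hFρ, fun a => ?_, fun a => hInv _ (inv_diff hφ.sq a)⟩
  obtain ⟨c, e, hc, he, -, rfl⟩ := hφ.exists_decomp a
  obtain ⟨k, hk⟩ := mem_zpowers_iff.1 (hInv e he)
  exact (hfixw c hc).symm.mul_right (hk ▸ Commute.self_zpow w k)

end Fixed

universe u

variable {G : Type u} [Group G]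

/-- An involution centralising `M` modulo an odd `N` fixes an element of each coset. -/
theorem exists_fixed_mul {v : G} (hv : v * v = 1) {M N : Subgroup G} (hNM : N ≤ M) (hodd : Odd (Nat.card N))
    (h : ∀ m ∈ M, m⁻¹ * (v * m * v⁻¹) ∈ N) {m : G} (hm : m ∈ M) :
    ∃ f ∈ M ⊓ centralizer ({v} : Set G), ∃ x ∈ N, m = f * x := by
  set c := m⁻¹ * (v * m * v⁻¹) with hc
  obtain ⟨k, hk⟩ : Odd (orderOf c) := hodd.of_dvd_nat (Subgroup.orderOf_dvd_natCard N (h m hm))
  have hvi : v⁻¹ = v := inv_eq_of_mul_eq_one_right hv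
  have hci : v * c * v⁻¹ = c⁻¹ := by
    rw [hc, hvi, show v * (m⁻¹ * (v * m * v)) * v = v * m⁻¹ * v * m * (v * v) by group, hv, mul_one]
    conv_rhs => rw [mul_inv_rev, inv_inv, mul_inv_rev, mul_inv_rev, hvi]
    group
  set d := c ^ (k + 1) with hd
  have hdd : d * d = c := by
    rw [hd, ← pow_add, show k + 1 + (k + 1) = orderOf c + 1 by omega, pow_succ, pow_orderOf_eq_one, one_mul]
  have hdi : v * d * v⁻¹ = d⁻¹ := Involution.inverts_pow hci _
  have hdN : d ∈ N := pow_mem (h m hm) _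
  refine ⟨m * d, ⟨mul_mem hm (hNM hdN), mem_centralizer_singleton_iff.2 ?_⟩, d⁻¹, inv_mem hdN, by group⟩
  refine (mul_inv_eq_iff_eq_mul.1 ?_).symm
  calc v * (m * d) * v⁻¹ = m * (m⁻¹ * (v * m * v⁻¹)) * (v * d * v⁻¹) := by group
    _ = m * d := by rw [← hc, hdi, ← hdd]; group

/-- Their number. -/
theorem card_fixed_mul [Finite G] {v : G} (hv : v * v = 1) {M N : Subgroup G} (hNM : N ≤ M)
    (hodd : Odd (Nat.card N)) (h : ∀ m ∈ M, m⁻¹ * (v * m * v⁻¹) ∈ N) :
    Nat.card (M ⊓ centralizer ({v} : Set G) : Subgroup G) * Nat.card N =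
      Nat.card M * Nat.card (N ⊓ centralizer ({v} : Set G) : Subgroup G) := by
  have hset : ((M ⊓ centralizer ({v} : Set G) : Subgroup G) : Set G) * (N : Set G) = (M : Set G) := by
    ext m
    constructor
    · rintro ⟨f, hf, x, hx, rfl⟩; exact mul_mem hf.1 (hNM hx)
    · intro hm
      obtain ⟨f, hf, x, hx, rfl⟩ := exists_fixed_mul hv hNM hodd h hm
      exact ⟨f, hf, x, hx, rfl⟩
  rw [← Coprime.card_mul_inf, hset,
    show (M ⊓ centralizer ({v} : Set G)) ⊓ N = N ⊓ centralizer ({v} : Set G) by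
      rw [inf_right_comm, inf_eq_right.2 hNM]]
  rfl

/-- The formula of Brauer and Wielandt, for a four-group with a rotation. -/
theorem card_fixed_four [Finite G] {t r s : G} (ht : t * t = 1) (hr : r * r = 1) (hc : Commute t r)
    {K : Subgroup G} (hK : Odd (Nat.card K)) (htK : t ∈ normalizer (K : Set G))
    (hrK : r ∈ normalizer (K : Set G)) (hsK : s ∈ normalizer (K : Set G)) (hst : s * t * s⁻¹ = r)
    (hsr : s * r * s⁻¹ = t * r) :
    Nat.card K * Nat.card (K ⊓ centralizer ({t} : Set G) ⊓ centralizer ({r} : Set G) : Subgroup G) ^ 2 =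
      Nat.card (K ⊓ centralizer ({t} : Set G) : Subgroup G) ^ 3 := by
  have hfix : ∀ (v : normalizer (K : Set G)) (x : K), K.normalizerMonoidHom v x = x ↔
      (x : G) ∈ centralizer ({(v : G)} : Set G) := by
    intro v x
    rw [mem_centralizer_singleton_iff]
    constructor
    · intro e
      exact (mul_inv_eq_iff_eq_mul.1 (congrArg Subtype.val e : (v : G) * x * (v : G)⁻¹ = x)).symm
    · intro e
      exact Subtype.ext (mul_inv_eq_iff_eq_mul.2 e.symm)
  set t' : normalizer (K : Set G) := ⟨t, htK⟩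
  set r' : normalizer (K : Set G) := ⟨r, hrK⟩
  have hmap : ∀ (v : normalizer (K : Set G)), Nat.card (DegThreeP.fixAut (K.normalizerMonoidHom v)) =
      Nat.card (K ⊓ centralizer ({(v : G)} : Set G) : Subgroup G) := fun v => by
    rw [← card_map_of_injective (K := DegThreeP.fixAut (K.normalizerMonoidHom v)) K.subtype_injective]
    refine congrArg (fun S : Subgroup G => Nat.card S) ?_
    ext x
    constructor
    · rintro ⟨y, hy, rfl⟩
      exact ⟨y.2, (hfix v y).1 hy⟩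
    · rintro ⟨hx, hc⟩
      exact ⟨⟨x, hx⟩, (hfix v ⟨x, hx⟩).2 hc, rfl⟩
  have hboth : Nat.card (DegThreeP.fixAut (K.normalizerMonoidHom t') ⊓
      DegThreeP.fixAut (K.normalizerMonoidHom r') : Subgroup K) =
      Nat.card (K ⊓ centralizer ({t} : Set G) ⊓ centralizer ({r} : Set G) : Subgroup G) := by
    rw [← card_map_of_injective (K := DegThreeP.fixAut (K.normalizerMonoidHom t') ⊓
      DegThreeP.fixAut (K.normalizerMonoidHom r')) K.subtype_injective]
    refine congrArg (fun S : Subgroup G => Nat.card S) ?_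
    ext x
    constructor
    · rintro ⟨y, hy, rfl⟩
      exact ⟨⟨y.2, (hfix t' y).1 hy.1⟩, (hfix r' y).1 hy.2⟩
    · rintro ⟨⟨hx, hc⟩, hd⟩
      exact ⟨⟨x, hx⟩, ⟨(hfix t' ⟨x, hx⟩).2 hc, (hfix r' ⟨x, hx⟩).2 hd⟩, rfl⟩
  have hw := DegThreeP.wielandt_four hK (K.normalizerMonoidHom t') (K.normalizerMonoidHom r')
    (by rw [← map_mul, show t' * t' = 1 from Subtype.ext ht, map_one])
    (by rw [← map_mul, show r' * r' = 1 from Subtype.ext hr, map_one])
    ((show Commute t' r' from Subtype.ext hc.eq).map _)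
  rw [hboth, ← map_mul, hmap, hmap, hmap] at hw
  -- the three fixed subgroups are conjugate
  have hcard : ∀ x y : G, s * x * s⁻¹ = y →
      Nat.card (K ⊓ centralizer ({y} : Set G) : Subgroup G) =
        Nat.card (K ⊓ centralizer ({x} : Set G) : Subgroup G) := by
    intro x y e
    refine (Nat.card_congr ((MulAut.conj s).toEquiv.subtypeEquiv fun g => ?_)).symm
    show g ∈ K ⊓ centralizer ({x} : Set G) ↔ s * g * s⁻¹ ∈ K ⊓ centralizer ({y} : Set G)
    rw [mem_inf, mem_inf, mem_centralizer_singleton_iff, mem_centralizer_singleton_iff,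
      ← mem_normalizer_iff.1 hsK g, ← e]
    refine and_congr_right fun _ => ⟨fun h1 => ?_, fun h1 => ?_⟩
    · calc s * g * s⁻¹ * (s * x * s⁻¹) = s * (g * x) * s⁻¹ := by group
        _ = s * (x * g) * s⁻¹ := by rw [h1]
        _ = s * x * s⁻¹ * (s * g * s⁻¹) := by group
    · calc g * x = s⁻¹ * (s * g * s⁻¹ * (s * x * s⁻¹)) * s := by group
        _ = s⁻¹ * (s * x * s⁻¹ * (s * g * s⁻¹)) * s := by rw [h1]
        _ = x * g := by group
  simp only [t', r', Subgroup.coe_mul] at hw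
  rw [hw, hcard r (t * r) hsr, hcard t r hst]
  ring

open Cfsg.Agent.GWKlein (coreU coreW fourV oddPart)

variable {t r σ w : G} {W : Subgroup G}

/-- `O_{3'}(U)` inside `G`. -/
def core3 (t : G) : Subgroup G := (Cfsg.pPrimeCore 3 (coreU t)).map (coreU t).subtype

theorem core3_le (t : G) : core3 t ≤ coreU t := map_subtype_le _

theorem normalizer_le_normalizer_core3 (t : G) :
    normalizer (coreU t : Set G) ≤ normalizer (core3 t : Set G) :=
  Cores.normalizer_le_normalizer_map (Cfsg.pPrimeCore 3 (coreU t))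

theorem coreU_le_normalizer_core3 (t : G) : coreU t ≤ normalizer (core3 t : Set G) :=
  le_normalizer.trans (normalizer_le_normalizer_core3 t)

variable [Finite G]

theorem coprime_card_core3 (t : G) : (Nat.card (core3 t)).Coprime 3 := by
  rw [core3, Cores.card_map_subtype]
  exact Cores.coprime_card_pPrimeCore 3

theorem le_core3 {N : Subgroup G} (hN : N ≤ coreU t) (hn : coreU t ≤ normalizer (N : Set G))
    (hc : (Nat.card N).Coprime 3) : N ≤ core3 t := fun x hx =>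
  ⟨⟨x, hN hx⟩, Cores.le_pPrimeCore (Cores.subgroupOf_normal_of_le_normalizer hn)
    (by rwa [Cores.card_subgroupOf hN]) (mem_subgroupOf.2 hx), rfl⟩

theorem mem_core3_iff {x : coreU t} : (x : G) ∈ core3 t ↔
    QuotientGroup.mk' (Cfsg.pPrimeCore 3 (coreU t)) x = 1 := by
  rw [QuotientGroup.mk'_apply, QuotientGroup.eq_one_iff, core3]
  exact ⟨fun ⟨y, hy, e⟩ => Subtype.ext e ▸ hy, fun h => ⟨x, h, rfl⟩⟩

/-- In 2.1A II, `r` centralises `U/O`, `w` is central there and generates what `r σ` inverts. -/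
theorem Corner.core_facts (h : DHyp 3 t r σ) (hC : Corner t r σ W w)
    (hII : W ≤ (W ⊓ coreW t (r * σ)) ⊔ zpowers w) :
    (∀ u ∈ coreU t, u⁻¹ * (r * u * r⁻¹) ∈ core3 t) ∧ (∀ u ∈ coreU t, w⁻¹ * (u * w * u⁻¹) ∈ core3 t) ∧
      ∀ u ∈ coreU t, ∃ k : ℤ, u⁻¹ * (r * σ * u * (r * σ)⁻¹) * w ^ k ∈ core3 t := by
  haveI := Fact.mk Nat.prime_three
  set U := coreU t with hUdef
  set N := Cfsg.pPrimeCore 3 U with hN
  set π := QuotientGroup.mk' N with hπ
  have hrn : r ∈ normalizer (U : Set G) := h.sylow_le_normalizer_coreU h.sylow_mem_r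
  have hwn : r * σ ∈ normalizer (U : Set G) :=
    h.sylow_le_normalizer_coreU (mul_mem h.sylow_mem_r h.sylow_mem_σ)
  set ρ₀ : U ≃* U := U.normalizerMonoidHom ⟨r, hrn⟩ with hρ₀
  set φ₀ : U ≃* U := U.normalizerMonoidHom ⟨r * σ, hwn⟩ with hφ₀
  have hρv : ∀ x : U, ((ρ₀ x : U) : G) = r * x * r⁻¹ := fun x => rfl
  have hφv : ∀ x : U, ((φ₀ x : U) : G) = r * σ * x * (r * σ)⁻¹ := fun x => rfl
  have hsq : ∀ (v : G) (f : U ≃* U), v * v = 1 → (∀ x : U, ((f x : U) : G) = v * x * v⁻¹) →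
      ∀ x, f (f x) = x := fun v f hv hf x => Subtype.ext (by
    rw [hf, hf, show v * (v * (x : G) * v⁻¹) * v⁻¹ = v * v * x * (v * v)⁻¹ by group, hv, inv_one, mul_one,
      one_mul])
  have hρ : Fixed.InvolAut ρ₀ := ⟨hsq r ρ₀ h.mul_self_r hρv, h.odd_coreU⟩
  have hφ : Fixed.InvolAut φ₀ := ⟨hsq (r * σ) φ₀ h.mul_σ_sq hφv, h.odd_coreU⟩
  have hNρ : N.map ρ₀.toMonoidHom = N := characteristic_iff_map_eq.1 inferInstance ρ₀
  have hNφ : N.map φ₀.toMonoidHom = N := characteristic_iff_map_eq.1 inferInstance φ₀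
  set ρ := Fixed.quotAut ρ₀ N hNρ
  set φ := Fixed.quotAut φ₀ N hNφ
  have hρπ : ∀ x, ρ (π x) = π (ρ₀ x) := fun x => rfl
  have hφπ : ∀ x, φ (π x) = π (φ₀ x) := fun x => rfl
  have hWU : W ≤ U := hC.le.trans inf_le_left
  have hWcop : (Nat.card W).Coprime (Nat.card N) := by
    rw [hC.card]; exact (Cores.coprime_card_pPrimeCore 3).symm.pow_left _
  set B := (W.subgroupOf U).map π with hB
  set B0 := ((W ⊓ coreW t (r * σ)).subgroupOf U).map π with hB0
  set wb := π ⟨w, hWU hC.mem_w⟩ with hwb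
  have hmemB : ∀ x (hx : x ∈ W), π ⟨x, hWU hx⟩ ∈ B := fun x hx => ⟨_, mem_subgroupOf.2 hx, rfl⟩
  have hBex : ∀ b ∈ B, ∃ x, ∃ hx : x ∈ W, π ⟨x, hWU hx⟩ = b := fun b ⟨y, hy, e⟩ =>
    ⟨y, mem_subgroupOf.1 hy, e⟩
  have hBcard : Nat.card B = Nat.card W := by
    rw [← Cores.card_subgroupOf hWU, hB]
    refine (Nat.card_congr (Equiv.ofBijective
      (fun x : W.subgroupOf U => (⟨π x, x, x.2, rfl⟩ : B)) ⟨?_, ?_⟩)).symm
    · intro x y e
      have h1 : (x : U)⁻¹ * y ∈ N := QuotientGroup.eq.1 (congrArg Subtype.val e)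
      exact Subtype.ext (inv_mul_eq_one.1 (Coprime.eq_one_of_mem_of_mem
        (by rwa [Cores.card_subgroupOf hWU]) (mul_mem (inv_mem x.2) y.2) h1))
    · rintro ⟨_, x, hx, rfl⟩
      exact ⟨⟨x, hx⟩, rfl⟩
  have hw1 : w ≠ 1 := fun e => by
    have := hC.order_w
    rw [e, orderOf_one] at this
    omega
  have hwbo : orderOf wb = 3 := by
    refine orderOf_eq_prime ?_ fun e => ?_
    · rw [hwb, ← map_pow, show (⟨w, hWU hC.mem_w⟩ : U) ^ 3 = 1 from Subtype.ext (by
        show w ^ 3 = 1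
        rw [← hC.order_w, pow_orderOf_eq_one]), map_one]
    · have := Coprime.eq_one_of_mem_of_mem (A := W.subgroupOf U) (K := N)
        (by rwa [Cores.card_subgroupOf hWU]) (mem_subgroupOf.2 hC.mem_w) ((QuotientGroup.eq_one_iff _).1 e)
      exact hw1 (congrArg Subtype.val this)
  have hfacts := Fixed.quotient_facts (A := U ⧸ N) (Cores.pPrimeCore_quotient_self 3) (hρ.quotient hNρ)
    (hφ.quotient hNφ) (B := B) (B0 := B0) (w := wb) ?_ hwbo ?_
    (map_mono fun x hx => mem_subgroupOf.2 (mem_inf.1 (mem_subgroupOf.1 hx)).1) ?_ ?_ ?_ ?_ ?_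
  · obtain ⟨f1, f2, f3⟩ := hfacts
    refine ⟨fun u hu => ?_, fun u hu => ?_, fun u hu => ?_⟩
    · refine (mem_core3_iff (x := (⟨u, hu⟩ : U)⁻¹ * ρ₀ ⟨u, hu⟩)).2 ?_
      rw [map_mul, map_inv, ← hρπ, f1, inv_mul_cancel]
    · refine (mem_core3_iff (x := (⟨w, hWU hC.mem_w⟩ : U)⁻¹ * (⟨u, hu⟩ * ⟨w, hWU hC.mem_w⟩ * ⟨u, hu⟩⁻¹))).2 ?_
      rw [map_mul, map_inv, map_mul, map_mul, map_inv, ← (f2 (π ⟨u, hu⟩)).eq, mul_inv_cancel_right,
        inv_mul_cancel]
    · obtain ⟨k, hk⟩ := mem_zpowers_iff.1 (f3 (π ⟨u, hu⟩))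
      refine ⟨-k, (mem_core3_iff (x := (⟨u, hu⟩ : U)⁻¹ * φ₀ ⟨u, hu⟩ * ⟨w, hWU hC.mem_w⟩ ^ (-k))).2 ?_⟩
      rw [map_mul, map_mul, map_inv, map_zpow, ← hφπ, ← hk, ← zpow_add, add_neg_cancel, zpow_zero]
  · -- a Sylow subgroup of the quotient
    rw [hBcard, hC.card]
    have e := Subgroup.card_eq_card_quotient_mul_card_subgroup N
    rw [e, Nat.factorization_mul Nat.card_pos.ne' Nat.card_pos.ne', Finsupp.add_apply,
      Nat.factorization_eq_zero_of_not_dvd (Cores.not_dvd_card_pPrimeCore (p := 3)), add_zero]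
  · intro b hb
    obtain ⟨x, hx, rfl⟩ := hBex b hb
    exact (show Commute (⟨w, hWU hC.mem_w⟩ : U) ⟨x, hWU hx⟩ from
      Subtype.ext (mem_centralizer_singleton_iff.1 (hC.central hx)).symm).map π
  · intro b hb
    obtain ⟨x, hx, rfl⟩ := hBex b hb
    have hn : zpowers w ≤ normalizer ((W ⊓ coreW t (r * σ) : Subgroup G) : Set G) := zpowers_le.2
      (Coprime.mem_normalizer_of_forall fun y hy => by
        rw [← mem_centralizer_singleton_iff.1 (hC.central (mem_inf.1 hy).1), mul_inv_cancel_right]; exact hy)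
    obtain ⟨p, hp, z, hz, e⟩ := (Coprime.mem_sup_iff hn).1 (hII hx)
    obtain ⟨k, rfl⟩ := mem_zpowers_iff.1 hz
    have hp' : π ⟨p, hWU (mem_inf.1 hp).1⟩ ∈ B0 := ⟨_, mem_subgroupOf.2 hp, rfl⟩
    rw [show (⟨x, hWU hx⟩ : U) = ⟨p, hWU (mem_inf.1 hp).1⟩ * ⟨w, hWU hC.mem_w⟩ ^ k from
      Subtype.ext e.symm, map_mul, map_zpow]
    exact mul_mem (mem_sup_left hp') (mem_sup_right (zpow_mem (mem_zpowers _) k))
  · intro b hb
    obtain ⟨x, hx, rfl⟩ := hBex b hb
    rw [hρπ]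
    refine congrArg π (Subtype.ext ?_)
    rw [hρv]
    show r * x * r⁻¹ = x
    rw [← (h.mem_coreW.1 (hC.le hx)).2.1.eq, mul_inv_cancel_right]
  · rintro _ ⟨y, hy, rfl⟩
    rw [hφπ]
    refine congrArg π (Subtype.ext ?_)
    rw [hφv, ← (h.swap.mem_coreW.1 (mem_inf.1 (mem_subgroupOf.1 hy)).2).2.1.eq, mul_inv_cancel_right]
  · rw [hwb, hφπ, ← map_inv]
    exact congrArg π (Subtype.ext hC.inv_w)
  · -- an inverted 3-element lifts into a conjugate of `W` by a fixed element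
    intro e he hek
    obtain ⟨f, hf, rfl⟩ := (hφ.exists_lift hNφ e).2 he
    obtain ⟨k, hek⟩ := hek
    obtain ⟨j, m, hm, hjm⟩ := Nat.exists_eq_pow_mul_and_not_dvd (orderOf_pos f).ne' 3 (by norm_num)
    obtain ⟨i, hi⟩ : ∃ i : ℕ, 1 ≡ m * i [MOD 3 ^ k] := by
      obtain ⟨i, -, hi⟩ := Nat.exists_mul_mod_eq_one_of_coprime
        ((Nat.Prime.coprime_iff_not_dvd Nat.prime_three).2 hm |>.pow_left (k + 1)).symm
        (Nat.one_lt_pow (Nat.succ_ne_zero k) (by norm_num))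
      refine ⟨i, (Nat.ModEq.of_dvd (pow_dvd_pow 3 (Nat.le_succ k)) ?_)⟩
      show 1 % 3 ^ (k + 1) = m * i % 3 ^ (k + 1)
      rw [hi, Nat.one_mod_eq_one.2 (Nat.one_lt_pow (Nat.succ_ne_zero k) (by norm_num)).ne']
    set g : U := f ^ (m * i) with hg
    have hgπ : π g = π f := by
      rw [hg, map_pow]
      conv_rhs => rw [← pow_one (π f)]
      exact (pow_eq_pow_iff_modEq.2 (Nat.ModEq.of_dvd (orderOf_dvd_of_pow_eq_one hek) hi)).symm
    have hgi : φ₀ g = g⁻¹ := Fixed.inv_of_mem_zpowers hf (pow_mem (mem_zpowers f) _)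
    have hgo : (g : G) ^ 3 ^ j = 1 := by
      rw [← Subgroup.coe_pow, hg, ← pow_mul, show m * i * 3 ^ j = 3 ^ j * m * i by ring, pow_mul, ← hjm,
        pow_orderOf_eq_one, one_pow, Subgroup.coe_one]
    have hgv : r * σ * (g : G) * (r * σ)⁻¹ = (g : G)⁻¹ := by rw [← hφv, hgi]; rfl
    set A := zpowers (r * σ) with hA
    have hAp : IsPGroup 2 A := IsPGroup.of_card (n := 1) (by rw [hA, Nat.card_zpowers, h.order_r_mul_σ, pow_one])
    have hAU : A ≤ normalizer (U : Set G) := zpowers_le.2 hwn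
    have hAW : A ≤ normalizer (W : Set G) := zpowers_le.2 (hC.inv (mul_mem h.sylow_mem_r h.sylow_mem_σ))
    have hgA : A ≤ normalizer (zpowers (g : G) : Set G) := zpowers_le.2
      (Coprime.mem_normalizer_of_forall fun y hy => by
        obtain ⟨l, rfl⟩ := mem_zpowers_iff.1 hy
        rw [← conj_zpow, hgv]
        exact zpow_mem (inv_mem (mem_zpowers _)) l)
    obtain ⟨l, -, hl⟩ := (Nat.dvd_prime_pow Nat.prime_three).1 (orderOf_dvd_of_pow_eq_one hgo)
    obtain ⟨Y, hgY, hYU, hYA, -, hYc⟩ := h.exists_invariant_sylow hAp h.odd_coreU hAU (zpowers_le.2 g.2)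
      (IsPGroup.of_card (n := l) (by rw [Nat.card_zpowers, hl])) hgA
    obtain ⟨c, hc, hcY⟩ := Coprime.exists_mem_centralizer_conj_of_card hAU (h.coprime_card hAp h.odd_coreU)
      (Or.inl (Coprime.isSolvable_of_isPGroup hAp)) hWU hYU hAW hYA hC.card hYc
    have hcm : c * (g : G) * c⁻¹ ∈ W := hcY ▸ Coprime.conj_mem_conj.2 (hgY (mem_zpowers _))
    refine ⟨π ⟨c, hc.1⟩, ?_, ?_⟩
    · rw [hφπ]
      refine congrArg π (Subtype.ext ?_)
      rw [hφv]
      show r * σ * c * (r * σ)⁻¹ = c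
      rw [mem_centralizer_iff.1 hc.2 _ (mem_zpowers _), mul_inv_cancel_right]
    · have h1 := hmemB _ hcm
      rw [show (⟨c * (g : G) * c⁻¹, hWU hcm⟩ : U) = ⟨c, hc.1⟩ * g * ⟨c, hc.1⟩⁻¹ from rfl, map_mul, map_mul,
        map_inv, hgπ] at h1
      exact h1

end Cfsg.Agent.GWDihedral
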