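import Cfsg.Agent.Lib.GWDihedral.CornerBase

/-!
# Gorenstein-Walter, dihedral Sylow subgroups of order eight: part I of the corner of (2.1), rotations

* `Corner.exists_rot_pair` : a rotation centralises `⟨c, w⟩`
* `Corner.exists_step` : a rotation centralising an invariant `W₀` gives an inverted one, normalised modulo
  `⟨c, w⟩` by `N_W(W₀)`
-/

set_option autoImplicit false
set_option linter.unusedSectionVars false
set_option linter.style.haveILetI false

namespace Cfsg.Agent.GWDihedral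

open Subgroup
open Cfsg.Agent.GWKlein (coreU coreW fourV oddPart)

universe u

variable {G : Type u} [Group G] [Finite G] {t r σ w c x : G} {W : Subgroup G}

theorem commute_fourV_of_mem_coreW (h : DHyp 3 t r σ) {v g : G} (hv : v ∈ fourV t r) (hg : g ∈ coreW t r) :
    Commute v g := mem_centralizer_iff.1 (h.coreW_le_centralizer hg) v hv

/-- Conjugation by the normaliser of the four-group preserves `W₁`. -/
theorem conj_mem_coreW (h : DHyp 3 t r σ) {g y : G} (hg : g ∈ normalizer (fourV t r : Set G))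
    (hy : y ∈ coreW t r) : g * y * g⁻¹ ∈ coreW t r := by
  refine h.mem_coreW_of_odd (mem_centralizer_iff.2 fun v hv => ?_) ?_
  · have hv' : g⁻¹ * v * g ∈ fourV t r := by
      simpa using (mem_normalizer_iff.1 (inv_mem hg) v).1 hv
    have e := (commute_fourV_of_mem_coreW h hv' hy).map (MulAut.conj g).toMonoidHom
    simp only [MulEquiv.coe_toMonoidHom, MulAut.conj_apply] at e
    rw [show g * (g⁻¹ * v * g) * g⁻¹ = v by group] at e
    exact e.eq
  · have : orderOf (g * y * g⁻¹) = orderOf y :=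
      orderOf_injective (MulAut.conj g).toMonoidHom (MulAut.conj g).injective y
    rw [this]
    exact (h.mem_coreW.1 hy).2.2

namespace Corner

variable (h : DHyp 3 t r σ) (hC : Corner t r σ W w)
include h hC

theorem commute_cw (hcP : c ∈ cornerP t r σ W) : Commute c w := commute_central h hC hcP.1

theorem pair_le (hcP : c ∈ cornerP t r σ W) : closure ({c, w} : Set G) ≤ W := (closure_le _).2 (by
  rintro y (rfl | rfl)
  · exact hcP.1
  · exact hC.mem_w)

theorem exists_pair_form (hcP : c ∈ cornerP t r σ W) {y : G} (hy : y ∈ closure ({c, w} : Set G)) :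
    ∃ a b : ℕ, y = c ^ a * w ^ b := by
  induction hy using closure_induction with
  | mem y hy =>
    rcases hy with rfl | rfl
    · exact ⟨1, 0, by simp⟩
    · exact ⟨0, 1, by simp⟩
  | one => exact ⟨0, 0, by simp⟩
  | mul y z _ _ hy hz =>
    obtain ⟨a, b, rfl⟩ := hy
    obtain ⟨a', b', rfl⟩ := hz
    exact ⟨a + a', b + b', by
      rw [((commute_cw h hC hcP).pow_pow a' b).symm.mul_mul_mul_comm, ← pow_add, ← pow_add]⟩
  | inv y _ hy =>
    obtain ⟨a, b, rfl⟩ := hy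
    obtain ⟨k, hk⟩ := three_pow h hC (mul_mem (pow_mem hcP.1 a) (pow_mem hC.mem_w b))
    exact ⟨a * (3 ^ k - 1), b * (3 ^ k - 1), by
      rw [pow_mul, pow_mul, ← ((commute_cw h hC hcP).pow_pow a b).mul_pow, inv_eq_of_mul_eq_one_right]
      rw [← pow_succ', show 3 ^ k - 1 + 1 = 3 ^ k from Nat.sub_add_cancel (Nat.one_le_pow _ _ (by norm_num)), hk]⟩

/-- A rotation of `C(c)` normalising `⟨c, w⟩` centralises it. -/
theorem exists_rot_pair (hS : SideRot t r σ) (hS' : SideRot t (r * σ) σ⁻¹) (hcP : c ∈ cornerP t r σ W)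
    (hc3 : orderOf c = 3) (hPc : cornerP t r σ W = zpowers c) (hxW : x ∈ W) (hxc : x * c * x⁻¹ = c * w) :
    ∃ s, Rot t r s ∧ s ∈ centralizer (closure ({c, w} : Set G) : Set G) := by
  haveI := Fact.mk Nat.prime_three
  set M := closure ({c, w} : Set G) with hM
  set C := centralizer ({c} : Set G)
  set V := fourV t r
  set K := coreW t r ⊓ C
  obtain ⟨hMg, hMc, -⟩ := mem_fixed_pair h hC hS hS' hcP hc3 hPc
  obtain ⟨hV, -⟩ := centralizer_facts h hC hcP
  have hc1 : c ≠ 1 := fun e => by rw [e, orderOf_one] at hc3; omega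
  have hcw := commute_cw h hC hcP
  have hcM : c ∈ M := subset_closure (Set.mem_insert _ _)
  have hwM : w ∈ M := subset_closure (Set.mem_insert_of_mem _ rfl)
  have hMK : M ≤ K := (closure_le _).2 (by
    rintro y (rfl | rfl)
    · exact ⟨hC.le hcP.1, mem_centralizer_singleton_iff.2 rfl⟩
    · exact ⟨hC.le hC.mem_w, mem_centralizer_singleton_iff.2 hcw.symm.eq⟩)
  have hK : Odd (Nat.card K) := h.odd_coreW.of_dvd_nat (card_dvd_of_le inf_le_left)
  set H := C ⊓ normalizer (V : Set G)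
  have hKH : K ≤ H := fun y hy => ⟨hy.2, Coprime.mem_normalizer_of_forall fun v hv => by
    rw [← (commute_fourV_of_mem_coreW h hv hy.1).eq, mul_inv_cancel_right]; exact hv⟩
  have hHK : H ≤ normalizer (K : Set G) := fun g hg => Coprime.mem_normalizer_of_forall fun y hy =>
    mem_inf.2 ⟨conj_mem_coreW h (mem_inf.1 hg).2 (mem_inf.1 hy).1,
      mul_mem (mul_mem (mem_inf.1 hg).1 (mem_inf.1 hy).2) (inv_mem (mem_inf.1 hg).1)⟩
  have hVH : V ≤ H := le_inf hV le_normalizer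
  have hF : Fused t r H := by
    obtain ⟨s, hsC, hs⟩ := (hC.exc c hcP hc1).fused
    exact ⟨s, ⟨hsC, hs.mem_normalizer h⟩, hs⟩
  have hMV : V ≤ normalizer (M : Set G) := fun v hv => Coprime.mem_normalizer_of_forall fun y hy => by
    rw [(commute_fourV_of_mem_coreW h hv (hMK hy).1).eq, mul_inv_cancel_right]; exact hy
  obtain ⟨X, s, hsH, hs, hsX, hMX, -, -, -, hXc⟩ := h.exists_invariant_rot hK hKH hHK hVH hF hMK hMg hMV
  have hXM : X = M := (eq_of_le_of_card_ge hMX (by rw [hXc, hMc])).symm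
  rw [hXM] at hsX
  obtain ⟨m, k, hm, hk⟩ := hs.exists_pow h
  set u := s ^ m
  have huc : Commute u c := mem_centralizer_singleton_iff.1 (pow_mem hsH.1 m)
  have huM : u ∈ normalizer (M : Set G) := pow_mem hsX m
  have hw3 : w ^ 3 = 1 := pow_w h hC
  have hc3' : c ^ 3 = 1 := hc3 ▸ pow_orderOf_eq_one c
  obtain ⟨a, b, e⟩ := exists_pair_form h hC hcP ((mem_normalizer_iff.1 huM w).1 hwM)
  have hw1 : w ≠ 1 := fun e => by have := hC.order_w; rw [e, orderOf_one] at this; omega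
  -- `u` fixes `w` modulo `⟨c⟩`
  have key : ∀ p : ℕ, u * (c ^ p) * u⁻¹ = c ^ p := fun p => by rw [(huc.pow_right p).eq, mul_inv_cancel_right]
  have hwnc : ∀ p : ℕ, w ≠ c ^ p := fun p e => hw1 <| by
    have h2 := hC.inv_w
    rw [e, ← conj_pow, fixed_commute h hC hcP, ← e] at h2
    exact orderOf_eq_one_iff.1 (Nat.eq_one_of_dvd_coprimes (by norm_num : Nat.Coprime 3 2) hC.order_w.dvd
      (orderOf_dvd_of_pow_eq_one (by rw [pow_two]; exact mul_eq_one_iff_eq_inv.2 h2)))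
  have e' : u * w * u⁻¹ = c ^ a * w := by
    rw [pow_eq_pow_mod b hw3] at e
    rcases (by omega : b % 3 = 0 ∨ b % 3 = 1 ∨ b % 3 = 2) with hb | hb | hb <;> rw [hb] at e
    · rw [pow_zero, mul_one, ← key a] at e
      exact absurd (conj_injective e) (hwnc a)
    · rw [e, pow_one]
    · have h2 : u * u * w * (u * u)⁻¹ = w := by
        calc u * u * w * (u * u)⁻¹ = u * (u * w * u⁻¹) * u⁻¹ := by group
          _ = u * c ^ a * u⁻¹ * (u * w * u⁻¹ * (u * w * u⁻¹)) := by nth_rw 1 [e]; rw [pow_two]; group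
          _ = c ^ a * (c ^ a * c ^ a * (w ^ 2 * w ^ 2)) := by
            rw [key, e, ((hcw.pow_pow a 2).symm).mul_mul_mul_comm]
          _ = (c ^ 3) ^ a * (w ^ 3 * w) := by
            rw [← pow_add, ← pow_add, ← mul_assoc, ← pow_add, ← pow_mul, ← pow_succ, show 3 * a = a + (a + a) by omega]
          _ = w := by rw [hc3', hw3, one_pow, one_mul, one_mul]
      have h3 := commute_of_sq_odd (odd_of_three_pow hk) (mul_inv_eq_iff_eq_mul.1 h2)
      rw [h3.eq, mul_inv_cancel_right] at e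
      have h4 : w = (c ^ a)⁻¹ := eq_inv_of_mul_eq_one_left (mul_left_cancel (a := w) (b := w * c ^ a) (c := 1) (by
        rw [mul_one, ← mul_assoc, (hcw.symm.pow_right a).mul_left (hcw.symm.pow_right a) |>.eq, ← pow_two]
        exact e.symm))
      exact absurd (by rw [h4, ← zpow_natCast, ← zpow_neg]; exact zpow_mem (mem_zpowers c) _ : w ∈ zpowers c)
        (fun hz => by
          rw [← mem_powers_iff_mem_zpowers] at hz
          obtain ⟨p, hp⟩ := hz
          exact hwnc p hp.symm)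
  -- no opposite transvections
  have hc3a : ∀ i : ℕ, (c ^ i) ^ 3 = 1 := fun i => by rw [← pow_mul, mul_comm, pow_mul, hc3', one_pow]
  have hE : Cfsg.IsElementaryAbelian 3 M := by
    refine ⟨⟨⟨fun y z => Subtype.ext ?_⟩⟩, fun y hy => ?_⟩
    · obtain ⟨a, b, e⟩ := exists_pair_form h hC hcP y.2
      obtain ⟨a', b', e'⟩ := exists_pair_form h hC hcP z.2
      show (y : G) * z = z * y
      rw [e, e']
      exact ((((Commute.refl c).pow_pow a a').mul_right (hcw.pow_pow a b')).mul_left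
        ((hcw.pow_pow a' b).symm.mul_right ((Commute.refl w).pow_pow b b'))).eq
    · obtain ⟨a, b, rfl⟩ := exists_pair_form h hC hcP hy
      rw [(hcw.pow_pow a b).mul_pow, hc3a, one_mul, ← pow_mul, mul_comm, pow_mul, hw3, one_pow]
  have hxM : x ∈ normalizer (M : Set G) := Coprime.mem_normalizer_of_forall fun y hy => by
    obtain ⟨a, b, rfl⟩ := exists_pair_form h hC hcP hy
    rw [← _root_.conj_mul, ← conj_pow, ← conj_pow, hxc, (commute_central h hC hxW).eq, mul_inv_cancel_right]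
    exact mul_mem (pow_mem (mul_mem hcM hwM) _) (pow_mem hwM _)
  have hxw : ∀ j : ℕ, x * w ^ j * x⁻¹ = w ^ j := fun j => by
    rw [((commute_central h hC hxW).pow_right j).eq, mul_inv_cancel_right]
  have hcommx : ∀ i j : ℕ, x * (c ^ i * w ^ j) * x⁻¹ = w ^ i * (c ^ i * w ^ j) := fun i j => by
    rw [← _root_.conj_mul, ← conj_pow, hxc, hxw, hcw.mul_pow, (hcw.pow_pow i i).eq, mul_assoc]
  have hcommu : ∀ i j : ℕ, u * (c ^ i * w ^ j) * u⁻¹ = c ^ (a * j) * (c ^ i * w ^ j) := fun i j => by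
    rw [← _root_.conj_mul, key, ← conj_pow, e', (hcw.pow_left a).mul_pow, ← pow_mul, ← mul_assoc,
      ← mul_assoc, ← pow_add, ← pow_add, add_comm]
  refine ⟨u, hm, ?_⟩
  by_cases ha : c ^ a = 1
  · rw [hM, centralizer_closure]
    refine mem_centralizer_iff.2 ?_
    rintro y (rfl | rfl)
    · exact huc.symm.eq
    · rw [ha, one_mul] at e'
      exact (mul_inv_eq_iff_eq_mul.1 e').symm
  exfalso
  obtain ⟨v, hv, hv1, hvx, hvu⟩ := not_opposite h (by norm_num : (3 : ℕ) ≠ 2) hE hxM huM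
    (fun v hv => by
      obtain ⟨i, j, rfl⟩ := exists_pair_form h hC hcP hv
      rw [hcommx, mul_inv_cancel_right]
      exact (commute_central h hC hxW).pow_right i)
    (fun v hv => by
      obtain ⟨i, j, rfl⟩ := exists_pair_form h hC hcP hv
      rw [hcommu, mul_inv_cancel_right]
      exact huc.pow_right _)
    (fun e => hc1 (mem_bot.1 (e ▸ hcM)))
  obtain ⟨i, j, rfl⟩ := exists_pair_form h hC hcP hv
  have hi : w ^ i = 1 := by
    have h2 := hcommx i j
    rw [hvx.eq, mul_inv_cancel_right] at h2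
    exact mul_eq_right.1 h2.symm
  have hj : c ^ (a * j) = 1 := by
    have h2 := hcommu i j
    rw [hvu.eq, mul_inv_cancel_right] at h2
    exact mul_eq_right.1 h2.symm
  have h3i : 3 ∣ i := hC.order_w ▸ orderOf_dvd_of_pow_eq_one hi
  have h3j : 3 ∣ j := by
    have h3 : 3 ∣ a * j := hc3 ▸ orderOf_dvd_of_pow_eq_one hj
    exact (Nat.prime_three.dvd_mul.1 h3).resolve_left fun h4 =>
      ha (orderOf_dvd_iff_pow_eq_one.1 (hc3.symm ▸ h4))
  exact hv1 (by
    rw [orderOf_dvd_iff_pow_eq_one.1 (hc3.symm ▸ h3i), orderOf_dvd_iff_pow_eq_one.1 (hC.order_w.symm ▸ h3j),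
      mul_one])

/-- From a rotation centralising an invariant `W₀`: one that is inverted, and normalised by `N_W(W₀)` modulo
`⟨c, w⟩`. -/
theorem exists_step (hS : SideRot t r σ) (hS' : SideRot t (r * σ) σ⁻¹) (hcP : c ∈ cornerP t r σ W)
    (hc3 : orderOf c = 3) (hPc : cornerP t r σ W = zpowers c) {W₀ : Subgroup G} (hle : W₀ ≤ W)
    (hMW : closure ({c, w} : Set G) ≤ W₀) (hτ0 : ∀ y ∈ W₀, r * σ * y * (r * σ)⁻¹ ∈ W₀) {s₀ : G}
    (hs₀ : Rot t r s₀) (hs₀c : s₀ ∈ centralizer (W₀ : Set G)) :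
    ∃ s, Rot t r s ∧ s ∈ centralizer (W₀ : Set G) ∧ r * σ * s * (r * σ)⁻¹ = s⁻¹ ∧ (∃ k, s ^ 3 ^ k = 1) ∧
      ∀ y ∈ W, y ∈ normalizer (W₀ : Set G) →
        y * s * y⁻¹ * s⁻¹ ∈ centralizer (W₀ : Set G) ∧ y * s * y⁻¹ * s⁻¹ ∈ closure ({c, w} : Set G) := by
  haveI := Fact.mk Nat.prime_three
  set V := fourV t r
  set M := closure ({c, w} : Set G)
  set W' := W ⊓ normalizer (W₀ : Set G)
  set H := normalizer (V : Set G) ⊓ centralizer (W₀ : Set G)
  have hcM : c ∈ W₀ := hMW (subset_closure (Set.mem_insert _ _))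
  have hwM : w ∈ W₀ := hMW (subset_closure (Set.mem_insert_of_mem _ rfl))
  obtain ⟨hMg, -, hMz⟩ := mem_fixed_pair h hC hS hS' hcP hc3 hPc
  have hW'V : W' ≤ normalizer (V : Set G) := fun y hy => Coprime.mem_normalizer_of_forall fun v hv => by
    rw [← (commute_fourV_of_mem_coreW h hv (hC.le hy.1)).eq, mul_inv_cancel_right]; exact hv
  have hcn : ∀ g ∈ normalizer (W₀ : Set G), ∀ z ∈ centralizer (W₀ : Set G),
      g * z * g⁻¹ ∈ centralizer (W₀ : Set G) := by
    intro g hg z hz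
    refine mem_centralizer_iff.2 fun y hy => ?_
    have hy' : g⁻¹ * y * g ∈ W₀ := by simpa using (mem_normalizer_iff.1 (inv_mem hg) y).1 hy
    have e := (show Commute (g⁻¹ * y * g) z from mem_centralizer_iff.1 hz _ hy').map (MulAut.conj g).toMonoidHom
    simp only [MulEquiv.coe_toMonoidHom, MulAut.conj_apply] at e
    rw [show g * (g⁻¹ * y * g) * g⁻¹ = y by group] at e
    exact e.eq
  have hWH : W' ≤ normalizer (H : Set G) := fun y hy => Coprime.mem_normalizer_of_forall fun z hz =>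
    mem_inf.2 ⟨mul_mem (mul_mem (hW'V hy) (mem_inf.1 hz).1) (inv_mem (hW'V hy)), hcn y hy.2 z (mem_inf.1 hz).2⟩
  set Γ := W' ⊔ H
  have hW'g : IsPGroup 3 (W'.subgroupOf Γ) :=
    (hC.isPGroup.to_le inf_le_left).of_equiv (subgroupOfEquivOfLe le_sup_left).symm
  obtain ⟨T, hT⟩ := hW'g.exists_le_sylow
  -- a rotation in the Sylow subgroup
  obtain ⟨m, k, hm, hk⟩ := hs₀.exists_pow h
  set u := s₀ ^ m
  have huH : u ∈ H := ⟨pow_mem (hs₀.mem_normalizer h) m, pow_mem hs₀c m⟩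
  have hug : IsPGroup 3 ((zpowers u).subgroupOf Γ) := by
    obtain ⟨j, -, hj⟩ := (Nat.dvd_prime_pow Nat.prime_three).1 (orderOf_dvd_of_pow_eq_one hk)
    exact (IsPGroup.of_card (p := 3) (n := j) (by rw [Nat.card_zpowers, hj])).of_equiv
      (subgroupOfEquivOfLe (zpowers_le.2 (mem_sup_right huH : u ∈ Γ))).symm
  obtain ⟨T₁, hT₁⟩ := hug.exists_le_sylow
  obtain ⟨g, hg⟩ := MulAction.exists_smul_eq Γ T₁ T
  have hgH : (g : G) ∈ normalizer (H : Set G) := (sup_le hWH le_normalizer) g.2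
  set z := (g : G) * u * (g : G)⁻¹
  have hzH : z ∈ H := (mem_normalizer_iff.1 hgH u).1 huH
  have hzT : (⟨z, mem_sup_right hzH⟩ : Γ) ∈ (T : Subgroup Γ) := by
    rw [← hg, Transfer.sylow_coe_smul]
    exact ⟨⟨u, mem_sup_right huH⟩, hT₁ (mem_subgroupOf.2 (mem_zpowers u)), rfl⟩
  have hz3 : z ^ 3 ^ k = 1 := by rw [conj_pow, hk, mul_one, mul_inv_cancel]
  have hgV : (g : G) ∈ normalizer (V : Set G) := (sup_le hW'V inf_le_left) g.2
  have hzt : ¬ Commute z t := by
    intro hc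
    obtain ⟨v, hv, hvt⟩ : ∃ v ∈ V, (g : G) * v * (g : G)⁻¹ = t :=
      ⟨(g : G)⁻¹ * t * g, by simpa using (mem_normalizer_iff.1 (inv_mem hgV) t).1 (GWKlein.left_mem_fourV _ _),
        by group⟩
    have hcuv : Commute u v := by
      rw [← hvt] at hc
      exact (Commute.conj_iff _).1 hc
    rcases h.mem_fourV_iff.1 hv with rfl | rfl | rfl | rfl
    · exact h.ne_one_t (by rw [← hvt]; simp)
    · exact hm.not_commute h hcuv
    · have := hm.2
      rw [hcuv.eq, mul_inv_cancel_right] at this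
      exact h.ne_one_t (mul_eq_right.1 this.symm)
    · have := Rot.conj_mul hm h.comm_t_r h.mul_self_r
      rw [hcuv.eq, mul_inv_cancel_right] at this
      exact h.ne_one_r (mul_eq_left.1 this)
  obtain ⟨r', hr'H, hr'T, hr'⟩ : ∃ r' : G, ∃ hr'H : r' ∈ H,
      (⟨r', mem_sup_right hr'H⟩ : Γ) ∈ (T : Subgroup Γ) ∧ Rot t r r' := by
    rcases h.rot_or_inv hzH.1 (odd_of_three_pow hz3) hzt with e | e
    · exact ⟨z, hzH, hzT, e⟩
    · exact ⟨z⁻¹, inv_mem hzH, (inv_mem hzT : (⟨z, mem_sup_right hzH⟩ : Γ)⁻¹ ∈ (T : Subgroup Γ)), e⟩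
  have hr'n : r' ∈ normalizer (W' : Set G) := Coprime.mem_normalizer_of_forall fun y hy => by
    set q := y * r' * y⁻¹ * r'⁻¹ with hq
    have hqH : q ∈ H := mul_mem ((mem_normalizer_iff.1 (hWH hy) r').1 hr'H) (inv_mem hr'H)
    have hqT : (⟨q, mem_sup_right hqH⟩ : Γ) ∈ (T : Subgroup Γ) := by
      have hyT : (⟨y, mem_sup_left hy⟩ : Γ) ∈ (T : Subgroup Γ) := hT (mem_subgroupOf.2 hy)
      exact mul_mem (mul_mem (mul_mem hyT hr'T) (inv_mem hyT)) (inv_mem hr'T)
    obtain ⟨l, hl⟩ := T.2 ⟨_, hqT⟩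
    have hl' : q ^ 3 ^ l = 1 := congrArg (fun a : (T : Subgroup Γ) => ((a : Γ) : G)) hl
    have hqW : q ∈ coreW t r := by
      have e : q = y * (r' * y * r'⁻¹)⁻¹ := by rw [hq]; group
      rw [e]
      exact mul_mem (hC.le hy.1) (inv_mem (conj_mem_coreW h hr'H.1 (hC.le hy.1)))
    have hqc : ∀ a ∈ W₀, Commute q a := fun a ha => (mem_centralizer_iff.1 hqH.2 a ha).symm
    have hqM := hMz q hqW (hqc c hcM) (hqc w hwM) ⟨l, hl'⟩
    rw [show r' * y * r'⁻¹ = q⁻¹ * y by rw [hq]; group]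
    exact mul_mem (inv_mem ⟨pair_le h hC hcP hqM, le_normalizer (hMW hqM)⟩) hy
  -- make it inverted
  have hτV : r * σ ∈ normalizer (V : Set G) := by
    obtain ⟨e1, e2, e3⟩ := h.tau_conj
    refine Coprime.mem_normalizer_of_forall fun v hv => ?_
    rcases h.mem_fourV_iff.1 hv with rfl | rfl | rfl | rfl
    · simp
    · rw [e1]; exact GWKlein.left_mem_fourV _ _
    · rw [e2]; exact mul_mem (GWKlein.left_mem_fourV _ _) (GWKlein.right_mem_fourV _ _)
    · rw [e3]; exact GWKlein.right_mem_fourV _ _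
  have hτW₀ : r * σ ∈ normalizer (W₀ : Set G) := Coprime.mem_normalizer_of_forall hτ0
  have hτW' : r * σ ∈ normalizer (W' : Set G) := Coprime.mem_normalizer_of_forall fun y hy =>
    mem_inf.2 ⟨tau_mem h hC (mem_inf.1 hy).1, mul_mem (mul_mem hτW₀ (mem_inf.1 hy).2) (inv_mem hτW₀)⟩
  obtain ⟨s, hsX, hs, hsi, hs3⟩ := h.exists_inverted_rot (X := H ⊓ normalizer (W' : Set G))
    (fun a ha => mem_inf.2 ⟨mem_inf.2 ⟨mul_mem (mul_mem hτV (mem_inf.1 (mem_inf.1 ha).1).1) (inv_mem hτV),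
      hcn _ hτW₀ _ (mem_inf.1 (mem_inf.1 ha).1).2⟩, mul_mem (mul_mem hτW' (mem_inf.1 ha).2) (inv_mem hτW')⟩)
    hr' ⟨hr'H, hr'n⟩
  obtain ⟨⟨hsV, hsc⟩, hsn⟩ := mem_inf.1 hsX |>.imp mem_inf.1 id
  refine ⟨s, hs, hsc, hsi, hs3, fun y hyW hyN => ?_⟩
  have h1 : y * s * y⁻¹ * s⁻¹ ∈ centralizer (W₀ : Set G) := mul_mem (hcn y hyN s hsc) (inv_mem hsc)
  have h2 : y * s * y⁻¹ * s⁻¹ ∈ W := by
    rw [show y * s * y⁻¹ * s⁻¹ = y * (s * y⁻¹ * s⁻¹) by group]
    exact mul_mem hyW (mem_inf.1 ((mem_normalizer_iff.1 hsn y⁻¹).1 (inv_mem (mem_inf.2 ⟨hyW, hyN⟩)))).1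
  refine ⟨h1, ?_⟩
  obtain ⟨k', hk'⟩ := three_pow h hC h2
  exact hMz _ (hC.le h2) (mem_centralizer_iff.1 h1 c hcM).symm (mem_centralizer_iff.1 h1 w hwM).symm ⟨k', hk'⟩

end Corner

end Cfsg.Agent.GWDihedral
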