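import Cfsg.Agent.EqLemmas
import Mathlib

/-!
# Gorenstein-Walter, dihedral case: the arithmetic of the final count

The inequalities `2 ^ (2 n - 3) k₀ (e T A)² F m < K² m'` of section 5 COUNT of `notes/gw_dihedral_eight.md`,
with `K = (2 ^ s T - 1) (2 ^ (s - 1) T - 1) A²`, `k₀ = X (X + 1) / (X - 1)²` and `F ≤ 4`, or where it is
allowed `F ≤ max 4 (1 + T A / e)²`.
-/

set_option autoImplicit false

namespace Cfsg.Agent.GWDihedral.CountArith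

/-- The factor `X (X + 1) / (X - 1)²` of the order formula. -/
def kFac (X : ℤ) : ℚ := (X : ℚ) * ((X : ℚ) + 1) / ((X : ℚ) - 1) ^ 2

/-- The lower bound for the number of conjugates of `t` in `C(y)`. -/
def kLow (s T A : ℕ) : ℚ := ((2 : ℚ) ^ s * T - 1) * ((2 : ℚ) ^ (s - 1) * T - 1) * (A : ℚ) ^ 2

theorem kFac_nonneg (X : ℤ) : 0 ≤ kFac X := by
  refine div_nonneg ?_ (sq_nonneg _)
  rcases le_or_gt 0 X with h | h
  · have : (0 : ℚ) ≤ X := by exact_mod_cast h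
    positivity
  · have : (X : ℚ) ≤ -1 := by exact_mod_cast (show X ≤ -1 by omega)
    nlinarith

theorem kFac_le {X L : ℤ} (hL : 1 < L) (hX : X ≤ 0 ∨ L ≤ X) : kFac X ≤ kFac L := by
  unfold kFac
  have hL' : (1 : ℚ) < L := by exact_mod_cast hL
  have hL0 : (0 : ℚ) < ((L : ℚ) - 1) ^ 2 := by
    have : (0 : ℚ) < (L : ℚ) - 1 := by linarith
    positivity
  rcases hX with h | h
  · have h' : (X : ℚ) ≤ 0 := by exact_mod_cast h
    rw [div_le_div_iff₀ (by nlinarith) hL0]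
    nlinarith [mul_le_mul_of_nonneg_left (show ((L : ℚ) - 1) ^ 2 ≤ (L : ℚ) * ((L : ℚ) + 1) by nlinarith)
        (sq_nonneg ((X : ℚ) - 1)),
      mul_le_mul_of_nonneg_right (show (X : ℚ) * ((X : ℚ) + 1) ≤ ((X : ℚ) - 1) ^ 2 by nlinarith) hL0.le]
  · have h' : (L : ℚ) ≤ X := by exact_mod_cast h
    rw [div_le_div_iff₀ (by nlinarith) hL0]
    nlinarith [mul_nonneg (sub_nonneg.2 h') (show (0 : ℚ) ≤ 3 * (L : ℚ) * X - L - X - 1 by
      nlinarith [mul_nonneg (sub_nonneg.2 hL'.le) (sub_nonneg.2 (hL'.le.trans h'))])]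

/-- `X ≡ 1 (mod 2 ^ n)` and `X ≠ 1`. -/
theorem kFac_le_of_dvd {n k : ℕ} {X : ℤ} (hk : k ≤ n) (hX : (2 ^ n : ℤ) ∣ X - 1) (hX1 : X ≠ 1) :
    kFac X ≤ kFac (2 ^ k + 1) := by
  obtain ⟨j, hj⟩ := dvd_trans (pow_dvd_pow 2 hk) hX
  have h1 : (1 : ℤ) ≤ 2 ^ k := one_le_pow₀ (by norm_num)
  refine kFac_le (by omega) ?_
  have hj0 : j ≠ 0 := fun e => hX1 (by rw [e, mul_zero] at hj; omega)
  rcases lt_or_gt_of_ne hj0 with h | h
  · left; nlinarith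
  · right; nlinarith

/-- The common last step: everything is monotone, and `A` cancels. -/
theorem finish {n s T A : ℕ} {k e F B m m' κ q P : ℚ} (hA : 1 ≤ A) (hk : 0 ≤ k) (hkκ : k ≤ κ)
    (hm0 : 0 ≤ m) (hm : m ≤ q * m') (hm' : 0 < m') (hB : 0 ≤ B) (hF : e ^ 2 * F ≤ B * (A : ℚ) ^ 2)
    (hP : (2 : ℚ) ^ (2 * n - 3) * (T : ℚ) ^ 2 ≤ P)
    (hmain : P * κ * B * q < (((2 : ℚ) ^ s * T - 1) * ((2 : ℚ) ^ (s - 1) * T - 1)) ^ 2) :
    (2 : ℚ) ^ (2 * n - 3) * k * (e * T * A) ^ 2 * F * m < kLow s T A ^ 2 * m' := by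
  set R := (((2 : ℚ) ^ s * T - 1) * ((2 : ℚ) ^ (s - 1) * T - 1)) ^ 2 with hR
  have hA' : (1 : ℚ) ≤ A := by exact_mod_cast hA
  have hA4 : (0 : ℚ) < (A : ℚ) ^ 4 := by positivity
  have hP0 : (0 : ℚ) ≤ 2 ^ (2 * n - 3) * (T : ℚ) ^ 2 := by positivity
  have hκ := hk.trans hkκ
  calc (2 : ℚ) ^ (2 * n - 3) * k * (e * T * A) ^ 2 * F * m
      = 2 ^ (2 * n - 3) * (T : ℚ) ^ 2 * k * m * (A : ℚ) ^ 2 * (e ^ 2 * F) := by ring
    _ ≤ 2 ^ (2 * n - 3) * (T : ℚ) ^ 2 * k * m * (A : ℚ) ^ 2 * (B * (A : ℚ) ^ 2) :=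
        mul_le_mul_of_nonneg_left hF (by positivity)
    _ = 2 ^ (2 * n - 3) * (T : ℚ) ^ 2 * k * m * (B * (A : ℚ) ^ 4) := by ring
    _ ≤ P * κ * (q * m') * (B * (A : ℚ) ^ 4) :=
        mul_le_mul_of_nonneg_right
          (mul_le_mul (mul_le_mul hP hkκ hk (hP0.trans hP)) hm hm0 (mul_nonneg (hP0.trans hP) hκ))
          (mul_nonneg hB hA4.le)
    _ = P * κ * B * q * ((A : ℚ) ^ 4 * m') := by ring
    _ < R * ((A : ℚ) ^ 4 * m') := mul_lt_mul_of_pos_right hmain (mul_pos hA4 hm')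
    _ = kLow s T A ^ 2 * m' := by rw [hR, kLow]; ring

theorem sq_mul_le_four {e F : ℚ} {A : ℕ} (hA : 1 ≤ A) (hF : F ≤ 4) :
    e ^ 2 * F ≤ 4 * e ^ 2 * (A : ℚ) ^ 2 := by
  have hA' : (1 : ℚ) ≤ A := by exact_mod_cast hA
  have h1 : (1 : ℚ) ≤ (A : ℚ) ^ 2 := one_le_pow₀ hA'
  have h2 := mul_le_mul_of_nonneg_left hF (sq_nonneg e)
  have h3 := mul_le_mul_of_nonneg_left h1 (show (0 : ℚ) ≤ 4 * e ^ 2 by positivity)
  linarith

theorem sq_mul_le_max {e T A : ℕ} {F : ℚ} (he : 1 ≤ e) (heT : e ≤ T) (hA : 1 ≤ A)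
    (hF : F ≤ max 4 ((1 + (T : ℚ) * A / e) ^ 2)) :
    (e : ℚ) ^ 2 * F ≤ ((e : ℚ) + T) ^ 2 * (A : ℚ) ^ 2 := by
  have hA' : (1 : ℚ) ≤ A := by exact_mod_cast hA
  have he' : (0 : ℚ) < e := by exact_mod_cast he
  have heT' : (e : ℚ) ≤ T := by exact_mod_cast heT
  refine (mul_le_mul_of_nonneg_left hF (sq_nonneg _)).trans ?_
  rw [mul_max_of_nonneg _ _ (sq_nonneg _), ← mul_pow ((e : ℚ) + T)]
  refine max_le ?_ ?_
  · calc (e : ℚ) ^ 2 * 4 = ((e : ℚ) + e) ^ 2 := by ring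
      _ ≤ (((e : ℚ) + T) * A) ^ 2 := pow_le_pow_left₀ (by positivity)
          (by nlinarith [mul_le_mul_of_nonneg_left hA' (show (0 : ℚ) ≤ (e : ℚ) + T by positivity)]) 2
  · calc (e : ℚ) ^ 2 * (1 + (T : ℚ) * A / e) ^ 2 = ((e : ℚ) + T * A) ^ 2 := by field_simp
      _ ≤ (((e : ℚ) + T) * A) ^ 2 := pow_le_pow_left₀ (by positivity)
          (by nlinarith [mul_le_mul_of_nonneg_left hA' he'.le]) 2

theorem two_pow_succ_mul {s : ℕ} (hs : 1 ≤ s) (T : ℚ) : (2 : ℚ) ^ s * T = 2 * ((2 : ℚ) ^ (s - 1) * T) := by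
  rw [← mul_assoc, ← pow_succ', Nat.sub_add_cancel hs]

theorem two_mul_le {s : ℕ} (hs : 2 ≤ s) (T : ℕ) : 2 * (T : ℚ) ≤ (2 : ℚ) ^ (s - 1) * T :=
  mul_le_mul_of_nonneg_right (le_self_pow₀ (by norm_num) (by omega)) (Nat.cast_nonneg T)

theorem pow_mul_sq_le {n s j : ℕ} (hn : 2 * n - 3 ≤ 2 * (s - 1) + j) (T : ℕ) :
    (2 : ℚ) ^ (2 * n - 3) * (T : ℚ) ^ 2 ≤ 2 ^ j * ((2 : ℚ) ^ (s - 1) * T) ^ 2 := by
  calc (2 : ℚ) ^ (2 * n - 3) * (T : ℚ) ^ 2 ≤ 2 ^ (2 * (s - 1) + j) * (T : ℚ) ^ 2 :=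
        mul_le_mul_of_nonneg_right (pow_le_pow_right₀ (by norm_num) hn) (sq_nonneg _)
    _ = _ := by rw [pow_add, pow_mul']; ring

/-- Case (a): a rotation of order `e 2 ^ i`. -/
theorem count_rotation {n s i e p T A : ℕ} {X : ℤ} {F : ℚ} (hn : 3 ≤ n) (hs : 2 ≤ s) (hsn : s + i = n)
    (hi : 1 ≤ i) (he : Odd e) (hpT : p ≤ T) (hep : e * 2 ^ i ≤ p + 1) (hm : 2 ≤ e * 2 ^ (i - 1))
    (hA : 1 ≤ A) (hX : (2 ^ n : ℤ) ∣ X - 1) (hX1 : X ≠ 1)
    (hF : F ≤ 4 ∨ (i = 1 ∧ F ≤ max 4 ((1 + (T : ℚ) * A / e) ^ 2))) :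
    (2 : ℚ) ^ (2 * n - 3) * kFac X * ((e : ℚ) * T * A) ^ 2 * F * ((e * 2 ^ (i - 1) : ℕ) : ℚ) <
      kLow s T A ^ 2 * (((e * 2 ^ (i - 1) : ℕ) : ℚ) - 1) := by
  have he1 : 1 ≤ e := he.pos
  set z := (2 : ℚ) ^ (s - 1) * T with hz
  have hzT : 2 * (T : ℚ) ≤ z := two_mul_le hs T
  set m := ((e * 2 ^ (i - 1) : ℕ) : ℚ) with hmdef
  have hm2 : (2 : ℚ) ≤ m := by rw [hmdef]; exact_mod_cast hm
  rcases eq_or_lt_of_le hi with rfl | hi2
  · -- `i = 1`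
    have hme : (e : ℚ) = m := by rw [hmdef]; simp
    have he3 : 3 ≤ e := by
      obtain ⟨k, rfl⟩ := he
      simp at hm ⊢
      omega
    have he3' : (3 : ℚ) ≤ e := by exact_mod_cast he3
    have h2e : 2 * (e : ℚ) ≤ T + 1 := by exact_mod_cast (show 2 * e ≤ T + 1 by omega)
    have hT5 : (5 : ℚ) ≤ T := by linarith
    have hF' : (e : ℚ) ^ 2 * F ≤ ((e : ℚ) + T) ^ 2 * (A : ℚ) ^ 2 := by
      rcases hF with hF | ⟨-, hF⟩
      · exact sq_mul_le_max he1 (by omega) hA (hF.trans (le_max_left _ _))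
      · exact sq_mul_le_max he1 (by omega) hA hF
    refine finish (κ := 45 / 32) (q := 3 / 2) (P := 2 ^ 1 * z ^ 2) hA (kFac_nonneg X) ?_ (by linarith)
      (by linarith) (by linarith) (sq_nonneg _) hF' (pow_mul_sq_le (by omega) T) ?_
    · exact (kFac_le_of_dvd hn hX hX1).trans (by norm_num [kFac])
    rw [two_pow_succ_mul (s := s) (by omega), ← hz]
    have hB : ((e : ℚ) + T) ^ 2 ≤ ((3 * z + 2) / 4) ^ 2 :=
      pow_le_pow_left₀ (by positivity) (by linarith) 2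
    have h0 : 135 / 32 * z ^ 2 * ((3 * z + 2) / 4) ^ 2 < ((2 * z - 1) * (z - 1)) ^ 2 := by
      have h1 : 21 / 10 * z * ((3 * z + 2) / 4) ≤ (2 * z - 1) * (z - 1) := by nlinarith
      have h2 := pow_le_pow_left₀ (by nlinarith) h1 2
      have h3 : (0 : ℚ) < z ^ 2 * ((3 * z + 2) / 4) ^ 2 := by nlinarith
      nlinarith
    calc 2 ^ 1 * z ^ 2 * (45 / 32) * ((e : ℚ) + T) ^ 2 * (3 / 2)
        = 135 / 32 * z ^ 2 * ((e : ℚ) + T) ^ 2 := by ring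
      _ ≤ 135 / 32 * z ^ 2 * ((3 * z + 2) / 4) ^ 2 := mul_le_mul_of_nonneg_left hB (by positivity)
      _ < _ := h0
  · -- `i ≥ 2`
    have hF4 : F ≤ 4 := hF.elim id (fun h => absurd h.1 (by omega))
    have h4 : 4 ≤ 2 ^ i := le_trans (by norm_num) (Nat.pow_le_pow_right two_pos hi2)
    have h4' : 4 ≤ e * 2 ^ i := le_mul_of_one_le_of_le he1 h4
    have hT3 : (3 : ℚ) ≤ T := by exact_mod_cast (show 3 ≤ T by omega)
    have heT : (e : ℚ) * 2 ^ i ≤ T + 1 := by exact_mod_cast (show e * 2 ^ i ≤ T + 1 by omega)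
    refine finish (κ := 153 / 128) (q := 2) (B := 4 * ((z / 2 + 1) / 2 ^ i) ^ 2)
      (P := 2 ^ (2 * i - 1) * z ^ 2) hA (kFac_nonneg X) ?_ (by linarith) (by linarith) (by linarith)
      (by positivity) ?_ (pow_mul_sq_le (by omega) T) ?_
    · exact (kFac_le_of_dvd (show 4 ≤ n by omega) hX hX1).trans (by norm_num [kFac])
    · refine (sq_mul_le_four hA hF4).trans (mul_le_mul_of_nonneg_right (mul_le_mul_of_nonneg_left
        (pow_le_pow_left₀ (by positivity) ?_ 2) (by norm_num)) (sq_nonneg _))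
      rw [le_div_iff₀ (by positivity)]
      linarith
    rw [two_pow_succ_mul (s := s) (by omega), ← hz]
    have e1 : (2 : ℚ) ^ (2 * i - 1) * 2 = (2 ^ i) ^ 2 := by
      rw [← pow_succ, show 2 * i - 1 + 1 = i * 2 by omega, pow_mul]
    have h1 : 11 / 5 * z * (z / 2 + 1) ≤ (2 * z - 1) * (z - 1) := by nlinarith
    have h2 := pow_le_pow_left₀ (by nlinarith) h1 2
    have h3 : (0 : ℚ) < z ^ 2 * (z / 2 + 1) ^ 2 := by nlinarith
    calc 2 ^ (2 * i - 1) * z ^ 2 * (153 / 128) * (4 * ((z / 2 + 1) / 2 ^ i) ^ 2) * 2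
        = (2 : ℚ) ^ (2 * i - 1) * 2 * (153 / 32) * z ^ 2 * (z / 2 + 1) ^ 2 / (2 ^ i) ^ 2 := by ring
      _ = 153 / 32 * z ^ 2 * (z / 2 + 1) ^ 2 := by rw [e1]; field_simp
      _ < _ := by nlinarith

/-- Case (a0): a rotation of odd order `e`. -/
theorem count_rotation_odd {n e p T A : ℕ} {X : ℤ} {F : ℚ} (hn : 3 ≤ n) (he : 3 ≤ e) (hpT : p ≤ T)
    (hep : e ≤ p) (hA : 1 ≤ A) (hX : (2 ^ n : ℤ) ∣ X - 1) (hX1 : X ≠ 1) (hF : F ≤ 4) :
    (2 : ℚ) ^ (2 * n - 3) * kFac X * ((e : ℚ) * T * A) ^ 2 * F * (e : ℚ) <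
      kLow n T A ^ 2 * ((e : ℚ) - 1) := by
  set z := (2 : ℚ) ^ (n - 1) * T with hz
  have hzT : 2 * (T : ℚ) ≤ z := two_mul_le (by omega) T
  have he' : (3 : ℚ) ≤ e := by exact_mod_cast he
  have heT : (e : ℚ) ≤ T := by exact_mod_cast hep.trans hpT
  refine finish (κ := 45 / 32) (q := 3 / 2) (B := 4 * (z / 2) ^ 2) (P := 2⁻¹ * z ^ 2) hA (kFac_nonneg X) ?_
    (by linarith) (by linarith) (by linarith) (by positivity) ?_ ?_ ?_
  · exact (kFac_le_of_dvd hn hX hX1).trans (by norm_num [kFac])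
  · exact (sq_mul_le_four hA hF).trans (mul_le_mul_of_nonneg_right (mul_le_mul_of_nonneg_left
      (pow_le_pow_left₀ (by positivity) (by linarith) 2) (by norm_num)) (sq_nonneg _))
  · refine le_of_eq ?_
    rw [hz, mul_pow, ← pow_mul, show (n - 1) * 2 = 2 * n - 3 + 1 by omega, pow_succ]
    ring
  rw [two_pow_succ_mul (s := n) (by omega), ← hz]
  have h1 : 11 / 10 * z ^ 2 ≤ (2 * z - 1) * (z - 1) := by nlinarith
  have h2 := pow_le_pow_left₀ (by positivity) h1 2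
  have h3 : (0 : ℚ) < z ^ 4 := by
    have : (0 : ℚ) < z := by linarith
    positivity
  nlinarith

/-- The split case: a rotation of order `2 e` inside `p - 1`. -/
theorem count_split {n s e p T A : ℕ} {X : ℤ} {F : ℚ} (hn : 4 ≤ n) (hsn : s + 2 = n)
    (he : 3 ≤ e) (hpT : p ≤ T) (hep : 2 * e + 1 ≤ p) (hA : 1 ≤ A) (hX : (2 ^ n : ℤ) ∣ X - 1)
    (hX1 : X ≠ 1) (hF : F ≤ 4) :
    (2 : ℚ) ^ (2 * n - 3) * kFac X * ((e : ℚ) * T * A) ^ 2 * F * ((2 * e : ℕ) : ℚ) <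
      kLow s T A ^ 2 * (((2 * e : ℕ) : ℚ) - 1) := by
  set z := (2 : ℚ) ^ (s - 1) * T with hz
  have hzT : 2 * (T : ℚ) ≤ z := two_mul_le (by omega) T
  have he' : (3 : ℚ) ≤ e := by exact_mod_cast he
  have heT : 2 * (e : ℚ) + 1 ≤ T := by exact_mod_cast hep.trans hpT
  refine finish (κ := 153 / 128) (q := 6 / 5) (B := (z / 2 - 1) ^ 2) (P := 2 ^ 3 * z ^ 2) hA (kFac_nonneg X)
    ?_ (by positivity) (by push_cast; linarith) (by push_cast; linarith) (sq_nonneg _) ?_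
    (pow_mul_sq_le (by omega) T) ?_
  · exact (kFac_le_of_dvd (show 4 ≤ n from hn) hX hX1).trans (by norm_num [kFac])
  · refine (sq_mul_le_four hA hF).trans (mul_le_mul_of_nonneg_right ?_ (sq_nonneg _))
    rw [show 4 * (e : ℚ) ^ 2 = (2 * e) ^ 2 by ring]
    exact pow_le_pow_left₀ (by positivity) (by linarith) 2
  rw [two_pow_succ_mul (s := s) (by omega), ← hz]
  have h1 : 18 / 5 * z * (z / 2 - 1) ≤ (2 * z - 1) * (z - 1) := by nlinarith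
  have h2 := pow_le_pow_left₀ (by nlinarith) h1 2
  have h3 : (0 : ℚ) < (z * (z / 2 - 1)) ^ 2 := by
    have : (0 : ℚ) < z * (z / 2 - 1) := by nlinarith
    positivity
  nlinarith

/-- Case (c): translations, except `p = T = 3`, `n = 3`, `s = 2`. -/
theorem count_translation {n s p T A : ℕ} {X : ℤ} {F : ℚ} (hn : 3 ≤ n) (hs : 2 ≤ s) (hsn : n ≤ s + 1)
    (hp : p.Prime) (hp2 : p ≠ 2) (hT : Odd T) (hpT : p ≤ T) (hA : 1 ≤ A)
    (hexc : ¬ (p = 3 ∧ n = 3 ∧ s = 2 ∧ T = 3)) (hXp : 4 * (p : ℤ) + 1 ≤ |X|)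
    (hF : F ≤ max 4 ((1 + (T : ℚ) * A / p) ^ 2)) :
    (2 : ℚ) ^ (2 * n - 3) * kFac X * ((p : ℚ) * T * A) ^ 2 * F * (p : ℚ) <
      kLow s T A ^ 2 * ((p : ℚ) - 1) := by
  set z := (2 : ℚ) ^ (s - 1) * T with hz
  have hzT : 2 * (T : ℚ) ≤ z := two_mul_le hs T
  have hpT' : (p : ℚ) ≤ T := by exact_mod_cast hpT
  have hF' : (p : ℚ) ^ 2 * F ≤ ((p : ℚ) + T) ^ 2 * (A : ℚ) ^ 2 := sq_mul_le_max hp.pos hpT hA hF
  have hX' : ∀ L : ℤ, L ≤ 4 * (p : ℤ) + 1 → X ≤ 0 ∨ L ≤ X := fun L hL => by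
    rcases abs_cases X with h | h <;> omega
  rcases lt_or_ge p 5 with h | h
  · obtain rfl : p = 3 := by
      have := hp.two_le
      interval_cases p <;> first | rfl | (exact absurd rfl hp2) | (norm_num at hp)
    rcases eq_or_lt_of_le hs with rfl | hs3
    · -- `s = 2`, so `n = 3` and `T ≥ 5`
      obtain rfl : n = 3 := by omega
      have hT5 : (5 : ℚ) ≤ T := by
        obtain ⟨k, rfl⟩ := hT
        exact_mod_cast (show 5 ≤ 2 * k + 1 by omega)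
      refine finish (κ := 91 / 72) (q := 3 / 2) (P := 8 * (T : ℚ) ^ 2) hA (kFac_nonneg X) ?_ (by norm_num)
        (by norm_num) (by norm_num) (sq_nonneg _) hF' (by norm_num) ?_
      · exact (kFac_le (L := 13) (by norm_num) (hX' 13 (by norm_num))).trans (by norm_num [kFac])
      have h1 : (T : ℚ) * (3 + T) * 171 ≤ 40 * ((2 ^ 2 * (T : ℚ) - 1) * (2 ^ 1 * (T : ℚ) - 1)) := by nlinarith
      have h2 := pow_le_pow_left₀ (by positivity) h1 2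
      have h3 : (0 : ℚ) < ((T : ℚ) * (3 + T)) ^ 2 := by positivity
      norm_num at h2 ⊢
      nlinarith
    · have hz4 : 4 * (T : ℚ) ≤ z := mul_le_mul_of_nonneg_right
        (le_trans (by norm_num) (pow_le_pow_right₀ (by norm_num) (show 2 ≤ s - 1 by omega)))
        (Nat.cast_nonneg T)
      refine finish (κ := 91 / 72) (q := 3 / 2) (P := 2 ^ 1 * z ^ 2) hA (kFac_nonneg X) ?_ (by norm_num)
        (by norm_num) (by norm_num) (sq_nonneg _) hF' (pow_mul_sq_le (by omega) T) ?_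
      · exact (kFac_le (L := 13) (by norm_num) (hX' 13 (by norm_num))).trans (by norm_num [kFac])
      rw [two_pow_succ_mul (s := s) (by omega), ← hz]
      push_cast at hpT' ⊢
      have hB : ((3 : ℚ) + T) ^ 2 ≤ (z / 2) ^ 2 := pow_le_pow_left₀ (by positivity) (by linarith) 2
      have h1 : 3 / 2 * z ^ 2 ≤ (2 * z - 1) * (z - 1) := by nlinarith
      have h2 := pow_le_pow_left₀ (by positivity) h1 2
      have h3 := mul_le_mul_of_nonneg_left hB (show (0 : ℚ) ≤ 91 / 24 * z ^ 2 by positivity)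
      have h4 : (0 : ℚ) < z ^ 4 := by
        have : (0 : ℚ) < z := by linarith
        positivity
      nlinarith
  · have hp5 : (5 : ℚ) ≤ p := by exact_mod_cast h
    refine finish (κ := 231 / 200) (q := 5 / 4) (P := 2 ^ 1 * z ^ 2) hA (kFac_nonneg X) ?_ (by linarith)
      (by linarith) (by linarith) (sq_nonneg _) hF' (pow_mul_sq_le (by omega) T) ?_
    · exact (kFac_le (L := 21) (by norm_num) (hX' 21 (by omega))).trans (by norm_num [kFac])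
    rw [two_pow_succ_mul (s := s) (by omega), ← hz]
    have hB : ((p : ℚ) + T) ^ 2 ≤ z ^ 2 := pow_le_pow_left₀ (by positivity) (by linarith) 2
    have h1 : 17 / 10 * z ^ 2 ≤ (2 * z - 1) * (z - 1) := by nlinarith
    have h2 := pow_le_pow_left₀ (by positivity) h1 2
    have h3 := mul_le_mul_of_nonneg_left hB (show (0 : ℚ) ≤ 231 / 80 * z ^ 2 by positivity)
    have h4 : (0 : ℚ) < z ^ 4 := by
      have : (0 : ℚ) < z := by linarith
      positivity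
    nlinarith

/-- Case (d): the dual of an irreducible module of rank two. -/
theorem count_dual {n s p T A : ℕ} {X : ℤ} {F : ℚ} (hn : 3 ≤ n) (hs : 2 ≤ s) (hsn : n ≤ s + 1) (hp : 5 ≤ p)
    (hpT : p ^ 2 ≤ T) (hA : 1 ≤ A) (hX : (2 ^ n : ℤ) ∣ X - 1) (hX1 : X ≠ 1) (hF : F ≤ 4)
    {m : ℕ} (hm : m ≤ 2 * p * (p + 1)) :
    (2 : ℚ) ^ (2 * n - 3) * kFac X * ((p : ℚ) * T * A) ^ 2 * F * (m : ℚ) <
      kLow s T A ^ 2 * ((p : ℚ) - 1) := by
  set z := (2 : ℚ) ^ (s - 1) * T with hz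
  have hzT : 2 * (T : ℚ) ≤ z := two_mul_le hs T
  have hp5 : (5 : ℚ) ≤ p := by exact_mod_cast hp
  have hpT' : (p : ℚ) ^ 2 ≤ T := by exact_mod_cast hpT
  refine finish (κ := 45 / 32) (q := 3 * p) (B := 4 * (p : ℚ) ^ 2) (P := 2 ^ 1 * z ^ 2) hA (kFac_nonneg X) ?_
    (by positivity) ((Nat.cast_le.2 hm).trans (by push_cast; nlinarith)) (by linarith) (by positivity)
    (sq_mul_le_four hA hF)
    (pow_mul_sq_le (by omega) T) ?_
  · exact (kFac_le_of_dvd hn hX hX1).trans (by norm_num [kFac])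
  rw [two_pow_succ_mul (s := s) (by omega), ← hz]
  have h5 : 5 * (p : ℚ) ^ 3 ≤ (z / 2) ^ 2 := by
    have := pow_le_pow_left₀ (by positivity) (show (p : ℚ) ^ 2 ≤ z / 2 by linarith) 2
    nlinarith [mul_le_mul_of_nonneg_right hp5 (show (0 : ℚ) ≤ (p : ℚ) ^ 3 by positivity)]
  have h1 : 19 / 10 * z ^ 2 ≤ (2 * z - 1) * (z - 1) := by
    have hz50 : 50 ≤ z := by nlinarith
    nlinarith
  have h2 := pow_le_pow_left₀ (by positivity) h1 2
  have h3 := mul_le_mul_of_nonneg_left h5 (show (0 : ℚ) ≤ 27 / 4 * z ^ 2 by positivity)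
  have h4 : (0 : ℚ) < z ^ 4 := by
    have : (0 : ℚ) < z := by nlinarith
    positivity
  nlinarith

end Cfsg.Agent.GWDihedral.CountArith
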