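import Cfsg.Agent.Lib.GWDihedral.CountArith

/-!
# Gorenstein-Walter, dihedral case: the arithmetic of the count at a mixed pair

With `z = 2 ^ (s - 1) T` and `m ≤ p ≤ T` the order formula gives `|G : C(t)| ≤ 2 k₀ (T + m)² z² A⁴`, against
`k² (m - 1) < |G : C(t)| m` and `k ≥ (2 z - 1) (z - 1) A²`. Only `p = m = T = 3` is left, and there `n ≤ 4`.

* `prime_dvd_sub_one` : SYLOW makes `p` divide `X - 1`
* `pair_cases` : the exception left by the count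
* `pair_exception` : the exception is arithmetically impossible
-/

set_option autoImplicit false

namespace Cfsg.Agent.GWDihedral.PairArith

open Cfsg.Agent.GWDihedral.CountArith

/-- If `|G|` and `u` have the same `p`-part, larger than those of `a` and `b`, then `p` divides `X - 1`. -/
theorem prime_dvd_sub_one {p n u a b N : ℕ} {X : ℤ} (hp : p.Prime) (hp2 : p ≠ 2) (hN : ¬ p ∣ N)
    (ha : a ≠ 0) (hb : b ≠ 0) (hau : a.factorization p < u.factorization p)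
    (hbu : b.factorization p < u.factorization p)
    (hf : (N : ℤ) * 2 ^ n * (X - 1) ^ 2 * (a : ℤ) ^ 2 * (b : ℤ) ^ 2 =
      2 ^ (3 * n - 3) * (u : ℤ) ^ 2 * ((a : ℤ) + b) ^ 2 * (X * (X + 1))) :
    (p : ℤ) ∣ X - 1 := by
  have hP : Prime (p : ℤ) := Nat.prime_iff_prime_int.1 hp
  wlog hab : a.factorization p ≤ b.factorization p generalizing a b
  · exact this hb ha hbu hau (by rw [add_comm (b : ℤ)]; linear_combination hf) (le_of_not_ge hab)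
  set v := a.factorization p
  set w := b.factorization p
  obtain ⟨a', ha'⟩ : p ^ v ∣ a := Nat.ordProj_dvd a p
  obtain ⟨b', hb'⟩ : p ^ w ∣ b := Nat.ordProj_dvd b p
  have hna : ¬ p ∣ a' := fun h => Nat.pow_succ_factorization_not_dvd ha hp
    (by rw [pow_succ]; exact (Nat.mul_dvd_mul_left _ h).trans ha'.symm.dvd)
  have hnb : ¬ p ∣ b' := fun h => Nat.pow_succ_factorization_not_dvd hb hp
    (by rw [pow_succ]; exact (Nat.mul_dvd_mul_left _ h).trans hb'.symm.dvd)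
  obtain ⟨u', hu'⟩ : p ^ (w + 1) ∣ u := (pow_dvd_pow p hbu).trans (Nat.ordProj_dvd u p)
  obtain ⟨d, hd⟩ : (p : ℤ) ^ v ∣ (a : ℤ) + b := by
    refine dvd_add ⟨a', by rw [ha']; push_cast; ring⟩ ((pow_dvd_pow _ hab).trans ⟨b', ?_⟩)
    rw [hb']; push_cast; ring
  by_contra hX
  have hcancel : (N : ℤ) * 2 ^ n * (X - 1) ^ 2 * (a' : ℤ) ^ 2 * (b' : ℤ) ^ 2 =
      (p : ℤ) * (p * (2 ^ (3 * n - 3) * (u' : ℤ) ^ 2 * d ^ 2 * (X * (X + 1)))) := by
    rw [hd, ha', hb', hu'] at hf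
    push_cast at hf
    refine mul_left_cancel₀ (mul_ne_zero (pow_ne_zero 2 (pow_ne_zero v hP.ne_zero))
      (pow_ne_zero 2 (pow_ne_zero w hP.ne_zero))) ?_
    rw [pow_succ] at hf
    linear_combination hf
  have h : (p : ℤ) ∣ (N : ℤ) * 2 ^ n * (X - 1) ^ 2 * (a' : ℤ) ^ 2 * (b' : ℤ) ^ 2 := ⟨_, hcancel⟩
  rcases hP.dvd_or_dvd h with h | h
  · rcases hP.dvd_or_dvd h with h | h
    · rcases hP.dvd_or_dvd h with h | h
      · rcases hP.dvd_or_dvd h with h | h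
        · exact hN (Int.natCast_dvd_natCast.1 h)
        · exact hp2 ((Nat.prime_dvd_prime_iff_eq hp Nat.prime_two).1
            (Int.natCast_dvd_natCast.1 (by exact_mod_cast hP.dvd_of_dvd_pow h)))
      · exact hX (hP.dvd_of_dvd_pow h)
    · exact hna (Int.natCast_dvd_natCast.1 (hP.dvd_of_dvd_pow h))
  · exact hnb (Int.natCast_dvd_natCast.1 (hP.dvd_of_dvd_pow h))

/-- `p` and `2 ^ n` divide `X - 1`. -/
theorem kFac_le_prime {n p : ℕ} {X : ℤ} (hn : 3 ≤ n) (hp : 3 ≤ p)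
    (hX : (2 ^ n * p : ℤ) ∣ X - 1) (hX1 : X ≠ 1) {L : ℤ} (hL : 1 < L) (hLp : L ≤ 2 ^ n * (p : ℤ) + 1) :
    kFac X ≤ kFac L := by
  obtain ⟨j, hj⟩ := hX
  refine kFac_le hL ?_
  have h0 : (8 : ℤ) ≤ 2 ^ n := le_trans (by norm_num) (pow_le_pow_right₀ (by norm_num : (1 : ℤ) ≤ 2) hn)
  have hp' : (3 : ℤ) ≤ p := by exact_mod_cast hp
  have h1 : (0 : ℤ) < 2 ^ n * p := by positivity
  have hj0 : j ≠ 0 := fun e => hX1 (by rw [e, mul_zero] at hj; omega)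
  rcases lt_or_gt_of_ne hj0 with h | h
  · left; nlinarith
  · right; nlinarith

/-- The last inequality, `k₀` and `B` bounding the index. -/
theorem false_of_bound {m : ℕ} {k N A4 κ B z : ℚ} (hm : 2 ≤ m) (hA : 0 < A4)
    (hk : ((2 * z - 1) * (z - 1)) ^ 2 * A4 ≤ k ^ 2)
    (hN : N ≤ κ * z ^ 2 * B * A4) (hlt : k ^ 2 * ((m : ℚ) - 1) < N * m)
    (hmain : κ * z ^ 2 * B * m ≤ ((2 * z - 1) * (z - 1)) ^ 2 * ((m : ℚ) - 1)) : False := by
  have hm' : (2 : ℚ) ≤ m := by exact_mod_cast hm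
  have h1 := mul_le_mul_of_nonneg_right hk (show (0 : ℚ) ≤ (m : ℚ) - 1 by linarith)
  have h2 := mul_le_mul_of_nonneg_right hN (show (0 : ℚ) ≤ (m : ℚ) by linarith)
  have h3 := mul_le_mul_of_nonneg_right hmain hA.le
  nlinarith

/-- The case `m = 2`, `p = 3`. -/
theorem main_two {z : ℚ} (hz : 6 ≤ z) :
    325 / 288 * z ^ 2 * 32 * 2 ≤ ((2 * z - 1) * (z - 1)) ^ 2 * 1 := by
  have h1 : 55 / 6 * z ≤ (2 * z - 1) * (z - 1) := by nlinarith
  have h2 := pow_le_pow_left₀ (by linarith) h1 2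
  nlinarith

/-- The case `m = p = 3`. -/
theorem main_three {z T : ℚ} (hz : 8 ≤ z) (hT : 0 ≤ T) (hTz : T + 3 ≤ 7 / 8 * z) :
    325 / 288 * z ^ 2 * (2 * (T + 3) ^ 2) * 3 ≤ ((2 * z - 1) * (z - 1)) ^ 2 * 2 := by
  have h1 : 105 / 64 * z ^ 2 ≤ (2 * z - 1) * (z - 1) := by nlinarith
  have h2 := pow_le_pow_left₀ (by positivity) h1 2
  have h3 := mul_le_mul_of_nonneg_left (pow_le_pow_left₀ (by linarith) hTz 2)
    (show (0 : ℚ) ≤ 325 / 48 * z ^ 2 by positivity)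
  nlinarith [pow_nonneg (sq_nonneg z) 2]

/-- The case `p ≥ 5` with `z ≥ 20`. -/
theorem main_large {z T : ℚ} {m : ℕ} (hm : 2 ≤ m) (hT : 3 ≤ T) (hmT : (m : ℚ) ≤ T) (hTz : 2 * T ≤ z)
    (hz : 20 ≤ z) :
    861 / 800 * z ^ 2 * (2 * (T + m) ^ 2) * m ≤ ((2 * z - 1) * (z - 1)) ^ 2 * ((m : ℚ) - 1) := by
  have hm' : (2 : ℚ) ≤ m := by exact_mod_cast hm
  have h1 : (T + (m : ℚ)) ^ 2 * m ≤ z ^ 2 * (3 / 2) * ((m : ℚ) - 1) := by
    rcases (show m = 2 ∨ 3 ≤ m by omega) with rfl | h3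
    · push_cast
      nlinarith [pow_le_pow_left₀ (show (0 : ℚ) ≤ T + 2 by linarith) (show T + 2 ≤ 17 / 20 * z by linarith) 2]
    · have h3' : (3 : ℚ) ≤ m := by exact_mod_cast h3
      have h4 : (T + (m : ℚ)) ^ 2 ≤ z ^ 2 := pow_le_pow_left₀ (by positivity) (by linarith) 2
      calc (T + (m : ℚ)) ^ 2 * m ≤ z ^ 2 * m := mul_le_mul_of_nonneg_right h4 (by linarith)
        _ ≤ z ^ 2 * (3 / 2 * ((m : ℚ) - 1)) := mul_le_mul_of_nonneg_left (by linarith) (sq_nonneg z)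
        _ = _ := by ring
  have h2 : 37 / 20 * z ^ 2 ≤ (2 * z - 1) * (z - 1) := by nlinarith
  have h3 := pow_le_pow_left₀ (by positivity) h2 2
  calc 861 / 800 * z ^ 2 * (2 * (T + m) ^ 2) * m = 861 / 400 * z ^ 2 * ((T + m) ^ 2 * m) := by ring
    _ ≤ 861 / 400 * z ^ 2 * (z ^ 2 * (3 / 2) * ((m : ℚ) - 1)) :=
        mul_le_mul_of_nonneg_left h1 (by positivity)
    _ = 2583 / 800 * z ^ 4 * ((m : ℚ) - 1) := by ring
    _ ≤ _ := mul_le_mul_of_nonneg_right (by nlinarith [pow_nonneg (sq_nonneg z) 2]) (by linarith)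

/-- The count with the bound of `PSL(2,q)`. -/
theorem generic {n s i p T A e m k : ℕ} {X : ℤ} {N B : ℚ} (hs : 2 ≤ s) (hsn : n ≤ s + i) (hn : 3 ≤ n)
    (hi : 1 ≤ i) (he : Odd e) (hme : m = e * 2 ^ (i - 1)) (hm : 2 ≤ m) (hmp : m ≤ p) (hp : p.Prime)
    (hp2 : p ≠ 2) (hpT : p ≤ T) (hX : (2 ^ n * p : ℤ) ∣ X - 1) (hX1 : X ≠ 1)
    (hk : kLow s T A ≤ (k : ℚ)) (hA : 1 ≤ A) (hB2 : B ≤ 2 * ((T : ℚ) + m) ^ 2)
    (hB1 : ¬ i = 1 → B = 8 * (m : ℚ) ^ 2)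
    (hN : ∀ κ : ℚ, kFac X ≤ κ → N ≤ κ * ((2 : ℚ) ^ (s - 1) * T) ^ 2 * B * (A : ℚ) ^ 4)
    (hlt : (k : ℚ) ^ 2 * ((m : ℚ) - 1) < N * m) :
    T = 3 ∧ m = 3 ∧ i = 1 ∧ ((n = 3 ∧ 55 * (A : ℚ) ^ 2 ≤ k) ∨ (n = 4 ∧ 105 * (A : ℚ) ^ 2 ≤ k)) := by
  have hp3 : 3 ≤ p := by have := hp.two_le; omega
  have hA' : (1 : ℚ) ≤ A := by exact_mod_cast hA
  have hA4 : (0 : ℚ) < (A : ℚ) ^ 4 := by positivity
  set z : ℚ := 2 ^ (s - 1) * (T : ℚ) with hz
  have hT3 : (3 : ℚ) ≤ T := by exact_mod_cast hp3.trans hpT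
  have hmT : (m : ℚ) ≤ T := by exact_mod_cast hmp.trans hpT
  have hz2 : 2 * (T : ℚ) ≤ z := two_mul_le hs T
  have hkz : ((2 * z - 1) * (z - 1)) ^ 2 * (A : ℚ) ^ 4 ≤ (k : ℚ) ^ 2 := by
    have h1 : (2 * z - 1) * (z - 1) * (A : ℚ) ^ 2 ≤ k := by
      rw [hz, ← two_pow_succ_mul (by omega)]; exact hk
    calc ((2 * z - 1) * (z - 1)) ^ 2 * (A : ℚ) ^ 4 = ((2 * z - 1) * (z - 1) * (A : ℚ) ^ 2) ^ 2 := by ring
      _ ≤ _ := pow_le_pow_left₀ (mul_nonneg (mul_nonneg (by linarith) (by linarith)) (by positivity)) h1 2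
  have hz0 : (0 : ℚ) ≤ z ^ 2 := sq_nonneg z
  have kill : ∀ κ B' : ℚ, 0 ≤ κ → kFac X ≤ κ → B ≤ B' →
      κ * z ^ 2 * B' * m ≤ ((2 * z - 1) * (z - 1)) ^ 2 * ((m : ℚ) - 1) → False := fun κ B' h0 hκ hB' h =>
    false_of_bound hm hA4 hkz (hN κ hκ) hlt ((mul_le_mul_of_nonneg_right
      (mul_le_mul_of_nonneg_left hB' (by positivity)) (by positivity)).trans h)
  rcases lt_or_ge p 5 with h5 | h5
  · obtain rfl : p = 3 := by
      interval_cases p <;> first | rfl | norm_num at hp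
    have hκ : kFac X ≤ 325 / 288 := (kFac_le_prime hn le_rfl hX hX1 (L := 25) (by norm_num)
      (by push_cast; linarith [pow_le_pow_right₀ (by norm_num : (1 : ℤ) ≤ 2) hn])).trans (by norm_num [kFac])
    rcases (show m = 2 ∨ m = 3 by omega) with rfl | rfl
    · exfalso
      have hi1 : ¬ i = 1 := fun h => by
        subst h; simp at hme; exact absurd (hme ▸ he) (by decide)
      refine kill _ 32 (by norm_num) hκ (by rw [hB1 hi1]; norm_num) ?_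
      have := main_two (z := z) (by linarith)
      norm_num at this ⊢
      linarith
    · have hi1 : i = 1 := by
        by_contra h
        obtain ⟨j, rfl⟩ : ∃ j, i = j + 2 := ⟨i - 2, by omega⟩
        simp only [show j + 2 - 1 = j + 1 by omega, pow_succ, ← mul_assoc] at hme
        omega
      rcases (show (T = 3 ∧ s = 2) ∨ (T = 3 ∧ 3 ≤ s) ∨ 4 ≤ T by omega) with ⟨hT, hs2⟩ | ⟨hT, hs2⟩ | hT
      · refine ⟨hT, rfl, hi1, Or.inl ⟨by omega, ?_⟩⟩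
        subst hs2 hT
        refine le_trans ?_ hk
        simp [kLow]; norm_num
      all_goals
        exfalso
        refine kill _ _ (by norm_num) hκ hB2 ?_
        have h : 8 ≤ z ∧ (T : ℚ) + 3 ≤ 7 / 8 * z := by
          first
            | (have : (4 : ℚ) ≤ 2 ^ (s - 1) := le_trans (by norm_num)
                (pow_le_pow_right₀ (by norm_num) (show 2 ≤ s - 1 by omega))
               subst hT; rw [hz]; push_cast; constructor <;> linarith)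
            | (have : (4 : ℚ) ≤ T := by exact_mod_cast hT
               constructor <;> linarith)
        have := main_three h.1 (show (0 : ℚ) ≤ T by linarith) h.2
        norm_num at this ⊢
        linarith
  · exfalso
    have h5' : (5 : ℤ) ≤ p := by exact_mod_cast h5
    have h8 := pow_le_pow_right₀ (by norm_num : (1 : ℤ) ≤ 2) hn
    have hκ : kFac X ≤ 861 / 800 := (kFac_le_prime hn hp3 hX hX1 (L := 41) (by norm_num)
      (by nlinarith)).trans (by norm_num [kFac])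
    rcases (show s = 2 ∨ 3 ≤ s by omega) with hs2 | hs2
    · rcases le_or_gt 10 T with h' | h'
      · have : (10 : ℚ) ≤ T := by exact_mod_cast h'
        exact kill _ _ (by norm_num) hκ hB2 (main_large hm hT3 hmT hz2 (by linarith))
      · rcases (show p = 5 ∨ 6 ≤ p by omega) with h | h
        · refine kill _ _ (by norm_num) hκ hB2 ?_
          subst h
          rw [hz, hs2]
          interval_cases T <;> interval_cases m <;> norm_num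
        · have hκ' : kFac X ≤ 1225 / 1152 := (kFac_le_prime hn hp3 hX hX1 (L := 49) (by norm_num) (by
              have : (6 : ℤ) ≤ p := by exact_mod_cast h
              nlinarith)).trans (by norm_num [kFac])
          refine kill _ _ (by norm_num) hκ' hB2 ?_
          rw [hz, hs2]
          have hm9 : m ≤ T := hmp.trans hpT
          have : 6 ≤ T := le_trans h hpT
          interval_cases T <;> interval_cases m <;> norm_num
    · have : (4 : ℚ) ≤ 2 ^ (s - 1) := le_trans (by norm_num)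
        (pow_le_pow_right₀ (by norm_num) (show 2 ≤ s - 1 by omega))
      have : (5 : ℚ) ≤ T := by exact_mod_cast h5.trans hpT
      exact kill _ _ (by norm_num) hκ hB2 (main_large hm hT3 hmT hz2 (by rw [hz]; nlinarith))

/-- The `A7` case. -/
theorem seven_case {n i e m k A : ℕ} {κ N B : ℚ} (hA : 1 ≤ A) (he : Odd e) (hi : 1 ≤ i)
    (hme : m = e * 2 ^ (i - 1)) (hm : 2 ≤ m) (hm3 : m ≤ 3) (hn : 3 ≤ n) (hsn : n ≤ 3 + i)
    (hB1 : ¬ i = 1 → B = 8 * (m : ℚ) ^ 2) (hκ : κ ≤ 325 / 288)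
    (hN : N ≤ κ * ((2 : ℚ) ^ (3 - 1) * 3) ^ 2 * B * (A : ℚ) ^ 4)
    (hk : 105 * (A : ℚ) ^ 2 ≤ k) (hlt : (k : ℚ) ^ 2 * ((m : ℚ) - 1) < N * m) :
    m = 3 ∧ i = 1 ∧ ((n = 3 ∧ 55 * (A : ℚ) ^ 2 ≤ k) ∨ (n = 4 ∧ 105 * (A : ℚ) ^ 2 ≤ k)) := by
  have hi1 : m = 2 → ¬ i = 1 := fun h2 h => by
    subst h h2; simp at hme; exact absurd (hme ▸ he) (by decide)
  rcases (show m = 2 ∨ m = 3 by omega) with rfl | rfl
  · exfalso
    have hB := hB1 (hi1 rfl)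
    subst hB
    have hA4 : (0 : ℚ) ≤ (A : ℚ) ^ 4 := by positivity
    have h1 : κ * (A : ℚ) ^ 4 ≤ 325 / 288 * (A : ℚ) ^ 4 := mul_le_mul_of_nonneg_right hκ hA4
    have h2 := pow_le_pow_left₀ (by positivity) hk 2
    norm_num at hN hlt h2
    linarith
  · have h : i = 1 := by
      by_contra h
      obtain ⟨j, rfl⟩ : ∃ j, i = j + 2 := ⟨i - 2, by omega⟩
      simp only [show j + 2 - 1 = j + 1 by omega, pow_succ, ← mul_assoc] at hme
      omega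
    refine ⟨rfl, h, ?_⟩
    have hA2 : (0 : ℚ) ≤ (A : ℚ) ^ 2 := sq_nonneg _
    rcases (show n = 3 ∨ n = 4 by omega) with h' | h'
    · exact Or.inl ⟨h', by linarith⟩
    · exact Or.inr ⟨h', hk⟩

/-- The bound `B` for `2 ^ (2 i - 1) e² F`. -/
theorem weight_bound {i e m T A : ℕ} {F : ℚ} (hi : 1 ≤ i) (hA : 1 ≤ A) (hme : m = e * 2 ^ (i - 1))
    (hmT : m ≤ T) (hF : F ≤ 4 ∨ (i = 1 ∧ (e : ℚ) ^ 2 * F ≤ ((T : ℚ) * A + e) ^ 2)) :
    ∃ B : ℚ, (2 : ℚ) ^ (2 * i - 1) * ((e : ℚ) ^ 2 * F) ≤ B * (A : ℚ) ^ 2 ∧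
      B ≤ 2 * ((T : ℚ) + m) ^ 2 ∧ 0 ≤ B ∧ (¬ i = 1 → B = 8 * (m : ℚ) ^ 2) := by
  have hA' : (1 : ℚ) ≤ A := by exact_mod_cast hA
  have hA2 : (1 : ℚ) ≤ (A : ℚ) ^ 2 := one_le_pow₀ hA'
  have hme' : (m : ℚ) = e * 2 ^ (i - 1) := by exact_mod_cast hme
  have hmT' : (m : ℚ) ≤ T := by exact_mod_cast hmT
  by_cases h1 : i = 1
  · subst h1
    have hem : (e : ℚ) = m := by rw [hme']; simp
    refine ⟨2 * ((T : ℚ) + m) ^ 2, ?_, le_rfl, by positivity, fun h => absurd rfl h⟩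
    have he0 : (0 : ℚ) ≤ e := Nat.cast_nonneg e
    have h2 : (T : ℚ) * A + e ≤ ((T : ℚ) + m) * A := by
      have := mul_le_mul_of_nonneg_left hA' he0
      rw [← hem]; linarith
    have h3 : (e : ℚ) ^ 2 * F ≤ (((T : ℚ) + m) * A) ^ 2 := by
      rcases hF with h | ⟨-, h⟩
      · refine le_trans ?_ (pow_le_pow_left₀ (by positivity) h2 2)
        calc (e : ℚ) ^ 2 * F ≤ (e : ℚ) ^ 2 * 4 := mul_le_mul_of_nonneg_left h (sq_nonneg _)
          _ = (2 * (e : ℚ)) ^ 2 := by ring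
          _ ≤ _ := pow_le_pow_left₀ (by positivity) (by
            have := mul_le_mul_of_nonneg_left hA' (Nat.cast_nonneg T : (0 : ℚ) ≤ T)
            linarith) 2
      · exact h.trans (pow_le_pow_left₀ (by positivity) h2 2)
    norm_num
    linarith [show (((T : ℚ) + m) * A) ^ 2 = ((T : ℚ) + m) ^ 2 * (A : ℚ) ^ 2 by ring]
  · have hF4 : F ≤ 4 := hF.resolve_right fun h => h1 h.1
    refine ⟨8 * (m : ℚ) ^ 2, ?_, ?_, by positivity, fun _ => rfl⟩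
    · have e1 : (2 : ℚ) ^ (2 * i - 1) * ((e : ℚ) ^ 2 * 4) = 8 * (m : ℚ) ^ 2 := by
        rw [hme', mul_pow, ← pow_mul, show (i - 1) * 2 = 2 * i - 2 by omega,
          show 2 * i - 1 = 2 * i - 2 + 1 by omega, pow_succ]
        ring
      calc (2 : ℚ) ^ (2 * i - 1) * ((e : ℚ) ^ 2 * F)
          ≤ 2 ^ (2 * i - 1) * ((e : ℚ) ^ 2 * 4) :=
            mul_le_mul_of_nonneg_left (mul_le_mul_of_nonneg_left hF4 (sq_nonneg _)) (by positivity)
        _ = 8 * (m : ℚ) ^ 2 * 1 := by rw [e1, mul_one]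
        _ ≤ _ := mul_le_mul_of_nonneg_left hA2 (by positivity)
    · have := pow_le_pow_left₀ (by positivity) (show 2 * (m : ℚ) ≤ T + m by linarith) 2
      linarith [show (2 * (m : ℚ)) ^ 2 = 4 * (m : ℚ) ^ 2 by ring]

/-- The index against `B`. -/
theorem index_bound {n s i T A e : ℕ} {k0 F B N κ : ℚ} (hsn : n ≤ s + i) (hi : 1 ≤ i) (hs : 1 ≤ s)
    (hN : N = 2 ^ (2 * n - 3) * k0 * ((e : ℚ) * T * A) ^ 2 * F) (hk0 : 0 ≤ k0) (hκ : k0 ≤ κ) (hF : 0 ≤ F)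
    (hB : (2 : ℚ) ^ (2 * i - 1) * ((e : ℚ) ^ 2 * F) ≤ B * (A : ℚ) ^ 2) :
    N ≤ κ * ((2 : ℚ) ^ (s - 1) * T) ^ 2 * B * (A : ℚ) ^ 4 := by
  have hκ0 := hk0.trans hκ
  have e0 : (2 : ℚ) ^ (2 * n - 3) ≤ 2 ^ (2 * i - 1) * ((2 : ℚ) ^ (s - 1)) ^ 2 := by
    rw [← pow_mul, ← pow_add]
    exact pow_le_pow_right₀ (by norm_num) (by omega)
  calc N = k0 * 2 ^ (2 * n - 3) * ((T : ℚ) ^ 2 * (A : ℚ) ^ 2) * ((e : ℚ) ^ 2 * F) := by
        rw [hN]; ring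
    _ ≤ κ * (2 ^ (2 * i - 1) * ((2 : ℚ) ^ (s - 1)) ^ 2) * ((T : ℚ) ^ 2 * (A : ℚ) ^ 2) *
        ((e : ℚ) ^ 2 * F) := mul_le_mul_of_nonneg_right (mul_le_mul_of_nonneg_right
          (mul_le_mul hκ e0 (by positivity) hκ0) (by positivity)) (by positivity)
    _ = κ * ((2 : ℚ) ^ (s - 1) * T) ^ 2 * (A : ℚ) ^ 2 * (2 ^ (2 * i - 1) * ((e : ℚ) ^ 2 * F)) := by ring
    _ ≤ κ * ((2 : ℚ) ^ (s - 1) * T) ^ 2 * (A : ℚ) ^ 2 * (B * (A : ℚ) ^ 2) :=
        mul_le_mul_of_nonneg_left hB (by positivity)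
    _ = _ := by ring

/-- In the exception `A = 1`. -/
theorem param_one {n k A : ℕ} {k0 F N : ℚ} (hN : N = 2 ^ (2 * n - 3) * k0 * (3 * 3 * (A : ℚ)) ^ 2 * F)
    (hk0 : 0 ≤ k0) (hF : F ≤ 4 ∨ 9 * F ≤ (3 * (A : ℚ) + 3) ^ 2) (hA : 1 ≤ A)
    (hcase : (n = 3 ∧ k0 ≤ 325 / 288 ∧ 55 * (A : ℚ) ^ 2 ≤ k) ∨
      (n = 4 ∧ k0 ≤ 1225 / 1152 ∧ 105 * (A : ℚ) ^ 2 ≤ k))
    (hlt : (k : ℚ) ^ 2 * 2 < N * 3) : A = 1 := by
  by_contra hne
  have hA2 : (2 : ℚ) ≤ A := by exact_mod_cast (show 2 ≤ A by omega)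
  have hsq : (3 * (A : ℚ) + 3) ^ 2 ≤ (9 / 2 * A) ^ 2 := pow_le_pow_left₀ (by positivity) (by linarith) 2
  have hA22 : (4 : ℚ) ≤ (A : ℚ) ^ 2 := le_trans (by norm_num) (pow_le_pow_left₀ (by norm_num) hA2 2)
  have hF9 : 9 * F ≤ 81 / 4 * (A : ℚ) ^ 2 := by
    rcases hF with h | h
    · linarith
    · linarith [show (9 / 2 * (A : ℚ)) ^ 2 = 81 / 4 * (A : ℚ) ^ 2 by ring]
  have hA4 : 4 * (A : ℚ) ^ 2 * (A : ℚ) ^ 2 ≥ 4 * 4 * (A : ℚ) ^ 2 := by
    have := mul_le_mul_of_nonneg_left hA22 (show (0 : ℚ) ≤ 4 * (A : ℚ) ^ 2 by positivity)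
    linarith
  rcases hcase with ⟨rfl, hκ, hk⟩ | ⟨rfl, hκ, hk⟩
  · have hk2 := pow_le_pow_left₀ (by positivity) hk 2
    have h1 : N ≤ 2 ^ (2 * 3 - 3) * (325 / 288) * (9 * (A : ℚ) ^ 2) * (81 / 4 * (A : ℚ) ^ 2) := by
      calc N = 2 ^ (2 * 3 - 3) * k0 * (9 * (A : ℚ) ^ 2) * (9 * F) := by rw [hN]; ring
        _ ≤ 2 ^ (2 * 3 - 3) * k0 * (9 * (A : ℚ) ^ 2) * (81 / 4 * (A : ℚ) ^ 2) :=
            mul_le_mul_of_nonneg_left hF9 (by positivity)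
        _ ≤ _ := mul_le_mul_of_nonneg_right (mul_le_mul_of_nonneg_right
            (mul_le_mul_of_nonneg_left hκ (by norm_num)) (by positivity)) (by positivity)
    ring_nf at h1 hk2 hlt hA4
    linarith
  · have hk2 := pow_le_pow_left₀ (by positivity) hk 2
    have h1 : N ≤ 2 ^ (2 * 4 - 3) * (1225 / 1152) * (9 * (A : ℚ) ^ 2) * (81 / 4 * (A : ℚ) ^ 2) := by
      calc N = 2 ^ (2 * 4 - 3) * k0 * (9 * (A : ℚ) ^ 2) * (9 * F) := by rw [hN]; ring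
        _ ≤ 2 ^ (2 * 4 - 3) * k0 * (9 * (A : ℚ) ^ 2) * (81 / 4 * (A : ℚ) ^ 2) :=
            mul_le_mul_of_nonneg_left hF9 (by positivity)
        _ ≤ _ := mul_le_mul_of_nonneg_right (mul_le_mul_of_nonneg_right
            (mul_le_mul_of_nonneg_left hκ (by norm_num)) (by positivity)) (by positivity)
    ring_nf at h1 hk2 hlt hA4
    linarith

/-- The count leaves only `p = m = T = 3`, `A = 1` and `n ≤ 4`. -/
theorem pair_cases {n s i p T A e m k N a b : ℕ} {X : ℤ} (hn : 3 ≤ n) (hs : 2 ≤ s) (hsn : n ≤ s + i)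
    (hi : 1 ≤ i) (he : Odd e) (hme : m = e * 2 ^ (i - 1)) (hm : 2 ≤ m) (hmp : m ≤ p) (hp : p.Prime)
    (hp2 : p ≠ 2) (hpT : p ≤ T) (hA : 1 ≤ A) (hb : 1 ≤ b)
    (hab : a ≤ b ∨ (i = 1 ∧ e * a ≤ b * (T * A))) (hX : (2 ^ n * p : ℤ) ∣ X - 1) (hX1 : X ≠ 1)
    (hk : (s = 3 ∧ T = 3 ∧ 105 * A ^ 2 ≤ k) ∨ kLow s T A ≤ (k : ℚ))
    (hlt : k ^ 2 * (m - 1) < N * m)
    (hf : (N : ℤ) * (X - 1) ^ 2 * (b : ℤ) ^ 2 =
      2 ^ (2 * n - 3) * (e : ℤ) ^ 2 * ((T : ℤ) * A) ^ 2 * ((a : ℤ) + b) ^ 2 * (X * (X + 1))) :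
    p = 3 ∧ T = 3 ∧ m = 3 ∧ i = 1 ∧ A = 1 ∧ ((n = 3 ∧ 55 ≤ k) ∨ (n = 4 ∧ 105 ≤ k)) := by
  have hp3 : 3 ≤ p := by have := hp.two_le; omega
  set F : ℚ := (((a : ℚ) + b) / b) ^ 2 with hFdef
  have hb' : (0 : ℚ) < b := by exact_mod_cast (show 0 < b by omega)
  have hN : (N : ℚ) = 2 ^ (2 * n - 3) * kFac X * ((e : ℚ) * T * A) ^ 2 * F := by
    have h : (N : ℚ) * ((X : ℚ) - 1) ^ 2 * (b : ℚ) ^ 2 =
        2 ^ (2 * n - 3) * (e : ℚ) ^ 2 * ((T : ℚ) * A) ^ 2 * ((a : ℚ) + b) ^ 2 * (X * (X + 1)) := by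
      exact_mod_cast hf
    have hX' : (X : ℚ) - 1 ≠ 0 := sub_ne_zero.2 (by exact_mod_cast hX1)
    rw [hFdef, kFac]
    field_simp
    linear_combination h
  have hlt' : (k : ℚ) ^ 2 * ((m : ℚ) - 1) < N * m := by
    have h : ((k ^ 2 * (m - 1) : ℕ) : ℚ) < ((N * m : ℕ) : ℚ) := by exact_mod_cast hlt
    rwa [Nat.cast_mul, Nat.cast_mul, Nat.cast_pow, Nat.cast_sub (by omega), Nat.cast_one] at h
  have hF : F ≤ 4 ∨ (i = 1 ∧ (e : ℚ) ^ 2 * F ≤ ((T : ℚ) * A + e) ^ 2) := by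
    rcases hab with h | ⟨h1, h⟩
    · left
      have h' : ((a : ℚ) + b) / b ≤ 2 := by
        rw [div_le_iff₀ hb']
        have : (a : ℚ) ≤ b := by exact_mod_cast h
        linarith
      exact (pow_le_pow_left₀ (by positivity) h' 2).trans (by norm_num)
    · right
      refine ⟨h1, ?_⟩
      rw [hFdef, ← mul_pow]
      refine pow_le_pow_left₀ (by positivity) ?_ 2
      rw [mul_div_assoc', div_le_iff₀ hb']
      have : (e : ℚ) * a ≤ b * ((T : ℚ) * A) := by exact_mod_cast h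
      linarith
  obtain ⟨B, hB, hB2, -, hB1⟩ := weight_bound hi hA hme (hmp.trans hpT) hF
  have hNle : ∀ κ : ℚ, kFac X ≤ κ → (N : ℚ) ≤ κ * ((2 : ℚ) ^ (s - 1) * T) ^ 2 * B * (A : ℚ) ^ 4 :=
    fun κ hκ => index_bound hsn hi (by omega) hN (kFac_nonneg X) hκ (sq_nonneg _) hB
  have hκ3 : p = 3 → kFac X ≤ 325 / 288 := fun h => by
    subst h
    exact (kFac_le_prime hn le_rfl hX hX1 (L := 25) (by norm_num)
      (by push_cast; linarith [pow_le_pow_right₀ (by norm_num : (1 : ℤ) ≤ 2) hn])).trans (by norm_num [kFac])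
  obtain ⟨hT, hm3, hi1, hcase⟩ : T = 3 ∧ m = 3 ∧ i = 1 ∧
      ((n = 3 ∧ 55 * (A : ℚ) ^ 2 ≤ k) ∨ (n = 4 ∧ 105 * (A : ℚ) ^ 2 ≤ k)) := by
    rcases hk with ⟨hs3, hT, hk⟩ | hk
    · subst hs3 hT
      obtain rfl : p = 3 := by omega
      exact ⟨rfl, seven_case hA he hi hme hm hmp hn hsn hB1 le_rfl
        (hNle _ (hκ3 rfl)) (by exact_mod_cast hk) hlt'⟩
    · exact generic hs hsn hn hi he hme hm hmp hp hp2 hpT hX hX1 hk hA hB2 hB1 hNle hlt'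
  obtain rfl : p = 3 := by omega
  subst hT hm3 hi1
  obtain rfl : e = 3 := by simpa using hme.symm
  have hA1 : A = 1 := by
    refine param_one (n := n) (k := k) (k0 := kFac X) (F := F) (N := N) (by rw [hN]; push_cast; ring)
      (kFac_nonneg X) (hF.imp id fun h => ?_) hA ?_ (by norm_num at hlt'; linarith)
    · have h2 := h.2; push_cast at h2; linarith
    · refine hcase.imp (fun h => ⟨h.1, hκ3 rfl, h.2⟩) fun h => ⟨h.1, ?_, h.2⟩
      exact (kFac_le_prime hn le_rfl hX hX1 (L := 49) (by norm_num)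
        (by rw [h.1]; norm_num)).trans (by norm_num [kFac])
  subst hA1
  refine ⟨rfl, rfl, rfl, rfl, rfl, hcase.imp (fun h => ⟨h.1, ?_⟩) fun h => ⟨h.1, ?_⟩⟩ <;>
    · have := h.2; norm_num at this; exact_mod_cast this

/-- The exception of `pair_cases`, with `a = 3` and `b ∈ {3, 9}`. -/
theorem pair_exception {n b k N : ℕ} {X : ℤ} (hn : (n = 3 ∧ 55 ≤ k) ∨ (n = 4 ∧ 105 ≤ k))
    (hX : (2 ^ n * 3 : ℤ) ∣ X - 1) (hX1 : X ≠ 1) (hb : b = 3 ∨ b = 9) (hN : ¬ 3 ∣ N) (hkN : k ∣ 3 * N)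
    (hlt : k * (1 + 2 * k) ≤ 3 * N)
    (hf : (N : ℤ) * (X - 1) ^ 2 * (b : ℤ) ^ 2 = 2 ^ (2 * n - 3) * 81 * (3 + (b : ℤ)) ^ 2 * (X * (X + 1))) :
    False := by
  obtain ⟨j, hj⟩ := hX
  have hj0 : j ≠ 0 := fun e => hX1 (by rw [e, mul_zero] at hj; omega)
  have hn3 : 3 ≤ n := by omega
  rcases hb with rfl | rfl
  · -- `b = 3`
    have h2 : 2 ^ (2 * n - 3) * (2 : ℤ) ^ 2 = 2 ^ (2 * n - 1) := by rw [← pow_add]; congr 1; omega
    have h3 : ((2 : ℤ) ^ n) ^ 2 = 2 ^ (2 * n - 1) * 2 := by rw [← pow_mul, ← pow_succ]; congr 1; omega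
    have e1 : 2 * (N : ℤ) * j ^ 2 = 9 * (X * (X + 1)) := by
      rw [hj] at hf
      push_cast at hf
      refine mul_left_cancel₀ (show (2 : ℤ) ^ (2 * n - 1) * 81 ≠ 0 by positivity) ?_
      linear_combination hf - (81 * (N : ℤ) * j ^ 2) * h3 + (9 * 81 * X * (X + 1)) * h2
    obtain ⟨w, rfl⟩ : (3 : ℤ) ∣ j := by
      have h : (3 : ℤ) ∣ 2 * (N : ℤ) * j ^ 2 := ⟨3 * (X * (X + 1)), by rw [e1]; ring⟩
      rcases Int.prime_three.dvd_or_dvd h with h | h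
      · rcases Int.prime_three.dvd_or_dvd h with h | h
        · norm_num at h
        · exact absurd (by exact_mod_cast h) hN
      · exact Int.prime_three.dvd_of_dvd_pow h
    have e2 : 2 * (N : ℤ) * w ^ 2 = X * (X + 1) := by linarith [show 2 * (N : ℤ) * (3 * w) ^ 2 = 9 * (2 * (N : ℤ) * w ^ 2) by ring]
    have hw : w ∣ 2 := by
      have : w ∣ X * (X + 1) := ⟨2 * N * w, by rw [← e2]; ring⟩
      have h1 : w ∣ X - 1 := ⟨2 ^ n * 3 * 3, by rw [hj]; ring⟩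
      rw [show X * (X + 1) = (X - 1) * (X + 2) + 2 by ring] at this
      exact (dvd_add_right (h1.mul_right _)).1 this
    have hw' : w = 1 ∨ w = -1 ∨ w = 2 ∨ w = -2 := by
      have h1 := Int.le_of_dvd (by norm_num) hw
      have h2 := Int.le_of_dvd (by norm_num) (neg_dvd.2 hw)
      have h0 : w ≠ 0 := fun e => by simp [e] at hj0
      omega
    rcases hn with ⟨rfl, hk⟩ | ⟨rfl, hk⟩ <;> norm_num at hj <;>
      rcases hw' with rfl | rfl | rfl | rfl <;> norm_num at e2 hj <;>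
      obtain rfl : X = _ := sub_eq_iff_eq_add.1 hj <;> norm_num at e2 <;> try omega
    all_goals
      obtain rfl : N = _ := by exact_mod_cast (show (N : ℤ) = _ from Int.eq_ediv_of_mul_eq_right (by norm_num) e2)
    all_goals norm_num at hlt hkN
    all_goals
      first
        | (have : k ≤ 63 := by nlinarith
           interval_cases k <;> norm_num at hkN)
        | (have : k ≤ 125 := by nlinarith
           interval_cases k <;> norm_num at hkN)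
  · -- `b = 9`
    have hlt' : (k : ℚ) * (1 + 2 * (k : ℚ)) ≤ 3 * N := by exact_mod_cast hlt
    have hN' : (N : ℚ) = 2 ^ (2 * n - 3) * kFac X * 144 := by
      have h : (N : ℚ) * ((X : ℚ) - 1) ^ 2 * (9 : ℚ) ^ 2 =
          2 ^ (2 * n - 3) * 81 * (3 + (9 : ℚ)) ^ 2 * (X * (X + 1)) := by exact_mod_cast hf
      have hX' : (X : ℚ) - 1 ≠ 0 := sub_ne_zero.2 (by exact_mod_cast hX1)
      rw [kFac]
      field_simp
      norm_num at h
      linarith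
    rcases hn with ⟨rfl, hk⟩ | ⟨rfl, hk⟩
    · have hκ : kFac X ≤ 325 / 288 := (kFac_le_prime le_rfl le_rfl ⟨j, hj⟩ hX1 (L := 25) (by norm_num)
          (by norm_num)).trans (by norm_num [kFac])
      have hk' : (55 : ℚ) ≤ k := by exact_mod_cast hk
      norm_num at hN'
      nlinarith
    · have hκ : kFac X ≤ 1225 / 1152 := (kFac_le_prime (by norm_num) le_rfl ⟨j, hj⟩ hX1 (L := 49) (by norm_num)
          (by norm_num)).trans (by norm_num [kFac])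
      have hk' : (105 : ℚ) ≤ k := by exact_mod_cast hk
      norm_num at hN'
      nlinarith

end Cfsg.Agent.GWDihedral.PairArith
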