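import Cfsg.Agent.Lib.GWDihedral.CountPairSetup
import Cfsg.Agent.Lib.GWDihedral.PairArith

/-!
# Gorenstein-Walter, dihedral Sylow 2-subgroups of order at least eight: COUNT at a mixed pair

Section 5 of `notes/gw_dihedral_eight.md`. A conjugate of `X` is `X` of one conjugate of `t`; two of them share
at most one line, so `|G : N(Y)| ≥ 1 + k (m - 1)` while `|G : N(Y)| k = |G : C| m`.

* `count_pair` : no mixed pair, if `a ≤ b` or `r σ` inverts `X` and `|U| ≤ b |T_y| ²`
* `count_pair'` : the choice of the class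
-/

set_option autoImplicit false
set_option linter.unusedSectionVars false
set_option linter.style.haveILetI false

namespace Cfsg.Agent.GWDihedral

open Subgroup
open Cfsg.Agent.GWKlein (coreU coreW fourV)

universe u

variable {G : Type u} [Group G] [Finite G] {p n : ℕ} {t r σ y l : G} {X : Subgroup G}

namespace MixedPair

theorem normalizer_eq [IsSimpleGroup G] (h : MixedPair p t r y l X) (hd : DHyp n t r σ) (hM : Maximal t) :
    normalizer (X : Set G) = centralizer ({t} : Set G) := by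
  refine hM _ (fun e => ?_) h.normal
  haveI : X.Normal := normalizer_eq_top_iff.1 e
  rcases IsSimpleGroup.eq_bot_or_eq_top_of_normal X inferInstance with h1 | h1
  · exact h.ne_one_y (mem_bot.1 (h1 ▸ h.mem_y))
  · exact hd.ne_one_t (hd.eq_one_of_mem_coreU (h.le (h1.ge (mem_top t))) hd.sylow_mem_t)

/-- The double count of pairs of a conjugate of `t` and a line. -/
theorem double_count [IsSimpleGroup G] (h : MixedPair p t r y l X) (hd : DHyp n t r σ) (hM : Maximal t) :
    (centralizer ({t} : Set G)).relIndex (normalizer (zpowers y : Set G)) *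
        (normalizer (zpowers y : Set G)).index =
      (normalizer (zpowers y : Set G)).relIndex (centralizer ({t} : Set G)) *
        (centralizer ({t} : Set G)).index ∧
    1 + (centralizer ({t} : Set G)).relIndex (normalizer (zpowers y : Set G)) *
        ((normalizer (zpowers y : Set G)).relIndex (centralizer ({t} : Set G)) - 1) ≤
      (normalizer (zpowers y : Set G)).index := by
  classical
  have hNX := h.normalizer_eq hd hM
  set C := centralizer ({t} : Set G)
  set NY := normalizer (zpowers y : Set G)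
  constructor
  · have e1 := relIndex_mul_index (inf_le_right : C ⊓ NY ≤ NY)
    have e2 := relIndex_mul_index (inf_le_left : C ⊓ NY ≤ C)
    rw [inf_relIndex_right] at e1
    rw [inf_relIndex_left] at e2
    rw [e1, e2]
  let q0 : C ⧸ NY.subgroupOf C := ((1 : C) : C ⧸ NY.subgroupOf C)
  let f : Option ((NY ⧸ C.subgroupOf NY) × {q : C ⧸ NY.subgroupOf C // q ≠ q0}) → G ⧸ NY := fun o =>
    o.elim ((1 : G) : G ⧸ NY) fun hq => (((hq.1.out : G) * (hq.2.1.out : G) : G) : G ⧸ NY)
  have hout : ∀ q : {q : C ⧸ NY.subgroupOf C // q ≠ q0}, (q.1.out : G) ∉ NY := fun q hq => q.2 (by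
    rw [← q.1.out_eq', QuotientGroup.eq, mem_subgroupOf, mul_one]
    exact inv_mem hq)
  have hyN : ∀ g ∈ NY, g * y * g⁻¹ ∈ zpowers y := fun g hg =>
    (mem_normalizer_iff.1 hg y).1 (mem_zpowers y)
  have hinj : Function.Injective f := by
    rintro (_ | ⟨a, q⟩) (_ | ⟨a', q'⟩) e
    · rfl
    · have e' := QuotientGroup.eq.1 e
      rw [inv_one, one_mul] at e'
      exact absurd ((mul_mem_cancel_left a'.out.2).1 e') (hout q')
    · have e' := QuotientGroup.eq.1 e
      rw [mul_one, inv_mem_iff] at e'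
      exact absurd ((mul_mem_cancel_left a.out.2).1 e') (hout q)
    have e' := QuotientGroup.eq.1 e
    set g := (a.out : G)
    set g' := (a'.out : G)
    set c := (q.1.out : G)
    set c' := (q'.1.out : G)
    have hg : g ∈ NY := a.out.2
    have hg' : g' ∈ NY := a'.out.2
    have hc : c ∈ C := q.1.out.2
    have hc' : c' ∈ C := q'.1.out.2
    -- the line in both conjugates of `X`
    set z := g * (c * y * c⁻¹) * g⁻¹ with hz
    have hzX : z ∈ X.map (MulAut.conj g).toMonoidHom := ⟨_, h.conj_mem hc h.mem_y, rfl⟩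
    have hzX' : z ∈ X.map (MulAut.conj g').toMonoidHom := by
      obtain ⟨i, hi⟩ := mem_zpowers_iff.1 (hyN _ (inv_mem e'))
      refine ⟨c' * y ^ i * c'⁻¹, h.conj_mem hc' (zpow_mem h.mem_y i), ?_⟩
      show g' * (c' * y ^ i * c'⁻¹) * g'⁻¹ = z
      rw [hi, hz]; group
    have hyX : ∀ v ∈ NY, y ∈ X.map (MulAut.conj v).toMonoidHom := fun v hv =>
      ⟨v⁻¹ * y * v, zpowers_le.2 h.mem_y (by simpa using hyN _ (inv_mem hv)), by
        show v * (v⁻¹ * y * v) * v⁻¹ = y
        group⟩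
    have hcard : ∀ v : G, Nat.card (X.map (MulAut.conj v).toMonoidHom) = p ^ 2 := fun v =>
      (card_map_of_injective (MulAut.conj v).injective).trans h.card
    have hzy : z ∉ zpowers y := fun hm => by
      have h1 : g⁻¹ * z * g⁻¹⁻¹ ∈ zpowers y := (mem_normalizer_iff.1 (inv_mem hg) z).1 hm
      rw [show g⁻¹ * z * g⁻¹⁻¹ = c * y * c⁻¹ by rw [hz]; group] at h1
      exact hout q (mem_normalizer_zpowers h1)
    have heq : X.map (MulAut.conj g).toMonoidHom = X.map (MulAut.conj g').toMonoidHom :=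
      (h.line_eq (hyX g hg) hzX (hcard g) h.order_y hzy).symm.trans
        (h.line_eq (hyX g' hg') hzX' (hcard g') h.order_y hzy)
    have hgC : g⁻¹ * g' ∈ C := by
      rw [← hNX]
      refine Coprime.mem_normalizer_of_forall fun w hw => ?_
      obtain ⟨w', hw', hww⟩ := heq.ge ⟨w, hw, rfl⟩
      have hww' : g * w' * g⁻¹ = g' * w * g'⁻¹ := hww
      rw [show g⁻¹ * g' * w * (g⁻¹ * g')⁻¹ = g⁻¹ * (g' * w * g'⁻¹) * g by group, ← hww']
      simpa [mul_assoc] using hw'
    have haa : a = a' := by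
      rw [← a.out_eq', ← a'.out_eq', QuotientGroup.eq, mem_subgroupOf]
      exact hgC
    subst haa
    have hqq : q = q' := by
      refine Subtype.ext ?_
      rw [← q.1.out_eq', ← q'.1.out_eq', QuotientGroup.eq, mem_subgroupOf]
      show c⁻¹ * c' ∈ NY
      rwa [mul_inv_rev, mul_assoc, inv_mul_cancel_left] at e'
    rw [hqq]
  have h5 := Nat.card_le_card_of_injective f hinj
  rw [Finite.card_option, Nat.card_prod] at h5
  have h6 : Nat.card {q : C ⧸ NY.subgroupOf C // q ≠ q0} = NY.relIndex C - 1 := by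
    haveI := Fintype.ofFinite (C ⧸ NY.subgroupOf C)
    rw [Nat.card_eq_fintype_card, Fintype.card_subtype_compl, Fintype.card_subtype_eq,
      ← Nat.card_eq_fintype_card]
    rfl
  rw [h6, add_comm] at h5
  exact h5

theorem coreW_le_normalizer (h : MixedPair p t r y l X) (hd : DHyp n t r σ) :
    coreW t r ≤ normalizer (zpowers y : Set G) := fun w hw => by
  obtain ⟨hwt, hwr, -⟩ := hd.mem_coreW.1 hw
  refine mem_normalizer_zpowers (h.mem_of_fixed (h.conj_mem (mem_centralizer_t.2 hwt) h.mem_y) ?_)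
  exact (hwr.symm.mul_right h.fix_y).mul_right hwr.symm.inv_right

/-- The inverted elements normalising the line of `y` centralise it. -/
theorem commute_of_inverted (h : MixedPair p t r y l X) {x : G} (hx : Odd (orderOf x))
    (hxN : x ∈ normalizer (zpowers y : Set G)) (hr : r * x * r⁻¹ = x⁻¹) : Commute x y := by
  obtain ⟨i, hi⟩ := mem_zpowers_iff.1 ((mem_normalizer_iff.1 hxN y).1 (mem_zpowers y))
  have h1 : x⁻¹ * y * x = y ^ i := by
    calc x⁻¹ * y * x = r * x * r⁻¹ * y * (r * x * r⁻¹)⁻¹ := by rw [hr, inv_inv]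
      _ = r * (x * (r⁻¹ * y * r) * x⁻¹) * r⁻¹ := by group
      _ = y ^ i := by
          rw [h.fix_y.inv_left.eq, inv_mul_cancel_right, ← hi, ← conj_zpow, h.fix_y.eq, mul_inv_cancel_right]
  refine GWKlein.commute_of_sq hx (mul_inv_eq_iff_eq_mul.1 ?_)
  rw [pow_two, show x * x * y * (x * x)⁻¹ = x * (x * y * x⁻¹) * x⁻¹ by group, ← hi, ← h1]
  group

/-- `|U| = e a |T_y|`. -/
theorem card_coreU_eq (h : MixedPair p t r y l X) (hd : DHyp n t r σ) {T : Subgroup G}
    (hT : ∀ x, x ∈ T ↔ x ∈ coreU t ∧ Commute x y ∧ r * x * r⁻¹ = x⁻¹) :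
    Nat.card (coreU t) = (normalizer (zpowers y : Set G)).relIndex (coreU t) *
      (Nat.card (coreW t r) * Nat.card T) := by
  set NY := normalizer (zpowers y : Set G) with hNY
  set D := coreU t ⊓ NY with hD
  have e1 := relIndex_mul_relIndex ⊥ D (coreU t) bot_le inf_le_left
  rw [relIndex_bot_left, relIndex_bot_left, inf_relIndex_left] at e1
  rw [← e1, mul_comm]
  congr 1
  have hrD : r ∈ normalizer (D : Set G) := Coprime.mem_normalizer_of_forall fun w hw => by
    refine mem_inf.2 ⟨hd.conj_r_mem_coreU hw.1, ?_⟩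
    have hrN : r ∈ NY := mem_normalizer_zpowers (by rw [h.fix_y.eq, mul_inv_cancel_right]; exact mem_zpowers y)
    exact mul_mem (mul_mem hrN hw.2) (inv_mem hrN)
  rw [card_eq_fixed_mul_inverted D hd.mul_self_r hrD (hd.odd_coreU.of_dvd_nat (card_dvd_of_le inf_le_left)),
    show D ⊓ centralizer ({r} : Set G) = coreW t r from
      le_antisymm (le_inf (inf_le_left.trans inf_le_left) inf_le_right)
        (le_inf (le_inf inf_le_left (h.coreW_le_normalizer hd)) inf_le_right)]
  congr 1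
  refine Nat.card_congr (Equiv.subtypeEquivRight fun x => ?_)
  rw [hT]
  refine ⟨fun hx => ⟨hx.1.1, h.commute_of_inverted (hd.odd_orderOf hx.1.1) hx.1.2 hx.2, hx.2⟩,
    fun hx => ⟨⟨hx.1, mem_normalizer_zpowers ?_⟩, hx.2.2⟩⟩
  rw [hx.2.1.eq, mul_inv_cancel_right]
  exact mem_zpowers y

theorem not_isCyclic (h : MixedPair p t r y l X) : ¬ IsCyclic X := by
  intro hc
  obtain ⟨g, hg⟩ := hc.exists_generator
  have h1 : orderOf g = p ^ 2 := (orderOf_eq_card_of_forall_mem_zpowers hg).trans h.card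
  have h2 : p ^ 2 ∣ p := h1 ▸ orderOf_dvd_of_pow_eq_one (Subtype.ext (h.pow_p g.2))
  have h3 := Nat.le_of_dvd h.prime.pos h2
  have := h.prime.two_le
  nlinarith

/-- SYLOW: `p` is prime to `|G : C|`, and the cores of the classes miss a part of `U_p`. -/
theorem sylow_facts (h : MixedPair p t r y l X) (hd : DHyp n t r σ) (hS : SylowInG t r σ)
    (hfix : ¬ ∀ x ∈ X, Commute (r * σ) x) :
    ¬ p ∣ (centralizer ({t} : Set G)).index ∧
      (Nat.card (coreW t (r * σ))).factorization p < (Nat.card (coreU t)).factorization p := by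
  haveI := Fact.mk h.prime
  constructor
  · obtain ⟨P, hXP, hPU, hPS, hPp, hPc⟩ := hd.exists_invariant_sylow (p := p) hd.isPGroup_sylow hd.odd_coreU
      hd.sylow_le_normalizer_coreU h.le (IsPGroup.of_card h.card) (hd.sylow_le_centralizer.trans h.normal)
    have hG := hS p P h.prime h.ne_two hPU hPp
      (fun hc => h.not_isCyclic (isCyclic_of_injective (inclusion hXP) (inclusion_injective hXP)))
      hPc hPS (fun hc => ?_) fun hc => hfix fun x hx => (mem_centralizer_iff.1 hc x (hXP hx)).symm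
    · intro hdvd
      have e := card_mul_index (centralizer ({t} : Set G))
      rw [hd.card_centralizer] at e
      have h0 : 0 < (centralizer ({t} : Set G)).index := Nat.pos_of_ne_zero index_ne_zero_of_finite
      rw [← e, Nat.factorization_mul (mul_ne_zero (by positivity) Nat.card_pos.ne') h0.ne', Finsupp.add_apply,
        Nat.factorization_mul (by positivity) Nat.card_pos.ne', Finsupp.add_apply] at hG
      have := h.prime.factorization_pos_of_dvd h0.ne' hdvd
      omega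
    · have h1 : Commute r l := (mem_centralizer_iff.1 hc l (hXP h.mem_l)).symm
      exact h.ne_one_l (GWKlein.eq_one_of_fixed_inverted (h.order_l ▸ h.odd_p)
        (by rw [h1.eq, mul_inv_cancel_right]) h.inv_l)
  · have hle : (Nat.card (coreW t (r * σ))).factorization p ≤ (Nat.card (coreU t)).factorization p :=
      (Nat.factorization_le_iff_dvd Nat.card_pos.ne' Nat.card_pos.ne').2 (card_dvd_of_le inf_le_left) p
    refine lt_of_le_of_ne hle fun e => hfix fun x hx => ?_
    obtain ⟨S⟩ := (inferInstance : Nonempty (Sylow p (coreW t (r * σ))))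
    set S' := ((S : Subgroup (coreW t (r * σ))).map (coreW t (r * σ)).subtype).subgroupOf (coreU t)
    have hle' : (S : Subgroup (coreW t (r * σ))).map (coreW t (r * σ)).subtype ≤ coreU t :=
      (map_subtype_le _).trans inf_le_left
    have hS'c : Nat.card S' = p ^ (Nat.card (coreU t)).factorization p := by
      rw [Nat.card_congr (subgroupOfEquivOfLe hle').toEquiv,
        card_map_of_injective (coreW t (r * σ)).subtype_injective, S.card_eq_multiplicity, e]
    haveI : (X.subgroupOf (coreU t)).Normal := normal_subgroupOf_of_le_normalizer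
      ((GWKlein.coreU_le_centralizer t).trans h.normal)
    have hXp : IsPGroup p (X.subgroupOf (coreU t)) :=
      (IsPGroup.of_card (n := 2) h.card).of_equiv (subgroupOfEquivOfLe h.le).symm
    obtain ⟨R, hR⟩ := hXp.exists_le_sylow
    obtain ⟨g, hg⟩ := MulAction.exists_smul_eq (coreU t) R (Sylow.ofCard S' hS'c)
    have hx' : (⟨x, h.le hx⟩ : coreU t) ∈ ((Sylow.ofCard S' hS'c : Sylow p (coreU t)) : Subgroup (coreU t)) := by
      rw [← hg, Sylow.coe_subgroup_smul, mem_pointwise_smul_iff_inv_smul_mem]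
      refine hR ?_
      have := (inferInstance : (X.subgroupOf (coreU t)).Normal).conj_mem ⟨x, h.le hx⟩ hx g⁻¹
      simpa [MulAut.smul_def] using this
    obtain ⟨z, -, hz⟩ := (hx' : (⟨x, h.le hx⟩ : coreU t) ∈ S')
    have : x ∈ coreW t (r * σ) := (show (z : G) = x from hz) ▸ z.2
    exact (Involution.mem_centralizer_iff_commute.1 this.2).symm

end MixedPair

/-- An element of order three is only conjugate to itself and its inverse in its group. -/
theorem eq_or_eq_inv_of_three {a b : G} (ha : orderOf a = 3) (hb : b ∈ zpowers a) (hb1 : b ≠ 1) :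
    b = a ∨ b = a⁻¹ := by
  obtain ⟨i, rfl⟩ := mem_powers_iff_mem_zpowers.2 hb
  simp only at hb1 ⊢
  have h3 : a ^ 3 = 1 := ha ▸ pow_orderOf_eq_one a
  rw [← pow_mod_orderOf, ha] at hb1 ⊢
  rcases (show i % 3 = 0 ∨ i % 3 = 1 ∨ i % 3 = 2 by omega) with e | e | e
  · rw [e, pow_zero] at hb1; exact absurd rfl hb1
  · left; rw [e, pow_one]
  · right; rw [e]; exact eq_inv_of_mul_eq_one_left (by rw [← pow_succ, h3])

namespace MixedPair

variable (h : MixedPair 3 t r y l X)
include h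

theorem three_commute {g z : G} (hg : Odd (orderOf g)) (hz : z ∈ X) (hz1 : z ≠ 1)
    (hgz : g * z * g⁻¹ ∈ zpowers z) : Commute g z := by
  rcases eq_or_eq_inv_of_three (h.order_eq hz hz1) hgz (fun e => hz1 (conj_eq_one_iff.1 e)) with e | e
  · exact mul_inv_eq_iff_eq_mul.1 e
  · exact commute_of_odd_inverts hg e

/-- In an orbit of three lines the only one fixed by `r` is `⟨y⟩`, so `σ` fixes it. -/
theorem three_mem_normalizer (hd : DHyp n t r σ)
    (hm : (normalizer (zpowers y : Set G)).relIndex (centralizer ({t} : Set G)) = 3) :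
    σ ∈ normalizer (zpowers y : Set G) := by
  classical
  haveI := Fact.mk Nat.prime_two
  set C := centralizer ({t} : Set G)
  set NY := normalizer (zpowers y : Set G)
  set N := NY.subgroupOf C
  set q0 : C ⧸ N := ((1 : C) : C ⧸ N)
  have hrC : r ∈ C := mem_centralizer_t.2 hd.comm_t_r.symm
  have hrN : r ∈ NY := mem_normalizer_zpowers (by rw [h.fix_y.eq, mul_inv_cancel_right]; exact mem_zpowers y)
  set rC : C := ⟨r, hrC⟩
  -- a line fixed by `r` is `⟨y⟩` or `⟨l⟩`
  have key : ∀ q : C ⧸ N, rC • q = q → q = q0 ∨ zpowers ((q.out : G) * y * (q.out : G)⁻¹) = zpowers l := by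
    intro q hq
    rw [← q.out_eq', MulAction.Quotient.smul_coe, smul_eq_mul, QuotientGroup.eq, mem_subgroupOf] at hq
    set g := (q.out : G) with hg
    have hq' : g⁻¹ * r * g ∈ NY := by
      have : (r * g)⁻¹ * g ∈ NY := hq
      have := inv_mem this
      simpa [mul_assoc] using this
    set z := g * y * g⁻¹ with hz
    have hzX : z ∈ X := h.conj_mem q.out.2 h.mem_y
    have hz1 : z ≠ 1 := fun e => h.ne_one_y (conj_eq_one_iff.1 e)
    have hr : r * z * r⁻¹ ∈ zpowers z := by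
      obtain ⟨i, hi⟩ := mem_zpowers_iff.1 ((mem_normalizer_iff.1 hq' y).1 (mem_zpowers y))
      refine mem_zpowers_iff.2 ⟨i, ?_⟩
      rw [hz, conj_zpow, hi]; group
    rcases eq_or_eq_inv_of_three (h.order_eq hzX hz1) hr (fun e => hz1 (conj_eq_one_iff.1 e)) with e | e
    · left
      have h1 : z ∈ zpowers y := h.mem_of_fixed hzX (mul_inv_eq_iff_eq_mul.1 e)
      rw [← q.out_eq', QuotientGroup.eq, mem_subgroupOf, mul_one]
      exact inv_mem (mem_normalizer_zpowers h1)
    · exact Or.inr (zpowers_eq_of_prime h.prime h.order_l (h.mem_of_inverted hzX e) hz1)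
  have huniq : ∀ q q' : C ⧸ N, q ≠ q0 → q' ≠ q0 → rC • q = q → rC • q' = q' → q = q' := by
    intro q q' hq hq' e e'
    have h1 := (key q e).resolve_left hq
    have h2 := (key q' e').resolve_left hq'
    rw [← q.out_eq', ← q'.out_eq', QuotientGroup.eq, mem_subgroupOf]
    refine mem_normalizer_zpowers ?_
    obtain ⟨i, hi⟩ := mem_zpowers_iff.1 (h1.trans h2.symm ▸ mem_zpowers ((q.out : G) * y * (q.out : G)⁻¹) :
      (q.out : G) * y * (q.out : G)⁻¹ ∈ zpowers ((q'.out : G) * y * (q'.out : G)⁻¹))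
    obtain ⟨j, hj⟩ := mem_zpowers_iff.1 ((h2.trans h1.symm) ▸ mem_zpowers ((q'.out : G) * y * (q'.out : G)⁻¹) :
      (q'.out : G) * y * (q'.out : G)⁻¹ ∈ zpowers ((q.out : G) * y * (q.out : G)⁻¹))
    refine mem_zpowers_iff.2 ⟨j, ?_⟩
    rw [conj_zpow] at hj
    show y ^ j = ((q.out : G)⁻¹ * (q'.out : G)) * y * ((q.out : G)⁻¹ * (q'.out : G))⁻¹
    calc y ^ j = (q.out : G)⁻¹ * ((q.out : G) * y ^ j * (q.out : G)⁻¹) * (q.out : G) := by group
      _ = _ := by rw [hj]; group
  have hfix0 : rC • q0 = q0 := by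
    rw [MulAction.Quotient.smul_coe, QuotientGroup.eq, mem_subgroupOf]
    simpa using hrN
  have honly : ∀ q : C ⧸ N, rC • q = q → q = q0 := by
    intro q hq
    by_contra hne
    haveI := Fintype.ofFinite (C ⧸ N)
    obtain ⟨x, -, hx⟩ := Finset.exists_mem_notMem_of_card_lt_card (s := ({q0, q} : Finset (C ⧸ N)))
      (t := Finset.univ) (by
        rw [Finset.card_pair (Ne.symm hne), Finset.card_univ, ← Nat.card_eq_fintype_card]
        rw [show Nat.card (C ⧸ N) = 3 from hm]; norm_num)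
    simp only [Finset.mem_insert, Finset.mem_singleton, not_or] at hx
    have hfx : rC • x = x := by
      have huniv : ({q0, q, x} : Finset (C ⧸ N)) = Finset.univ := by
        refine Finset.eq_univ_of_card _ ?_
        rw [Finset.card_insert_of_notMem (by simp [Ne.symm hne, Ne.symm hx.1]),
          Finset.card_pair (Ne.symm hx.2), ← Nat.card_eq_fintype_card]
        exact hm.symm
      have := huniv.ge (Finset.mem_univ (rC • x))
      simp only [Finset.mem_insert, Finset.mem_singleton] at this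
      rcases this with e | e | e
      · exact absurd (MulAction.injective rC (e.trans hfix0.symm)) hx.1
      · exact absurd (MulAction.injective rC (e.trans hq.symm)) hx.2
      · exact e
    exact hx.2 (huniq x q hx.1 hne hfx hq)
  have hσC : σ ∈ C := mem_centralizer_t.2 hd.comm_t_σ.symm
  set S := (closure ({σ, r} : Set G)).subgroupOf C
  obtain ⟨q, hq⟩ := (hd.isPGroup_sylow.of_equiv (subgroupOfEquivOfLe hd.sylow_le_centralizer).symm :
    IsPGroup 2 S).nonempty_fixed_point_of_prime_not_dvd_card (C ⧸ N) (by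
      rw [show Nat.card (C ⧸ N) = 3 from hm]; norm_num)
  have hσ := hq ⟨⟨σ, hσC⟩, hd.sylow_mem_σ⟩
  obtain rfl := honly q (hq ⟨rC, hd.sylow_mem_r⟩)
  change (⟨σ, hσC⟩ : C) • q0 = q0 at hσ
  rw [MulAction.Quotient.smul_coe, QuotientGroup.eq, mem_subgroupOf] at hσ
  simpa using hσ

/-- In the exception `σ ^ 2` centralises `X`. -/
theorem three_sq_commute (hd : DHyp n t r σ) (hσ : σ ∈ normalizer (zpowers y : Set G)) {x : G} (hx : x ∈ X) :
    Commute (σ ^ 2) x := by
  have hσC : σ ∈ centralizer ({t} : Set G) := mem_centralizer_t.2 hd.comm_t_σ.symm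
  have hσy : σ * y * σ⁻¹ = y ∨ σ * y * σ⁻¹ = y⁻¹ := eq_or_eq_inv_of_three h.order_y
    ((mem_normalizer_iff.1 hσ y).1 (mem_zpowers y)) fun e => h.ne_one_y (conj_eq_one_iff.1 e)
  have hy2 : Commute (σ ^ 2) y := by
    refine mul_inv_eq_iff_eq_mul.1 ?_
    rw [pow_two, show σ * σ * y * (σ * σ)⁻¹ = σ * (σ * y * σ⁻¹) * σ⁻¹ by group]
    rcases hσy with e | e
    · rw [e, e]
    · rw [e, ← conj_inv, e, inv_inv]
  have hYpow : ∀ a ∈ zpowers y, Commute (σ ^ 2) a := fun a ha => by
    obtain ⟨i, rfl⟩ := mem_zpowers_iff.1 ha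
    exact hy2.zpow_right i
  obtain ⟨a, ha, b, hb, he⟩ := h.exists_mul (h.conj_mem hσC h.mem_l)
  have haX := zpowers_le.2 h.mem_y ha
  have hb' : b = l ∨ b = l⁻¹ := by
    refine eq_or_eq_inv_of_three h.order_l hb fun e => ?_
    rw [e, mul_one] at he
    have h1 : σ⁻¹ * a * σ⁻¹⁻¹ ∈ zpowers y := (mem_normalizer_iff.1 (inv_mem hσ) a).1 ha
    rw [← he, show σ⁻¹ * (σ * l * σ⁻¹) * σ⁻¹⁻¹ = l by group] at h1
    have h2 : r * l * r⁻¹ = l := by
      obtain ⟨i, rfl⟩ := mem_zpowers_iff.1 h1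
      rw [← conj_zpow, h.fix_y.eq, mul_inv_cancel_right]
    exact h.ne_one_l (GWKlein.eq_one_of_fixed_inverted (h.order_l ▸ h.odd_p) h2 h.inv_l)
  have hd' : ∃ d ∈ zpowers y, σ ^ 2 * l * (σ ^ 2)⁻¹ = l * d := by
    have hσa : σ * a * σ⁻¹ ∈ zpowers y := (mem_normalizer_iff.1 hσ a).1 ha
    have e2 : σ ^ 2 * l * (σ ^ 2)⁻¹ = σ * a * σ⁻¹ * (σ * b * σ⁻¹) := by
      rw [pow_two, show σ * σ * l * (σ * σ)⁻¹ = σ * (σ * l * σ⁻¹) * σ⁻¹ by group, he]; group
    rcases hb' with rfl | rfl
    · refine ⟨σ * a * σ⁻¹ * a, mul_mem hσa ha, ?_⟩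
      rw [e2, he, ← mul_assoc, (h.comm (mul_mem (zpowers_le.2 h.mem_y hσa) haX) h.mem_l).eq]
    · refine ⟨σ * a * σ⁻¹ * a⁻¹, mul_mem hσa (inv_mem ha), ?_⟩
      rw [e2, ← conj_inv, he, mul_inv_rev, inv_inv, ← mul_assoc,
        (h.comm (zpowers_le.2 h.mem_y hσa) h.mem_l).eq, mul_assoc]
  obtain ⟨d, hdy, hd2⟩ := hd'
  have hd1 : d = 1 := eq_one_of_step (hYpow d hdy) hd2 hd.sq_pow_eq_one
    (h.odd_p.of_dvd_nat (h.order_y ▸ orderOf_dvd_of_mem_zpowers hdy))
  rw [hd1, mul_one] at hd2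
  have hl2 : Commute (σ ^ 2) l := mul_inv_eq_iff_eq_mul.1 hd2
  obtain ⟨a', ha', b', hb'', rfl⟩ := h.exists_mul hx
  obtain ⟨i, rfl⟩ := mem_zpowers_iff.1 hb''
  exact (hYpow a' ha').mul_right (hl2.zpow_right i)

/-- In the exception `a = 3`. -/
theorem three_card_coreW (hd : DHyp n t r σ) (hC : SigmaFix t r σ) (hK : NoCommuting t r σ)
    (hcs : CentShape t r σ)
    (hm : (normalizer (zpowers y : Set G)).relIndex (centralizer ({t} : Set G)) = 3)
    (he : (normalizer (zpowers y : Set G)).relIndex (coreU t) = 3) {T : Subgroup G}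
    (hT : ∀ x, x ∈ T ↔ x ∈ coreU t ∧ Commute x y ∧ r * x * r⁻¹ = x⁻¹) (hTc : Nat.card T = 3) :
    Nat.card (coreW t r) = 3 := by
  classical
  have hu := h.card_coreU_eq hd hT
  rw [he, hTc] at hu
  have hσ := h.three_mem_normalizer hd hm
  have hX2 := h.three_sq_commute hd hσ (x := y) h.mem_y
  have hyW := h.mem_coreW hd
  have hypp : IsPrimePow (orderOf y) := h.order_y ▸ h.prime.isPrimePow
  have hσyY : σ * y * σ⁻¹ ∈ zpowers y := (mem_normalizer_iff.1 hσ y).1 (mem_zpowers y)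
  -- `σ ^ 2` centralises `U`
  have hσU : ∀ x ∈ coreU t, Commute (σ ^ 2) x := by
    intro x hx
    have hσ2C : σ ^ 2 ∈ centralizer ({t} : Set G) := pow_mem (mem_centralizer_t.2 hd.comm_t_σ.symm) 2
    have hσx : σ ^ 2 * x * (σ ^ 2)⁻¹ ∈ coreU t :=
      (mem_normalizer_iff.1 (GWKlein.centralizer_le_normalizer_coreU t hσ2C) x).1 hx
    have hdU : x⁻¹ * (σ ^ 2 * x * (σ ^ 2)⁻¹) ∈ coreU t := mul_mem (inv_mem hx) hσx
    have hdy : Commute (x⁻¹ * (σ ^ 2 * x * (σ ^ 2)⁻¹)) y := by
      refine mul_inv_eq_iff_eq_mul.1 ?_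
      have hxy : x * y * x⁻¹ ∈ X := h.conj_mem (GWKlein.coreU_le_centralizer t hx) h.mem_y
      calc x⁻¹ * (σ ^ 2 * x * (σ ^ 2)⁻¹) * y * (x⁻¹ * (σ ^ 2 * x * (σ ^ 2)⁻¹))⁻¹
          = x⁻¹ * (σ ^ 2 * (x * ((σ ^ 2)⁻¹ * y * σ ^ 2) * x⁻¹) * (σ ^ 2)⁻¹) * x := by group
        _ = y := by
            rw [hX2.inv_left.eq, inv_mul_cancel_right, (h.three_sq_commute hd hσ hxy).eq, mul_inv_cancel_right]
            group
    have hd1 := eq_one_of_step (x := x) (hC y hyW hypp hσyY _ hdU hdy) (by group) hd.sq_pow_eq_one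
      (hd.odd_orderOf hdU)
    rw [inv_mul_eq_one] at hd1
    exact mul_inv_eq_iff_eq_mul.1 hd1.symm
  obtain ⟨g, hgU, hgi, hgy⟩ := hK hσU y hyW hypp
  have hgl : g ∉ zpowers l := fun hg => hgy (by
    obtain ⟨i, rfl⟩ := mem_zpowers_iff.1 hg
    exact (h.comm (zpow_mem h.mem_l i) h.mem_y))
  -- nine inverted elements
  set I := {x : G // x ∈ coreU t ∧ r * x * r⁻¹ = x⁻¹}
  have hI : Nat.card I = 9 := by
    have e := card_eq_fixed_mul_inverted (coreU t) hd.mul_self_r
      (hd.sylow_le_normalizer_coreU hd.sylow_mem_r) hd.odd_coreU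
    change Nat.card (coreU t) = Nat.card (coreW t r) * Nat.card I at e
    have h0 : 0 < Nat.card (coreW t r) := Nat.card_pos
    rw [hu] at e
    exact Nat.eq_of_mul_eq_mul_left h0 (by linarith)
  have hcomm : ∀ w ∈ coreW t r, Commute w y ∧ Commute w l := by
    intro w hw
    obtain ⟨hwt, hwr, hwo⟩ := hd.mem_coreW.1 hw
    have hwC := mem_centralizer_t.2 hwt
    refine ⟨h.three_commute hwo h.mem_y h.ne_one_y
      ((mem_normalizer_iff.1 (h.coreW_le_normalizer hd hw) y).1 (mem_zpowers y)),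
      h.three_commute hwo h.mem_l h.ne_one_l (h.mem_of_inverted (h.conj_mem hwC h.mem_l) ?_)⟩
    calc r * (w * l * w⁻¹) * r⁻¹ = r * w * r⁻¹ * (r * l * r⁻¹) * (r * w * r⁻¹)⁻¹ := by group
      _ = (w * l * w⁻¹)⁻¹ := by rw [h.inv_l, hwr.symm.eq, mul_inv_cancel_right]; group
  -- no element of `W` commutes with `g`
  have hfree : ∀ w ∈ coreW t r, Commute w g → w = 1 := by
    intro w hw hwg
    by_contra hw1
    obtain ⟨q, hq, hqw⟩ := Nat.exists_prime_and_dvd (n := orderOf w) fun e => hw1 (orderOf_eq_one_iff.1 e)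
    set w' := w ^ ordCompl[q] (orderOf w)
    have hpp : IsPrimePow (orderOf w') := orderOf_ordCompl_pow_pair hq hqw
    have hw'W : w' ∈ coreW t r := pow_mem hw _
    have hw'1 : w' ≠ 1 := fun e => hpp.ne_one (by rw [e, orderOf_one])
    obtain ⟨T', _, _, _, _, hT', hmem, -⟩ := hcs w' hw'W hpp hw'1
    have hgT : g ∈ T' := (hmem g).2 ⟨hgU, (hwg.pow_left _).symm, hgi⟩
    have hlT : l ∈ T' := (hmem l).2 ⟨h.le h.mem_l, ((hcomm w hw).2.pow_left _).symm, h.inv_l⟩
    let f : T' → I := fun x => ⟨x, ((hmem x).1 x.2).1, ((hmem x).1 x.2).2.2⟩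
    have hf : Function.Injective f := fun a b e => Subtype.ext (congrArg (fun z : I => (z : G)) e)
    have hle := Nat.card_le_card_of_injective f hf
    rw [hI] at hle
    obtain ⟨m, hm3⟩ := (h.order_l ▸ orderOf_dvd_natCard T' hlT : 3 ∣ Nat.card T')
    have hodd : Odd (Nat.card T') := hd.odd_coreU.of_dvd_nat (card_dvd_of_le fun x hx => ((hmem x).1 hx).1)
    have hne : Nat.card T' ≠ 3 := fun e => hgl <| by
      have : zpowers l = T' := eq_of_le_of_card_ge (zpowers_le.2 hlT) (by rw [Nat.card_zpowers, h.order_l, e])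
      exact this ▸ hgT
    have h9 : Nat.card T' = 9 := by
      rw [hm3] at hle hne hodd ⊢
      obtain ⟨k, hk⟩ := hodd
      omega
    have hsurj := (hf.bijective_of_nat_card_le (by rw [hI, h9])).2
    obtain ⟨x, hxU, hxi, hxw⟩ := hK hσU w' hw'W hpp
    obtain ⟨z, hz⟩ := hsurj ⟨x, hxU, hxi⟩
    have e : (z : G) = x := congrArg (fun v : I => (v : G)) hz
    exact hxw (e ▸ ((hmem z).1 z.2).2.1)
  -- at most six
  let f : coreW t r → {x : I // ¬ Commute (x : G) y} := fun w => ⟨⟨(w : G) * g * (w : G)⁻¹, by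
      exact (mem_normalizer_iff.1 (GWKlein.centralizer_le_normalizer_coreU t
        (mem_centralizer_t.2 (hd.mem_coreW.1 w.2).1)) g).1 hgU, by
      have e : r * w * r⁻¹ = w := by rw [(hd.mem_coreW.1 w.2).2.1.symm.eq, mul_inv_cancel_right]
      calc r * ((w : G) * g * (w : G)⁻¹) * r⁻¹ = r * w * r⁻¹ * (r * g * r⁻¹) * (r * w * r⁻¹)⁻¹ := by group
        _ = _ := by rw [e, hgi]; group⟩, fun hc => hgy (by
      have := hc.map (MulAut.conj (w : G)⁻¹).toMonoidHom
      simp only [MulEquiv.coe_toMonoidHom, MulAut.conj_apply, inv_inv] at this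
      rwa [show (w : G)⁻¹ * ((w : G) * g * (w : G)⁻¹) * w = g by group,
        (hcomm w w.2).1.inv_left.eq, inv_mul_cancel_right] at this)⟩
  have hf : Function.Injective f := fun a b e => by
    have e' : (a : G) * g * (a : G)⁻¹ = (b : G) * g * (b : G)⁻¹ :=
      congrArg (fun v : {x : I // ¬ Commute (x : G) y} => ((v : I) : G)) e
    refine Subtype.ext ?_
    have := hfree ((b : G)⁻¹ * a) (mul_mem (inv_mem b.2) a.2) (by
      refine mul_inv_eq_iff_eq_mul.1 ?_
      calc (b : G)⁻¹ * a * g * ((b : G)⁻¹ * a)⁻¹ = (b : G)⁻¹ * ((a : G) * g * (a : G)⁻¹) * b := by group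
        _ = g := by rw [e']; group)
    exact (inv_mul_eq_one.1 this).symm
  have hle := Nat.card_le_card_of_injective f hf
  have h6 : Nat.card {x : I // ¬ Commute (x : G) y} = 6 := by
    haveI := Fintype.ofFinite I
    have h3 : Nat.card {x : I // Commute (x : G) y} = 3 := hTc ▸ Nat.card_congr
      { toFun := fun x => (⟨((x : I) : G), (hT _).2 ⟨x.1.2.1, x.2, x.1.2.2⟩⟩ : T)
        invFun := fun x => ⟨⟨x, ((hT _).1 x.2).1, ((hT _).1 x.2).2.2⟩, ((hT _).1 x.2).2.1⟩
        left_inv := fun _ => rfl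
        right_inv := fun _ => rfl }
    rw [Nat.card_eq_fintype_card, Fintype.card_subtype_compl, ← Nat.card_eq_fintype_card,
      ← Nat.card_eq_fintype_card, hI, h3]
  rw [h6] at hle
  obtain ⟨m, hm3⟩ := (h.order_y ▸ orderOf_dvd_natCard (coreW t r) hyW : 3 ∣ Nat.card (coreW t r))
  obtain ⟨k, hk⟩ := hd.odd_coreW
  omega
where
  orderOf_ordCompl_pow_pair {x : G} {q : ℕ} (hq : q.Prime) (hqx : q ∣ orderOf x) :
      IsPrimePow (orderOf (x ^ ordCompl[q] (orderOf x))) := by
    have h0 : 0 < ordCompl[q] (orderOf x) := Nat.ordCompl_pos q (orderOf_pos x).ne'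
    rw [orderOf_pow_of_dvd h0.ne' (Nat.ordCompl_dvd _ _),
      show orderOf x / ordCompl[q] (orderOf x) = q ^ (orderOf x).factorization q from
        Nat.div_eq_of_eq_mul_left h0 (Nat.ordProj_mul_ordCompl_eq_self _ _).symm]
    exact (Nat.Prime.isPrimePow hq).pow (hq.factorization_pos_of_dvd (orderOf_pos x).ne' hqx).ne'

end MixedPair

/-- COUNT. -/
theorem count_pair [IsSimpleGroup G] (B : CaseB n t r σ) (hM : Maximal t) (hS : SylowInG t r σ)
    (hN : NoNormalInW t r) (hN' : NoNormalInW t (r * σ)) (hC : SigmaFix t r σ) (hK : NoCommuting t r σ)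
    (h : MixedPair p t r y l X)
    (hF : Nat.card (coreW t r) ≤ Nat.card (coreW t (r * σ)) ∨
      ((∀ x ∈ X, r * σ * x * (r * σ)⁻¹ = x⁻¹) ∧ Nat.card (coreU t) ≤ Nat.card (coreW t (r * σ)) *
        Nat.card {x : G // x ∈ coreU t ∧ Commute x y ∧ r * x * r⁻¹ = x⁻¹} ^ 2)) :
    False := by
  have hd := B.ctx.hyp
  have hp := h.prime
  have hfix : ¬ ∀ x ∈ X, Commute (r * σ) x := fun hall => h.ne_one_y <| by
    have hle : X ≤ coreW t (r * σ) := fun x hx =>
      mem_inf.2 ⟨h.le hx, mem_centralizer_singleton_iff.2 (hall x hx).symm.eq⟩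
    exact mem_bot.1 (hN' p X hp h.elementary hle h.normal ▸ h.mem_y)
  obtain ⟨T, τ, A, s, k, -, hT, hTc, hA, hs, hs2, hk, hkk⟩ :=
    B.centShape y (h.mem_coreW hd) (h.order_y ▸ hp.isPrimePow) h.ne_one_y
  obtain ⟨Xi, hX2, hX1, -, hform⟩ := B.ctx.formula
  set C := centralizer ({t} : Set G) with hCdef
  set NY := normalizer (zpowers y : Set G) with hNYdef
  set a := Nat.card (coreW t r) with hadef
  set b := Nat.card (coreW t (r * σ)) with hbdef
  set u := Nat.card (coreU t) with hudef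
  set e := NY.relIndex (coreU t)
  set m := NY.relIndex C
  set N := C.index
  set k' := C.relIndex NY
  have hu : u = e * (a * (τ * A)) := by rw [← hTc]; exact h.card_coreU_eq hd hT
  obtain ⟨c, hcn, hUc, hmc'⟩ := MixedPair.orbit_eq hd (zpowers y)
  have hmc : m = e * 2 ^ (n - c) := hmc'
  have he : Odd e := MixedPair.odd_orbit_coreU hd _
  have hm2 : 2 ≤ m := by
    have h1 : m ≠ 1 := fun e1 => h.not_normal hd hN (relIndex_eq_one.1 e1)
    have h0 : m ≠ 0 := index_ne_zero_of_finite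
    omega
  have hmp : m ≤ p := h.card_orbit_le hd hfix
  have hsn : n ≤ s + (n - c + 1) := by
    have := h.exists_sylow hd hUc
    rw [← hs] at this
    omega
  have hTpos : 0 < τ * A := hTc ▸ Nat.card_pos
  have hpT : p ≤ τ := by
    have hl : p ∣ τ * A := hTc ▸ h.order_l ▸ orderOf_dvd_natCard T ((hT l).2
      ⟨h.le h.mem_l, h.comm h.mem_l h.mem_y, h.inv_l⟩)
    rcases hp.dvd_mul.1 hl with h1 | h1
    · exact Nat.le_of_dvd (Nat.pos_of_mul_pos_right hTpos) h1
    · exact absurd (h.order_y ▸ orderOf_dvd_natCard _ (h.mem_coreW hd)) (hA p hp h1).2.1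
  have hA1 : 1 ≤ A := Nat.pos_of_mul_pos_left hTpos
  have hb1 : 1 ≤ b := Nat.card_pos
  have hcard : Nat.card G = N * (2 ^ n * u) := by
    rw [← card_mul_index C, hd.card_centralizer, mul_comm]
  have hu0 : (u : ℤ) ≠ 0 := by exact_mod_cast (Nat.card_pos (α := coreU t)).ne'
  have hf1 : (N : ℤ) * 2 ^ n * (Xi - 1) ^ 2 * (a : ℤ) ^ 2 * (b : ℤ) ^ 2 =
      2 ^ (3 * n - 3) * (u : ℤ) ^ 2 * ((a : ℤ) + b) ^ 2 * (Xi * (Xi + 1)) := by
    rw [hcard] at hform
    push_cast at hform
    refine mul_left_cancel₀ hu0 ?_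
    linear_combination hform
  obtain ⟨hNp, hbu⟩ := h.sylow_facts hd hS hfix
  have hau : a.factorization p < u.factorization p := by
    have hl : p ∣ τ * A := hTc ▸ h.order_l ▸ orderOf_dvd_natCard T ((hT l).2
      ⟨h.le h.mem_l, h.comm h.mem_l h.mem_y, h.inv_l⟩)
    have he0 : e ≠ 0 := Nat.pos_iff_ne_zero.1 he.pos
    have ha0 : a ≠ 0 := (Nat.card_pos (α := coreW t r)).ne'
    rw [hu, Nat.factorization_mul he0 (mul_ne_zero ha0 hTpos.ne'), Finsupp.add_apply,
      Nat.factorization_mul ha0 hTpos.ne', Finsupp.add_apply]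
    have := hp.factorization_pos_of_dvd hTpos.ne' hl
    omega
  have hpX := PairArith.prime_dvd_sub_one hp h.ne_two hNp Nat.card_pos.ne' Nat.card_pos.ne' hau hbu hf1
  have hX : (2 ^ n * p : ℤ) ∣ Xi - 1 := by
    refine IsCoprime.mul_dvd ?_ hX2 hpX
    rw [Int.isCoprime_iff_nat_coprime]
    simpa using ((Nat.coprime_primes Nat.prime_two hp).2 (Ne.symm h.ne_two)).pow_left n
  have hn3 := hd.three_le
  have hf : (N : ℤ) * (Xi - 1) ^ 2 * (b : ℤ) ^ 2 =
      2 ^ (2 * n - 3) * (e : ℤ) ^ 2 * ((τ : ℤ) * A) ^ 2 * ((a : ℤ) + b) ^ 2 * (Xi * (Xi + 1)) := by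
    have h2 : (2 : ℤ) ^ (3 * n - 3) = 2 ^ n * 2 ^ (2 * n - 3) := by rw [← pow_add]; congr 1; omega
    rw [h2, hu] at hf1
    push_cast at hf1
    refine mul_left_cancel₀ (mul_ne_zero (pow_ne_zero n (two_ne_zero : (2 : ℤ) ≠ 0)) (pow_ne_zero 2
      (show (a : ℤ) ≠ 0 by exact_mod_cast (Nat.card_pos (α := coreW t r)).ne'))) ?_
    linear_combination hf1
  -- `k` against the orbit of `t` under `N(Y)`
  have hyt : centralizer ({y, t} : Set G) = centralizer ({y} : Set G) ⊓ C := by
    ext x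
    simp [hCdef, mem_centralizer_iff]
  have hkC : k = C.relIndex (centralizer ({y} : Set G)) := by
    have e1 := relIndex_mul_relIndex ⊥ (centralizer ({y} : Set G) ⊓ C) (centralizer ({y} : Set G)) bot_le
      inf_le_left
    rw [relIndex_bot_left, relIndex_bot_left, inf_relIndex_left, hk, hyt, mul_comm k] at e1
    exact (Nat.eq_of_mul_eq_mul_left Nat.card_pos e1).symm
  have hk' : k ≤ k' := hkC ▸ relIndex_le_of_le_right (fun x hx => mem_normalizer_zpowers (by
    rw [(mem_centralizer_singleton_iff.1 hx : x * y = y * x), mul_inv_cancel_right]; exact mem_zpowers y))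
    index_ne_zero_of_finite
  obtain ⟨hdc', hlow'⟩ := h.double_count hd hM
  have hdc : k' * NY.index = m * N := hdc'
  have hlow : 1 + k' * (m - 1) ≤ NY.index := hlow'
  have hk0 : 0 < k' := Nat.pos_of_ne_zero index_ne_zero_of_finite
  have hbound : k' * (1 + k' * (m - 1)) ≤ N * m := by
    calc k' * (1 + k' * (m - 1)) ≤ k' * NY.index := Nat.mul_le_mul_left _ hlow
      _ = N * m := by rw [hdc, mul_comm]
  have hlt : k ^ 2 * (m - 1) < N * m := by
    have := Nat.mul_le_mul_right (m - 1) (Nat.pow_le_pow_left hk' 2)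
    calc k ^ 2 * (m - 1) ≤ k' ^ 2 * (m - 1) := this
      _ < k' * (1 + k' * (m - 1)) := by rw [mul_add, mul_one, ← mul_assoc, ← pow_two]; omega
      _ ≤ N * m := hbound
  have hkq : (s = 3 ∧ τ = 3 ∧ 105 * A ^ 2 ≤ k) ∨ CountArith.kLow s τ A ≤ (k : ℚ) := by
    rcases hkk with ⟨h1, h2, h3, -⟩ | ⟨Q, -, -, ⟨hQ, hQk⟩ | ⟨hQ, hQk⟩, -⟩
    · exact Or.inl ⟨h1, h2, h3⟩
    · right
      subst hQ
      have h1 : (((2 ^ s * τ + 1) * (2 ^ s * τ + 1 + 1) * A ^ 2 : ℕ) : ℚ) ≤ ((2 * k : ℕ) : ℚ) := by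
        exact_mod_cast hQk
      push_cast at h1
      rw [CountArith.kLow]
      rw [CountArith.two_pow_succ_mul (s := s) (by omega)] at h1 ⊢
      have hz : (0 : ℚ) ≤ 2 ^ (s - 1) * (τ : ℚ) * (A : ℚ) ^ 2 := by positivity
      nlinarith
    · right
      have hQ' : (Q : ℚ) = 2 ^ s * (τ : ℚ) - 1 := by
        rw [eq_sub_iff_add_eq]; exact_mod_cast hQ
      have hQ1 : 1 ≤ Q := by
        have h4 : 4 ≤ 2 ^ s := le_trans (by norm_num) (Nat.pow_le_pow_right two_pos hs2)
        have : 4 * 1 ≤ 2 ^ s * τ := Nat.mul_le_mul h4 (by have := hp.two_le; omega)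
        omega
      have h1 : ((Q * (Q - 1) * A ^ 2 : ℕ) : ℚ) ≤ ((2 * k : ℕ) : ℚ) := by exact_mod_cast hQk
      push_cast [Nat.cast_sub hQ1] at h1
      rw [CountArith.kLow]
      rw [hQ'] at h1
      rw [CountArith.two_pow_succ_mul (s := s) (by omega)] at h1 ⊢
      linarith
  have hab : a ≤ b ∨ (n - c + 1 = 1 ∧ e * a ≤ b * (τ * A)) := by
    rcases hF with h1 | ⟨hinv, h1⟩
    · exact Or.inl h1
    · right
      have hσN : σ ∈ NY := by
        have hrN : r ∈ NY := mem_normalizer_zpowers (by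
          rw [h.fix_y.eq, mul_inv_cancel_right]; exact mem_zpowers y)
        have h2 : r * σ ∈ NY := mem_normalizer_zpowers (hinv y h.mem_y ▸ inv_mem (mem_zpowers y))
        have := mul_mem (inv_mem hrN) h2
        rwa [inv_mul_cancel_left] at this
      have hsup : C ≤ coreU t ⊔ (C ⊓ NY) := by
        conv_lhs => rw [hCdef, ← hd.sup_sylow]
        refine sup_le le_sup_left (le_trans ((closure_le _).2 ?_) le_sup_right)
        rintro z (rfl | rfl)
        · exact ⟨mem_centralizer_t.2 hd.comm_t_σ.symm, hσN⟩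
        · exact ⟨mem_centralizer_t.2 hd.comm_t_r.symm,
            mem_normalizer_zpowers (by rw [h.fix_y.eq, mul_inv_cancel_right]; exact mem_zpowers y)⟩
      have hme : m = e := MixedPair.orbit_eq_of_sup hd _ hsup
      constructor
      · have h2 : 2 ^ (n - c) = 1 := Nat.eq_of_mul_eq_mul_left he.pos (by rw [mul_one, ← hmc]; exact hme)
        rw [(Nat.pow_eq_one.1 h2).resolve_left (by norm_num)]
      · rw [hu, show Nat.card {x : G // x ∈ coreU t ∧ Commute x y ∧ r * x * r⁻¹ = x⁻¹} = τ * A from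
          (Nat.card_congr (Equiv.subtypeEquivRight fun x => (hT x).symm)).trans hTc] at h1
        refine Nat.le_of_mul_le_mul_right ?_ hTpos
        calc e * a * (τ * A) = e * (a * (τ * A)) := mul_assoc _ _ _
          _ ≤ _ := h1
          _ = b * (τ * A) * (τ * A) := by ring
  obtain ⟨rfl, rfl, hm3, hi1, rfl, hcase⟩ := PairArith.pair_cases hn3 hs2 hsn (by omega) he
    (by rw [show n - c + 1 - 1 = n - c by omega]; exact hmc) hm2 hmp hp h.ne_two hpT hA1 hb1 hab hX hX1
    hkq hlt hf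
  -- the exception
  have he3 : e = 3 := by
    rw [hmc, show n - c = 0 by omega, pow_zero, mul_one] at hm3
    exact hm3
  have ha3 : a = 3 := h.three_card_coreW hd hC hK B.centShape hm3 he3 hT (hTc.trans (mul_one 3))
  have hu27 : u = 27 := by rw [hu, he3, ha3]
  have hb : b = 3 ∨ b = 9 := by
    have hdvd : b ∣ 3 ^ 3 := by
      rw [show (3 : ℕ) ^ 3 = 27 by norm_num, ← hu27]; exact card_dvd_of_le inf_le_left
    obtain ⟨j, hj, hbj⟩ := (Nat.dvd_prime_pow Nat.prime_three).1 hdvd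
    have h27 : b ≠ 27 := fun e27 => hfix fun x hx => by
      have : coreW t (r * σ) = coreU t := eq_of_le_of_card_ge inf_le_left (by rw [← hudef, ← hbdef, e27, hu27])
      exact (mem_centralizer_singleton_iff.1 (mem_inf.1 (this ▸ h.le hx)).2 : x * (r * σ) = r * σ * x).symm
    have h3 : 3 ≤ b := by
      rcases hF with h1 | ⟨-, h1⟩
      · exact ha3.ge.trans h1
      · rw [hu27, show Nat.card {x : G // x ∈ coreU t ∧ Commute x y ∧ r * x * r⁻¹ = x⁻¹} = 3 * 1 from
          (Nat.card_congr (Equiv.subtypeEquivRight fun x => (hT x).symm)).trans hTc] at h1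
        omega
    interval_cases j <;> norm_num at hbj <;> omega
  refine PairArith.pair_exception (n := n) (b := b) (k := k') (N := N) (X := Xi)
    (hcase.imp (fun h1 => ⟨h1.1, h1.2.trans hk'⟩) fun h1 => ⟨h1.1, h1.2.trans hk'⟩) hX hX1 hb hNp
    ⟨NY.index, by rw [hdc, hm3]⟩ (by rw [hm3] at hbound; linarith) ?_
  rw [he3, ha3] at hf
  push_cast at hf
  linear_combination hf

/-- COUNT, the class chosen. -/
theorem count_pair' [IsSimpleGroup G] (B : CaseB n t r σ) (hM : Maximal t) (hS : SylowInG t r σ)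
    (hS' : SylowInG t (r * σ) σ⁻¹)
    (hN : NoNormalInW t r) (hN' : NoNormalInW t (r * σ)) (hC : SigmaFix t r σ)
    (hC' : SigmaFix t (r * σ) σ⁻¹) (hK : NoCommuting t r σ) (hK' : NoCommuting t (r * σ) σ⁻¹)
    (h : MixedPair p t r y l X)
    (hα : (∀ x ∈ X, r * σ * x * (r * σ)⁻¹ = x⁻¹) → Nat.card (coreU t) ≤ Nat.card (coreW t (r * σ)) *
        Nat.card {x : G // x ∈ coreU t ∧ Commute x y ∧ r * x * r⁻¹ = x⁻¹} ^ 2) :
    False := by
  by_cases hinv : ∀ x ∈ X, r * σ * x * (r * σ)⁻¹ = x⁻¹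
  · exact count_pair B hM hS hN hN' hC hK h (Or.inr ⟨hinv, hα hinv⟩)
  rcases le_total (Nat.card (coreW t r)) (Nat.card (coreW t (r * σ))) with hle | hle
  · exact count_pair B hM hS hN hN' hC hK h (Or.inl hle)
  have hd := B.ctx.hyp
  have e : r * σ * σ⁻¹ = r := mul_inv_cancel_right r σ
  have hr2C : r * σ ∈ centralizer ({t} : Set G) :=
    mul_mem (mem_centralizer_t.2 hd.comm_t_r.symm) (mem_centralizer_t.2 hd.comm_t_σ.symm)
  have hnfix : ¬ ∀ x ∈ X, Commute (r * σ) x := fun hall => h.ne_one_y <| by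
    have hle : X ≤ coreW t (r * σ) := fun x hx =>
      mem_inf.2 ⟨h.le hx, mem_centralizer_singleton_iff.2 (hall x hx).symm.eq⟩
    exact mem_bot.1 (hN' p X h.prime h.elementary hle h.normal ▸ h.mem_y)
  push Not at hinv hnfix
  obtain ⟨x, hx, hxi⟩ := hinv
  obtain ⟨z, hz, hzc⟩ := hnfix
  have hsq : ∀ w : G, r * σ * (r * σ * w * (r * σ)⁻¹) * (r * σ)⁻¹ = w := fun w => by
    rw [show r * σ * (r * σ * w * (r * σ)⁻¹) * (r * σ)⁻¹ = r * σ * (r * σ) * w * (r * σ * (r * σ))⁻¹ by group,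
      hd.mul_σ_sq, one_mul, inv_one, mul_one]
  have hy2 : x * (r * σ * x * (r * σ)⁻¹) ≠ 1 := fun e1 => hxi (eq_inv_of_mul_eq_one_right e1)
  have hl2 : z⁻¹ * (r * σ * z * (r * σ)⁻¹) ≠ 1 := fun e1 =>
    hzc (mul_inv_eq_iff_eq_mul.1 (inv_mul_eq_one.1 e1).symm)
  have h' : MixedPair p t (r * σ) (x * (r * σ * x * (r * σ)⁻¹)) (z⁻¹ * (r * σ * z * (r * σ)⁻¹)) X :=
    { prime := h.prime
      ne_two := h.ne_two
      elementary := h.elementary
      card := h.card
      le := h.le
      normal := h.normal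
      mem_y := mul_mem hx (h.conj_mem hr2C hx)
      mem_l := mul_mem (inv_mem hz) (h.conj_mem hr2C hz)
      order_y := h.order_eq (mul_mem hx (h.conj_mem hr2C hx)) hy2
      order_l := h.order_eq (mul_mem (inv_mem hz) (h.conj_mem hr2C hz)) hl2
      fix_y := by
        refine mul_inv_eq_iff_eq_mul.1 ?_
        rw [← conj_mul, hsq, (h.comm (h.conj_mem hr2C hx) hx).eq]
      inv_l := by
        rw [← conj_mul, hsq]
        refine eq_inv_of_mul_eq_one_left ?_
        group }
  exact count_pair B.swap hM hS' hN' (by rw [e]; exact hN) hC' hK' h' (Or.inl (by rw [e]; exact hle))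

end Cfsg.Agent.GWDihedral
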