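import Cfsg.Agent.Lib.GWDihedral.TypesBasic
import Cfsg.Agent.Lib.PGroup.UniqueOrderP

/-!
# Gorenstein-Walter, dihedral Sylow subgroups of order at least eight: the class counted at a pair

Patch 1 of `notes/gw_dihedral_count_audit.md`.

* `MixedPair.mem_zpowers_of_fixed`, `MixedPair.normalizes` : the two lines of a pair
* `pair_other` : a pair for `r` is one for `r * σ`, or is inverted by it
* `pair_choice` : in the second case `|W₁| e ≤ |W₂| |T|`, with `e = |U : N_U(⟨y⟩)|` and `T` the elements of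
  `C_U(y)` inverted by `r`
-/

set_option autoImplicit false
set_option linter.unusedSectionVars false
set_option linter.style.haveILetI false

namespace Cfsg.Agent.GWDihedral

open Subgroup
open scoped Pointwise
open Cfsg.Agent.GWKlein (coreU coreW fourV)

universe u

variable {G : Type u} [Group G] [Finite G] {n : ℕ} {t r σ : G} {p : ℕ} {X : Subgroup G} {y l : G}

theorem MixedPair.comm (hX : MixedPair p t r y l X) {a b : G} (ha : a ∈ X) (hb : b ∈ X) : Commute a b :=
  congrArg Subtype.val (hX.elementary.1.is_comm.comm (⟨a, ha⟩ : X) ⟨b, hb⟩)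

theorem MixedPair.ne_one_y (hX : MixedPair p t r y l X) : y ≠ 1 := fun e => by
  have := hX.order_y
  rw [e, orderOf_one] at this
  exact hX.prime.one_lt.ne this

theorem MixedPair.ne_one_l (hX : MixedPair p t r y l X) : l ≠ 1 := fun e => by
  have := hX.order_l
  rw [e, orderOf_one] at this
  exact hX.prime.one_lt.ne this

theorem MixedPair.mixedElem (h : DHyp n t r σ) (hX : MixedPair p t r y l X) : MixedElem p t r X :=
  ⟨hX.prime, hX.ne_two, hX.elementary, hX.le, hX.normal, y, hX.mem_y, fun e => hX.ne_one_y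
    (eq_one_of_inverted_commute (h.odd_orderOf (hX.le hX.mem_y)) e hX.fix_y)⟩

/-- The elements of a pair fixed by `r` are the powers of `y`. -/
theorem MixedPair.mem_zpowers_of_fixed (h : DHyp n t r σ) (hX : MixedPair p t r y l X) {x : G} (hx : x ∈ X)
    (hrx : Commute r x) : x ∈ zpowers y := by
  haveI := Fact.mk hX.prime
  have hle : zpowers y ≤ X ⊓ centralizer ({r} : Set G) :=
    zpowers_le.2 (mem_inf.2 ⟨hX.mem_y, mem_centralizer_singleton_iff.2 hX.fix_y.symm.eq⟩)
  have hlt : Nat.card (X ⊓ centralizer ({r} : Set G) : Subgroup G) ≠ p ^ 2 := fun e => hX.ne_one_l <| by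
    have h1 : X ⊓ centralizer ({r} : Set G) = X :=
      Subgroup.eq_of_le_of_card_ge inf_le_left (by rw [e, hX.card])
    have h2 : Commute l r := mem_centralizer_singleton_iff.1 (mem_inf.1 (h1.ge hX.mem_l)).2
    exact eq_one_of_inverted_commute (h.odd_orderOf (hX.le hX.mem_l)) hX.inv_l h2.symm
  have hdvd : Nat.card (X ⊓ centralizer ({r} : Set G) : Subgroup G) ∣ p ^ 2 :=
    hX.card ▸ card_dvd_of_le inf_le_left
  obtain ⟨k, hk, hk'⟩ := (Nat.dvd_prime_pow hX.prime).1 hdvd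
  have hk1 : k ≤ 1 := by
    by_contra h2
    exact hlt (by rw [hk', show k = 2 by omega])
  have e : zpowers y = X ⊓ centralizer ({r} : Set G) := Subgroup.eq_of_le_of_card_ge hle (by
    rw [Nat.card_zpowers, hX.order_y, hk']
    exact (Nat.pow_le_pow_right hX.prime.pos hk1).trans_eq (pow_one p))
  rw [e]
  exact mem_inf.2 ⟨hx, mem_centralizer_singleton_iff.2 hrx.symm.eq⟩

/-- An element of `C(t)` commuting with `r` normalises `⟨y⟩`. -/
theorem MixedPair.normalizes (h : DHyp n t r σ) (hX : MixedPair p t r y l X) {w : G}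
    (hw : w ∈ centralizer ({t} : Set G)) (hrw : Commute r w) : w ∈ normalizer (zpowers y : Set G) :=
  Coprime.mem_normalizer_of_forall fun v hv => by
    obtain ⟨i, rfl⟩ := mem_zpowers_iff.1 hv
    refine hX.mem_zpowers_of_fixed h (h.conj_mem hX.normal hw (zpow_mem hX.mem_y i)) ?_
    exact (hrw.mul_right (hX.fix_y.zpow_right i)).mul_right hrw.inv_right

/-- A pair for `r` is a pair for `r * σ`, or is inverted by it. -/
theorem pair_other [IsSimpleGroup G] (B : CaseB n t r σ) (hX : MixedPair p t r y l X) :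
    (∃ y' l', MixedPair p t (r * σ) y' l' X) ∨ ∀ x ∈ X, r * σ * x * (r * σ)⁻¹ = x⁻¹ := by
  by_cases hinv : ∀ x ∈ X, r * σ * x * (r * σ)⁻¹ = x⁻¹
  · exact Or.inr hinv
  · push Not at hinv
    have e : MixedElem p t (r * σ) X :=
      ⟨hX.prime, hX.ne_two, hX.elementary, hX.le, hX.normal, hinv⟩
    obtain ⟨y', hy', hy'1, hfix⟩ := e.exists_fixed B.swap.ctx.hyp
    obtain ⟨l', hl', hl'p, hl'i, -⟩ := e.exists_line B.swap
    exact Or.inl ⟨y', l', hX.prime, hX.ne_two, hX.elementary, hX.card, hX.le, hX.normal, hy', hl',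
      e.order_eq hy' hy'1, hl'p, hfix, hl'i⟩

/-- At a pair inverted by `r * σ` the count may use `r`. -/
theorem pair_choice [IsSimpleGroup G] (B : CaseB n t r σ) (hX : MixedPair p t r y l X)
    (hinv : ∀ x ∈ X, r * σ * x * (r * σ)⁻¹ = x⁻¹) {T : Subgroup G}
    (hT : ∀ x, x ∈ T ↔ x ∈ coreU t ∧ Commute x y ∧ r * x * r⁻¹ = x⁻¹) :
    Nat.card (coreW t r) * (normalizer (zpowers y : Set G)).relIndex (coreU t) ≤
      Nat.card (coreW t (r * σ)) * Nat.card T := by
  classical
  have h := B.ctx.hyp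
  have h' := B.swap.ctx.hyp
  set U := coreU t
  set C := centralizer ({t} : Set G)
  set K := U ⊓ centralizer (X : Set G) with hK
  have hKc : ∀ {v x : G}, v ∈ K → x ∈ X → Commute v x := fun {v x} hv hx =>
    (mem_centralizer_iff.1 (mem_inf.1 hv).2 x hx).symm
  have hKC : ∀ g ∈ C, ∀ v ∈ K, g * v * g⁻¹ ∈ K := by
    intro g hg v hv
    refine mem_inf.2 ⟨(mem_normalizer_iff.1 (GWKlein.centralizer_le_normalizer_coreU t hg) v).1 (mem_inf.1 hv).1,
      mem_centralizer_iff.2 fun x hx => ?_⟩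
    have hx' : g⁻¹ * x * g ∈ X := by
      have := h.conj_mem hX.normal (inv_mem hg) hx
      rwa [inv_inv] at this
    have := (hKc hv hx').map (MulAut.conj g).toMonoidHom
    simpa [mul_assoc] using this.symm.eq
  -- `U = K W₂`
  have hsplit : ∀ u ∈ U, ∃ a ∈ K, a⁻¹ * u ∈ coreW t (r * σ) := by
    intro u hu
    obtain ⟨a, haU, -, hai, hac⟩ := h'.exists_inverted_mul hu
    refine ⟨a, mem_inf.2 ⟨haU, mem_centralizer_iff.2 fun x hx => ?_⟩, h'.mem_coreW.2
      ⟨GWKlein.commute_of_mem_coreU (mul_mem (inv_mem haU) hu), hac.symm,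
        h.odd_orderOf (mul_mem (inv_mem haU) hu)⟩⟩
    have hax := h.conj_mem hX.normal (h.mem_C_of_mem_coreU haU) hx
    have e : a⁻¹ * x * a = a * x * a⁻¹ := inv_injective <|
      calc (a⁻¹ * x * a)⁻¹ = r * σ * a * (r * σ)⁻¹ * (r * σ * x * (r * σ)⁻¹) * (r * σ * a * (r * σ)⁻¹)⁻¹ := by
            rw [hai, hinv x hx]; group
        _ = r * σ * (a * x * a⁻¹) * (r * σ)⁻¹ := by group
        _ = (a * x * a⁻¹)⁻¹ := hinv _ hax
    refine (commute_of_sq (h.odd_orderOf haU) ?_).symm.eq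
    calc a * a * x = a * (a * x * a⁻¹) * a := by group
      _ = x * (a * a) := by rw [← e]; group
  have hKW : K ⊓ coreW t (r * σ) = ⊥ := by
    by_contra hne
    obtain ⟨v, hv, hv1⟩ := (Subgroup.bot_or_exists_ne_one _).resolve_left hne
    obtain ⟨hvK, hvW⟩ := mem_inf.1 hv
    set q := (orderOf v).minFac
    have hq : q.Prime := Nat.minFac_prime fun e => hv1 (orderOf_eq_one_iff.1 e)
    set z := v ^ (orderOf v / q)
    have hzo : orderOf z = q := orderOf_pow_orderOf_div (orderOf_pos v).ne' (Nat.minFac_dvd _)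
    obtain ⟨T', hT'c, hT', -⟩ := B.swap.inverted_sub (pow_mem hvW _ : z ∈ coreW t (r * σ))
      (by rw [hzo]; exact hq.isPrimePow)
    haveI := hT'c
    have hzK : z ∈ K := pow_mem hvK _
    have hyl : y ∈ zpowers l := CyclicMeet.mem_zpowers_of_cyclic T'
      ((hT' l).2 ⟨hX.le hX.mem_l, (hKc hzK hX.mem_l).symm, hinv l hX.mem_l⟩)
      ((hT' y).2 ⟨hX.le hX.mem_y, (hKc hzK hX.mem_y).symm, hinv y hX.mem_y⟩) (by rw [hX.order_y, hX.order_l])
    obtain ⟨i, hi⟩ := mem_zpowers_iff.1 hyl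
    refine hX.ne_one_y (eq_one_of_inverted_commute (h.odd_orderOf (hX.le hX.mem_y)) ?_ hX.fix_y)
    rw [← hi, ← conj_zpow, hX.inv_l, inv_zpow]
  have hU : Nat.card U = Nat.card K * Nat.card (coreW t (r * σ)) := by
    have h1 := Coprime.card_mul_inf K (coreW t (r * σ))
    rw [hKW, card_bot, mul_one] at h1
    rw [← h1]
    refine Nat.card_congr (Equiv.setCongr (Set.Subset.antisymm (fun u hu => ?_) ?_))
    · obtain ⟨a, ha, hac⟩ := hsplit u hu
      exact Set.mem_mul.2 ⟨a, ha, _, hac, mul_inv_cancel_left a u⟩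
    · rintro _ ⟨a, ha, w, hw, rfl⟩
      exact U.mul_mem (mem_inf.1 ha).1 (mem_inf.1 hw).1
  -- `K` is abelian, inverted by `r * σ`
  obtain ⟨hKi, hKab⟩ := GWKlein.inverts_of_fpf h'.order_r
    (Coprime.mem_normalizer_of_forall (hKC _ h'.r_mem_C)) fun v hv hf => by
      have h1 : v ∈ K ⊓ coreW t (r * σ) := mem_inf.2 ⟨hv, h'.mem_coreW.2
        ⟨GWKlein.commute_of_mem_coreU (mem_inf.1 hv).1, (mul_inv_eq_iff_eq_mul.1 hf).symm,
          h.odd_orderOf (mem_inf.1 hv).1⟩⟩
      rwa [hKW, mem_bot] at h1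
  -- the fixed part of `K`
  have hfixed : Nat.card (K ⊓ coreW t r : Subgroup G) ∣ Nat.card T := by
    set Kp := K ⊓ coreW t r
    have hKp : ∀ {v : G}, v ∈ Kp → v ∈ K ∧ Commute r v := fun {v} hv =>
      ⟨(mem_inf.1 hv).1, (h.mem_coreW.1 (mem_inf.1 hv).2).2.1.symm⟩
    have hσinv : ∀ {v : G}, v ∈ Kp → σ * v * σ⁻¹ = v⁻¹ := fun {v} hv => by
      calc σ * v * σ⁻¹ = r * (r * σ * v * (r * σ)⁻¹) * r⁻¹ := by
            rw [show r * (r * σ * v * (r * σ)⁻¹) * r⁻¹ = (r * r) * σ * v * ((r * r) * σ)⁻¹ by group,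
              h.mul_self_r, one_mul]
        _ = v⁻¹ := by rw [hKi v (hKp hv).1, (hKp hv).2.inv_right.eq, mul_inv_cancel_right]
    -- one line of fixed elements of prime order
    have hline : ∀ q : ℕ, q.Prime → ∀ a ∈ Kp, ∀ b ∈ Kp, orderOf a = q → b ^ q = 1 → b ∈ zpowers a := by
      intro q hq a ha b hb hao hbq
      by_contra hne
      have hq2 : q ≠ 2 := fun e => absurd (h.odd_orderOf (mem_inf.1 (hKp ha).1).1) (by rw [hao, e]; decide)
      have ha1 : a ≠ 1 := fun e => hq.one_lt.ne (by rw [← hao, e, orderOf_one])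
      let E : Subgroup G :=
        { carrier := {x | x ∈ K ∧ x ^ q = 1}
          one_mem' := ⟨one_mem _, one_pow q⟩
          mul_mem' := fun {c d} hc hd => ⟨mul_mem hc.1 hd.1, by
            rw [(show Commute c d from hKab c hc.1 d hd.1).mul_pow, hc.2, hd.2, one_mul]⟩
          inv_mem' := fun {c} hc => ⟨inv_mem hc.1, by rw [inv_pow, hc.2, inv_one]⟩ }
      have haq : a ^ q = 1 := hao ▸ pow_orderOf_eq_one a
      have e : MixedElem q t r E :=
        ⟨hq, hq2, ⟨⟨⟨fun c d => Subtype.ext (hKab _ c.2.1 _ d.2.1)⟩⟩, fun c hc => hc.2⟩,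
          fun c hc => (mem_inf.1 hc.1).1,
          fun g hg => Coprime.mem_normalizer_of_forall fun c hc =>
            ⟨hKC g hg c hc.1, by rw [conj_pow, hc.2]; group⟩,
          a, ⟨(hKp ha).1, haq⟩, fun e1 => ha1
            (eq_one_of_inverted_commute (h.odd_orderOf (mem_inf.1 (hKp ha).1).1) e1 (hKp ha).2)⟩
      obtain ⟨l', hl', hl'p, hl'i, hline'⟩ := e.exists_line B
      obtain ⟨-, -, hσ, -⟩ := e.trivial_quotient B hl' hl'p hl'i hline' (b₁ := a) (b₂ := b)
        ⟨(hKp ha).1, haq⟩ (hKp ha).2 ha1 ⟨(hKp hb).1, hbq⟩ (hKp hb).2 hne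
      refine ha1 (eq_one_of_inverted_commute (h.odd_orderOf (mem_inf.1 (hKp ha).1).1) (hσinv ha) ?_)
      exact hσ a ⟨(hKp ha).1, haq⟩ (hKp ha).2
    rw [Nat.dvd_iff_prime_pow_dvd_dvd]
    intro q k hq hk
    haveI := Fact.mk hq
    rcases Nat.eq_zero_or_pos k with rfl | hk0
    · simp
    obtain ⟨P⟩ := (inferInstance : Nonempty (Sylow q Kp))
    obtain ⟨g, -, hg⟩ := PGroup.isCyclic_of_abelian_unique (G := (P : Subgroup Kp)) P.2 (A := ⊤)
      (fun a _ b _ => Subtype.ext (Subtype.ext (hKab _ (mem_inf.1 a.1.2).1 _ (mem_inf.1 b.1.2).1)))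
      (fun a _ b _ hao hbq => by
        obtain ⟨i, hi⟩ := mem_zpowers_iff.1 (hline q hq ((a : Kp) : G) a.1.2 ((b : Kp) : G) b.1.2
          (by rw [Subgroup.orderOf_coe, Subgroup.orderOf_coe, hao])
          (by exact_mod_cast congrArg (fun x : (P : Subgroup Kp) => ((x : Kp) : G)) hbq))
        exact ⟨i, Subtype.ext (Subtype.ext (by simpa using hi))⟩)
    obtain ⟨j, hj⟩ := IsPGroup.iff_orderOf.1 P.2 g
    have hkj : q ^ k ∣ q ^ j := by
      rw [← hj, ← Nat.card_zpowers, hg, card_top, P.card_eq_multiplicity]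
      exact pow_dvd_pow q ((Nat.Prime.pow_dvd_iff_le_factorization hq Nat.card_pos.ne').1 hk)
    refine hkj.trans ?_
    by_contra hcon
    set v : G := ((g : Kp) : G) with hv
    have hvKp : v ∈ Kp := (g : Kp).2
    have hvo : orderOf v = q ^ j := by rw [hv, Subgroup.orderOf_coe, Subgroup.orderOf_coe, hj]
    obtain ⟨j', rfl⟩ : ∃ j', j = j' + 1 := ⟨j - 1, by
      rcases j with _ | j
      · simp at hcon
      · rfl⟩
    let E : Subgroup G :=
      { carrier := {x | x ∈ K ∧ x ^ q = 1 ∧ ∃ z ∈ K, z ^ q ^ j' = x}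
        one_mem' := ⟨one_mem _, one_pow q, 1, one_mem _, one_pow _⟩
        mul_mem' := by
          rintro c d ⟨hc, hcq, z, hz, rfl⟩ ⟨hd, hdq, w, hw, rfl⟩
          exact ⟨mul_mem hc hd, by rw [(show Commute _ _ from hKab _ hc _ hd).mul_pow, hcq, hdq, one_mul],
            z * w, mul_mem hz hw, (show Commute z w from hKab z hz w hw).mul_pow _⟩
        inv_mem' := by
          rintro c ⟨hc, hcq, z, hz, rfl⟩
          exact ⟨inv_mem hc, by rw [inv_pow, hcq, inv_one], z⁻¹, inv_mem hz, inv_pow _ _⟩ }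
    have hEW : E ≤ coreW t r := by
      rintro x ⟨hxK, hxq, z, hz, rfl⟩
      obtain ⟨a, haU, hacl, hai, hac⟩ := h.exists_inverted_mul (mem_inf.1 hz).1
      have haK : a ∈ K := (closure_le K).2 (by
        rintro w (rfl | rfl)
        · exact hz
        · exact hKC r h.r_mem_C z hz) hacl
      have hcK : a⁻¹ * z ∈ K := mul_mem (inv_mem haK) hz
      have hpow : z ^ q ^ j' = a ^ q ^ j' * (a⁻¹ * z) ^ q ^ j' := by
        rw [← (show Commute a (a⁻¹ * z) from hKab a haK _ hcK).mul_pow, mul_inv_cancel_left]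
      -- the inverted part dies
      have h1 : a ^ q ^ (j' + 1) = 1 := by
        refine eq_one_of_inverted_commute (h.odd_orderOf (pow_mem haU _)) (Involution.inverts_pow hai _) ?_
        have e : a ^ q ^ (j' + 1) * (a⁻¹ * z) ^ q ^ (j' + 1) = 1 := by
          rw [← (show Commute a (a⁻¹ * z) from hKab a haK _ hcK).mul_pow, mul_inv_cancel_left, pow_succ, pow_mul]
          exact hxq
        rw [eq_inv_of_mul_eq_one_left e]
        exact (hac.pow_right _).inv_right
      have h2 : orderOf a ∣ q ^ j' := by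
        obtain ⟨i, hi, hi'⟩ := (Nat.dvd_prime_pow hq).1 (orderOf_dvd_of_pow_eq_one h1)
        rw [hi']
        refine pow_dvd_pow q (Nat.le_of_lt_succ (lt_of_le_of_ne hi fun e => hcon ?_))
        rw [show q ^ (j' + 1) = orderOf a by rw [hi', e]]
        exact orderOf_dvd_natCard _ ((hT a).2 ⟨haU, hKc haK hX.mem_y, hai⟩)
      rw [hpow, orderOf_dvd_iff_pow_eq_one.1 h2, one_mul]
      exact pow_mem (h.mem_coreW.2 ⟨GWKlein.commute_of_mem_coreU (mem_inf.1 hcK).1, hac.symm,
        h.odd_orderOf (mem_inf.1 hcK).1⟩) _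
    have h0 := noNormalInW B q E hq
      ⟨⟨⟨fun c d => Subtype.ext (hKab _ c.2.1 _ d.2.1)⟩⟩, fun c hc => hc.2.1⟩ hEW
      (fun g' hg' => Coprime.mem_normalizer_of_forall fun x hx => by
        obtain ⟨hxK, hxq, z, hz, rfl⟩ := hx
        exact ⟨hKC g' hg' _ hxK, by rw [conj_pow, hxq]; group, g' * z * g'⁻¹, hKC g' hg' z hz, conj_pow⟩)
    have h3 : v ^ q ^ j' ∈ E := ⟨pow_mem (hKp hvKp).1 _, by
      rw [← pow_mul, ← pow_succ, ← hvo, pow_orderOf_eq_one], v, (hKp hvKp).1, rfl⟩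
    rw [h0, mem_bot] at h3
    have h4 := orderOf_dvd_of_pow_eq_one h3
    rw [hvo, Nat.pow_dvd_pow_iff_le_right hq.one_lt] at h4
    omega
  -- counting
  set N := U ⊓ normalizer (zpowers y : Set G)
  set e := (normalizer (zpowers y : Set G)).relIndex U
  have hNU : Nat.card N * e = Nat.card U := PGroup.card_inf_mul_relIndex U _
  have hKW1 : Nat.card K * Nat.card (coreW t r) ≤ Nat.card N * Nat.card (K ⊓ coreW t r : Subgroup G) := by
    rw [← Coprime.card_mul_inf K (coreW t r)]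
    refine Nat.mul_le_mul (Nat.card_mono (Set.toFinite _) ?_) le_rfl
    rintro _ ⟨a, ha, w, hw, rfl⟩
    refine mem_inf.2 ⟨U.mul_mem (mem_inf.1 ha).1 (mem_inf.1 hw).1, mul_mem ?_ ?_⟩
    · exact Coprime.mem_normalizer_of_forall fun v hv => by
        rw [(hKc ha (zpowers_le.2 hX.mem_y hv)).eq, mul_inv_cancel_right]; exact hv
    · exact hX.normalizes h (h.mem_C_of_mem_coreU (mem_inf.1 hw).1) (h.mem_coreW.1 hw).2.1.symm
  refine Nat.le_of_mul_le_mul_left ?_ (Nat.card_pos (α := K))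
  calc Nat.card K * (Nat.card (coreW t r) * e) = Nat.card K * Nat.card (coreW t r) * e := (mul_assoc _ _ _).symm
    _ ≤ Nat.card N * Nat.card (K ⊓ coreW t r : Subgroup G) * e := Nat.mul_le_mul hKW1 le_rfl
    _ = Nat.card U * Nat.card (K ⊓ coreW t r : Subgroup G) := by rw [← hNU]; ring
    _ ≤ Nat.card U * Nat.card T := Nat.mul_le_mul le_rfl (Nat.le_of_dvd Nat.card_pos hfixed)
    _ = Nat.card K * (Nat.card (coreW t (r * σ)) * Nat.card T) := by rw [hU]; ring

end Cfsg.Agent.GWDihedral
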