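import Cfsg.Agent.Lib.GWDihedral.Steps
import Cfsg.Agent.Lib.GWDihedral.SidesBasic
import Cfsg.Agent.Lib.GWDihedral.LocalFacts
import Cfsg.Agent.Lib.GWDihedral.Induction
import Cfsg.Agent.Lib.GWDihedral.Subgroup
import Cfsg.Agent.Lib.GWReduce.Basic
import Cfsg.Agent.Lib.RankOneSylow.Dihedral
import Cfsg.Agent.Lib.PGroup.Basic

/-!
# Gorenstein-Walter, dihedral Sylow subgroups of order at least eight: rotations in local subgroups

* `Rot.mul_left`, `DHyp.exists_invariant_rot` : a rotation normalising an invariant Sylow subgroup of a core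
* `DHyp.central_of_rot` : (T), from `SideRot`
* `mem_oddPart_of_solvable` : in a solvable subgroup the odd elements of `C(t)` are in the core
* `exists_conj_normalizing`, `DHyp.fused_of_isConj` : rotations from conjugacy
* `DHyp.isConj_of_bar`, `DHyp.fused_of_normal` : a rotation in a non-solvable subgroup normalised by a rotation
-/

set_option autoImplicit false
set_option linter.unusedSectionVars false
set_option linter.style.haveILetI false

namespace Cfsg.Agent.GWDihedral

open Subgroup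
open scoped Pointwise
open Cfsg.Agent.GWKlein (coreU coreW fourV oddPart)

universe u

variable {G : Type u} [Group G] {n : ℕ} {t r σ s c : G}

theorem Rot.mul_left (hs : Rot t r s) (hct : Commute c t) (hcr : Commute c r) : Rot t r (c * s) := by
  constructor
  · rw [show c * s * t * (c * s)⁻¹ = c * (s * t * s⁻¹) * c⁻¹ by group, hs.1, hcr.eq, mul_inv_cancel_right]
  · rw [show c * s * r * (c * s)⁻¹ = c * (s * r * s⁻¹) * c⁻¹ by group, hs.2, (hct.mul_right hcr).eq,
      mul_inv_cancel_right]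

theorem commute_of_mem_centralizer_fourV (hc : c ∈ centralizer (fourV t r : Set G)) :
    Commute c t ∧ Commute c r := GWKlein.mem_centralizer_fourV.1 hc

theorem commute_of_klein {V : Subgroup G} (hV : IsKleinFour V) {x y : G} (hx : x ∈ V) (hy : y ∈ V) :
    Commute x y := by
  have h : ∀ a : V, a * a = 1 := fun a => by
    have := Monoid.pow_exponent_eq_one a
    rwa [hV.exponent_two, pow_two] at this
  have hinv : ∀ a : V, a⁻¹ = a := fun a => inv_eq_of_mul_eq_one_right (h a)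
  have e : (⟨x, hx⟩ : V) * ⟨y, hy⟩ = ⟨y, hy⟩ * ⟨x, hx⟩ := by
    rw [← hinv (⟨x, hx⟩ * ⟨y, hy⟩), mul_inv_rev, hinv, hinv]
  exact congrArg Subtype.val e

section Conj

variable [Finite G]

/-- An involution of a four-group conjugate to the central one is moved there by the normaliser of it. -/
theorem exists_conj_normalizing (P : Sylow 2 G) {m : ℕ} (hm : m ≠ 0)
    (e : (P : Subgroup G) ≃* DihedralGroup m) {V : Subgroup G} (hV : IsKleinFour V)
    (hVP : V ≤ (P : Subgroup G)) {z v g : G} (hzV : z ∈ V)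
    (hz : (P : Subgroup G) ≤ centralizer ({z} : Set G)) (hv : v ∈ V) (hg : g * v * g⁻¹ = z) :
    ∃ h ∈ normalizer (V : Set G), h * v * h⁻¹ = z := by
  haveI := Fact.mk Nat.prime_two
  set C := centralizer ({z} : Set G)
  have hgV : V.map (MulAut.conj g).toMonoidHom ≤ C := by
    rintro _ ⟨x, hx, rfl⟩
    have hxv : Commute x v := commute_of_klein hV hx hv
    have := hxv.map (MulAut.conj g).toMonoidHom
    simp only [MulEquiv.coe_toMonoidHom, MulAut.conj_apply, hg] at this
    exact mem_centralizer_singleton_iff.2 this.eq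
  have hp : IsPGroup 2 (V.map (MulAut.conj g).toMonoidHom) :=
    (IsPGroup.of_card (n := 2) (by rw [hV.card_four]; norm_num)).map _
  obtain ⟨Q, hQ⟩ := (hp.of_equiv (subgroupOfEquivOfLe hgV).symm).exists_le_sylow
  obtain ⟨k, hk⟩ := MulAction.exists_smul_eq C Q (P.subtype hz)
  have hle : V.map (MulAut.conj ((k : G) * g)).toMonoidHom ≤ (P : Subgroup G) := by
    rintro _ ⟨x, hx, rfl⟩
    have hm' : g * x * g⁻¹ ∈ V.map (MulAut.conj g).toMonoidHom := ⟨x, hx, rfl⟩
    have h1 : (⟨g * x * g⁻¹, hgV hm'⟩ : C) ∈ (Q : Subgroup C) := hQ (mem_subgroupOf.2 hm')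
    have h2 : k * ⟨g * x * g⁻¹, hgV hm'⟩ * k⁻¹ ∈ ((P.subtype hz : Sylow 2 C) : Subgroup C) := by
      rw [← hk, Transfer.sylow_coe_smul]
      exact ⟨_, h1, rfl⟩
    have h3 : (k : G) * (g * x * g⁻¹) * (k : G)⁻¹ ∈ (P : Subgroup G) := h2
    simpa [mul_assoc] using h3
  obtain ⟨u, huP, hue⟩ := Transfer.klein_fusion P hm e hV hVP (g := (k : G) * g) hle
  refine ⟨u⁻¹ * ((k : G) * g), ?_, ?_⟩
  · refine Coprime.mem_normalizer_of_forall fun x hx => ?_
    have h1 : (k : G) * g * x * ((k : G) * g)⁻¹ ∈ V.map (MulAut.conj u).toMonoidHom := hue ▸ ⟨x, hx, rfl⟩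
    rw [Transfer.mem_map_conj_iff] at h1
    convert h1 using 1
    group
  · have hct : Commute (k : G) z := mem_centralizer_singleton_iff.1 k.2
    have hut : Commute u z := mem_centralizer_singleton_iff.1 (hz huP)
    calc u⁻¹ * ((k : G) * g) * v * (u⁻¹ * ((k : G) * g))⁻¹
          = u⁻¹ * ((k : G) * (g * v * g⁻¹) * (k : G)⁻¹) * u := by group
      _ = z := by rw [hg, hct.eq, mul_inv_cancel_right, mul_assoc, ← hut.eq, inv_mul_cancel_left]

/-- A permutation of a four-group is the identity or determined by two values. -/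
theorem mem_fourV_cases (h : DHyp n t r σ) {x : G} (hx : x ∈ fourV t r) (hx1 : x ≠ 1) :
    x = t ∨ x = r ∨ x = t * r :=
  (h.mem_fourV_iff.1 hx).resolve_left hx1

namespace DHyp

/-- A rotation from conjugacy of the three involutions inside a subgroup. -/
theorem fused_of_isConj (h : DHyp n t r σ) {X : Subgroup G} (hV : fourV t r ≤ X)
    (h1 : ∃ g ∈ X, g * t * g⁻¹ = r) (h2 : ∃ g ∈ X, g * r * g⁻¹ = t * r) : Fused t r X := by
  classical
  haveI := Fact.mk Nat.prime_two
  set V := (fourV t r).subgroupOf X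
  haveI hVk : IsKleinFour V := Transfer.isKleinFour_congr (subgroupOfEquivOfLe hV).symm h.isKleinFour
  obtain ⟨P, hVP⟩ := ((IsPGroup.of_card (n := 2) (by rw [hVk.card_four]; norm_num)) : IsPGroup 2 V).exists_le_sylow
  -- the Sylow subgroup is dihedral
  obtain ⟨S, hS, ⟨eS⟩⟩ := h.exists_equiv
  obtain ⟨Q, hQ⟩ := (P.2.map X.subtype).exists_le_sylow
  have hm2 : (2 : ℕ) ^ (n - 1) ≠ 0 := by positivity
  let i : (P : Subgroup X) →* DihedralGroup (2 ^ (n - 1)) :=
    (((Q.equiv S).trans eS).toMonoidHom.comp (inclusion hQ)).comp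
      ((P : Subgroup X).equivMapOfInjective X.subtype X.subtype_injective).toMonoidHom
  have hi : Function.Injective i :=
    (((Q.equiv S).trans eS).injective.comp (inclusion_injective hQ)).comp
      ((P : Subgroup X).equivMapOfInjective X.subtype X.subtype_injective).injective
  have e1 : (P : Subgroup X) ≃* i.range := MonoidHom.ofInjective hi
  obtain ⟨b, -, ⟨e2⟩⟩ := RankOneSylow.exists_dihedral_equiv rfl i.range fun hc => by
    haveI := hc
    haveI : IsCyclic (P : Subgroup X) := isCyclic_of_injective e1.toMonoidHom e1.injective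
    haveI : IsCyclic V := isCyclic_of_injective (inclusion hVP) (inclusion_injective hVP)
    exact IsKleinFour.not_isCyclic (G := V) inferInstance
  let eP := e1.trans e2
  -- a central involution
  haveI : Nontrivial (P : Subgroup X) :=
    (nontrivial_iff_ne_bot _).2 (ne_bot_of_le_ne_bot (fun e => by
      have := hVk.card_four
      rw [e, card_bot] at this
      omega) hVP)
  obtain ⟨z, hzZ, hz1⟩ := Subgroup.bot_or_exists_ne_one (center (P : Subgroup X)) |>.resolve_left
    (ne_of_gt P.2.bot_lt_center)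
  obtain ⟨k, hk⟩ := IsPGroup.iff_orderOf.1 P.2 z
  have hk0 : k ≠ 0 := fun e => hz1 (orderOf_eq_one_iff.1 (by rw [hk, e, pow_zero]))
  set z₀ := z ^ 2 ^ (k - 1) with hz₀
  have hz₀2 : orderOf z₀ = 2 := by
    rw [hz₀, orderOf_pow' _ (by positivity), hk,
      Nat.gcd_eq_right (pow_dvd_pow 2 (by omega)), Nat.pow_div (by omega) two_pos,
      show k - (k - 1) = 1 by omega, pow_one]
  have hz₀Z : z₀ ∈ center (P : Subgroup X) := pow_mem hzZ _
  have hzc : (P : Subgroup X) ≤ centralizer ({(z₀ : X)} : Set X) := fun x hx =>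
    mem_centralizer_singleton_iff.2 (congrArg Subtype.val (mem_center_iff.1 hz₀Z ⟨x, hx⟩))
  have hzV : (z₀ : X) ∈ V := by
    refine GWReduce.mem_of_centralizes_klein P (by positivity) eP hVk ?_ ?_
    · exact congrArg Subtype.val (Involution.mul_self hz₀2)
    · exact mem_centralizer_iff.2 fun x hx => mem_centralizer_singleton_iff.1 (hzc (hVP hx))
  have hzne : ((z₀ : X) : G) ≠ 1 := fun e => Involution.ne_one hz₀2 (Subtype.ext (Subtype.ext e))
  -- all three involutions are conjugate in `X`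
  have htX : t ∈ X := hV (GWKlein.left_mem_fourV t r)
  have hrX : r ∈ X := hV (GWKlein.right_mem_fourV t r)
  obtain ⟨g₁, hg₁X, hg₁⟩ := h1
  obtain ⟨g₂, hg₂X, hg₂⟩ := h2
  have hall : ∀ x ∈ fourV t r, x ≠ 1 → ∃ g ∈ X, g * t * g⁻¹ = x := by
    intro x hx hx1
    rcases mem_fourV_cases h hx hx1 with rfl | rfl | rfl
    · exact ⟨1, one_mem _, by simp⟩
    · exact ⟨g₁, hg₁X, hg₁⟩
    · exact ⟨g₂ * g₁, mul_mem hg₂X hg₁X, by rw [← hg₂, ← hg₁]; group⟩
  -- each of them goes to `z₀` inside the normaliser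
  have key : ∀ x ∈ fourV t r, x ≠ 1 → ∃ w ∈ X, w ∈ normalizer (fourV t r : Set G) ∧
      w * x * w⁻¹ = ((z₀ : X) : G) := by
    intro x hx hx1
    obtain ⟨a, haX, ha⟩ := hall x hx hx1
    obtain ⟨b, hbX, hb⟩ := hall _ (mem_subgroupOf.1 hzV) hzne
    obtain ⟨w, hw, hwx⟩ := exists_conj_normalizing P (by positivity) eP hVk hVP hzV hzc
      (v := ⟨x, hV hx⟩) (g := ⟨b, hbX⟩ * ⟨a, haX⟩⁻¹) (mem_subgroupOf.2 hx) (Subtype.ext (by
        show b * a⁻¹ * x * (b * a⁻¹)⁻¹ = ((z₀ : X) : G)
        rw [← hb, ← ha]; group))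
    refine ⟨w, w.2, Coprime.mem_normalizer_of_forall fun y hy => ?_, congrArg Subtype.val hwx⟩
    exact mem_subgroupOf.1 ((mem_normalizer_iff.1 hw (⟨y, hV hy⟩ : X)).1 (mem_subgroupOf.2 hy))
  -- two transpositions give a rotation
  have hperm : ∀ w ∈ normalizer (fourV t r : Set G), ∀ x ∈ fourV t r, x ≠ 1 →
      w * x * w⁻¹ = t ∨ w * x * w⁻¹ = r ∨ w * x * w⁻¹ = t * r := fun w hw x hx hx1 =>
    mem_fourV_cases h ((mem_normalizer_iff.1 hw x).1 hx) (fun e => hx1 (conj_eq_one_iff.1 e))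
  have htV := GWKlein.left_mem_fourV t r
  have hrV := GWKlein.right_mem_fourV t r
  have hpV : t * r ∈ fourV t r := mul_mem htV hrV
  have hp1 := h.t_mul_r_ne_one
  have inj : ∀ {w x y : G}, w * x * w⁻¹ = w * y * w⁻¹ → x = y := fun e => conj_injective e
  -- a rotation or its inverse
  have fin : ∀ w ∈ X, (w * t * w⁻¹ = r ∧ w * r * w⁻¹ = t * r) ∨ (w * r * w⁻¹ = t ∧ w * t * w⁻¹ = t * r) →
      Fused t r X := by
    rintro w hw (⟨e1, e2⟩ | ⟨e1, e2⟩)
    · exact ⟨w, hw, e1, e2⟩
    · refine ⟨w⁻¹, inv_mem hw, ?_, ?_⟩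
      · conv_lhs => rw [← e1]
        group
      · have e3 : w * (t * r) * w⁻¹ = r := by
          rw [← _root_.conj_mul, e2, e1, mul_assoc, h.comm_t_r.symm.eq, ← mul_assoc, h.mul_self_t, one_mul]
        conv_lhs => rw [← e3]
        group
  have prod : ∀ {w : G}, w * (t * r) * w⁻¹ = (w * t * w⁻¹) * (w * r * w⁻¹) := fun {w} => by group
  have e_tr : t * (t * r) = r := by rw [← mul_assoc, h.mul_self_t, one_mul]
  have e_rp : r * (t * r) = t := by rw [← mul_assoc, h.comm_t_r.symm.eq, mul_assoc, h.mul_self_r, mul_one]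
  have e_pt : t * r * t = r := by rw [h.comm_t_r.eq, mul_assoc, h.mul_self_t, mul_one]
  have e_pr : t * r * r = t := by rw [mul_assoc, h.mul_self_r, mul_one]
  have htr : t ≠ r := h.ne
  have htp : t ≠ t * r := fun e => h.ne_one_r (mul_eq_left.1 e.symm)
  have hrp : r ≠ t * r := fun e => h.ne_one_t (mul_eq_right.1 e.symm)
  obtain ⟨a, haX, haN, ha⟩ := key t htV h.ne_one_t
  obtain ⟨b, hbX, hbN, hb⟩ := key r hrV h.ne_one_r
  obtain ⟨c, hcX, hcN, hc⟩ := key (t * r) hpV hp1
  have hcase : ∀ w ∈ normalizer (fourV t r : Set G),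
      (w * t * w⁻¹ = t ∧ w * r * w⁻¹ = r) ∨ (w * t * w⁻¹ = t ∧ w * r * w⁻¹ = t * r) ∨
      (w * t * w⁻¹ = r ∧ w * r * w⁻¹ = t) ∨ (w * t * w⁻¹ = t * r ∧ w * r * w⁻¹ = r) ∨
      ((w * t * w⁻¹ = r ∧ w * r * w⁻¹ = t * r) ∨ (w * r * w⁻¹ = t ∧ w * t * w⁻¹ = t * r)) := by
    intro w hw
    rcases hperm w hw t htV h.ne_one_t with e1 | e1 | e1 <;>
      rcases hperm w hw r hrV h.ne_one_r with e2 | e2 | e2 <;>
      first
        | exact absurd (inj (e1.trans e2.symm)) h.ne
        | simp [e1, e2]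
  -- compose two different transpositions
  rcases mem_fourV_cases h (mem_subgroupOf.1 hzV) hzne with hz | hz | hz <;> rw [hz] at ha hb hc
  · rcases hcase b hbN with ⟨-, e⟩ | ⟨-, e⟩ | ⟨e1, e2⟩ | ⟨-, e⟩ | e
    · exact absurd (hb.symm.trans e) htr
    · exact absurd (hb.symm.trans e) htp
    · rcases hcase c hcN with ⟨g1, g2⟩ | ⟨g1, g2⟩ | ⟨g1, g2⟩ | ⟨g1, g2⟩ | g
      · rw [prod, g1, g2] at hc; exact absurd hc.symm htp
      · rw [prod, g1, g2, e_tr] at hc; exact absurd hc htr.symm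
      · rw [prod, g1, g2, h.comm_t_r.symm.eq] at hc; exact absurd hc.symm htp
      · refine fin (b * c) (mul_mem hbX hcX) (Or.inr ⟨?_, ?_⟩)
        · rw [show b * c * r * (b * c)⁻¹ = b * (c * r * c⁻¹) * b⁻¹ by group, g2, e2]
        · rw [show b * c * t * (b * c)⁻¹ = b * (c * t * c⁻¹) * b⁻¹ by group, g1, prod, e1, e2,
            h.comm_t_r.symm.eq]
      · exact fin c hcX g
    · exact absurd (hb.symm.trans e) htr
    · exact fin b hbX e
  · rcases hcase a haN with ⟨e, -⟩ | ⟨e, -⟩ | ⟨e1, e2⟩ | ⟨e, -⟩ | e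
    · exact absurd (e.symm.trans ha) htr
    · exact absurd (e.symm.trans ha) htr
    · rcases hcase c hcN with ⟨g1, g2⟩ | ⟨g1, g2⟩ | ⟨g1, g2⟩ | ⟨g1, g2⟩ | g
      · rw [prod, g1, g2] at hc; exact absurd hc.symm hrp
      · refine fin (a * c) (mul_mem haX hcX) (Or.inl ⟨?_, ?_⟩)
        · rw [show a * c * t * (a * c)⁻¹ = a * (c * t * c⁻¹) * a⁻¹ by group, g1, e1]
        · rw [show a * c * r * (a * c)⁻¹ = a * (c * r * c⁻¹) * a⁻¹ by group, g2, prod, e1, e2,
            h.comm_t_r.symm.eq]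
      · rw [prod, g1, g2, h.comm_t_r.symm.eq] at hc; exact absurd hc.symm hrp
      · rw [prod, g1, g2, e_pr] at hc; exact absurd hc htr
      · exact fin c hcX g
    · exact absurd (e.symm.trans ha) hrp.symm
    · exact fin a haX e
  · rcases hcase a haN with ⟨e, -⟩ | ⟨e, -⟩ | ⟨e, -⟩ | ⟨e1, e2⟩ | e
    · exact absurd (e.symm.trans ha) htp
    · exact absurd (e.symm.trans ha) htp
    · exact absurd (e.symm.trans ha) hrp
    · rcases hcase b hbN with ⟨g1, g2⟩ | ⟨g1, g2⟩ | ⟨g1, g2⟩ | ⟨g1, g2⟩ | g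
      · exact absurd (g2.symm.trans hb) hrp
      · refine fin (b * a) (mul_mem hbX haX) (Or.inl ⟨?_, ?_⟩)
        · rw [show b * a * t * (b * a)⁻¹ = b * (a * t * a⁻¹) * b⁻¹ by group, e1, prod, g1, g2, e_tr]
        · rw [show b * a * r * (b * a)⁻¹ = b * (a * r * a⁻¹) * b⁻¹ by group, e2, g2]
      · exact absurd (g2.symm.trans hb) htp
      · exact absurd (g2.symm.trans hb) hrp
      · exact fin b hbX g
    · exact fin a haX e

variable {q : ℕ} [Fact q.Prime]

/-- A rotation in `H` can be chosen to normalise an invariant Sylow subgroup of an odd normal subgroup. -/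
theorem exists_invariant_rot (h : DHyp n t r σ) {H K Q : Subgroup G} (hK : Odd (Nat.card K)) (hKH : K ≤ H)
    (hHK : H ≤ normalizer (K : Set G)) (hV : fourV t r ≤ H) (hF : Fused t r H) (hQK : Q ≤ K)
    (hQ : IsPGroup q Q) (hQV : fourV t r ≤ normalizer (Q : Set G)) :
    ∃ X : Subgroup G, ∃ s ∈ H, Rot t r s ∧ s ∈ normalizer (X : Set G) ∧ Q ≤ X ∧ X ≤ K ∧
      fourV t r ≤ normalizer (X : Set G) ∧ IsPGroup q X ∧ Nat.card X = q ^ (Nat.card K).factorization q := by
  haveI := Fact.mk Nat.prime_two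
  have hVK : fourV t r ≤ normalizer (K : Set G) := hV.trans hHK
  obtain ⟨X, hQX, hXK, hXV, hXp, hXc⟩ := h.exists_invariant_sylow h.isPGroup_fourV hK hVK hQK hQ hQV
  obtain ⟨s, hsH, hs⟩ := hF
  set Y : Subgroup G := MulAut.conj s • X with hY
  have hYK : Y ≤ K := fun y hy => by
    rw [hY, Coprime.mem_conj] at hy
    have := (mem_normalizer_iff.1 (hHK hsH) _).1 (hXK hy)
    simpa [mul_assoc] using this
  have hsV : ∀ v ∈ fourV t r, s⁻¹ * v * s ∈ fourV t r := by
    intro v hv
    have hle : fourV t r ≤ (fourV t r).map (MulAut.conj s).toMonoidHom := GWKlein.fourV_le_iff.2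
      ⟨⟨t * r, mul_mem (GWKlein.left_mem_fourV t r) (GWKlein.right_mem_fourV t r),
          Rot.conj_mul hs h.comm_t_r h.mul_self_r⟩, ⟨t, GWKlein.left_mem_fourV t r, hs.1⟩⟩
    exact Transfer.mem_map_conj_iff.1 (hle hv)
  have hYV : fourV t r ≤ normalizer (Y : Set G) := fun v hv =>
    Coprime.mem_normalizer_of_forall fun y hy => by
      rw [hY, Coprime.mem_conj] at hy ⊢
      have := (mem_normalizer_iff.1 (hXV (hsV v hv)) _).1 hy
      convert this using 1
      group
  obtain ⟨c, hc, hcX⟩ := Coprime.exists_mem_centralizer_conj_of_card hVK (h.coprime_card h.isPGroup_fourV hK)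
    (Or.inl (Coprime.isSolvable_of_isPGroup h.isPGroup_fourV)) hXK hYK hXV hYV hXc
    ((Coprime.card_conj s X).trans hXc)
  obtain ⟨hct, hcr⟩ := commute_of_mem_centralizer_fourV hc.2
  refine ⟨X, c * s, mul_mem (hKH hc.1) hsH, hs.mul_left hct hcr, ?_, hQX, hXK, hXV, hXp, hXc⟩
  refine Coprime.mem_normalizer_of_conj_eq ?_
  rw [map_mul, mul_smul, ← hY, hcX]

/-- (T): at a prime of `|W|` the four-group centralises the invariant subgroups of a fused core. -/
theorem central_of_rot (h : DHyp n t r σ) (hS : SideRot t r σ) (hq : q ∣ Nat.card (coreW t r))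
    {H Q : Subgroup G} (hV : fourV t r ≤ H) (hF : Fused t r H) (hQ : IsPGroup q Q) (hQH : Q ≤ oddPart H)
    (hQV : fourV t r ≤ normalizer (Q : Set G)) : fourV t r ≤ centralizer (Q : Set G) := by
  obtain ⟨X, s, hsH, hs, hsX, hQX, hXK, hXV, hXp, -⟩ := h.exists_invariant_rot
    (GWKlein.odd_card_oddPart H) (GWKlein.oddPart_le H) (GWKlein.le_normalizer_oddPart H) hV hF hQH hQ hQV
  have hq2 : q ≠ 2 := fun e => Nat.not_even_iff_odd.2 h.odd_coreW (even_iff_two_dvd.2 (e ▸ hq))
  rcases hS q Fact.out hq2 X hXp hXV ⟨s, hsX, hs⟩ with h1 | h1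
  · exact h1.trans (centralizer_le hQX)
  · exact absurd hq h1.2.1

/-- In a solvable subgroup an element of odd order centralising an involution lies in the core. -/
theorem mem_oddPart_of_solvable (h : DHyp n t r σ) {H : Subgroup G} (hH : Group.IsSolvable H) {i u : G}
    (hi : orderOf i = 2) (hiH : i ∈ H) (huH : u ∈ H) (hu : Odd (orderOf u)) (hc : Commute u i) :
    u ∈ oddPart H := by
  haveI := Fact.mk Nat.prime_two
  obtain ⟨S, -, ⟨eS⟩⟩ := h.exists_equiv
  set π := QuotientGroup.mk' (Cfsg.oddCore H) with hπ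
  haveI : Group.IsSolvable (H ⧸ Cfsg.oddCore H) :=
    Group.isSolvable_of_surjective (f := π) (QuotientGroup.mk'_surjective _)
  set F := Cfsg.pCore 2 (H ⧸ Cfsg.oddCore H) with hF
  haveI hFn : F.Normal := Cores.pCore_normal 2 _
  have hFc := SylowLift.centralizer_pCore_le_of_solvable (Cores.pPrimeCore_quotient_self (p := 2) (G := H))
  obtain ⟨T, hTi⟩ := (IsPGroup.of_card (n := 1) (p := 2) (G := zpowers (⟨i, hiH⟩ : H))
    (by rw [Nat.card_zpowers, Subgroup.orderOf_mk, hi, pow_one])).exists_le_sylow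
  let T' : Sylow 2 (H ⧸ Cfsg.oddCore H) := T.mapSurjective (QuotientGroup.mk'_surjective _)
  obtain ⟨Q, hQ⟩ := (T.2.map H.subtype).exists_le_sylow
  let f : (T : Subgroup H) →* DihedralGroup (2 ^ (n - 1)) :=
    (((Q.equiv S).trans eS).toMonoidHom.comp (inclusion hQ)).comp
      ((T : Subgroup H).equivMapOfInjective H.subtype H.subtype_injective).toMonoidHom
  have hf : Function.Injective f :=
    (((Q.equiv S).trans eS).injective.comp (inclusion_injective hQ)).comp
      ((T : Subgroup H).equivMapOfInjective H.subtype H.subtype_injective).injective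
  let g : (T : Subgroup H) →* (T' : Subgroup (H ⧸ Cfsg.oddCore H)) :=
    (π.comp (T : Subgroup H).subtype).codRestrict _ fun x => ⟨x, x.2, rfl⟩
  have hg : Function.Bijective g := by
    refine ⟨(injective_iff_map_eq_one g).2 fun x hx => ?_, fun y => ?_⟩
    · obtain ⟨k, hk⟩ := T.2 x
      exact Subtype.ext (Local.eq_one_of_bar (k := k) (congrArg Subtype.val hk) (congrArg Subtype.val hx))
    · obtain ⟨x, hx, hxy⟩ := y.2
      exact ⟨⟨x, hx⟩, Subtype.ext hxy⟩
  set e := MulEquiv.ofBijective g hg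
  -- the images
  set ub := π ⟨u, huH⟩ with hub
  set ib := π ⟨i, hiH⟩ with hib
  have hubo : (orderOf ub).Coprime 2 := Nat.coprime_two_right.2
    (hu.of_dvd_nat ((orderOf_map_dvd _ _).trans (by rw [Subgroup.orderOf_mk])))
  have hcb : Commute ub ib := (show Commute (⟨u, huH⟩ : H) ⟨i, hiH⟩ from Subtype.ext hc.eq).map π
  suffices hu1 : ub ∈ F by
    refine Local.bar_eq_one.1 (orderOf_eq_one_iff.1 ?_ : π ⟨u, huH⟩ = 1)
    obtain ⟨k, hk⟩ := Cores.isPGroup_pCore 2 (H ⧸ Cfsg.oddCore H) ⟨ub, hu1⟩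
    exact Nat.eq_one_of_dvd_coprimes (hubo.pow_right k) dvd_rfl
      (orderOf_dvd_of_pow_eq_one (congrArg Subtype.val hk))
  refine hFc ?_
  have hnorm : ∀ x : H ⧸ Cfsg.oddCore H, x ∈ normalizer (F : Set (H ⧸ Cfsg.oddCore H)) := fun x => by
    rw [normalizer_eq_top F]; exact mem_top x
  by_contra hun
  -- otherwise `F` is a four-group
  have hFT : F ≤ (T' : Subgroup _) := Cores.pCore_le_sylow T'
  have hFk : IsKleinFour F := by
    let j : F →* DihedralGroup (2 ^ (n - 1)) := (f.comp e.symm.toMonoidHom).comp (inclusion hFT)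
    have hj : Function.Injective j := (hf.comp e.symm.injective).comp (inclusion_injective hFT)
    rcases Transfer.dihedral_subgroup_cases rfl j.range with h1 | h1
    · exact absurd (Transfer.centralizes_of_isPGroup_mulAut
        (Transfer.isPGroup_mulAut_of_equiv (MonoidHom.ofInjective hj) h1) (hnorm ub) hubo) hun
    · exact Transfer.isKleinFour_congr (MonoidHom.ofInjective hj).symm h1
  haveI := hFk
  -- `i` is in it, so fixed by `u`
  have hibT : ib ∈ (T' : Subgroup _) := ⟨_, hTi (mem_zpowers _), rfl⟩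
  obtain ⟨m, em, hm⟩ : ∃ m, ∃ _ : (T' : Subgroup (H ⧸ Cfsg.oddCore H)) ≃* DihedralGroup m, m ≠ 0 := by
    have e1 : (T' : Subgroup (H ⧸ Cfsg.oddCore H)) ≃* f.range := e.symm.trans (MonoidHom.ofInjective hf)
    obtain ⟨b, -, ⟨e2⟩⟩ := RankOneSylow.exists_dihedral_equiv rfl f.range fun hc => by
      haveI := hc
      haveI : IsCyclic (T' : Subgroup (H ⧸ Cfsg.oddCore H)) := isCyclic_of_injective e1.toMonoidHom e1.injective
      haveI : IsCyclic F := isCyclic_of_injective (inclusion hFT) (inclusion_injective hFT)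
      exact IsKleinFour.not_isCyclic (G := F) inferInstance
    exact ⟨_, e1.trans e2, by positivity⟩
  have hib2 : ib * ib = 1 := by
    rw [hib, ← map_mul, show (⟨i, hiH⟩ : H) * ⟨i, hiH⟩ = 1 from Subtype.ext (Involution.mul_self hi), map_one]
  have hib1 : ib ≠ 1 := fun e0 => Involution.ne_one hi (congrArg Subtype.val
    (Local.eq_one_of_bar (x := (⟨i, hiH⟩ : H)) (k := 1)
      (Subtype.ext (by simpa [pow_two] using Involution.mul_self hi)) e0))
  refine hun (mem_centralizer_iff.2 fun x hx => ?_)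
  by_cases hib : ib ∈ F
  · -- `u` fixes one involution of a four-group and has odd order
    have hc' : ∀ y ∈ F, ub * y * ub⁻¹ ∈ F := fun y hy => hFn.conj_mem y hy ub
    have hu2 : Commute (ub ^ 2) x := by
      by_cases hx1 : x = 1
      · rw [hx1]; exact Commute.one_right _
      by_cases hxi : x = ib
      · rw [hxi]; exact hcb.pow_left 2
      have hcas : ∀ y ∈ F, y ≠ 1 → y ≠ ib → y = x ∨ y = x * ib := fun y hy hy1 hyi => by
        by_cases hyx : y = x
        · exact Or.inl hyx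
        have := IsKleinFour.eq_mul_of_ne_all (x := (⟨x, hx⟩ : F)) (y := ⟨ib, hib⟩) (z := ⟨y, hy⟩)
          (fun e0 => hx1 (congrArg Subtype.val e0)) (fun e0 => hib1 (congrArg Subtype.val e0))
          (fun e0 => hxi (congrArg Subtype.val e0)) (fun e0 => hy1 (congrArg Subtype.val e0))
          (fun e0 => hyx (congrArg Subtype.val e0)) (fun e0 => hyi (congrArg Subtype.val e0))
        exact Or.inr (congrArg Subtype.val this)
      have hcib : ub * ib * ub⁻¹ = ib := by rw [hcb.eq, mul_inv_cancel_right]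
      have hne : ∀ y, y ≠ 1 → y ≠ ib → ub * y * ub⁻¹ ≠ 1 ∧ ub * y * ub⁻¹ ≠ ib := fun y hy1 hyi =>
        ⟨fun e0 => hy1 (conj_eq_one_iff.1 e0), fun e0 => hyi (conj_injective (e0.trans hcib.symm))⟩
      have e2 : ub * (ub * x * ub⁻¹) * ub⁻¹ = x := by
        rcases hcas _ (hc' x hx) (hne x hx1 hxi).1 (hne x hx1 hxi).2 with e0 | e0
        · rw [e0, e0]
        · rw [e0, show ub * (x * ib) * ub⁻¹ = ub * x * ub⁻¹ * (ub * ib * ub⁻¹) by group, e0, hcib, mul_assoc,
            hib2, mul_one]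
      show ub ^ 2 * x = x * ub ^ 2
      rw [pow_two]
      calc ub * ub * x = ub * (ub * x * ub⁻¹) * ub⁻¹ * (ub * ub) := by group
        _ = x * (ub * ub) := by rw [e2]
    obtain ⟨l, hl⟩ := Nat.coprime_two_right.1 hubo
    have e0 : (ub ^ 2) ^ (l + 1) = ub := by
      rw [← pow_mul, show 2 * (l + 1) = orderOf ub + 1 by omega, pow_add, pow_orderOf_eq_one, one_mul, pow_one]
    rw [← e0]
    exact (hu2.pow_left (l + 1)).eq.symm
  · exfalso
    -- `i` does not centralise `F`, and moves one pair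
    refine hib (GWReduce.mem_of_centralizes_klein T' hm em hFk hib2 ?_)
    refine mem_centralizer_iff.2 fun y hy => ?_
    by_contra hne
    -- `u` commutes with a transposition of the three involutions
    have hy1 : y ≠ 1 := fun e0 => hne (by rw [e0, one_mul, mul_one])
    set y' := ib * y * ib⁻¹ with hy'
    have hy'F : y' ∈ F := hFn.conj_mem y hy ib
    have hyy' : y ≠ y' := fun e0 => hne (by
      rw [eq_comm, hy', mul_inv_eq_iff_eq_mul] at e0
      exact e0.symm)
    have hy'1 : y' ≠ 1 := fun e0 => hy1 (conj_eq_one_iff.1 e0)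
    set z := y * y' with hz
    have hzF : z ∈ F := mul_mem hy hy'F
    have hFsq : ∀ w ∈ F, w * w = 1 := fun w hw => by
      have := Monoid.pow_exponent_eq_one (⟨w, hw⟩ : F)
      rw [hFk.exponent_two, pow_two] at this
      exact congrArg Subtype.val this
    have hFcomm : ∀ w ∈ F, ∀ w' ∈ F, w * w' = w' * w := fun w hw w' hw' =>
      (commute_of_klein hFk hw hw').eq
    have hiy' : ib * y' * ib⁻¹ = y := by
      rw [hy', show ib * (ib * y * ib⁻¹) * ib⁻¹ = (ib * ib) * y * (ib * ib)⁻¹ by group, hib2]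
      simp
    have hzi : ib * z * ib⁻¹ = z := by
      rw [hz, show ib * (y * y') * ib⁻¹ = y' * (ib * y' * ib⁻¹) by rw [hy']; group, hiy', hFcomm y' hy'F y hy]
    have hz1 : z ≠ 1 := fun e0 => hyy' (by
      have := congrArg (· * y') e0
      simpa [hz, mul_assoc, hFsq y' hy'F] using this)
    -- the only fixed involution
    have huniq : ∀ w ∈ F, w ≠ 1 → ib * w * ib⁻¹ = w → w = z := by
      intro w hw hw1 hwi
      by_contra hwz
      by_cases hwy : w = y
      · rw [hwy] at hwi; exact hyy' hwi.symm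
      have hw' := IsKleinFour.eq_mul_of_ne_all (x := (⟨y, hy⟩ : F)) (y := ⟨z, hzF⟩) (z := ⟨w, hw⟩)
        (fun e0 => hy1 (congrArg Subtype.val e0)) (fun e0 => hz1 (congrArg Subtype.val e0))
        (fun e0 => hy'1 (mul_eq_left.1 (show y * y' = y from (congrArg Subtype.val e0).symm)))
        (fun e0 => hw1 (congrArg Subtype.val e0)) (fun e0 => hwy (congrArg Subtype.val e0))
        (fun e0 => hwz (congrArg Subtype.val e0))
      have hwy' : w = y' := by
        rw [show w = y * z from congrArg Subtype.val hw', hz, ← mul_assoc, hFsq y hy, one_mul]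
      rw [hwy', hiy'] at hwi
      exact hyy' hwi
    have hzu : ub * z * ub⁻¹ = z := huniq _ (hFn.conj_mem z hzF ub) (fun e0 => hz1 (conj_eq_one_iff.1 e0)) (by
      rw [show ib * (ub * z * ub⁻¹) * ib⁻¹ = (ib * ub) * z * (ib * ub)⁻¹ by group, ← hcb.eq,
        show ub * ib * z * (ub * ib)⁻¹ = ub * (ib * z * ib⁻¹) * ub⁻¹ by group, hzi])
    have hu2 : ∀ w ∈ F, Commute (ub ^ 2) w := by
      intro w hw
      have hcas : ∀ v ∈ F, v ≠ 1 → v ≠ z → v = y ∨ v = y' := fun v hv hv1 hvz => by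
        by_cases hvy : v = y
        · exact Or.inl hvy
        have := IsKleinFour.eq_mul_of_ne_all (x := (⟨y, hy⟩ : F)) (y := ⟨z, hzF⟩) (z := ⟨v, hv⟩)
          (fun e0 => hy1 (congrArg Subtype.val e0)) (fun e0 => hz1 (congrArg Subtype.val e0))
          (fun e0 => hy'1 (mul_eq_left.1 (show y * y' = y from (congrArg Subtype.val e0).symm)))
          (fun e0 => hv1 (congrArg Subtype.val e0)) (fun e0 => hvy (congrArg Subtype.val e0))
          (fun e0 => hvz (congrArg Subtype.val e0))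
        exact Or.inr (by
          rw [show v = y * z from congrArg Subtype.val this, hz, ← mul_assoc, hFsq y hy, one_mul])
      by_cases hw1 : w = 1
      · rw [hw1]; exact Commute.one_right _
      by_cases hwz : w = z
      · rw [hwz]; exact (show Commute ub z from mul_inv_eq_iff_eq_mul.1 hzu).pow_left 2
      have hne : ∀ v, v ≠ 1 → v ≠ z → ub * v * ub⁻¹ ≠ 1 ∧ ub * v * ub⁻¹ ≠ z := fun v hv1 hvz =>
        ⟨fun e0 => hv1 (conj_eq_one_iff.1 e0), fun e0 => hvz (conj_injective (e0.trans hzu.symm))⟩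
      obtain ⟨h1a, h1b⟩ := hne w hw1 hwz
      obtain ⟨h2a, h2b⟩ := hne _ h1a h1b
      have hF1 := hFn.conj_mem w hw ub
      have hF2 := hFn.conj_mem _ hF1 ub
      have e2 : ub * (ub * w * ub⁻¹) * ub⁻¹ = w := by
        by_cases hfx : ub * w * ub⁻¹ = w
        · rw [hfx, hfx]
        have hne2 : ub * (ub * w * ub⁻¹) * ub⁻¹ ≠ ub * w * ub⁻¹ := fun e1 => hfx (conj_injective e1)
        rcases hcas w hw hw1 hwz with hw' | hw' <;> rcases hcas _ hF1 h1a h1b with e0 | e0 <;>
          rcases hcas _ hF2 h2a h2b with e1 | e1 <;>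
          first
            | exact e1.trans hw'.symm
            | exact absurd (e0.trans hw'.symm) hfx
            | exact absurd (e1.trans e0.symm) hne2
      show ub ^ 2 * w = w * ub ^ 2
      rw [pow_two]
      calc ub * ub * w = ub * (ub * w * ub⁻¹) * ub⁻¹ * (ub * ub) := by group
        _ = w * (ub * ub) := by rw [e2]
    obtain ⟨l, hl⟩ := Nat.coprime_two_right.1 hubo
    have e0 : (ub ^ 2) ^ (l + 1) = ub := by
      rw [← pow_mul, show 2 * (l + 1) = orderOf ub + 1 by omega, pow_add, pow_orderOf_eq_one, one_mul, pow_one]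
    refine hun (mem_centralizer_iff.2 fun w hw => ?_)
    rw [← e0]
    exact ((hu2 w hw).pow_left (l + 1)).eq.symm

/-- In a group of Gorenstein-Walter type two involutions over the socle are conjugate. -/
theorem isConj_of_bar {X : Subgroup G} {L : Subgroup (X ⧸ Cfsg.oddCore X)} [L.Normal] (hL : Socle L)
    {x y : X} (hx : orderOf x = 2) (hy : orderOf y = 2)
    (hxL : QuotientGroup.mk' (Cfsg.oddCore X) x ∈ L) (hyL : QuotientGroup.mk' (Cfsg.oddCore X) y ∈ L) :
    ∃ g ∈ X, g * (x : G) * g⁻¹ = y := by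
  set π := QuotientGroup.mk' (Cfsg.oddCore X)
  have hxo : orderOf (⟨π x, hxL⟩ : L) = 2 := by rw [Subgroup.orderOf_mk]; exact Local.orderOf_bar hx
  have hyo : orderOf (⟨π y, hyL⟩ : L) = 2 := by rw [Subgroup.orderOf_mk]; exact Local.orderOf_bar hy
  have hconj : IsConj (⟨π x, hxL⟩ : L) ⟨π y, hyL⟩ := by
    rcases hL with ⟨F, _, _, hodd, -, ⟨e⟩⟩ | ⟨⟨e⟩⟩
    · obtain ⟨g, hg⟩ := isConj_iff.1 (PSL2.involution_isConj (F := F) (by rwa [Nat.card_eq_fintype_card])
        ((e.orderOf_eq _).trans hxo) ((e.orderOf_eq _).trans hyo))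
      exact isConj_iff.2 ⟨e.symm g, e.injective (by simp [hg])⟩
    · obtain ⟨g, hg⟩ := isConj_iff.1 (Socle.alt_seven_isConj ((e.orderOf_eq _).trans hxo)
        ((e.orderOf_eq _).trans hyo))
      exact isConj_iff.2 ⟨e.symm g, e.injective (by simp [hg])⟩
  obtain ⟨g, hg⟩ := isConj_iff.1 hconj
  obtain ⟨g', hg'⟩ := QuotientGroup.mk'_surjective (Cfsg.oddCore X) (g : X ⧸ Cfsg.oddCore X)
  have hz : orderOf (g' * x * g'⁻¹) = 2 := (Involution.orderOf_conj _ _).trans hx
  have hbar : π (g' * x * g'⁻¹ * y) = 1 := by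
    rw [map_mul, map_mul, map_mul, map_inv, hg',
      show (g : X ⧸ Cfsg.oddCore X) * π x * (g : X ⧸ Cfsg.oddCore X)⁻¹ = π y from congrArg Subtype.val hg,
      ← map_mul, Involution.mul_self hy, map_one]
  have hodd : Odd (orderOf (g' * x * g'⁻¹ * y)) := Nat.odd_iff.2 (Nat.two_dvd_ne_zero.1 fun h2 =>
    Local.not_two_dvd_core X (h2.trans (orderOf_dvd_natCard _ ((QuotientGroup.eq_one_iff _).1 hbar))))
  obtain ⟨d, -, hd⟩ := Involution.exists_conj_of_odd hz hy hodd
  refine ⟨(d * g' : X), (d * g').2, ?_⟩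
  have e : d * g' * x * (d * g')⁻¹ = y := by rw [← hd]; group
  exact congrArg Subtype.val e

/-- A non-solvable subgroup over `⟨t, r⟩` normalised by a rotation contains one. -/
theorem fused_of_normal (h : DHyp n t r σ) (hP : ProperGWLike G) {X : Subgroup G} (hX : X ≠ ⊤)
    (hns : ¬ Group.IsSolvable X) (hV : fourV t r ≤ X) {s : G} (hs : Rot t r s)
    (hsX : s ∈ normalizer (X : Set G)) : Fused t r X := by
  obtain ⟨L, hLn, hC, hL'⟩ := hP X hX hns
  have hL : Socle L := hL'
  haveI := hLn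
  haveI := Fact.mk Nat.prime_two
  set π := QuotientGroup.mk' (Cfsg.oddCore X)
  set V := (fourV t r).subgroupOf X
  haveI hVk : IsKleinFour V := Transfer.isKleinFour_congr (subgroupOfEquivOfLe hV).symm h.isKleinFour
  obtain ⟨P, hVP⟩ := ((IsPGroup.of_card (n := 2) (by rw [hVk.card_four]; norm_num)) : IsPGroup 2 V).exists_le_sylow
  -- the normal subgroup over the socle meets the centre of a Sylow subgroup
  set N := L.comap π
  haveI : N.Normal := inferInstance
  obtain ⟨w, hwP, hwN, hw2⟩ : ∃ w : X, w ∈ (P : Subgroup X) ∧ w ∈ N ∧ orderOf w = 2 := by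
    obtain ⟨l, hl⟩ := hL.exists_involution
    obtain ⟨z, hz⟩ := QuotientGroup.mk'_surjective (Cfsg.oddCore X) (l : X ⧸ Cfsg.oddCore X)
    obtain ⟨k, m, hm, hkm⟩ := Nat.exists_eq_two_pow_mul_odd (orderOf_pos z).ne'
    have hzm : π (z ^ m) = l := by
      rw [map_pow, hz, pow_eq_pow_mod m (Local.sq_eq_one (show orderOf (l : X ⧸ Cfsg.oddCore X) = 2 by
        rw [Subgroup.orderOf_coe, hl])), Nat.odd_iff.1 hm, pow_one]
    have hzk : (z ^ m) ^ 2 ^ k = 1 := by rw [← pow_mul, mul_comm, ← hkm, pow_orderOf_eq_one]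
    have hzo : orderOf (z ^ m) = 2 := by
      refine orderOf_eq_prime (Local.eq_one_of_bar (k := k) ?_ ?_) fun e => ?_
      · rw [← pow_mul, mul_comm 2, pow_mul, hzk, one_pow]
      · show π ((z ^ m) ^ 2) = 1
        rw [map_pow, hzm, Local.sq_eq_one (show orderOf (l : X ⧸ Cfsg.oddCore X) = 2 by
          rw [Subgroup.orderOf_coe, hl])]
      · rw [e, map_one] at hzm
        rw [← Subgroup.orderOf_coe, ← hzm, orderOf_one] at hl
        omega
    obtain ⟨Q, hQ⟩ := (IsPGroup.of_card (n := 1) (p := 2) (G := zpowers (z ^ m))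
      (by rw [Nat.card_zpowers, hzo, pow_one])).exists_le_sylow
    obtain ⟨g, hg⟩ := MulAction.exists_smul_eq X Q P
    refine ⟨g * z ^ m * g⁻¹, ?_, ?_, (Involution.orderOf_conj _ _).trans hzo⟩
    · rw [← hg, Transfer.sylow_coe_smul]
      exact ⟨_, hQ (mem_zpowers _), rfl⟩
    · exact (inferInstance : N.Normal).conj_mem _ (show π (z ^ m) ∈ L from hzm ▸ l.2) g
  haveI hPN : (N.subgroupOf (P : Subgroup X)).Normal := inferInstance
  have hne : N.subgroupOf (P : Subgroup X) ≠ ⊥ := fun e => Involution.ne_one hw2 (by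
    have : (⟨w, hwP⟩ : (P : Subgroup X)) ∈ N.subgroupOf (P : Subgroup X) := mem_subgroupOf.2 hwN
    rw [e, mem_bot] at this
    exact congrArg Subtype.val this)
  obtain ⟨z, hzm, hz1⟩ := (Subgroup.bot_or_exists_ne_one _).resolve_left (PGroup.inf_center_ne_bot P.2 hne)
  have hzN : z ∈ N.subgroupOf (P : Subgroup X) ∧ z ≠ 1 := ⟨(mem_inf.1 hzm).1, hz1⟩
  have hz : z ∈ center (P : Subgroup X) := (mem_inf.1 hzm).2
  obtain ⟨k, hk⟩ := IsPGroup.iff_orderOf.1 P.2 z
  have hk0 : k ≠ 0 := fun e => hzN.2 (orderOf_eq_one_iff.1 (by rw [hk, e, pow_zero]))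
  set z₀ := z ^ 2 ^ (k - 1) with hz₀
  have hz₀2 : orderOf z₀ = 2 := by
    rw [hz₀, orderOf_pow' _ (by positivity), hk,
      Nat.gcd_eq_right (pow_dvd_pow 2 (by omega)), Nat.pow_div (by omega) two_pos,
      show k - (k - 1) = 1 by omega, pow_one]
  have hz₀N : (z₀ : X) ∈ N := mem_subgroupOf.1 (pow_mem hzN.1 _)
  have hz₀c : ∀ x : (P : Subgroup X), x * z₀ = z₀ * x := fun x => mem_center_iff.1 (pow_mem hz _) x
  obtain ⟨S, -, ⟨eS⟩⟩ := h.exists_equiv
  have hzV : ((z₀ : X) : G) ∈ fourV t r := by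
    refine GWReduce.mem_of_centralizes_klein S (by positivity) eS h.isKleinFour ?_ ?_
    · exact congrArg Subtype.val (congrArg Subtype.val (Involution.mul_self hz₀2))
    · exact mem_centralizer_iff.2 fun x hx =>
        congrArg Subtype.val (congrArg Subtype.val (hz₀c ⟨⟨x, hV hx⟩, hVP (mem_subgroupOf.2 hx)⟩))
  have hzne : ((z₀ : X) : G) ≠ 1 := fun e => Involution.ne_one hz₀2 (Subtype.ext (Subtype.ext e))
  -- it lies in every normal subgroup of even order, so all involutions of the four-group do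
  set Soc : G → Prop := fun x => ∀ M : Subgroup G, M ≤ X → X ≤ normalizer (M : Set G) →
    Even (Nat.card M) → x ∈ M with hSoc
  have hsoc0 : Soc (z₀ : X) := by
    intro M hMX hXM hMe
    haveI : (M.subgroupOf X).Normal := Cores.subgroupOf_normal_of_le_normalizer hXM
    have hzo : orderOf ((z₀ : X) : G) = 2 := by rw [Subgroup.orderOf_coe, Subgroup.orderOf_coe, hz₀2]
    have hsocle : InSocle (zpowers ((z₀ : X) : G)) X := by
      refine Local.inSocle_of_mem hL hC (zpowers_le.2 (z₀ : X).2) (IsPGroup.of_card (n := 1)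
        (by rw [Nat.card_zpowers, hzo, pow_one])) fun x hx => ?_
      obtain ⟨i, hi⟩ := mem_zpowers_iff.1 hx
      rw [show x = (z₀ : X) ^ i from Subtype.ext (by rw [← hi]; rfl), map_zpow]
      exact zpow_mem hz₀N i
    exact mem_subgroupOf.1 (hsocle.2 _ inferInstance (by rwa [Cores.card_subgroupOf hMX])
      (x := (z₀ : X)) (mem_subgroupOf.2 (mem_zpowers _)))
  have hsocs : ∀ x, Soc x → Soc (s * x * s⁻¹) := by
    intro x hx M hMX hXM hMe
    set M' : Subgroup G := M.map (MulAut.conj s⁻¹).toMonoidHom with hM'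
    have hM'X : M' ≤ X := by
      rintro _ ⟨y, hy, rfl⟩
      exact (mem_normalizer_iff.1 (inv_mem hsX) y).1 (hMX hy)
    have hXM' : X ≤ normalizer (M' : Set G) := fun g hg => Coprime.mem_normalizer_of_forall fun y hy => by
      rw [hM', Transfer.mem_map_conj_iff] at hy ⊢
      have hg' : s * g * s⁻¹ ∈ X := (mem_normalizer_iff.1 hsX g).1 hg
      have := (mem_normalizer_iff.1 (hXM hg') _).1 hy
      convert this using 1
      group
    have := hx M' hM'X hXM' (by rwa [hM', Subgroup.card_map_of_injective (MulAut.conj s⁻¹).injective])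
    rw [hM', Transfer.mem_map_conj_iff] at this
    simpa using this
  have hall : Soc t ∧ Soc r ∧ Soc (t * r) := by
    have e3 : s * (t * r) * s⁻¹ = t := Rot.conj_mul hs h.comm_t_r h.mul_self_r
    rcases mem_fourV_cases h hzV hzne with e | e | e <;> rw [e] at hsoc0
    · have h1 := hsocs _ hsoc0; rw [hs.1] at h1
      have h2 := hsocs _ h1; rw [hs.2] at h2
      exact ⟨hsoc0, h1, h2⟩
    · have h1 := hsocs _ hsoc0; rw [hs.2] at h1
      have h2 := hsocs _ h1; rw [e3] at h2
      exact ⟨h2, hsoc0, h1⟩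
    · have h1 := hsocs _ hsoc0; rw [e3] at h1
      have h2 := hsocs _ h1; rw [hs.1] at h2
      exact ⟨h1, h2, hsoc0⟩
  have hinL : ∀ x (hx : x ∈ X), Soc x → π ⟨x, hx⟩ ∈ L := by
    intro x hx hsx
    have hM : N.map X.subtype ≤ X := map_subtype_le _
    have hXM : X ≤ normalizer (N.map X.subtype : Set G) :=
      (le_normalizer_map _).trans' (by rw [normalizer_eq_top N, ← MonoidHom.range_eq_map, range_subtype])
    obtain ⟨y, hy, hyx⟩ := hsx _ hM hXM (by
      rw [Cores.card_map_subtype, even_iff_two_dvd, ← hw2]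
      exact orderOf_dvd_natCard _ hwN)
    rw [← show y = ⟨x, hx⟩ from Subtype.ext hyx]
    exact hy
  have htX : t ∈ X := hV (GWKlein.left_mem_fourV t r)
  have hrX : r ∈ X := hV (GWKlein.right_mem_fourV t r)
  obtain ⟨g₁, hg₁, e₁⟩ := isConj_of_bar hL (x := ⟨t, htX⟩) (y := ⟨r, hrX⟩)
    (by rw [Subgroup.orderOf_mk, h.order_t]) (by rw [Subgroup.orderOf_mk, h.order_r]) (hinL t htX hall.1)
    (hinL r hrX hall.2.1)
  obtain ⟨g₂, hg₂, e₂⟩ := isConj_of_bar hL (x := ⟨r, hrX⟩) (y := ⟨t * r, mul_mem htX hrX⟩)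
    (by rw [Subgroup.orderOf_mk, h.order_r]) (by rw [Subgroup.orderOf_mk, h.order_t_mul_r]) (hinL r hrX hall.2.1)
    (hinL _ _ hall.2.2)
  exact h.fused_of_isConj hV ⟨g₁, hg₁, e₁⟩ ⟨g₂, hg₂, e₂⟩

end DHyp

end Conj

end Cfsg.Agent.GWDihedral
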