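import Cfsg.Agent.Lib.GWDihedral.Steps
import Cfsg.Agent.Lib.GWDihedral.Induction
import Cfsg.Agent.Lib.GWDihedral.OrderFormula
import Cfsg.Agent.Lib.GWKlein.General.Main

/-!
# Gorenstein-Walter, dihedral Sylow 2-subgroups: reduction to the minimal counterexample

* `DHyp.exists_of_equiv` : a Sylow 2-subgroup isomorphic to `DihedralGroup m`, `3 ≤ m`, gives `DHyp`
* `dihedralGW_of_ctx` : the Gorenstein-Walter theorem from the statement for a `Ctx`
-/

set_option autoImplicit false
set_option linter.style.haveILetI false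

namespace Cfsg.Agent.GWDihedral

open Subgroup

universe u

variable {G : Type u} [Group G] [Finite G]

/-- The setting, from an isomorphism of a Sylow 2-subgroup with a dihedral group of order at least 8. -/
theorem DHyp.exists_of_equiv (S : Sylow 2 G) {m : ℕ} (hm : 3 ≤ m)
    (e : (S : Subgroup G) ≃* DihedralGroup m) : ∃ (n : ℕ) (t r σ : G), DHyp n t r σ := by
  haveI := Fact.mk Nat.prime_two
  haveI : NeZero m := ⟨by omega⟩
  obtain ⟨k, hk⟩ := IsPGroup.iff_card.1 S.2
  rw [Nat.card_congr e.toEquiv, DihedralGroup.nat_card] at hk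
  have hdvd : m ∣ 2 ^ k := ⟨2, by omega⟩
  obtain ⟨j, -, rfl⟩ := (Nat.dvd_prime_pow Nat.prime_two).1 hdvd
  have hj : 2 ≤ j := by
    rcases j with _ | _ | j <;> simp_all
  set σ : (S : Subgroup G) := e.symm (DihedralGroup.r 1) with hσ
  set r : (S : Subgroup G) := e.symm (DihedralGroup.sr 0) with hr
  refine ⟨j + 1, (σ : G) ^ 2 ^ (j - 1), (r : G), (σ : G), ⟨by omega, ?_, ?_, ?_, ?_, S, ?_⟩⟩
  · rw [Subgroup.orderOf_coe, hσ, MulEquiv.orderOf_eq, DihedralGroup.orderOf_r_one]
    simp
  · rw [Subgroup.orderOf_coe, hr, MulEquiv.orderOf_eq, DihedralGroup.orderOf_sr]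
  · have h : r * σ * r⁻¹ = σ⁻¹ := e.injective (by
      simp [hσ, hr, DihedralGroup.sr_mul_r, DihedralGroup.inv_r, DihedralGroup.inv_sr,
        DihedralGroup.sr_mul_sr])
    exact_mod_cast congrArg Subtype.val h
  · rfl
  · refine le_antisymm (fun x hx => ?_) ((closure_le _).2 ?_)
    · have h1 : e ⟨x, hx⟩ ∈ closure ({DihedralGroup.r 1, DihedralGroup.sr 0} : Set (DihedralGroup (2 ^ j))) := by
        rcases e ⟨x, hx⟩ with i | i
        · rw [← ZMod.natCast_zmod_val i, ← DihedralGroup.r_one_pow]
          exact pow_mem (subset_closure (Set.mem_insert _ _)) _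
        · rw [← ZMod.natCast_zmod_val i, ← zero_add ((i.val : ℕ) : ZMod (2 ^ j)), ← DihedralGroup.sr_mul_r,
            ← DihedralGroup.r_one_pow]
          exact mul_mem (subset_closure (Set.mem_insert_of_mem _ rfl))
            (pow_mem (subset_closure (Set.mem_insert _ _)) _)
      have h2 := mem_map_of_mem (((S : Subgroup G).subtype).comp e.symm.toMonoidHom) h1
      rw [MonoidHom.map_closure, Set.image_pair] at h2
      simpa [hσ, hr] using h2
    · rintro x (rfl | rfl)
      · exact σ.2
      · exact r.2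

/-- **Gorenstein-Walter**, from the statement for a minimal counterexample with Sylow order at least 8. -/
theorem dihedralGW_of_ctx
    (H : ∀ (G : Type u) [Group G] [Finite G] [IsSimpleGroup G] (n : ℕ) (t r σ : G),
      Ctx n t r σ → Conclusion G) : GWReduce.DihedralGW.{u} := by
  suffices key : ∀ (N : ℕ) (G : Type u) [Group G] [Finite G], Nat.card G = N → IsSimpleGroup G →
      ¬ IsMulCommutative G → ∀ (S : Sylow 2 G) (m : ℕ), 2 ≤ m →
      Nonempty ((S : Subgroup G) ≃* DihedralGroup m) → Conclusion G from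
    fun G _ _ hs hna S m hm he => key _ G rfl hs hna S m hm he
  intro N
  induction N using Nat.strong_induction_on with
  | _ N ih =>
    intro G _ _ hN hs hna S m hm he
    rcases eq_or_lt_of_le hm with rfl | hm3
    · exact Or.inl (GWKlein.dihedral_two G hs hna S he)
    · obtain ⟨e⟩ := he
      haveI := hs
      obtain ⟨n, t, r, σ, h⟩ := DHyp.exists_of_equiv S hm3 e
      exact H G n t r σ ⟨h, h.properGWLike fun X _ _ hX hsX hnX SX k hk hek =>
        ih (Nat.card X) (hN ▸ hX) X rfl hsX hnX SX k hk hek, h.orderFormula⟩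

end Cfsg.Agent.GWDihedral
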