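import Cfsg.Agent.Lib.GWDihedral.StepsB
import Cfsg.Agent.Lib.GWDihedral.RotTools
import Cfsg.Agent.Lib.GWDihedral.SidesFunctor
import Cfsg.Agent.Lib.GWDihedral.Reduce

/-!
# Gorenstein-Walter, dihedral Sylow subgroups of order at least eight: (C)

* `CaseB.swap` : the hypotheses of case B are symmetric in the two classes of reflections
* `CaseB.inverted_sub` : the elements of `C_U(y)` inverted by `r`
* `sigmaFix` : for a prime power element `y` of `W` with `⟨y⟩` normalised by `σ`, the rotation `σ ^ 2`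
  centralises `C_U(y)`

For the part of `C_U(y)` in the core of `C(y)` the reflection `r` is `1` or `-1` on each invariant Sylow subgroup;
modulo the core an element of odd order fixed by a reflection of the socle commutes with no element it inverts,
so the two cyclic groups inverted by `r` and `σ⁻¹ r σ` coincide.
-/

set_option autoImplicit false
set_option linter.unusedSectionVars false
set_option linter.style.haveILetI false

namespace Cfsg.Agent.GWDihedral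

open Subgroup
open Cfsg.Agent.GWKlein (coreU coreW fourV oddPart)

universe u

section Generic

variable {M : Type u} [Group M]

/-- A 2-element moving `x` by an element of odd order that it fixes, fixes `x`. -/
theorem eq_one_of_step {g x d : M} {k : ℕ} (hgd : Commute g d) (hx : g * x * g⁻¹ = x * d)
    (hg : g ^ 2 ^ k = 1) (hd : Odd (orderOf d)) : d = 1 := by
  have key : ∀ m : ℕ, g ^ m * x * (g ^ m)⁻¹ = x * d ^ m := fun m => by
    induction m with
    | zero => simp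
    | succ m ih =>
      calc g ^ (m + 1) * x * (g ^ (m + 1))⁻¹ = g * (g ^ m * x * (g ^ m)⁻¹) * g⁻¹ := by group
        _ = g * x * g⁻¹ * (g * d ^ m * g⁻¹) := by rw [ih]; group
        _ = x * d ^ (m + 1) := by rw [hx, (hgd.pow_right m).eq, mul_inv_cancel_right, pow_succ']; group
  have h1 := key (2 ^ k)
  rw [hg, one_mul, inv_one, mul_one, left_eq_mul] at h1
  exact orderOf_eq_one_iff.1 (Nat.eq_one_of_dvd_coprimes ((Nat.coprime_two_right.2 hd).pow_right k) dvd_rfl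
    (orderOf_dvd_of_pow_eq_one h1))

/-- Two cyclic groups of odd order in the socle, inverted by involutions of it: the second lies in the first. -/
theorem mem_of_inverted_socle {L : Subgroup M} (hL : Socle L) {u : M} (huL : u ∈ L) (hu : orderOf u = 2)
    {A B : Subgroup M} (hAL : A ≤ L) (hBL : B ≤ L) (hA1 : A ≠ ⊥)
    (hAo : ∀ a ∈ A, Odd (orderOf a)) (hBo : ∀ b ∈ B, Odd (orderOf b))
    (hAi : ∀ a ∈ A, u * a * u⁻¹ = a⁻¹)
    (hAc : ∀ a ∈ A, ∀ a' ∈ A, Commute a a') (hBc : ∀ b ∈ B, ∀ b' ∈ B, Commute b b')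
    (hBA : B ≤ normalizer (A : Set M)) (hAB : A ≤ normalizer (B : Set M))
    (hdec : ∀ b ∈ B, ∃ a ∈ A, Commute u (a⁻¹ * b) ∧ Odd (orderOf (a⁻¹ * b))) : B ≤ A := by
  intro b hb
  obtain ⟨z, hz, hz1⟩ := (Subgroup.bot_or_exists_ne_one A).resolve_left hA1
  obtain ⟨w, hw, hw1, hbw⟩ : ∃ w ∈ A, w ≠ 1 ∧ Commute b w := by
    by_cases h1 : b * z * b⁻¹ * z⁻¹ = 1
    · exact ⟨z, hz, hz1, mul_inv_eq_iff_eq_mul.1 (mul_inv_eq_one.1 h1)⟩
    · refine ⟨_, mul_mem ((mem_normalizer_iff.1 (hBA hb) z).1 hz) (inv_mem hz), h1, hBc b hb _ ?_⟩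
      rw [show b * z * b⁻¹ * z⁻¹ = b * (z * b⁻¹ * z⁻¹) by group]
      exact mul_mem hb ((mem_normalizer_iff.1 (hAB hz) _).1 (inv_mem hb))
  obtain ⟨a, ha, hua, hco⟩ := hdec b hb
  have hcw : Commute (a⁻¹ * b) w := (hAc a ha w hw).inv_left.mul_left hbw
  have hcL : a⁻¹ * b ∈ L := mul_mem (inv_mem (hAL ha)) (hBL hb)
  by_cases hc1 : a⁻¹ * b = 1
  · rw [inv_mul_eq_one] at hc1
    exact hc1 ▸ ha
  refine absurd ?_ hw1
  exact congrArg Subtype.val (hL.eq_one_of_commute (u := ⟨u, huL⟩) (a := ⟨a⁻¹ * b, hcL⟩) (b := ⟨w, hAL hw⟩)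
    (by rw [Subgroup.orderOf_mk, hu]) (fun e => hc1 (congrArg Subtype.val e))
    (by rw [Subgroup.orderOf_mk]; exact hco) (Subtype.ext hua.symm.eq)
    (by rw [Subgroup.orderOf_mk]; exact hAo w hw) (Subtype.ext hcw.symm.eq) (Subtype.ext (hAi w hw)))

end Generic

variable {G : Type u} [Group G] [Finite G] {n : ℕ} {t r σ : G}

namespace DHyp

theorem refl_mul_refl (h : DHyp n t r σ) : r * (σ⁻¹ * r * σ) = σ ^ 2 := by
  have h1 : r * σ⁻¹ * r⁻¹ = σ := by
    rw [← conj_inv, h.conj_σ, inv_inv]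
  calc r * (σ⁻¹ * r * σ) = r * σ⁻¹ * r⁻¹ * (r * r) * σ := by group
    _ = σ ^ 2 := by rw [h1, h.mul_self_r, mul_one, pow_two]

theorem sq_pow_eq_one (h : DHyp n t r σ) : (σ ^ 2) ^ 2 ^ (n - 2) = 1 := by
  rw [← pow_mul, ← pow_succ', show n - 2 + 1 = n - 1 by have := h.three_le; omega, ← h.order_σ,
    pow_orderOf_eq_one]

theorem conj_σ_mem_coreU (h : DHyp n t r σ) {x : G} : σ * x * σ⁻¹ ∈ coreU t ↔ x ∈ coreU t :=
  ((mem_normalizer_iff.1 (h.sylow_le_normalizer_coreU h.sylow_mem_σ)) x).symm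

theorem conj_r_mem_coreU (h : DHyp n t r σ) {x : G} (hx : x ∈ coreU t) : r * x * r⁻¹ ∈ coreU t :=
  (mem_normalizer_iff.1 (h.sylow_le_normalizer_coreU h.sylow_mem_r) x).1 hx

/-- An element of `U` times the half of its commutator with `r` is fixed by `r`. -/
theorem exists_inverted_mul (h : DHyp n t r σ) {x : G} (hx : x ∈ coreU t) :
    ∃ a, a ∈ coreU t ∧ a ∈ closure ({x, r * x * r⁻¹} : Set G) ∧ r * a * r⁻¹ = a⁻¹ ∧ Commute r (a⁻¹ * x) := by
  have hr := Involution.inv_eq h.order_r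
  have hrr := h.mul_self_r
  set d := r * x * r⁻¹ * x⁻¹ with hd
  have hdU : d ∈ coreU t := mul_mem (h.conj_r_mem_coreU hx) (inv_mem hx)
  have hdi : r * d * r⁻¹ = d⁻¹ := by
    rw [hd, show r * (r * x * r⁻¹ * x⁻¹) * r⁻¹ = (r * r) * x * (r * r)⁻¹ * (r * x⁻¹ * r⁻¹) by group, hrr]
    group
  obtain ⟨j, hj⟩ := h.odd_orderOf hdU
  have he2 : d ^ (j + 1) * d ^ (j + 1) = d := by
    rw [← pow_add, show j + 1 + (j + 1) = 2 * j + 1 + 1 by omega, ← hj, pow_succ, pow_orderOf_eq_one, one_mul]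
  have hei : r * d ^ (j + 1) * r⁻¹ = (d ^ (j + 1))⁻¹ := Involution.inverts_pow hdi _
  refine ⟨(d ^ (j + 1))⁻¹, inv_mem (pow_mem hdU _), inv_mem (pow_mem ?_ _), ?_, ?_⟩
  · exact mul_mem (subset_closure (by simp)) (inv_mem (subset_closure (by simp)))
  · rw [inv_inv, ← conj_inv, hei, inv_inv]
  · refine mul_inv_eq_iff_eq_mul.1 ?_
    rw [inv_inv]
    calc r * (d ^ (j + 1) * x) * r⁻¹ = r * d ^ (j + 1) * r⁻¹ * (r * x * r⁻¹) := by group
      _ = (d ^ (j + 1))⁻¹ * (d * x) := by rw [hei, hd]; group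
      _ = (d ^ (j + 1))⁻¹ * (d ^ (j + 1) * d ^ (j + 1) * x) := by rw [he2]
      _ = d ^ (j + 1) * x := by group

end DHyp

theorem CaseB.swap (B : CaseB n t r σ) : CaseB n t (r * σ) σ⁻¹ := by
  have e : r * σ * σ⁻¹ = r := mul_inv_cancel_right r σ
  refine
    { ctx := B.ctx.swap
      sideExc := ?_
      sideRot := B.sideRot'
      sideRot' := by rw [e, inv_inv]; exact B.sideRot
      fused := B.fused'
      fused' := by rw [e]; exact B.fused
      oneClass := B.oneClass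
      centShape := B.centShape'
      centShape' := by rw [e, inv_inv]; exact B.centShape
      noTheta := fun θ hθ hinv => B.noTheta θ hθ fun z hz => hinv z (by rwa [B.ctx.hyp.closure_swap])
      noOver := B.noOver'
      noOver' := by rw [e]; exact B.noOver
      nontrivial := by rw [e]; exact B.nontrivial.symm }
  intro q hq hq2 R hR
  have hR' : Side q t r σ R :=
    ⟨hR.isPGroup, by rw [← B.ctx.hyp.closure_swap]; exact hR.inv, hR.moved, hR.meets⟩
  obtain ⟨h1, h2, h3, h4, h5⟩ := B.sideExc q hq hq2 R hR'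
  exact ⟨h1, h3, by rwa [e], h4, h5⟩

/-- The centraliser of a non-trivial element is proper. -/
theorem DHyp.centralizer_singleton_ne_top [IsSimpleGroup G] (h : DHyp n t r σ) {y : G} (hy : y ≠ 1) :
    centralizer ({y} : Set G) ≠ ⊤ := by
  intro e
  have hc : y ∈ center G := mem_center_iff.2 fun g =>
    mem_centralizer_singleton_iff.1 (e.ge (mem_top g))
  rcases IsSimpleGroup.eq_bot_or_eq_top_of_normal (center G) inferInstance with h1 | h1
  · exact hy (mem_bot.1 (h1 ▸ hc))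
  · have h2 := h.conj_σ
    rw [show r * σ = σ * r from mem_center_iff.1 (h1.ge (mem_top σ)) r, mul_inv_cancel_right] at h2
    have h3 : orderOf σ ∣ 2 := orderOf_dvd_of_pow_eq_one (by rw [pow_two]; exact eq_inv_iff_mul_eq_one.1 h2)
    have := Nat.le_of_dvd two_pos h3
    have := h.four_le_order
    omega

/-- The elements of `C_U(y)` inverted by `r` form a cyclic group `T`. -/
theorem CaseB.inverted_sub (B : CaseB n t r σ) {y : G} (hy : y ∈ coreW t r) (hpp : IsPrimePow (orderOf y)) :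
    ∃ T : Subgroup G, IsCyclic T ∧ (∀ x, x ∈ T ↔ x ∈ coreU t ∧ Commute x y ∧ r * x * r⁻¹ = x⁻¹) ∧
      ∀ x ∈ coreU t, Commute x y → x ∈ normalizer (T : Set G) := by
  have h := B.ctx.hyp
  obtain ⟨T, τ, A, s, k, hcyc, hT, -⟩ := B.centShape y hy hpp (fun e => by
    rw [e, orderOf_one] at hpp; exact not_isPrimePow_one hpp)
  refine ⟨T, hcyc, hT, fun x hx hxy => Coprime.mem_normalizer_of_forall fun a ha => ?_⟩
  obtain ⟨haU, hay, hai⟩ := (hT a).1 ha
  have hry : Commute r y := (h.mem_coreW.1 hy).2.1.symm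
  -- `x⁻¹ (r x r)` is inverted, so commutes with `a`
  set d := x⁻¹ * (r * x * r⁻¹) with hd
  have hdT : d ∈ T := by
    refine (hT d).2 ⟨mul_mem (inv_mem hx) (h.conj_r_mem_coreU hx),
      hxy.inv_left.mul_left ((hry.mul_left hxy).mul_left hry.inv_left), ?_⟩
    rw [hd, show r * (x⁻¹ * (r * x * r⁻¹)) * r⁻¹ = (r * x⁻¹ * r⁻¹) * ((r * r) * x * (r * r)⁻¹) by group,
      h.mul_self_r]
    group
  have hdc : Commute d a⁻¹ := by
    haveI := hcyc
    exact (congrArg Subtype.val (IsMulCommutative.is_comm.comm (⟨d, hdT⟩ : T) ⟨a⁻¹, inv_mem ha⟩))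
  refine (hT _).2 ⟨mul_mem (mul_mem hx haU) (inv_mem hx), (hxy.mul_left hay).mul_left hxy.inv_left, ?_⟩
  calc r * (x * a * x⁻¹) * r⁻¹ = r * x * r⁻¹ * (r * a * r⁻¹) * (r * x * r⁻¹)⁻¹ := by group
    _ = x * (d * a⁻¹ * d⁻¹) * x⁻¹ := by rw [hai, hd]; group
    _ = (x * a * x⁻¹)⁻¹ := by rw [hdc.eq, mul_inv_cancel_right]; group

/-- The core part: `σ ^ 2` centralises it. -/
theorem CaseB.sigmaFix_core (B : CaseB n t r σ) {y : G} (hy : y ∈ coreW t r) (hpp : IsPrimePow (orderOf y))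
    (hσy : σ ∈ normalizer (centralizer ({y} : Set G) : Set G)) :
    coreU t ⊓ oddPart (centralizer ({y} : Set G)) ≤ centralizer ({σ ^ 2} : Set G) := by
  have h := B.ctx.hyp
  haveI := Fact.mk Nat.prime_two
  set H := centralizer ({y} : Set G)
  set D₀ := coreU t ⊓ oddPart H
  set S := closure ({σ, r} : Set G)
  have hrH : r ∈ H := mem_centralizer_singleton_iff.2 (h.mem_coreW.1 hy).2.1.symm.eq
  have htH : t ∈ H := mem_centralizer_singleton_iff.2 (h.mem_coreW.1 hy).1.symm.eq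
  have hSH : S ≤ normalizer (H : Set G) := (closure_le _).2 fun x hx => by
    rcases hx with rfl | rfl
    · exact hσy
    · exact le_normalizer hrH
  haveI : (Cfsg.pPrimeCore 2 H).Characteristic := inferInstance
  have hSO : S ≤ normalizer (oddPart H : Set G) := hSH.trans (Cores.normalizer_le_normalizer_map _)
  have hSD : S ≤ normalizer (D₀ : Set G) :=
    (le_inf h.sylow_le_normalizer_coreU hSO).trans Subgroup.inf_normalizer_le_normalizer_inf
  have hV : fourV t r ≤ H := GWKlein.fourV_le_iff.2 ⟨htH, hrH⟩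
  obtain ⟨s, hs, hsy⟩ := B.fused y hy hpp
  have hF : Fused t r H := ⟨s, mem_centralizer_singleton_iff.2 hsy.eq, hs⟩
  have hodd : Odd (Nat.card D₀) := h.odd_coreU.of_dvd_nat (card_dvd_of_le inf_le_left)
  refine Coprime.le_of_invariant_sylow_le hSD (h.coprime_card h.isPGroup_sylow hodd)
    (Or.inl (Coprime.isSolvable_of_isPGroup h.isPGroup_sylow)) fun q Q hq hQD hQ hSQ => ?_
  haveI := Fact.mk hq
  have hQU : Q ≤ coreU t := hQD.trans inf_le_left
  by_cases hQ1 : Q = ⊥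
  · rw [hQ1]; exact bot_le
  have hq2 : q ≠ 2 := by
    obtain ⟨x, hx, hx1⟩ := (Subgroup.bot_or_exists_ne_one Q).resolve_left hQ1
    obtain ⟨k, hk⟩ := IsPGroup.iff_orderOf.1 hQ ⟨x, hx⟩
    rw [Subgroup.orderOf_mk] at hk
    intro e
    have := h.odd_orderOf (hQU hx)
    rw [hk, e, Nat.odd_pow_iff (fun k0 => hx1 (orderOf_eq_one_iff.1 (by rw [hk, k0, pow_zero])))] at this
    exact absurd this (by decide)
  have hVQ : fourV t r ≤ normalizer (Q : Set G) := h.fourV_le_sylow.trans hSQ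
  -- `r` is `1` or `-1` on `Q`
  have hsign : (∀ x ∈ Q, r * x * r⁻¹ = x) ∨ ∀ x ∈ Q, r * x * r⁻¹ = x⁻¹ := by
    by_cases hqa : q ∣ Nat.card (coreW t r)
    · refine Or.inl fun x hx => mul_inv_eq_iff_eq_mul.2 ?_
      exact (mem_centralizer_iff.1 (h.central_of_rot B.sideRot hqa hV hF hQ (hQD.trans inf_le_right) hVQ
        (GWKlein.right_mem_fourV t r)) x hx).symm
    · refine Or.inr (GWKlein.inverts_of_fpf h.order_r (hVQ (GWKlein.right_mem_fourV t r)) fun x hx hfix => ?_).1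
      by_contra hx1
      refine hqa ?_
      have hxW : x ∈ coreW t r := h.mem_coreW.2
        ⟨GWKlein.commute_of_mem_coreU (hQU hx), (mul_inv_eq_iff_eq_mul.1 hfix).symm, h.odd_orderOf (hQU hx)⟩
      obtain ⟨k, hk⟩ := IsPGroup.iff_orderOf.1 hQ ⟨x, hx⟩
      rw [Subgroup.orderOf_mk] at hk
      refine dvd_trans ?_ (orderOf_dvd_natCard _ hxW)
      rw [hk]
      exact dvd_pow_self q fun k0 => hx1 (orderOf_eq_one_iff.1 (by rw [hk, k0, pow_zero]))
  intro x hx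
  refine mem_centralizer_singleton_iff.2 (Commute.symm (mul_inv_eq_iff_eq_mul.1 ?_) : Commute x (σ ^ 2)).eq
  have hx' : σ * x * σ⁻¹ ∈ Q := (mem_normalizer_iff.1 (hSQ h.sylow_mem_σ) x).1 hx
  -- the two reflections act in the same way
  have hr' : ∀ x ∈ Q, σ⁻¹ * r * σ * x * (σ⁻¹ * r * σ)⁻¹ = r * x * r⁻¹ := by
    intro x hx
    have hx' : σ * x * σ⁻¹ ∈ Q := (mem_normalizer_iff.1 (hSQ h.sylow_mem_σ) x).1 hx
    rw [show σ⁻¹ * r * σ * x * (σ⁻¹ * r * σ)⁻¹ = σ⁻¹ * (r * (σ * x * σ⁻¹) * r⁻¹) * σ by group]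
    rcases hsign with h1 | h1
    · rw [h1 _ hx', h1 x hx]; group
    · rw [h1 _ hx', h1 x hx]; group
  rw [← h.refl_mul_refl, show r * (σ⁻¹ * r * σ) * x * (r * (σ⁻¹ * r * σ))⁻¹ =
    r * (σ⁻¹ * r * σ * x * (σ⁻¹ * r * σ)⁻¹) * r⁻¹ by group, hr' x hx,
    show r * (r * x * r⁻¹) * r⁻¹ = (r * r) * x * (r * r)⁻¹ by group, h.mul_self_r]
  group

/-- **(C)**: `σ ^ 2` centralises `C_U(y)` for a prime power element `y` of `W` with `⟨y⟩` normalised by `σ`. -/
theorem sigmaFix [IsSimpleGroup G] (B : CaseB n t r σ) : SigmaFix t r σ := by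
  intro y hy hpp hσ x₀ hx₀ hxy₀
  have h := B.ctx.hyp
  haveI := Fact.mk Nat.prime_two
  obtain ⟨hyt, hyr, hyo⟩ := h.mem_coreW.1 hy
  have hy1 : y ≠ 1 := fun e => by rw [e, orderOf_one] at hpp; exact not_isPrimePow_one hpp
  -- `σ` normalises `⟨y⟩` and its centraliser
  have hσN : σ ∈ normalizer (zpowers y : Set G) := Coprime.mem_normalizer_of_forall fun v hv => by
    obtain ⟨i, rfl⟩ := mem_zpowers_iff.1 hv
    rw [← conj_zpow]
    exact zpow_mem hσ i
  have hcom : ∀ {v w : G}, Commute v y → w ∈ zpowers y → Commute v w := fun hv hw => by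
    obtain ⟨i, rfl⟩ := mem_zpowers_iff.1 hw
    exact hv.zpow_right i
  have hcσ : ∀ v, Commute v y ↔ Commute (σ * v * σ⁻¹) y := fun v => by
    have h1 : σ⁻¹ * y * σ ∈ zpowers y := by
      have := (mem_normalizer_iff.1 (inv_mem hσN) y).1 (mem_zpowers y)
      rwa [inv_inv] at this
    constructor
    · intro hv
      have := (hcom hv h1).map (MulAut.conj σ).toMonoidHom
      simpa [mul_assoc] using this
    · intro hv
      have := (hcom hv ((mem_normalizer_iff.1 hσN y).1 (mem_zpowers y))).map (MulAut.conj σ⁻¹).toMonoidHom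
      simpa [mul_assoc] using this
  set H := centralizer ({y} : Set G) with hH
  have hmem : ∀ {v : G}, Commute v y → v ∈ H := fun hv => mem_centralizer_singleton_iff.2 hv.eq
  have hσH : σ ∈ normalizer (H : Set G) := Coprime.mem_normalizer_of_forall fun v hv =>
    hmem ((hcσ v).1 (mem_centralizer_singleton_iff.1 hv))
  have hr'y : Commute (σ⁻¹ * r * σ) y := (hcσ _).2 (by
    rw [show σ * (σ⁻¹ * r * σ) * σ⁻¹ = r by group]; exact hyr.symm)
  have hσ2y : Commute (σ ^ 2) y := h.refl_mul_refl ▸ (hyr.symm.mul_left hr'y)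
  have hcore := B.sigmaFix_core hy hpp hσH
  set O := oddPart H with hO
  -- it is enough to fix `x₀` modulo the core
  suffices key : ∀ x ∈ coreU t, Commute x y → x⁻¹ * (σ ^ 2 * x * (σ ^ 2)⁻¹) ∈ O by
    set d := x₀⁻¹ * (σ ^ 2 * x₀ * (σ ^ 2)⁻¹)
    have hdU : d ∈ coreU t := mul_mem (inv_mem hx₀)
      ((mem_normalizer_iff.1 (h.sylow_le_normalizer_coreU (pow_mem h.sylow_mem_σ 2)) x₀).1 hx₀)
    have hd1 : d = 1 := eq_one_of_step (g := σ ^ 2) (x := x₀) (k := n - 2)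
      (mem_centralizer_singleton_iff.1 (hcore ⟨hdU, key x₀ hx₀ hxy₀⟩)).symm
      (by simp only [d]; group) h.sq_pow_eq_one (h.odd_orderOf hdU)
    refine (mul_inv_eq_iff_eq_mul.1 ?_ : σ ^ 2 * x₀ = x₀ * σ ^ 2)
    exact (inv_mul_eq_one.1 hd1).symm
  intro x hx hxy
  by_cases hsol : Group.IsSolvable H
  · have hxm : ∀ {v : G}, v ∈ coreU t → Commute v y → v ∈ O := fun hv hvy =>
      h.mem_oddPart_of_solvable hsol h.order_t (hmem hyt.symm) (hmem hvy) (h.odd_orderOf hv)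
        (GWKlein.commute_of_mem_coreU hv)
    refine mul_mem (inv_mem (hxm hx hxy)) (hxm ?_ ((hσ2y.mul_left hxy).mul_left hσ2y.inv_left))
    exact (mem_normalizer_iff.1 (h.sylow_le_normalizer_coreU (pow_mem h.sylow_mem_σ 2)) x).1 hx
  -- modulo the core
  obtain ⟨L, hLn, hC, hL'⟩ := B.ctx.proper H (h.centralizer_singleton_ne_top hy1) hsol
  have hL : Socle L := hL'
  haveI := hLn
  set π := QuotientGroup.mk' (Cfsg.oddCore H) with hπ
  obtain ⟨T, hTc, hT, hTn⟩ := B.inverted_sub hy hpp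
  set T' := T.map (MulAut.conj σ⁻¹).toMonoidHom with hT'def
  have hT' : ∀ v, v ∈ T' ↔ v ∈ coreU t ∧ Commute v y ∧
      σ⁻¹ * r * σ * v * (σ⁻¹ * r * σ)⁻¹ = v⁻¹ := fun v => by
    rw [hT'def, Transfer.mem_map_conj_iff, hT, inv_inv, h.conj_σ_mem_coreU, ← hcσ]
    refine and_congr_right fun _ => and_congr_right fun _ => ?_
    constructor
    · intro e
      calc σ⁻¹ * r * σ * v * (σ⁻¹ * r * σ)⁻¹ = σ⁻¹ * (r * (σ * v * σ⁻¹) * r⁻¹) * σ := by group
        _ = v⁻¹ := by rw [e]; group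
    · intro e
      calc r * (σ * v * σ⁻¹) * r⁻¹ = σ * (σ⁻¹ * r * σ * v * (σ⁻¹ * r * σ)⁻¹) * σ⁻¹ := by group
        _ = (σ * v * σ⁻¹)⁻¹ := by rw [e]; group
  have hTH : T ≤ H := fun v hv => hmem ((hT v).1 hv).2.1
  have hT'H : T' ≤ H := fun v hv => hmem ((hT' v).1 hv).2.1
  set A := (T.subgroupOf H).map π with hA
  set A' := (T'.subgroupOf H).map π with hA'
  set u : H := ⟨r, hmem hyr.symm⟩
  set u' : H := ⟨σ⁻¹ * r * σ, hmem hr'y⟩
  -- all involutions of `H` lie over the socle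
  have hinL : ∀ i : H, orderOf (i : G) = 2 → π i ∈ L := by
    obtain ⟨l, hl⟩ := hL.exists_involution
    obtain ⟨z, hz⟩ := QuotientGroup.mk'_surjective (Cfsg.oddCore H) (l : H ⧸ Cfsg.oddCore H)
    have h2 : 2 ∣ Nat.card (L.comap π) := by
      have := orderOf_map_dvd π z
      rw [hz, Subgroup.orderOf_coe, hl] at this
      exact this.trans (orderOf_dvd_natCard _ (by rw [mem_comap, hz]; exact l.2))
    obtain ⟨w, hw⟩ := exists_prime_orderOf_dvd_card' 2 h2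
    intro i hi
    have hw2 : orderOf ((w : H) : G) = 2 := by rw [Subgroup.orderOf_coe, Subgroup.orderOf_coe, hw]
    have hyU : y ∈ coreU t := (mem_inf.1 hy).1
    obtain ⟨c, hc, hcw⟩ := B.oneClass y hyU hpp _ hw2 (mem_centralizer_singleton_iff.1 (w : H).2)
    obtain ⟨c', hc', hcw'⟩ := B.oneClass y hyU hpp _ hi (mem_centralizer_singleton_iff.1 i.2)
    have e : i = ⟨c' * c⁻¹, hmem (hc'.mul_left hc.inv_left)⟩ * (w : H) *
        (⟨c' * c⁻¹, hmem (hc'.mul_left hc.inv_left)⟩)⁻¹ := by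
      refine Subtype.ext ?_
      show (i : G) = c' * c⁻¹ * ((w : H) : G) * (c' * c⁻¹)⁻¹
      rw [← hcw, ← hcw']
      group
    rw [e]
    exact (inferInstance : (L.comap π).Normal).conj_mem _ w.2 _
  have hu : π u ∈ L := hinL u h.order_r
  have hu' : π u' ∈ L := hinL u' (by
    show orderOf (σ⁻¹ * r * σ) = 2
    rw [show σ⁻¹ * r * σ = σ⁻¹ * r * σ⁻¹⁻¹ by group, Involution.orderOf_conj, h.order_r])
  have huo : orderOf (π u) = 2 := Local.orderOf_bar (by rw [Subgroup.orderOf_mk, h.order_r])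
  have hu'o : orderOf (π u') = 2 := Local.orderOf_bar (by
    rw [Subgroup.orderOf_mk, show σ⁻¹ * r * σ = σ⁻¹ * r * σ⁻¹⁻¹ by group, Involution.orderOf_conj, h.order_r])
  -- facts about images of elements of `C_U(y)`
  have hbo : ∀ v : H, (v : G) ∈ coreU t → Odd (orderOf (π v)) := fun v hv =>
    (h.odd_orderOf hv).of_dvd_nat ((orderOf_map_dvd π v).trans (by rw [Subgroup.orderOf_coe]))
  have inv_img : ∀ (w v : H), (w : G) * v * (w : G)⁻¹ = (v : G)⁻¹ → π w * π v * (π w)⁻¹ = (π v)⁻¹ :=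
    fun w v e => by rw [← map_inv, ← map_mul, ← map_mul, ← map_inv]; exact congrArg π (Subtype.ext e)
  have inv_mem_L : ∀ (w : H) (b : H ⧸ Cfsg.oddCore H), π w ∈ L → Odd (orderOf b) →
      π w * b * (π w)⁻¹ = b⁻¹ → b ∈ L := fun w b hw ho e => by
    have h1 : b ^ 2 ∈ L := by
      have h2 : b * π w * b⁻¹ * (π w)⁻¹ ∈ L :=
        mul_mem (hLn.conj_mem _ hw b) (inv_mem hw)
      have e' : π w * b⁻¹ * (π w)⁻¹ = b := by rw [← conj_inv, e, inv_inv]
      rwa [show b * π w * b⁻¹ * (π w)⁻¹ = b * (π w * b⁻¹ * (π w)⁻¹) by group, e', ← pow_two] at h2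
    obtain ⟨j, hj⟩ := ho
    have e1 : b = (b ^ 2) ^ (j + 1) := by
      rw [← pow_mul, show 2 * (j + 1) = orderOf b + 1 by omega, pow_succ, pow_orderOf_eq_one, one_mul]
    rw [e1]
    exact pow_mem h1 _
  haveI := hTc
  have hTab : ∀ v ∈ T, ∀ w ∈ T, Commute v w := fun v hv w hw =>
    congrArg Subtype.val (IsMulCommutative.is_comm.comm (⟨v, hv⟩ : T) ⟨w, hw⟩)
  have hT'ab : ∀ v ∈ T', ∀ w ∈ T', Commute v w := by
    rintro _ ⟨v, hv, rfl⟩ _ ⟨w, hw, rfl⟩
    exact (hTab v hv w hw).map _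
  have hA_inv : ∀ a ∈ A, π u * a * (π u)⁻¹ = a⁻¹ := by
    rintro _ ⟨v, hv, rfl⟩
    exact inv_img u v ((hT v).1 (mem_subgroupOf.1 hv)).2.2
  have hA'_inv : ∀ a ∈ A', π u' * a * (π u')⁻¹ = a⁻¹ := by
    rintro _ ⟨v, hv, rfl⟩
    exact inv_img u' v ((hT' v).1 (mem_subgroupOf.1 hv)).2.2
  have hAo : ∀ a ∈ A, Odd (orderOf a) := by
    rintro _ ⟨v, hv, rfl⟩
    exact hbo v ((hT v).1 (mem_subgroupOf.1 hv)).1
  have hA'o : ∀ a ∈ A', Odd (orderOf a) := by
    rintro _ ⟨v, hv, rfl⟩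
    exact hbo v ((hT' v).1 (mem_subgroupOf.1 hv)).1
  have hAL : A ≤ L := fun a ha => inv_mem_L u a hu (hAo a ha) (hA_inv a ha)
  have hA'L : A' ≤ L := fun a ha => inv_mem_L u' a hu' (hA'o a ha) (hA'_inv a ha)
  have hAc : ∀ a ∈ A, ∀ b ∈ A, Commute a b := by
    rintro _ ⟨v, hv, rfl⟩ _ ⟨w, hw, rfl⟩
    exact (show Commute v w from Subtype.ext (hTab v (mem_subgroupOf.1 hv) w (mem_subgroupOf.1 hw)).eq).map π
  have hA'c : ∀ a ∈ A', ∀ b ∈ A', Commute a b := by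
    rintro _ ⟨v, hv, rfl⟩ _ ⟨w, hw, rfl⟩
    exact (show Commute v w from Subtype.ext (hT'ab v (mem_subgroupOf.1 hv) w (mem_subgroupOf.1 hw)).eq).map π
  -- both are normalised by the image of `C_U(y)`
  have hTn' : ∀ v ∈ coreU t, Commute v y → v ∈ normalizer (T' : Set G) := fun v hv hvy =>
    Coprime.mem_normalizer_of_forall fun a ha => by
      rw [hT'def, Transfer.mem_map_conj_iff, inv_inv] at ha ⊢
      have := (mem_normalizer_iff.1 (hTn _ (h.conj_σ_mem_coreU.2 hv) ((hcσ v).1 hvy)) _).1 ha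
      convert this using 1
      group
  have hnA : ∀ v : H, (v : G) ∈ coreU t → π v ∈ normalizer (A : Set (H ⧸ Cfsg.oddCore H)) ∧
      π v ∈ normalizer (A' : Set (H ⧸ Cfsg.oddCore H)) := fun v hv => by
    constructor <;> refine Coprime.mem_normalizer_of_forall ?_ <;> rintro _ ⟨w, hw, rfl⟩ <;>
      refine ⟨v * w * v⁻¹, mem_subgroupOf.2 ?_, by rw [map_mul, map_mul, map_inv]⟩
    · exact (mem_normalizer_iff.1 (hTn v hv (mem_centralizer_singleton_iff.1 v.2)) _).1 (mem_subgroupOf.1 hw)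
    · exact (mem_normalizer_iff.1 (hTn' v hv (mem_centralizer_singleton_iff.1 v.2)) _).1 (mem_subgroupOf.1 hw)
  have hA'A : A' ≤ normalizer (A : Set (H ⧸ Cfsg.oddCore H)) := by
    rintro _ ⟨v, hv, rfl⟩
    exact (hnA v ((hT' v).1 (mem_subgroupOf.1 hv)).1).1
  have hAA' : A ≤ normalizer (A' : Set (H ⧸ Cfsg.oddCore H)) := by
    rintro _ ⟨v, hv, rfl⟩
    exact (hnA v ((hT v).1 (mem_subgroupOf.1 hv)).1).2
  -- decompositions of elements of `C_U(y)`
  have dec : ∀ v : H, (v : G) ∈ coreU t →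
      (∃ a ∈ A, Commute (π u) (a⁻¹ * π v) ∧ Odd (orderOf (a⁻¹ * π v))) ∧
      ∃ a ∈ A', Commute (π u') (a⁻¹ * π v) ∧ Odd (orderOf (a⁻¹ * π v)) := by
    intro v hv
    have hvy : Commute (v : G) y := mem_centralizer_singleton_iff.1 v.2
    refine ⟨?_, ?_⟩
    · obtain ⟨a, haU, hacl, hai, hac⟩ := h.exists_inverted_mul hv
      have hay : Commute a y := mem_centralizer_singleton_iff.1 ((closure_le H).2
        (by rintro w (rfl | rfl)
            · exact hmem hvy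
            · exact hmem ((hyr.symm.mul_left hvy).mul_left hyr.symm.inv_left)) hacl)
      refine ⟨π ⟨a, hmem hay⟩, ⟨_, mem_subgroupOf.2 ((hT a).2 ⟨haU, hay, hai⟩), rfl⟩, ?_, ?_⟩
      · rw [← map_inv, ← map_mul]
        exact (show Commute u (⟨a, hmem hay⟩⁻¹ * v) from Subtype.ext hac.eq).map π
      · rw [← map_inv, ← map_mul]
        exact hbo _ (mul_mem (inv_mem haU) hv)
    · obtain ⟨a, haU, hacl, hai, hac⟩ := h.exists_inverted_mul (h.conj_σ_mem_coreU.2 hv)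
      have hvy' := (hcσ _).1 hvy
      have hay : Commute a y := mem_centralizer_singleton_iff.1 ((closure_le H).2
        (by rintro w (rfl | rfl)
            · exact hmem hvy'
            · exact hmem ((hyr.symm.mul_left hvy').mul_left hyr.symm.inv_left)) hacl)
      set b := σ⁻¹ * a * σ with hb
      have hbU : b ∈ coreU t := h.conj_σ_mem_coreU.1 (by rwa [show σ * b * σ⁻¹ = a by rw [hb]; group])
      have hby : Commute b y := (hcσ b).2 (by rwa [show σ * b * σ⁻¹ = a by rw [hb]; group])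
      have hbi : σ⁻¹ * r * σ * b * (σ⁻¹ * r * σ)⁻¹ = b⁻¹ := by
        rw [hb, show σ⁻¹ * r * σ * (σ⁻¹ * a * σ) * (σ⁻¹ * r * σ)⁻¹ = σ⁻¹ * (r * a * r⁻¹) * σ by group, hai]
        group
      refine ⟨π ⟨b, hmem hby⟩, ⟨_, mem_subgroupOf.2 ((hT' b).2 ⟨hbU, hby, hbi⟩), rfl⟩, ?_, ?_⟩
      · rw [← map_inv, ← map_mul]
        suffices hc : Commute u' (⟨b, hmem hby⟩⁻¹ * v) from hc.map π
        refine Subtype.ext ?_
        show σ⁻¹ * r * σ * ((σ⁻¹ * a * σ)⁻¹ * (v : G)) = (σ⁻¹ * a * σ)⁻¹ * (v : G) * (σ⁻¹ * r * σ)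
        calc σ⁻¹ * r * σ * ((σ⁻¹ * a * σ)⁻¹ * (v : G))
              = σ⁻¹ * (r * (a⁻¹ * (σ * v * σ⁻¹))) * σ := by group
          _ = (σ⁻¹ * a * σ)⁻¹ * (v : G) * (σ⁻¹ * r * σ) := by rw [hac.eq]; group
      · rw [← map_inv, ← map_mul]
        exact hbo _ (mul_mem (inv_mem hbU) hv)
  -- one is trivial if the other is
  have hσO : ∀ v, v ∈ O ↔ σ * v * σ⁻¹ ∈ O :=
    mem_normalizer_iff.1 (Cores.normalizer_le_normalizer_map _ hσH)
  have himg : ∀ {S : Subgroup G}, S ≤ H → ((S.subgroupOf H).map π = ⊥ ↔ ∀ v ∈ S, v ∈ O) := by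
    intro S hS
    rw [Subgroup.map_eq_bot_iff]
    constructor
    · intro e v hv
      exact (Local.bar_eq_one (x := ⟨v, hS hv⟩)).1 (MonoidHom.mem_ker.1 (e (show (⟨v, hS hv⟩ : H) ∈ S.subgroupOf H from mem_subgroupOf.2 hv)))
    · exact fun e v hv => MonoidHom.mem_ker.2 (Local.bar_eq_one.2 (e v (mem_subgroupOf.1 hv)))
  have hiff : A = ⊥ ↔ A' = ⊥ := by
    rw [hA, hA', himg hTH, himg hT'H]
    constructor
    · intro e v hv
      rw [hT'def, Transfer.mem_map_conj_iff, inv_inv] at hv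
      exact (hσO v).2 (e _ hv)
    · intro e v hv
      have h1 := (hσO _).1 (e (σ⁻¹ * v * σ) (by
        rw [hT'def, Transfer.mem_map_conj_iff, inv_inv,
          show σ * (σ⁻¹ * v * σ) * σ⁻¹ = v by group]
        exact hv))
      rwa [show σ * (σ⁻¹ * v * σ) * σ⁻¹ = v by group] at h1
  set v : H := ⟨x, hmem hxy⟩
  set g : H := ⟨σ ^ 2, hmem hσ2y⟩
  suffices hcx : Commute (π g) (π v) by
    refine (Local.bar_eq_one (x := v⁻¹ * (g * v * g⁻¹))).1 ?_
    rw [map_mul, map_mul, map_mul, map_inv, map_inv, hcx.eq, mul_inv_cancel_right, inv_mul_cancel]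
  have hgu : π g = π u * π u' := by
    rw [← map_mul]; exact congrArg π (Subtype.ext h.refl_mul_refl.symm)
  obtain ⟨⟨a, haA, hau, -⟩, a', ha'A, ha'u, -⟩ := dec v hx
  by_cases hA1 : A = ⊥
  · have e1 : a = 1 := by rwa [hA1, mem_bot] at haA
    have e2 : a' = 1 := by rwa [hiff.1 hA1, mem_bot] at ha'A
    rw [e1, inv_one, one_mul] at hau
    rw [e2, inv_one, one_mul] at ha'u
    rw [hgu]
    exact hau.mul_left ha'u
  have hA'1 : A' ≠ ⊥ := fun e => hA1 (hiff.2 e)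
  have hsub : A' ≤ A := mem_of_inverted_socle hL hu huo hAL hA'L hA1 hAo hA'o hA_inv hAc hA'c hA'A hAA'
    (by rintro _ ⟨w, hw, rfl⟩; exact (dec w ((hT' w).1 (mem_subgroupOf.1 hw)).1).1)
  have hsub' : A ≤ A' := mem_of_inverted_socle hL hu' hu'o hA'L hAL hA'1 hA'o hAo hA'_inv hA'c hAc hAA' hA'A
    (by rintro _ ⟨w, hw, rfl⟩; exact (dec w ((hT w).1 (mem_subgroupOf.1 hw)).1).2)
  have hu2 : (π u)⁻¹ = π u := Involution.inv_eq huo
  have hu2' : (π u')⁻¹ = π u' := Involution.inv_eq hu'o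
  -- `σ ^ 2` fixes `A` and so `x` modulo `A`
  have hgA : ∀ b ∈ A, Commute (π g) b := fun b hb => by
    refine mul_inv_eq_iff_eq_mul.1 ?_
    rw [hgu, show π u * π u' * b * (π u * π u')⁻¹ = π u * (π u' * b * (π u')⁻¹) * (π u)⁻¹ by group,
      hA'_inv b (hsub' hb), ← conj_inv, hA_inv b hb, inv_inv]
  -- `d = x⁻¹ x ^ r` and `d' = x⁻¹ x ^ r'` are in `A`
  have hd : ∀ (w : H ⧸ Cfsg.oddCore H) (b : H ⧸ Cfsg.oddCore H), b ∈ A → Commute w (b⁻¹ * π v) →
      w * b * w⁻¹ = b⁻¹ → ∃ e ∈ A, w * π v * w⁻¹ = π v * e := fun w b hb hc hi => by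
    refine ⟨(π v)⁻¹ * (b⁻¹ * b⁻¹) * π v, ?_, ?_⟩
    · have := (mem_normalizer_iff.1 (inv_mem (hnA v hx).1) (b⁻¹ * b⁻¹)).1 (mul_mem (inv_mem hb) (inv_mem hb))
      rwa [inv_inv] at this
    · have e1 : w * (b⁻¹ * π v) * w⁻¹ = b⁻¹ * π v := by rw [hc.eq, mul_inv_cancel_right]
      calc w * π v * w⁻¹ = (w * b * w⁻¹) * (w * (b⁻¹ * π v) * w⁻¹) := by group
        _ = π v * ((π v)⁻¹ * (b⁻¹ * b⁻¹) * π v) := by rw [hi, e1]; group
  obtain ⟨d, hdA, hdu⟩ := hd _ a haA hau (hA_inv a haA)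
  obtain ⟨d', hd'A, hd'⟩ := hd (π u') a' (hsub ha'A) ha'u (hA'_inv a' ha'A)
  have hstep : π g * π v * (π g)⁻¹ = π v * (d * d'⁻¹) := by
    rw [hgu, show π u * π u' * π v * (π u * π u')⁻¹ = π u * (π u' * π v * (π u')⁻¹) * (π u)⁻¹ by group, hd',
      show π u * (π v * d') * (π u)⁻¹ = π u * π v * (π u)⁻¹ * (π u * d' * (π u)⁻¹) by group, hdu,
      hA_inv d' hd'A, mul_assoc]
  have h1 : d * d'⁻¹ = 1 := eq_one_of_step (k := n - 2) (hgA _ (mul_mem hdA (inv_mem hd'A))) hstep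
    (by rw [← map_pow, show g ^ 2 ^ (n - 2) = 1 from Subtype.ext h.sq_pow_eq_one, map_one])
    (hAo _ (mul_mem hdA (inv_mem hd'A)))
  rw [h1, mul_one] at hstep
  exact mul_inv_eq_iff_eq_mul.1 hstep

end Cfsg.Agent.GWDihedral
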