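import Cfsg.Agent.Lib.GWDihedral.StepsB
import Cfsg.Agent.Lib.GWDihedral.SigmaFix
import Cfsg.Agent.Lib.GWDihedral.RotTools
import Cfsg.Agent.Lib.GWDihedral.PairChoice
import Cfsg.Agent.Lib.DegThreeP.Four

/-!
# Gorenstein-Walter, dihedral case: the lines of a mixed pair

For `X` normal in `C = C(t)` of order `p ^ 2` with `r` fixing `y` and inverting `l`, the conjugates of the
line `⟨y⟩` in `C` and their number `m`, the number `e` of them under `U`, and the orbit of `t` under
`N(⟨y⟩)`.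

* `MixedPair.card_line_orbit` : `m = e 2 ^ j`, `m ≥ 2`, `m ≤ p`, and `n ≤ s + j + 1`
* `MixedPair.double_count` : `|G : N(⟨y⟩)| k = |G : C| m` and `1 + k (m - 1) ≤ |G : N(⟨y⟩)|`
* `MixedPair.card_coreU_eq` : `|U| = e a |T_y|`
-/

set_option autoImplicit false
set_option linter.unusedSectionVars false
set_option linter.style.haveILetI false

namespace Cfsg.Agent.GWDihedral

open Subgroup
open Cfsg.Agent.GWKlein (coreU coreW fourV)

universe u

variable {G : Type u} [Group G] [Finite G]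

theorem zpowers_eq_of_prime {p : ℕ} (hp : p.Prime) {a b : G} (ha : orderOf a = p) (hb : b ∈ zpowers a)
    (hb1 : b ≠ 1) : zpowers b = zpowers a := by
  refine eq_of_le_of_card_ge (zpowers_le.2 hb) ?_
  rw [Nat.card_zpowers, Nat.card_zpowers, ha]
  refine ((Nat.dvd_prime hp).1 (ha ▸ orderOf_dvd_of_mem_zpowers hb)).elim (fun h => ?_) fun h => h.ge
  exact absurd (orderOf_eq_one_iff.1 h) hb1

theorem mem_normalizer_zpowers {k a : G} (h : k * a * k⁻¹ ∈ zpowers a) :
    k ∈ normalizer (zpowers a : Set G) :=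
  Coprime.mem_normalizer_of_forall fun w hw => by
    obtain ⟨i, rfl⟩ := mem_zpowers_iff.1 hw
    rw [← conj_zpow]
    exact zpow_mem h i

/-- An element of odd order that inverts `x` centralises it. -/
theorem commute_of_odd_inverts {w x : G} (hw : Odd (orderOf w)) (h : w * x * w⁻¹ = x⁻¹) : Commute w x := by
  have h2 : Commute (w ^ 2) x := by
    refine mul_inv_eq_iff_eq_mul.1 ?_
    rw [pow_two, show w * w * x * (w * w)⁻¹ = w * (w * x * w⁻¹) * w⁻¹ by group, h, ← conj_inv, h, inv_inv]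
  exact GWKlein.commute_of_sq hw h2

/-- Coprime action of an involution: fixed times inverted. -/
theorem card_eq_fixed_mul_inverted (D : Subgroup G) {r : G} (hr : r * r = 1)
    (hrD : r ∈ normalizer (D : Set G)) (hD : Odd (Nat.card D)) :
    Nat.card D = Nat.card ↥(D ⊓ centralizer ({r} : Set G)) *
      Nat.card {x : G // x ∈ D ∧ r * x * r⁻¹ = x⁻¹} := by
  set α : MulAut D := D.normalizerMonoidHom ⟨r, hrD⟩ with hα
  have hco : ∀ x : D, ((α x : D) : G) = r * x * r⁻¹ := fun x => rfl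
  have hαα : α * α = 1 := by
    rw [hα, ← map_mul, show (⟨r, hrD⟩ : normalizer (D : Set G)) * ⟨r, hrD⟩ = 1 from Subtype.ext hr, map_one]
  rw [← DegThreeP.card_fix_mul_inverted hD α hαα]
  congr 1
  · exact Nat.card_congr
      { toFun := fun x => ⟨(x.1 : G), x.1.2, mem_centralizer_singleton_iff.2
          (mul_inv_eq_iff_eq_mul.1 ((hco x.1).symm.trans (congrArg Subtype.val x.2))).symm⟩
        invFun := fun x => ⟨⟨x.1, x.2.1⟩, Subtype.ext ((hco _).trans (by
          show r * (x : G) * r⁻¹ = x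
          rw [← mem_centralizer_singleton_iff.1 x.2.2, mul_inv_cancel_right]))⟩
        left_inv := fun _ => rfl
        right_inv := fun _ => rfl }
  · exact Nat.card_congr
      { toFun := fun x => ⟨(x.1 : G), x.1.2, (hco x.1).symm.trans (congrArg Subtype.val x.2)⟩
        invFun := fun x => ⟨⟨x.1, x.2.1⟩, Subtype.ext ((hco _).trans x.2.2)⟩
        left_inv := fun _ => rfl
        right_inv := fun _ => rfl }

namespace MixedPair

variable {p n : ℕ} {t r σ y l : G} {X : Subgroup G}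

theorem pow_p (h : MixedPair p t r y l X) {a : G} (ha : a ∈ X) : a ^ p = 1 := h.elementary.2 a ha

theorem order_eq (h : MixedPair p t r y l X) {a : G} (ha : a ∈ X) (ha1 : a ≠ 1) : orderOf a = p := by
  haveI := Fact.mk h.prime
  exact orderOf_eq_prime (h.pow_p ha) ha1

theorem odd_p (h : MixedPair p t r y l X) : Odd p := h.prime.odd_of_ne_two h.ne_two

/-- `X` is the product of the two lines. -/
theorem exists_mul (h : MixedPair p t r y l X) {x : G} (hx : x ∈ X) :
    ∃ a ∈ zpowers y, ∃ b ∈ zpowers l, x = a * b := by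
  let f : zpowers y × zpowers l → X := fun ab => ⟨ab.1 * ab.2,
    mul_mem (zpowers_le.2 h.mem_y ab.1.2) (zpowers_le.2 h.mem_l ab.2.2)⟩
  have hinj : Function.Injective f := by
    rintro ⟨⟨a, ha⟩, ⟨b, hb⟩⟩ ⟨⟨a', ha'⟩, ⟨b', hb'⟩⟩ he
    have e : a * b = a' * b' := congrArg Subtype.val he
    have e1 : a'⁻¹ * a = b' * b⁻¹ := by rw [eq_mul_inv_iff_mul_eq, mul_assoc, e, inv_mul_cancel_left]
    have hA : a'⁻¹ * a ∈ zpowers y := mul_mem (inv_mem ha') ha
    have hB : a'⁻¹ * a ∈ zpowers l := e1 ▸ mul_mem hb' (inv_mem hb)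
    have h1 : a'⁻¹ * a = 1 := by
      by_contra hne
      have hy : y ∈ zpowers l := by
        rw [← zpowers_le, ← zpowers_eq_of_prime h.prime h.order_y hA hne]
        exact zpowers_le.2 hB
      obtain ⟨i, hi⟩ := mem_zpowers_iff.1 hy
      have hfix : r * y * r⁻¹ = y := by rw [h.fix_y.eq, mul_inv_cancel_right]
      have hneg : r * y * r⁻¹ = y⁻¹ := by rw [← hi, ← conj_zpow, h.inv_l, inv_zpow]
      have h2 : y ^ 2 = 1 := by rw [pow_two]; exact mul_eq_one_iff_eq_inv.2 (hfix.symm.trans hneg)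
      have := orderOf_dvd_of_pow_eq_one h2
      rw [h.order_y, Nat.prime_dvd_prime_iff_eq h.prime Nat.prime_two] at this
      exact h.ne_two this
    obtain rfl : a' = a := inv_mul_eq_one.1 h1
    obtain rfl : b = b' := mul_left_cancel e
    rfl
  have hs : Function.Surjective f := (hinj.bijective_of_nat_card_le (by
    rw [h.card, Nat.card_prod, Nat.card_zpowers, Nat.card_zpowers, h.order_y, h.order_l, sq])).2
  obtain ⟨⟨⟨a, ha⟩, ⟨b, hb⟩⟩, he⟩ := hs ⟨x, hx⟩
  exact ⟨a, ha, b, hb, (congrArg Subtype.val he).symm⟩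

theorem conj_r_mul (h : MixedPair p t r y l X) {a b : G} (ha : a ∈ zpowers y) (hb : b ∈ zpowers l) :
    r * (a * b) * r⁻¹ = a * b⁻¹ := by
  obtain ⟨i, rfl⟩ := mem_zpowers_iff.1 ha
  obtain ⟨j, rfl⟩ := mem_zpowers_iff.1 hb
  rw [show r * (y ^ i * l ^ j) * r⁻¹ = r * y ^ i * r⁻¹ * (r * l ^ j * r⁻¹) by group, ← conj_zpow,
    ← conj_zpow, h.inv_l, inv_zpow, h.fix_y.eq, mul_inv_cancel_right]

theorem mem_of_fixed (h : MixedPair p t r y l X) {x : G} (hx : x ∈ X) (hc : Commute r x) :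
    x ∈ zpowers y := by
  obtain ⟨a, ha, b, hb, rfl⟩ := h.exists_mul hx
  have e : a * b⁻¹ = a * b := by rw [← h.conj_r_mul ha hb, hc.eq, mul_inv_cancel_right]
  have hb2 : b ^ 2 = 1 := by rw [pow_two]; exact mul_eq_one_iff_eq_inv.2 (mul_left_cancel e).symm
  have hb1 : b = 1 := GWKlein.eq_one_of_sq
    (h.odd_p.of_dvd_nat (h.order_l ▸ orderOf_dvd_of_mem_zpowers hb)) hb2
  rw [hb1, mul_one]
  exact ha

theorem mem_of_inverted (h : MixedPair p t r y l X) {x : G} (hx : x ∈ X) (hc : r * x * r⁻¹ = x⁻¹) :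
    x ∈ zpowers l := by
  obtain ⟨a, ha, b, hb, rfl⟩ := h.exists_mul hx
  rw [h.conj_r_mul ha hb, mul_inv_rev, (h.comm (zpowers_le.2 h.mem_y ha) (inv_mem (zpowers_le.2 h.mem_l hb))).eq,
    mul_right_inj] at hc
  have ha1 : a = 1 := GWKlein.eq_one_of_sq
    (h.odd_p.of_dvd_nat (h.order_y ▸ orderOf_dvd_of_mem_zpowers ha))
    (by rw [pow_two]; exact mul_eq_one_iff_eq_inv.2 hc)
  rw [ha1, one_mul]
  exact hb

theorem mem_coreW (h : MixedPair p t r y l X) (hd : DHyp n t r σ) : y ∈ coreW t r :=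
  hd.mem_coreW.2 ⟨GWKlein.commute_of_mem_coreU (h.le h.mem_y), h.fix_y.symm, h.order_y ▸ h.odd_p⟩

theorem conj_mem (h : MixedPair p t r y l X) {g x : G} (hg : g ∈ centralizer ({t} : Set G)) (hx : x ∈ X) :
    g * x * g⁻¹ ∈ X :=
  (mem_normalizer_iff.1 (h.normal hg) x).1 hx

theorem zpowers_y_elementary (h : MixedPair p t r y l X) : Cfsg.IsElementaryAbelian p (zpowers y) :=
  ⟨inferInstance, fun _ ha => h.pow_p (zpowers_le.2 h.mem_y ha)⟩

/-- The line of `y` is moved by `C(t)`. -/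
theorem not_normal (h : MixedPair p t r y l X) (hd : DHyp n t r σ) (hN : NoNormalInW t r) :
    ¬ centralizer ({t} : Set G) ≤ normalizer (zpowers y : Set G) := fun hle =>
  h.ne_one_y (by
    simpa using hN p (zpowers y) h.prime h.zpowers_y_elementary (zpowers_le.2 (h.mem_coreW hd)) hle)

/-- Two conjugates of a power of `y` agree only for one line. -/
theorem mem_normalizer_of_conj_eq (h : MixedPair p t r y l X) {g g' : G} {i j : ℕ}
    (hj : j < p) (hj0 : j ≠ 0) (e : g * y ^ i * g⁻¹ = g' * y ^ j * g'⁻¹) :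
    g⁻¹ * g' ∈ normalizer (zpowers y : Set G) := by
  have hne : ∀ k, k < p → k ≠ 0 → y ^ k ≠ 1 := fun k hk hk0 e => by
    have := Nat.le_of_dvd (Nat.pos_of_ne_zero hk0) (h.order_y ▸ orderOf_dvd_of_pow_eq_one e)
    omega
  have e' : g⁻¹ * g' * y ^ j * (g⁻¹ * g')⁻¹ = y ^ i := by
    calc g⁻¹ * g' * y ^ j * (g⁻¹ * g')⁻¹ = g⁻¹ * (g' * y ^ j * g'⁻¹) * g := by group
      _ = y ^ i := by rw [← e]; group
  have hz : zpowers (y ^ j) = zpowers y :=
    zpowers_eq_of_prime h.prime h.order_y (pow_mem (mem_zpowers y) j) (hne j hj hj0)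
  rw [← hz]
  refine mem_normalizer_zpowers ?_
  rw [e', hz]
  exact pow_mem (mem_zpowers y) i

theorem line_eq (h : MixedPair p t r y l X) {X' : Subgroup G} {a b : G} (ha : a ∈ X') (hb : b ∈ X')
    (hX' : Nat.card X' = p ^ 2) (ha1 : orderOf a = p) (hb1 : b ∉ zpowers a) :
    zpowers a ⊔ zpowers b = X' := by
  refine eq_of_le_of_card_ge (sup_le (zpowers_le.2 ha) (zpowers_le.2 hb)) ?_
  rw [hX']
  have hdvd : Nat.card ↥(zpowers a ⊔ zpowers b) ∣ p ^ 2 :=
    hX' ▸ card_dvd_of_le (sup_le (zpowers_le.2 ha) (zpowers_le.2 hb))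
  obtain ⟨i, hi, e⟩ := (Nat.dvd_prime_pow h.prime).1 hdvd
  rcases (show i ≤ 1 ∨ i = 2 by omega) with hi1 | rfl
  · exfalso
    have : zpowers a = zpowers a ⊔ zpowers b := eq_of_le_of_card_ge le_sup_left (by
      rw [e, Nat.card_zpowers, ha1]
      exact (Nat.pow_le_pow_right h.prime.pos hi1).trans (pow_one p).le)
    exact hb1 (this ▸ mem_sup_right (mem_zpowers b))
  · exact e.ge

/-- The conjugates of the non-trivial powers of `y` fill at most `X`. -/
theorem orbit_count (h : MixedPair p t r y l X) :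
    (normalizer (zpowers y : Set G)).relIndex (centralizer ({t} : Set G)) ≤ p + 1 ∧
      ((normalizer (zpowers y : Set G)).relIndex (centralizer ({t} : Set G)) = p + 1 →
        ∀ x ∈ X, x ≠ 1 → ∃ g ∈ centralizer ({t} : Set G), ∃ i : ℕ, i < p ∧ i ≠ 0 ∧ x = g * y ^ i * g⁻¹) := by
  set C := centralizer ({t} : Set G)
  set N := (normalizer (zpowers y : Set G)).subgroupOf C
  let φ : (C ⧸ N) × Fin (p - 1) → {x : X // x ≠ 1} := fun qi =>
    ⟨⟨(qi.1.out : G) * y ^ (qi.2.1 + 1) * (qi.1.out : G)⁻¹, h.conj_mem qi.1.out.2 (pow_mem h.mem_y _)⟩,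
      fun e => by
        have e' : (qi.1.out : G) * y ^ (qi.2.1 + 1) * (qi.1.out : G)⁻¹ = 1 := congrArg Subtype.val e
        rw [conj_eq_one_iff] at e'
        have := Nat.le_of_dvd (Nat.succ_pos _) (h.order_y ▸ orderOf_dvd_of_pow_eq_one e')
        omega⟩
  have hinj : Function.Injective φ := by
    rintro ⟨q, i⟩ ⟨q', i'⟩ he
    have e : (q.out : G) * y ^ (i.1 + 1) * (q.out : G)⁻¹ = (q'.out : G) * y ^ (i'.1 + 1) * (q'.out : G)⁻¹ :=
      congrArg (fun x : {x : X // x ≠ 1} => ((x : X) : G)) he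
    have hq : q = q' := by
      rw [← q.out_eq', ← q'.out_eq', QuotientGroup.eq, mem_subgroupOf]
      exact h.mem_normalizer_of_conj_eq (by omega) (Nat.succ_ne_zero _) e
    subst hq
    have e' : y ^ (i.1 + 1) = y ^ (i'.1 + 1) := by simpa using e
    rw [pow_eq_pow_iff_modEq, h.order_y] at e'
    have hi1 := i.2
    have hi2 := i'.2
    have := e'.eq_of_lt_of_lt (show i.1 + 1 < p by omega) (show i'.1 + 1 < p by omega)
    exact Prod.ext rfl (Fin.ext (Nat.succ_injective this))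
  have hcard : Nat.card {x : X // x ≠ 1} = (p + 1) * (p - 1) := by
    have h1 : Nat.card {x : X // x ≠ 1} = p ^ 2 - 1 := by
      classical
      haveI := Fintype.ofFinite X
      rw [Nat.card_eq_fintype_card, Fintype.card_subtype_compl, Fintype.card_subtype_eq,
        ← Nat.card_eq_fintype_card, h.card]
    rw [h1, ← Nat.sq_sub_sq, one_pow]
  have hle := Nat.card_le_card_of_injective φ hinj
  rw [Nat.card_prod, Nat.card_fin, hcard] at hle
  have hp1 : 0 < p - 1 := by have := h.prime.two_le; omega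
  refine ⟨Nat.le_of_mul_le_mul_right hle hp1, fun hm x hx hx1 => ?_⟩
  have hs := (hinj.bijective_of_nat_card_le (by
    rw [Nat.card_prod, Nat.card_fin, hcard, show Nat.card (C ⧸ N) = p + 1 from hm])).2
  obtain ⟨⟨q, i⟩, hqi⟩ := hs ⟨⟨x, hx⟩, fun e => hx1 (congrArg Subtype.val e)⟩
  exact ⟨q.out, q.out.2, i.1 + 1, by omega, Nat.succ_ne_zero _,
    (congrArg (fun x : {x : X // x ≠ 1} => ((x : X) : G)) hqi).symm⟩

end MixedPair

namespace DHyp

variable {n : ℕ} {t r σ : G}

theorem relIndex_coreU (h : DHyp n t r σ) : (coreU t).relIndex (centralizer ({t} : Set G)) = 2 ^ n := by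
  have e := relIndex_mul_relIndex ⊥ (coreU t) (centralizer ({t} : Set G)) bot_le (GWKlein.coreU_le_centralizer t)
  rw [relIndex_bot_left, relIndex_bot_left, h.card_centralizer, mul_comm] at e
  exact Nat.eq_of_mul_eq_mul_right Nat.card_pos e

/-- An intermediate subgroup has a `2`-power index over its part in `U`. -/
theorem exists_relIndex_coreU (h : DHyp n t r σ) {K : Subgroup G} (hK : K ≤ centralizer ({t} : Set G)) :
    ∃ c, c ≤ n ∧ (coreU t).relIndex K = 2 ^ c := by
  haveI : ((coreU t).subgroupOf (centralizer ({t} : Set G))).Normal :=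
    normal_subgroupOf_of_le_normalizer (GWKlein.centralizer_le_normalizer_coreU t)
  have e := relIndex_dvd_index_of_normal ((coreU t).subgroupOf (centralizer ({t} : Set G)))
    (K.subgroupOf (centralizer ({t} : Set G)))
  rw [relIndex_subgroupOf hK, show ((coreU t).subgroupOf (centralizer ({t} : Set G))).index = 2 ^ n
    from h.relIndex_coreU] at e
  exact (Nat.dvd_prime_pow Nat.prime_two).1 e

end DHyp

namespace MixedPair

variable {p n : ℕ} {t r σ y l : G} {X : Subgroup G}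

/-- `m = e 2 ^ (n - c)` with `2 ^ c = |N_C(Y) : N_U(Y)|`. -/
theorem orbit_eq (h : DHyp n t r σ) (Y : Subgroup G) :
    ∃ c, c ≤ n ∧ (coreU t).relIndex (centralizer ({t} : Set G) ⊓ normalizer (Y : Set G)) = 2 ^ c ∧
      (normalizer (Y : Set G)).relIndex (centralizer ({t} : Set G)) =
        (normalizer (Y : Set G)).relIndex (coreU t) * 2 ^ (n - c) := by
  set C := centralizer ({t} : Set G)
  set N := normalizer (Y : Set G)
  set U := coreU t
  obtain ⟨c, hc, hUc⟩ := h.exists_relIndex_coreU (K := C ⊓ N) inf_le_left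
  refine ⟨c, hc, hUc, ?_⟩
  have hUC : U ≤ C := GWKlein.coreU_le_centralizer t
  have e1 := relIndex_mul_relIndex (U ⊓ N) U C inf_le_left hUC
  have e2 := relIndex_mul_relIndex (U ⊓ N) (C ⊓ N) C (le_inf (inf_le_left.trans hUC) inf_le_right) inf_le_left
  rw [inf_relIndex_left, h.relIndex_coreU] at e1
  rw [show (U ⊓ N).relIndex (C ⊓ N) = U.relIndex (C ⊓ N) by
      rw [← inf_relIndex_right (H := U) (K := C ⊓ N), ← inf_assoc, inf_eq_left.2 hUC], hUc,
    inf_relIndex_left] at e2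
  refine Nat.eq_of_mul_eq_mul_left (Nat.two_pow_pos c) ?_
  rw [e2, ← e1, ← mul_assoc, mul_comm (2 ^ c), mul_assoc, ← pow_add, Nat.add_sub_cancel' hc]

theorem odd_orbit_coreU (h : DHyp n t r σ) (Y : Subgroup G) :
    Odd ((normalizer (Y : Set G)).relIndex (coreU t)) :=
  h.odd_coreU.of_dvd_nat (index_dvd_card _)

/-- A 2-subgroup of `N_C(⟨y⟩)` containing `r` has its squares centralising `y`. -/
theorem commute_sq (h : MixedPair p t r y l X) (hd : DHyp n t r σ) {Q : Subgroup G} (hQ : IsPGroup 2 Q)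
    (hQN : Q ≤ centralizer ({t} : Set G) ⊓ normalizer (zpowers y : Set G)) (hrQ : r ∈ Q) {q : G} (hq : q ∈ Q) :
    Commute (q * q) y := by
  obtain ⟨c, hct, hc⟩ := hd.exists_conj_le hQ (hQN.trans inf_le_left)
  rcases hd.mem_sylow_cases (hc q hq) with ⟨k, hk⟩ | ⟨k, hk⟩
  · rcases hd.mem_sylow_cases (hc r hrQ) with ⟨j, hj⟩ | ⟨j, hj⟩
    · -- `r` would be the central involution
      exfalso
      have ho : orderOf (σ ^ j) = 2 := by rw [← hj, SecondMain.orderOf_conj, hd.order_r]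
      have e : c * r * c⁻¹ = c * t * c⁻¹ := by rw [hj, hd.eq_t_of_rotation ho, hct.eq, mul_inv_cancel_right]
      exact hd.ne (conj_injective (x := c) e).symm
    · -- `r` inverts `q`
      have e : r * q * r⁻¹ = q⁻¹ := by
        refine conj_injective (x := c) ?_
        show c * (r * q * r⁻¹) * c⁻¹ = c * q⁻¹ * c⁻¹
        rw [show c * (r * q * r⁻¹) * c⁻¹ = c * r * c⁻¹ * (c * q * c⁻¹) * (c * r * c⁻¹)⁻¹ by group, ← conj_inv,
          hj, hk, show r * σ ^ j * σ ^ k * (r * σ ^ j)⁻¹ = r * (σ ^ j * σ ^ k * (σ ^ j)⁻¹) * r⁻¹ by group,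
          (Commute.pow_pow_self σ j k).eq, mul_inv_cancel_right]
        exact Involution.inverts_pow hd.conj_σ k
      obtain ⟨i, hi⟩ := mem_zpowers_iff.1
        ((mem_normalizer_iff.1 (hQN hq).2 y).1 (mem_zpowers y))
      have hf : q⁻¹ * y * q = y ^ i := by
        calc q⁻¹ * y * q = r * q * r⁻¹ * y * (r * q * r⁻¹)⁻¹ := by rw [e, inv_inv]
          _ = r * (q * (r⁻¹ * y * r) * q⁻¹) * r⁻¹ := by group
          _ = r * (q * y * q⁻¹) * r⁻¹ := by rw [h.fix_y.inv_left.eq, inv_mul_cancel_right]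
          _ = y ^ i := by rw [← hi, ← conj_zpow, h.fix_y.eq, mul_inv_cancel_right]
      refine mul_inv_eq_iff_eq_mul.1 ?_
      calc q * q * y * (q * q)⁻¹ = q * (q * y * q⁻¹) * q⁻¹ := by group
        _ = y := by rw [← hi, ← hf]; group
  · have ho : orderOf (c * q * c⁻¹) = 2 :=
      hk ▸ hd.orderOf_eq_two_of_not_mem (mul_mem hd.sylow_mem_r (pow_mem hd.sylow_mem_σ k))
        fun hm => hd.r_not_mem_zpowers (by
          have := mul_mem hm (inv_mem (pow_mem (mem_zpowers σ) k))
          rwa [mul_inv_cancel_right] at this)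
    rw [SecondMain.orderOf_conj] at ho
    rw [Involution.mul_self ho]
    exact Commute.one_left y

/-- A Sylow 2-subgroup of `N_C(Y)` containing `r`, and the 2-part of `|C(y)|`. -/
theorem exists_sylow (h : MixedPair p t r y l X) (hd : DHyp n t r σ) {c : ℕ}
    (hc : (coreU t).relIndex (centralizer ({t} : Set G) ⊓ normalizer (zpowers y : Set G)) = 2 ^ c) :
    c ≤ (Nat.card (centralizer ({y} : Set G))).factorization 2 + 1 := by
  haveI := Fact.mk Nat.prime_two
  set K := centralizer ({t} : Set G) ⊓ normalizer (zpowers y : Set G) with hK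
  have hrK : r ∈ K := mem_inf.2 ⟨mem_centralizer_t.2 hd.comm_t_r.symm,
    mem_normalizer_zpowers (by rw [h.fix_y.eq, mul_inv_cancel_right]; exact mem_zpowers y)⟩
  have hr2 : IsPGroup 2 (zpowers (⟨r, hrK⟩ : K)) :=
    IsPGroup.of_card (n := 1) (by rw [Nat.card_zpowers, orderOf_mk, hd.order_r, pow_one])
  obtain ⟨S, hS⟩ := hr2.exists_le_sylow
  set Q := (S : Subgroup K).map K.subtype with hQdef
  have hQK : Q ≤ K := map_subtype_le _
  have hQp : IsPGroup 2 Q := S.isPGroup'.map _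
  have hrQ : r ∈ Q := ⟨⟨r, hrK⟩, hS (mem_zpowers _), rfl⟩
  have hQc : Nat.card Q = 2 ^ c := by
    have hKc : Nat.card K = 2 ^ c * Nat.card ↥(coreU t ⊓ K) := by
      have e := relIndex_mul_relIndex ⊥ (coreU t ⊓ K) K bot_le inf_le_right
      rw [relIndex_bot_left, relIndex_bot_left, inf_relIndex_right, hc] at e
      rw [← e, mul_comm]
    rw [hQdef, card_map_of_injective K.subtype_injective, S.card_eq_multiplicity, hKc,
      Nat.factorization_mul (by positivity) Nat.card_pos.ne', Finsupp.add_apply,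
      Nat.prime_two.factorization_pow, Finsupp.single_eq_same,
      Nat.factorization_eq_zero_of_not_dvd fun hdd => Nat.not_even_iff_odd.2
        (hd.odd_coreU.of_dvd_nat (card_dvd_of_le inf_le_left)) (even_iff_two_dvd.2 hdd), add_zero]
  classical
  by_cases hall : ∀ q ∈ Q, Commute q y
  · have hle : Q ≤ centralizer ({y} : Set G) := fun q hq => mem_centralizer_singleton_iff.2 (hall q hq).eq
    exact ((Nat.prime_two.pow_dvd_iff_le_factorization Nat.card_pos.ne').1
      (hQc ▸ card_dvd_of_le hle)).trans (Nat.le_succ _)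
  push Not at hall
  obtain ⟨q0, hq0, hq0y⟩ := hall
  have key : ∀ q ∈ Q, ¬ Commute q y → Commute (q0⁻¹ * q) y := fun q hq hqy => by
    have aux : ∀ q ∈ Q, ¬ Commute q y → q * y * q⁻¹ = y⁻¹ := fun q hq hqy => by
      obtain ⟨i, hi⟩ := mem_zpowers_iff.1
        ((mem_normalizer_iff.1 (hQK hq).2 y).1 (mem_zpowers y))
      have h2 := (h.commute_sq hd hQp hQK hrQ hq).eq
      have h3 : y ^ (i * i) = y := by
        have : q * q * y * (q * q)⁻¹ = y ^ (i * i) := by
          rw [show q * q * y * (q * q)⁻¹ = q * (q * y * q⁻¹) * q⁻¹ by group, ← hi, ← conj_zpow, ← hi, zpow_mul]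
        rw [← this, h2, mul_inv_cancel_right]
      have h4 : (p : ℤ) ∣ (i - 1) * (i + 1) := by
        rw [show (i - 1) * (i + 1) = i * i - 1 by ring, ← h.order_y, orderOf_dvd_iff_zpow_eq_one,
          zpow_sub, h3, zpow_one, mul_inv_cancel]
      rcases (Nat.prime_iff_prime_int.1 h.prime).dvd_or_dvd h4 with h5 | h5
      · refine absurd ?_ hqy
        rw [← h.order_y, orderOf_dvd_iff_zpow_eq_one, zpow_sub, zpow_one, mul_inv_eq_one] at h5
        exact mul_inv_eq_iff_eq_mul.1 (hi.symm.trans h5)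
      · rw [← h.order_y, orderOf_dvd_iff_zpow_eq_one, zpow_add, zpow_one, mul_eq_one_iff_eq_inv] at h5
        exact hi.symm.trans h5
    refine mul_inv_eq_iff_eq_mul.1 ?_
    calc q0⁻¹ * q * y * (q0⁻¹ * q)⁻¹ = q0⁻¹ * (q * y * q⁻¹) * q0 := by group
      _ = q0⁻¹ * (q0 * y * q0⁻¹) * q0 := by rw [aux q hq hqy, aux q0 hq0 hq0y]
      _ = y := by group
  have hcard : Nat.card Q ≤ 2 * Nat.card ↥(Q ⊓ centralizer ({y} : Set G)) := by
    rw [show 2 = Nat.card Bool by simp, ← Nat.card_prod]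
    refine Nat.card_le_card_of_injective (fun q : Q => if hq : Commute (q : G) y then
        (false, (⟨q, q.2, mem_centralizer_singleton_iff.2 hq.eq⟩ : ↥(Q ⊓ centralizer ({y} : Set G))))
      else (true, ⟨q0⁻¹ * q, mem_inf.2 ⟨mul_mem (inv_mem hq0) q.2,
        mem_centralizer_singleton_iff.2 (key q q.2 hq).eq⟩⟩)) ?_
    intro a b hab
    have hval := congrArg (fun z : Bool × ↥(Q ⊓ centralizer ({y} : Set G)) => (z.1, (z.2 : G))) hab
    by_cases ha : Commute (a : G) y <;> by_cases hb : Commute (b : G) y <;> simp [ha, hb] at hval <;>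
      exact hval
  obtain ⟨d, hd'⟩ := IsPGroup.iff_card.1 (hQp.to_inf_left (K := centralizer ({y} : Set G)))
  have h1 : 2 ^ d ∣ Nat.card (centralizer ({y} : Set G)) := hd' ▸ card_dvd_of_le inf_le_right
  have h2 := (Nat.prime_two.pow_dvd_iff_le_factorization Nat.card_pos.ne').1 h1
  rw [hQc, hd', ← pow_succ'] at hcard
  have h3 := (Nat.pow_le_pow_iff_right one_lt_two).1 hcard
  omega

/-- If `C = U N_C(Y)`, all conjugates of `Y` under `C` are conjugates under `U`. -/
theorem orbit_eq_of_sup (hd : DHyp n t r σ) (Y : Subgroup G)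
    (hA : centralizer ({t} : Set G) ≤ coreU t ⊔ (centralizer ({t} : Set G) ⊓ normalizer (Y : Set G))) :
    (normalizer (Y : Set G)).relIndex (centralizer ({t} : Set G)) =
      (normalizer (Y : Set G)).relIndex (coreU t) := by
  obtain ⟨c, -, hUc, hmc⟩ := orbit_eq hd Y
  set C := centralizer ({t} : Set G)
  set A := C ⊓ normalizer (Y : Set G) with hAdef
  haveI : ((coreU t).subgroupOf C).Normal :=
    normal_subgroupOf_of_le_normalizer (GWKlein.centralizer_le_normalizer_coreU t)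
  have htop : A.subgroupOf C ⊔ (coreU t).subgroupOf C = ⊤ := by
    rw [sup_comm, ← subgroupOf_sup (GWKlein.coreU_le_centralizer t) inf_le_left]
    exact subgroupOf_eq_top.2 hA
  have e := relIndex_sup_right (H := A.subgroupOf C) (K := (coreU t).subgroupOf C)
  rw [htop, relIndex_top_right, relIndex_subgroupOf (inf_le_left : A ≤ C), hUc,
    show ((coreU t).subgroupOf C).index = 2 ^ n from hd.relIndex_coreU] at e
  have hcn : n = c := Nat.pow_right_injective le_rfl e
  rw [hmc, hcn, Nat.sub_self, pow_zero, mul_one]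

/-- The orbit misses a line. -/
theorem card_orbit_le (h : MixedPair p t r y l X) (hd : DHyp n t r σ)
    (hfix : ¬ ∀ x ∈ X, Commute (r * σ) x) :
    (normalizer (zpowers y : Set G)).relIndex (centralizer ({t} : Set G)) ≤ p := by
  obtain ⟨hle, hall⟩ := h.orbit_count
  by_contra hgt
  have hm := le_antisymm hle (Nat.lt_of_not_le hgt)
  specialize hall hm
  set C := centralizer ({t} : Set G) with hC
  set NY := normalizer (zpowers y : Set G)
  obtain ⟨c, hcn, -, hmc⟩ := orbit_eq hd (zpowers y)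
  have hrC : r ∈ C := mem_centralizer_t.2 hd.comm_t_r.symm
  have hσC : σ ∈ C := mem_centralizer_t.2 hd.comm_t_σ.symm
  have hrN : r ∈ NY := mem_normalizer_zpowers (by rw [h.fix_y.eq, mul_inv_cancel_right]; exact mem_zpowers y)
  have hodd : ∀ e : ℕ, e = p + 1 → ¬ Odd e := fun e he ho => by
    obtain ⟨a, ha⟩ := h.odd_p
    obtain ⟨b, hb⟩ := ho
    omega
  -- the second reflection fixes a non-trivial element of `X`
  have hr2C : r * σ ∈ C := mul_mem hrC hσC
  obtain ⟨x, hx, hx1, hx2⟩ : ∃ x ∈ X, x ≠ 1 ∧ Commute (r * σ) x := by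
    by_contra hne
    push Not at hne
    have hinv : ∀ x ∈ X, r * σ * x * (r * σ)⁻¹ = x⁻¹ := fun x hx => by
      refine inv_eq_of_mul_eq_one_right ?_ |>.symm
      by_contra hne1
      refine hne _ (mul_mem hx (h.conj_mem hr2C hx)) hne1 ?_
      refine mul_inv_eq_iff_eq_mul.1 ?_
      calc r * σ * (x * (r * σ * x * (r * σ)⁻¹)) * (r * σ)⁻¹
          = r * σ * x * (r * σ)⁻¹ * ((r * σ) * (r * σ) * x * ((r * σ) * (r * σ))⁻¹) := by group
        _ = r * σ * x * (r * σ)⁻¹ * x := by rw [hd.mul_σ_sq, one_mul, inv_one, mul_one]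
        _ = x * (r * σ * x * (r * σ)⁻¹) := (h.comm (h.conj_mem hr2C hx) hx).eq
    have hσN : σ ∈ NY := by
      have e : r * σ * y * (r * σ)⁻¹ = y⁻¹ := hinv y h.mem_y
      have h2 : r * σ ∈ NY := mem_normalizer_zpowers (e ▸ inv_mem (mem_zpowers y))
      have := mul_mem (inv_mem hrN) h2
      rwa [inv_mul_cancel_left] at this
    have hle' : C ≤ coreU t ⊔ (C ⊓ NY) := by
      conv_lhs => rw [hC, ← hd.sup_sylow]
      refine sup_le le_sup_left (le_trans ((closure_le _).2 ?_) le_sup_right)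
      rintro z (rfl | rfl)
      · exact ⟨hσC, hσN⟩
      · exact ⟨hrC, hrN⟩
    refine hodd _ hm ?_
    rw [orbit_eq_of_sup hd _ hle']
    exact odd_orbit_coreU hd _
  obtain ⟨g, hg, i, hip, hi0, rfl⟩ := hall x hx hx1
  -- `r' = g⁻¹ (r σ) g` fixes `y`
  set r' := g⁻¹ * (r * σ) * g with hr'
  have hr'C : r' ∈ C := mul_mem (mul_mem (inv_mem hg) hr2C) hg
  have hr'y : Commute r' y := by
    have e : Commute r' (y ^ i) := by
      have := hx2.map (MulAut.conj g⁻¹).toMonoidHom
      simp only [MulEquiv.coe_toMonoidHom, MulAut.conj_apply, inv_inv] at this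
      rwa [show g⁻¹ * (g * y ^ i * g⁻¹) * g = y ^ i by group] at this
    have hy' : y ∈ zpowers (y ^ i) := by
      rw [zpowers_eq_of_prime h.prime h.order_y (pow_mem (mem_zpowers y) i) fun e1 => hx1 (by rw [e1]; group)]
      exact mem_zpowers y
    obtain ⟨j, hj⟩ := mem_zpowers_iff.1 hy'
    exact hj ▸ e.zpow_right j
  have hr'2 : r' * r' = 1 := by
    rw [hr', show g⁻¹ * (r * σ) * g * (g⁻¹ * (r * σ) * g) = g⁻¹ * (r * σ * (r * σ)) * g by group,
      hd.mul_σ_sq, mul_one, inv_mul_cancel]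
  -- both `r` and `r'` act as `-1` on `X / Y`
  have hneg : ∀ v : G, v ∈ C → v * v = 1 → Commute v y → (¬ ∀ x ∈ X, Commute v x) → ∀ x ∈ X,
      x * (v * x * v⁻¹) ∈ zpowers y := by
    intro v hv hvv hvy hnot x hx
    set F := X ⊓ centralizer ({v} : Set G)
    have hFy : zpowers y ≤ F :=
      zpowers_le.2 ⟨h.mem_y, mem_centralizer_singleton_iff.2 hvy.symm.eq⟩
    have hF : F = zpowers y := by
      refine (eq_of_le_of_card_ge hFy ?_).symm
      obtain ⟨i, hi, e⟩ := (Nat.dvd_prime_pow h.prime).1 (h.card ▸ card_dvd_of_le (inf_le_left : F ≤ X))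
      rcases (show i ≤ 1 ∨ i = 2 by omega) with hi1 | rfl
      · rw [e, Nat.card_zpowers, h.order_y]
        exact (Nat.pow_le_pow_right h.prime.pos hi1).trans (pow_one p).le
      · refine absurd (fun x hx => ?_) hnot
        have hFX : F = X := eq_of_le_of_card_ge inf_le_left (by rw [e, h.card])
        exact ((mem_centralizer_singleton_iff.1 (mem_inf.1 (hFX.ge hx)).2 : x * v = v * x)).symm
    rw [← hF]
    refine ⟨mul_mem hx (h.conj_mem hv hx), mem_centralizer_singleton_iff.2 ?_⟩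
    refine (mul_inv_eq_iff_eq_mul.1 ?_).symm
    calc v * (x * (v * x * v⁻¹)) * v⁻¹ = v * x * v⁻¹ * ((v * v) * x * (v * v)⁻¹) := by group
      _ = v * x * v⁻¹ * x := by rw [hvv, one_mul, inv_one, mul_one]
      _ = x * (v * x * v⁻¹) := (h.comm (h.conj_mem hv hx) hx).eq
  have hr'not : ¬ ∀ x ∈ X, Commute r' x := fun hh => hfix fun x hx => by
    have := (hh _ (h.conj_mem (inv_mem hg) hx)).map (MulAut.conj g).toMonoidHom
    simp only [MulEquiv.coe_toMonoidHom, MulAut.conj_apply, hr'] at this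
    rwa [show g * (g⁻¹ * x * g⁻¹⁻¹) * g⁻¹ = x by group,
      show g * (g⁻¹ * (r * σ) * g) * g⁻¹ = r * σ by group] at this
  have hrnot : ¬ ∀ x ∈ X, Commute r x := fun hh => by
    have e := h.inv_l
    rw [(hh l h.mem_l).eq, mul_inv_cancel_right] at e
    exact h.ne_one_l (GWKlein.eq_one_of_sq (h.order_l ▸ h.odd_p)
      (by rw [pow_two]; exact mul_eq_one_iff_eq_inv.2 e))
  set c0 := r * r' with hc0
  have hc0C : c0 ∈ C := mul_mem hrC hr'C
  have hc0y : Commute c0 y := h.fix_y.mul_left hr'y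
  have hstep : ∀ x ∈ X, ∃ w ∈ zpowers y, c0 * x * c0⁻¹ = x * w := by
    intro x hx
    refine ⟨x⁻¹ * (c0 * x * c0⁻¹), ?_, by group⟩
    have h1 := hneg r' hr'C hr'2 hr'y hr'not x hx
    have h2 := hneg r hrC hd.mul_self_r h.fix_y hrnot _ (h.conj_mem hr'C hx)
    rw [show c0 * x * c0⁻¹ = r * (r' * x * r'⁻¹) * r⁻¹ by rw [hc0]; group,
      show x⁻¹ * (r * (r' * x * r'⁻¹) * r⁻¹) =
        (x * (r' * x * r'⁻¹))⁻¹ * (r' * x * r'⁻¹ * (r * (r' * x * r'⁻¹) * r⁻¹)) by
          rw [(h.comm hx (h.conj_mem hr'C hx)).eq]; group]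
    exact mul_mem (inv_mem h1) h2
  by_cases htriv : ∀ x ∈ X, Commute c0 x
  · -- the rotations fix the line modulo `U`
    have hc0N : c0 ∈ NY := mem_normalizer_zpowers (by rw [hc0y.eq, mul_inv_cancel_right]; exact mem_zpowers y)
    set M := coreU t ⊔ (C ⊓ NY) with hM
    have hMC : M ≤ C := sup_le (GWKlein.coreU_le_centralizer t) inf_le_left
    have hMN : ∀ u ∈ coreU t, u ∈ M := fun u hu => mem_sup_left hu
    have hgmem : g ∈ ((closure ({σ, r} : Set G) ⊔ coreU t : Subgroup G) : Set G) := by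
      rw [sup_comm, hd.sup_sylow]; exact hg
    rw [coe_mul_of_left_le_normalizer_right _ _ hd.sylow_le_normalizer_coreU] at hgmem
    obtain ⟨q, hq, u, hu, hgu⟩ := hgmem
    simp only at hgu
    have hqM : r * (q⁻¹ * (r * σ) * q) ∈ M := by
      have h1 : r' = u⁻¹ * (q⁻¹ * (r * σ) * q) * u := by rw [hr', ← hgu]; group
      have h2 : c0 ∈ M := mem_sup_right ⟨hc0C, hc0N⟩
      have hru : r * u * r⁻¹ ∈ M := hMN _ (hd.conj_r_mem_coreU hu)
      have e : r * (q⁻¹ * (r * σ) * q) = r * u * r⁻¹ * c0 * u⁻¹ := by rw [hc0, h1]; group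
      rw [e]
      exact mul_mem (mul_mem hru h2) (inv_mem (hMN u hu))
    have hσ2 : ∀ k : ℕ, r * σ ^ k * r⁻¹ = (σ ^ k)⁻¹ := fun k => Involution.inverts_pow hd.conj_σ k
    have hri := Involution.inv_eq hd.order_r
    obtain ⟨d, hdodd, hd'⟩ : ∃ d : ℤ, Odd d ∧ σ ^ d ∈ M := by
      rcases hd.mem_sylow_cases hq with ⟨k, rfl⟩ | ⟨k, rfl⟩
      · refine ⟨2 * k + 1, ⟨k, rfl⟩, ?_⟩
        have e : r * ((σ ^ k)⁻¹ * (r * σ) * σ ^ k) = σ ^ (2 * (k : ℤ) + 1) := by
          calc r * ((σ ^ k)⁻¹ * (r * σ) * σ ^ k) = r * (σ ^ k)⁻¹ * r⁻¹ * (r * r) * σ * σ ^ k := by group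
            _ = σ ^ k * σ * σ ^ k := by rw [hd.mul_self_r, mul_one, ← conj_inv, hσ2, inv_inv]
            _ = _ := by group
        exact e ▸ hqM
      · refine ⟨2 * k - 1, ⟨k - 1, by ring⟩, ?_⟩
        have e : r * ((r * σ ^ k)⁻¹ * (r * σ) * (r * σ ^ k)) = σ ^ (2 * (k : ℤ) - 1) := by
          calc r * ((r * σ ^ k)⁻¹ * (r * σ) * (r * σ ^ k))
              = r * (σ ^ k)⁻¹ * r⁻¹ * (r * σ * r⁻¹) * (r * r) * σ ^ k * (r⁻¹ * r) := by
                rw [mul_inv_rev, hri]; group; simp [hd.mul_self_r, mul_assoc]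
            _ = σ ^ k * σ⁻¹ * σ ^ k := by
                rw [hd.mul_self_r, mul_one, ← conj_inv, hσ2, inv_inv, hd.conj_σ, inv_mul_cancel, mul_one]
            _ = _ := by group
        exact e ▸ hqM
    have hσM : σ ∈ M := by
      have hcop : Int.gcd d (2 ^ (n - 1) : ℕ) = 1 := by
        rw [Int.gcd_eq_natAbs_gcd_natAbs, Int.natAbs_natCast]
        exact (Nat.coprime_two_right.2 (Int.natAbs_odd.2 hdodd)).pow_right _
      have e := Int.gcd_eq_gcd_ab d (2 ^ (n - 1) : ℕ)
      rw [hcop] at e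
      have h1 : σ ^ (((2 ^ (n - 1) : ℕ) : ℤ)) = 1 := by rw [zpow_natCast, ← hd.order_σ, pow_orderOf_eq_one]
      have h2 : σ = (σ ^ d) ^ Int.gcdA d (2 ^ (n - 1) : ℕ) := by
        conv_lhs => rw [← zpow_one σ, show (1 : ℤ) = ((1 : ℕ) : ℤ) from rfl, e, zpow_add, zpow_mul, zpow_mul,
          h1, one_zpow, mul_one]
      rw [h2]
      exact zpow_mem hd' _
    have hCM : C ≤ M := by
      conv_lhs => rw [hC, ← hd.sup_sylow]
      exact sup_le le_sup_left ((closure_le _).2 (by
        rintro z (rfl | rfl)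
        · exact hσM
        · exact mem_sup_right ⟨hrC, hrN⟩))
    refine hodd _ hm ?_
    rw [orbit_eq_of_sup hd _ hCM]
    exact odd_orbit_coreU hd _
  · -- a transvection in `U` fixing `y`
    push Not at htriv
    obtain ⟨x0, hx0, hx0c⟩ := htriv
    obtain ⟨w, hw, hw'⟩ := hstep x0 hx0
    have hw1 : w ≠ 1 := fun e => hx0c (by rw [e, mul_one] at hw'; exact mul_inv_eq_iff_eq_mul.1 hw')
    have hwp : orderOf w = p := h.order_eq (zpowers_le.2 h.mem_y hw) hw1
    have hcw : Commute c0 w := by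
      obtain ⟨j, rfl⟩ := mem_zpowers_iff.1 hw
      exact hc0y.zpow_right j
    have hpow : ∀ j : ℕ, c0 ^ j * x0 * (c0 ^ j)⁻¹ = x0 * w ^ j := fun j => by
      induction j with
      | zero => simp
      | succ j ih =>
        calc c0 ^ (j + 1) * x0 * (c0 ^ (j + 1))⁻¹ = c0 * (c0 ^ j * x0 * (c0 ^ j)⁻¹) * c0⁻¹ := by group
          _ = c0 * x0 * c0⁻¹ * (c0 * w ^ j * c0⁻¹) := by rw [ih]; group
          _ = x0 * w ^ (j + 1) := by rw [hw', (hcw.pow_right j).eq, mul_inv_cancel_right, pow_succ', mul_assoc]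
    set u0 := c0 ^ 2 ^ n with hu0
    haveI : ((coreU t).subgroupOf C).Normal :=
      normal_subgroupOf_of_le_normalizer (GWKlein.centralizer_le_normalizer_coreU t)
    have hu0U : u0 ∈ coreU t := by
      have := pow_index_mem ((coreU t).subgroupOf C) ⟨c0, hc0C⟩
      rw [show ((coreU t).subgroupOf C).index = 2 ^ n from hd.relIndex_coreU] at this
      exact this
    have hu0y : Commute u0 y := hc0y.pow_left _
    have hu0N : u0 ∈ NY := mem_normalizer_zpowers (by rw [hu0y.eq, mul_inv_cancel_right]; exact mem_zpowers y)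
    set v := w ^ 2 ^ n with hv
    have hv' : u0 * x0 * u0⁻¹ = x0 * v := hpow _
    have hvy : v ∈ zpowers y := pow_mem hw _
    have hv1 : v ≠ 1 := fun e => by
      have := Nat.Prime.dvd_of_dvd_pow h.prime (hwp ▸ orderOf_dvd_of_pow_eq_one e)
      exact h.ne_two ((Nat.prime_dvd_prime_iff_eq h.prime Nat.prime_two).1 this)
    have hx0y : x0 ∉ zpowers y := fun hm0 => hx0c (by
      obtain ⟨j, rfl⟩ := mem_zpowers_iff.1 hm0; exact hc0y.zpow_right j)
    have hx01 : x0 ≠ 1 := fun e => hx0y (e ▸ one_mem _)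
    have hX0 := h.order_eq hx0 hx01
    by_cases hUN : coreU t ≤ NY
    · obtain ⟨g0, hg0, i0, hi0p, hi00, rfl⟩ := hall x0 hx0 hx01
      have hu' : g0⁻¹ * u0 * g0 ∈ coreU t := by
        have := (mem_normalizer_iff.1 (GWKlein.centralizer_le_normalizer_coreU t (inv_mem hg0)) u0).1 hu0U
        simpa using this
      have h1 : g0⁻¹ * u0 * g0 * y ^ i0 * (g0⁻¹ * u0 * g0)⁻¹ ∈ zpowers y :=
        (mem_normalizer_iff.1 (hUN hu') _).1 (pow_mem (mem_zpowers y) i0)
      have h2 : g0 * (g0⁻¹ * u0 * g0 * y ^ i0 * (g0⁻¹ * u0 * g0)⁻¹) * g0⁻¹ ∈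
          zpowers (g0 * y ^ i0 * g0⁻¹) := by
        rw [← zpowers_eq_of_prime h.prime h.order_y (pow_mem (mem_zpowers y) i0)
          (fun e1 => hx01 (by rw [e1]; group))] at h1
        obtain ⟨j, hj⟩ := mem_zpowers_iff.1 h1
        rw [← hj, ← conj_zpow]
        exact zpow_mem (mem_zpowers _) j
      rw [show g0 * (g0⁻¹ * u0 * g0 * y ^ i0 * (g0⁻¹ * u0 * g0)⁻¹) * g0⁻¹ =
        u0 * (g0 * y ^ i0 * g0⁻¹) * u0⁻¹ by group, hv'] at h2
      have h3 : v ∈ zpowers (g0 * y ^ i0 * g0⁻¹) := by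
        have := mul_mem (inv_mem (mem_zpowers (g0 * y ^ i0 * g0⁻¹))) h2
        rwa [inv_mul_cancel_left] at this
      have e1 := zpowers_eq_of_prime h.prime hX0 h3 hv1
      exact hx0y (zpowers_le.2 hvy (e1.symm ▸ mem_zpowers _ : g0 * y ^ i0 * g0⁻¹ ∈ zpowers v))
    · obtain ⟨u1, hu1, hu1N⟩ := SetLike.not_le_iff_exists.1 hUN
      set N := NY.subgroupOf (coreU t)
      set x1 := u1 * y * u1⁻¹ with hx1def
      have hu1C := GWKlein.coreU_le_centralizer t hu1
      have hx1X : x1 ∈ X := h.conj_mem hu1C h.mem_y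
      have hx1y : x1 ∉ zpowers y := fun hm0 => hu1N (mem_normalizer_zpowers hm0)
      let f : Option (Fin p) → coreU t ⧸ N := fun o => o.elim ((1 : coreU t) : coreU t ⧸ N)
        fun j => (((⟨u0, hu0U⟩ : coreU t) ^ j.1 * ⟨u1, hu1⟩ : coreU t) : coreU t ⧸ N)
      have hfinj : Function.Injective f := by
        have hsome : ∀ j : Fin p, f (some j) ≠ f none := fun j e => hu1N (by
          have e' := QuotientGroup.eq.1 e
          rw [mem_subgroupOf] at e'
          simp only [mul_one, coe_inv, coe_mul, SubmonoidClass.coe_pow, inv_mem_iff] at e'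
          exact (mul_mem_cancel_left (pow_mem hu0N j.1)).1 e')
        have hsome2 : ∀ j j' : Fin p, j.1 < j'.1 → f (some j) ≠ f (some j') := fun j j' hlt e => by
          have e' := QuotientGroup.eq.1 e
          rw [mem_subgroupOf] at e'
          simp only [coe_inv, coe_mul, SubmonoidClass.coe_pow, mul_inv_rev] at e'
          set k := j'.1 - j.1 with hk
          have e2 : u1⁻¹ * u0 ^ k * u1 ∈ NY := by
            rw [show u1⁻¹ * (u0 ^ j.1)⁻¹ * (u0 ^ j'.1 * u1) = u1⁻¹ * ((u0 ^ j.1)⁻¹ * u0 ^ j'.1) * u1 by group] at e'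
            rwa [show (u0 ^ j.1)⁻¹ * u0 ^ j'.1 = u0 ^ k by
              rw [inv_mul_eq_iff_eq_mul, ← pow_add]; congr 1; omega] at e'
          have e3 : u0 ^ k * x1 * (u0 ^ k)⁻¹ ∈ zpowers x1 := by
            obtain ⟨a, ha⟩ := mem_zpowers_iff.1 ((mem_normalizer_iff.1 e2 y).1 (mem_zpowers y))
            refine mem_zpowers_iff.2 ⟨a, ?_⟩
            rw [hx1def, conj_zpow, ha]; group
          -- the transvection moves `x1`
          obtain ⟨a, ha, b, hb, hab⟩ : ∃ a ∈ zpowers y, ∃ b ∈ zpowers x0, x1 = a * b := by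
            have hsup := h.line_eq h.mem_y hx0 h.card h.order_y hx0y
            have := hsup.ge hx1X
            rw [← SetLike.mem_coe, coe_mul_of_left_le_normalizer_right _ _ (zpowers_le.2
              (mem_normalizer_zpowers (by
                rw [(h.comm h.mem_y hx0).eq, mul_inv_cancel_right]; exact mem_zpowers x0)))] at this
            obtain ⟨a, ha, b, hb, e⟩ := this
            exact ⟨a, ha, b, hb, e.symm⟩
          obtain ⟨bi, rfl⟩ := mem_zpowers_iff.1 hb
          have hva : Commute u0 v := by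
            obtain ⟨z, hz⟩ := mem_zpowers_iff.1 hvy
            exact hz ▸ hu0y.zpow_right z
          have hk' : ∀ k : ℕ, u0 ^ k * x0 * (u0 ^ k)⁻¹ = x0 * v ^ k := fun k => by
            rw [hu0, hv, ← pow_mul, ← pow_mul]; exact hpow _
          have hua : Commute (u0 ^ k) a := by
            obtain ⟨z, rfl⟩ := mem_zpowers_iff.1 ha
            exact (hu0y.pow_left k).zpow_right z
          have e4 : u0 ^ k * x1 * (u0 ^ k)⁻¹ = x1 * (v ^ k) ^ bi := by
            rw [hab, ← conj_mul, hua.eq, mul_inv_cancel_right, ← conj_zpow, hk',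
              ((h.comm hx0 (pow_mem (zpowers_le.2 h.mem_y hvy) k))).mul_zpow, mul_assoc]
          have e5 : (v ^ k) ^ bi ∈ zpowers x1 := by
            rw [e4] at e3
            have := mul_mem (inv_mem (mem_zpowers x1)) e3
            rwa [inv_mul_cancel_left] at this
          have hvk1 : v ^ k ≠ 1 := fun e6 => by
            have := orderOf_dvd_of_pow_eq_one e6
            rw [h.order_eq (zpowers_le.2 h.mem_y hvy) hv1] at this
            have := Nat.le_of_dvd (by omega) this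
            omega
          have hne : (v ^ k) ^ bi ≠ 1 := fun e6 => by
            have hd0 : (orderOf (v ^ k) : ℤ) ∣ bi := orderOf_dvd_iff_zpow_eq_one.2 e6
            rw [h.order_eq (zpowers_le.2 h.mem_y (pow_mem hvy k)) hvk1] at hd0
            refine hx1y ?_
            rw [hab, orderOf_dvd_iff_zpow_eq_one.1 (hX0 ▸ hd0), mul_one]
            exact ha
          have hx11 : x1 ≠ 1 := fun e6 => hx1y (e6 ▸ one_mem _)
          have e7 := zpowers_eq_of_prime h.prime (h.order_eq hx1X hx11) e5 hne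
          exact hx1y (zpowers_le.2 (zpow_mem (pow_mem hvy k) bi)
            (e7.symm ▸ mem_zpowers x1 : x1 ∈ zpowers ((v ^ k) ^ bi)))
        rintro (_ | j) (_ | j') e
        · rfl
        · exact absurd e.symm (hsome j')
        · exact absurd e (hsome j)
        · rcases lt_trichotomy j.1 j'.1 with hl | hl | hl
          · exact absurd e (hsome2 j j' hl)
          · rw [Fin.ext hl]
          · exact absurd e.symm (hsome2 j' j hl)
      have h5 := Nat.card_le_card_of_injective f hfinj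
      rw [Finite.card_option, Nat.card_fin] at h5
      refine hodd (NY.relIndex (coreU t)) ?_ (odd_orbit_coreU hd _)
      have h6 : NY.relIndex (coreU t) ≤ p + 1 :=
        (hmc ▸ Nat.le_mul_of_pos_right _ (Nat.two_pow_pos _) :
          NY.relIndex (coreU t) ≤ NY.relIndex C).trans hle
      exact le_antisymm h6 h5

end MixedPair

end Cfsg.Agent.GWDihedral
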