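import Cfsg.Agent.Lib.GWKlein.Local
import Cfsg.Prelude.Def_CaseTheorems

/-!
# Gorenstein-Walter, dihedral Sylow 2-subgroups of order `2 ^ n ≥ 8`: the setting

`⟨σ, r⟩` is a dihedral Sylow 2-subgroup, `σ` a rotation of order `2 ^ (n - 1)`, `t` its involution and
`r`, `r * σ` reflections of the two classes. `U`, `W` are `GWKlein.coreU t`, `GWKlein.coreW t r` (the second
class has `GWKlein.coreW t (r * σ)`). See `notes/gw_dihedral_eight.md`.

* `DHyp`: the Sylow subgroup
* `Rot`: an element rotating the four-group `⟨t, r⟩`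
* `IsGWLike`, `ProperGWLike`: what induction gives for proper subgroups
* `DOrderFormula`: `|G| (X - 1)² a² b² = 2 ^ (3 n - 3) u³ (a + b)² X (X + 1)`
-/

set_option autoImplicit false

namespace Cfsg.Agent.GWDihedral

open Subgroup
open Cfsg.Agent.GWKlein (coreU coreW fourV)

universe u

variable {G : Type u} [Group G]

/-- `⟨σ, r⟩` is a dihedral Sylow 2-subgroup of order `2 ^ n` with central involution `t`. -/
structure DHyp (n : ℕ) (t r σ : G) : Prop where
  three_le : 3 ≤ n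
  order_σ : orderOf σ = 2 ^ (n - 1)
  order_r : orderOf r = 2
  conj_σ : r * σ * r⁻¹ = σ⁻¹
  t_eq : t = σ ^ 2 ^ (n - 2)
  sylow : ∃ P : Sylow 2 G, (P : Subgroup G) = closure {σ, r}

/-- `s` permutes the involutions of the four-group `⟨t, r⟩` cyclically. -/
def Rot (t r s : G) : Prop := s * t * s⁻¹ = r ∧ s * r * s⁻¹ = t * r

/-- `X/O(X)` has a normal `PSL(2,q)`, `q` odd, `q > 3`, or `A7`, with trivial centraliser. -/
def IsGWLike (X : Type u) [Group X] : Prop :=
  ∃ L : Subgroup (X ⧸ Cfsg.oddCore X), L.Normal ∧ centralizer (L : Set (X ⧸ Cfsg.oddCore X)) = ⊥ ∧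
    ((∃ (F : Type) (_ : Field F) (_ : Fintype F), Odd (Fintype.card F) ∧ 3 < Fintype.card F ∧
        Nonempty (L ≃* Matrix.ProjectiveSpecialLinearGroup (Fin 2) F)) ∨
      Nonempty (L ≃* alternatingGroup (Fin 7)))

/-- The induction hypothesis. -/
def ProperGWLike (G : Type u) [Group G] : Prop :=
  ∀ H : Subgroup G, H ≠ ⊤ → ¬ Group.IsSolvable H → IsGWLike H

/-- Brauer's order formula, with `X = δ x` the signed degree of the first exceptional character. -/
def DOrderFormula (n : ℕ) (t r σ : G) : Prop :=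
  ∃ X : ℤ, (2 ^ n : ℤ) ∣ X - 1 ∧ X ≠ 1 ∧ X ≠ -1 ∧
    (Nat.card G : ℤ) * (X - 1) ^ 2 * (Nat.card (coreW t r) : ℤ) ^ 2 * (Nat.card (coreW t (r * σ)) : ℤ) ^ 2 =
      2 ^ (3 * n - 3) * (Nat.card (coreU t) : ℤ) ^ 3 *
        ((Nat.card (coreW t r) : ℤ) + Nat.card (coreW t (r * σ))) ^ 2 * (X * (X + 1))

end Cfsg.Agent.GWDihedral
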