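import Mathlib
import Cfsg.Agent.EqLemmas

/-!
# Gorenstein-Walter, dihedral Sylow subgroups of order at least eight: the degree bound

The three signed degrees of the characters over a fixed linear character of the odd core satisfy
`p + q + w = 0` and `1 / p + 1 / q + 4 / w = (X - 1) ^ 2 / (X (X + 1))` with `X ≡ 1 (mod 8)`.

* `ratio_lower` : the right side is at least `32 / 45`
* `exists_le_six` : one of the degrees is at most six
-/

set_option autoImplicit false

namespace Cfsg.Agent.GWDihedral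

theorem ratio_lower {X : ℤ} (h8 : (8 : ℤ) ∣ X - 1) (h1 : X ≠ 1) :
    (32 : ℚ) / 45 ≤ ((X : ℚ) - 1) ^ 2 / ((X : ℚ) * ((X : ℚ) + 1)) := by
  obtain ⟨k, hk⟩ := h8
  have hk0 : k ≠ 0 := fun e => h1 (by rw [e, mul_zero] at hk; omega)
  rcases lt_or_gt_of_ne hk0 with hneg | hpos
  · have hX : (X : ℚ) ≤ -7 := by exact_mod_cast (show X ≤ -7 by omega)
    rw [div_le_div_iff₀ (by norm_num) (by nlinarith)]
    nlinarith
  · have hX : (9 : ℚ) ≤ X := by exact_mod_cast (show 9 ≤ X by omega)
    rw [div_le_div_iff₀ (by norm_num) (by nlinarith)]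
    nlinarith

theorem exists_le_six {p q w : ℤ} (hp : p ≠ 0) (hq : q ≠ 0) (hw : w ≠ 0) (h0 : p + q + w = 0)
    (hR : (32 : ℚ) / 45 ≤ 1 / (p : ℚ) + 1 / (q : ℚ) + 4 / (w : ℚ)) :
    |p| ≤ 6 ∨ |q| ≤ 6 ∨ |w| ≤ 6 := by
  by_contra hall
  push Not at hall
  obtain ⟨h1, h2, h3⟩ := hall
  have big : ∀ z : ℤ, 6 < |z| → 7 ≤ z ∨ z ≤ -7 := fun z hz => by
    rcases abs_cases z with ⟨e, -⟩ | ⟨e, -⟩ <;> rw [e] at hz <;> omega
  have up : ∀ (z : ℤ) (b : ℚ), 0 < b → b ≤ (z : ℚ) → 1 / (z : ℚ) ≤ 1 / b := fun z b hb h =>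
    one_div_le_one_div_of_le hb h
  have neg : ∀ z : ℤ, z < 0 → 1 / (z : ℚ) ≤ 0 := fun z hz =>
    div_nonpos_of_nonneg_of_nonpos zero_le_one (by exact_mod_cast hz.le)
  have q7 : ∀ z : ℤ, 7 ≤ z → 1 / (z : ℚ) ≤ 1 / 7 := fun z hz => up z 7 (by norm_num) (by exact_mod_cast hz)
  have e4 : 4 / (w : ℚ) = 4 * (1 / (w : ℚ)) := by ring
  rw [e4] at hR
  rcases big w h3 with gw | gw
  swap
  · have := neg w (by omega)
    rcases big p h1 with gp | gp <;> rcases big q h2 with gq | gq
    · have := q7 p gp; have := q7 q gq; linarith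
    · have := q7 p gp; have := neg q (by omega); linarith
    · have := neg p (by omega); have := q7 q gq; linarith
    · have := neg p (by omega); have := neg q (by omega); linarith
  rcases big p h1 with gp | gp <;> rcases big q h2 with gq | gq
  · omega
  · -- `0 < p`, `q < 0`
    have b1 := q7 p gp
    have b2 := neg q (by omega)
    by_cases hw8 : 8 ≤ w
    · have := up w 8 (by norm_num) (by exact_mod_cast hw8); linarith
    obtain rfl : w = 7 := by omega
    obtain rfl : q = -(p + 7) := by omega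
    have hp7 : (7 : ℚ) ≤ p := by exact_mod_cast gp
    have hkey : 1 / (p : ℚ) + 1 / ((-(p + 7) : ℤ) : ℚ) ≤ 1 / 14 := by
      push_cast
      rw [div_neg, ← sub_eq_add_neg, div_sub_div _ _ (by linarith) (by linarith),
        div_le_div_iff₀ (by nlinarith) (by norm_num)]
      nlinarith
    have e7 : 1 / ((7 : ℤ) : ℚ) = 1 / 7 := by norm_num
    rw [e7] at hR
    linarith
  · have b1 := neg p (by omega)
    have b2 := q7 q gq
    by_cases hw8 : 8 ≤ w
    · have := up w 8 (by norm_num) (by exact_mod_cast hw8); linarith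
    obtain rfl : w = 7 := by omega
    obtain rfl : p = -(q + 7) := by omega
    have hp7 : (7 : ℚ) ≤ q := by exact_mod_cast gq
    have hkey : 1 / ((-(q + 7) : ℤ) : ℚ) + 1 / (q : ℚ) ≤ 1 / 14 := by
      push_cast
      rw [add_comm, div_neg, ← sub_eq_add_neg, div_sub_div _ _ (by linarith) (by linarith),
        div_le_div_iff₀ (by nlinarith) (by norm_num)]
      nlinarith
    have e7 : 1 / ((7 : ℤ) : ℚ) = 1 / 7 := by norm_num
    rw [e7] at hR
    linarith
  · have := up w 14 (by norm_num) (by exact_mod_cast (show (14 : ℤ) ≤ w by omega))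
    have := neg p (by omega)
    have := neg q (by omega)
    linarith

end Cfsg.Agent.GWDihedral
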