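import Cfsg.Agent.Lib.GWDihedral.StepsB
import Cfsg.Agent.Lib.GWDihedral.TypesBasic
import Cfsg.Agent.Lib.OddPrime.CubeGroup
import Mathlib.LinearAlgebra.Matrix.Notation
import Mathlib.LinearAlgebra.Matrix.Determinant.Basic

/-!
# Gorenstein-Walter, dihedral case: coordinates on the extraspecial subgroup

For `D = ⟨y, x⟩` of order `p ^ 3` with `[y, x] = z`: an element `d` has coordinates `(a d, b d)` in
`(ZMod p) ^ 2` with `[d, x] = z ^ a d`, `[y, d] = z ^ b d`, and `g ∈ C(t)` acts on them by `actM g`,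
on `z` by its determinant.
-/

set_option autoImplicit false
set_option linter.unusedSectionVars false
set_option linter.style.haveILetI false

namespace Cfsg.Agent.GWDihedral

open Subgroup
open Cfsg.Agent.GWKlein (coreU)

universe u

variable {G : Type u} [Group G]

/-- The exponent of `w` as a power of `z`. -/
noncomputable def logz (p : ℕ) [Fact p.Prime] (z w : G) : ZMod p :=
  Function.invFun (fun k : ZMod p => z ^ k.val) w

/-- The first coordinate. -/
noncomputable def coA (p : ℕ) [Fact p.Prime] (x z d : G) : ZMod p := logz p z (d * x * d⁻¹ * x⁻¹)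

/-- The second coordinate. -/
noncomputable def coB (p : ℕ) [Fact p.Prime] (y z d : G) : ZMod p := logz p z (y * d * y⁻¹ * d⁻¹)

/-- The action of `g` on the coordinates. -/
noncomputable def actM (p : ℕ) [Fact p.Prime] (y x z g : G) : Matrix (Fin 2) (Fin 2) (ZMod p) :=
  !![coA p x z (g * y * g⁻¹), coA p x z (g * x * g⁻¹);
     coB p y z (g * y * g⁻¹), coB p y z (g * x * g⁻¹)]

namespace MixedExtraspecial

variable [Finite G] {p : ℕ} [Fact p.Prime] {t r y x z : G} {D : Subgroup G}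
  (E : MixedExtraspecial p t r y x z D)
include E

theorem z_mem : z ∈ D := by
  rw [← E.commutator]
  exact mul_mem (mul_mem (mul_mem E.mem_y E.mem_x) (inv_mem E.mem_y)) (inv_mem E.mem_x)

theorem order_z : orderOf z = p := orderOf_eq_prime (E.exponent z E.z_mem) E.ne_one

theorem not_commute_yx : ¬ Commute y x := fun h => E.ne_one <| by
  rw [← E.commutator, h.eq]; group

theorem center_eq : D ⊓ centralizer (D : Set G) = zpowers z := by
  have hna : ¬ IsMulCommutative D := fun h =>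
    E.not_commute_yx (congrArg Subtype.val (h.is_comm.comm (⟨y, E.mem_y⟩ : D) ⟨x, E.mem_x⟩))
  obtain ⟨hc, hcomm⟩ := OddPrime.cube_center E.card hna
  refine (eq_of_le_of_card_ge (zpowers_le.2 ?_) ?_).symm
  · have := hcomm y E.mem_y x E.mem_x
    rwa [E.commutator] at this
  · rw [hc, Nat.card_zpowers, E.order_z]

theorem commutator_mem {a b : G} (ha : a ∈ D) (hb : b ∈ D) : a * b * a⁻¹ * b⁻¹ ∈ zpowers z := by
  have hna : ¬ IsMulCommutative D := fun h =>
    E.not_commute_yx (congrArg Subtype.val (h.is_comm.comm (⟨y, E.mem_y⟩ : D) ⟨x, E.mem_x⟩))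
  exact E.center_eq ▸ (OddPrime.cube_center E.card hna).2 a ha b hb

theorem commute_of_mem_zpowers {w d : G} (hw : w ∈ zpowers z) (hd : d ∈ D) : Commute w d := by
  rw [← E.center_eq] at hw
  exact (mem_centralizer_iff.1 hw.2 d hd).symm

theorem mem_D {w : G} (hw : w ∈ zpowers z) : w ∈ D := zpowers_le.2 E.z_mem hw

theorem pow_val_add (k l : ZMod p) : z ^ (k + l).val = z ^ k.val * z ^ l.val := by
  rw [← pow_add, pow_eq_pow_iff_modEq, E.order_z, ZMod.val_add]
  exact Nat.mod_modEq _ _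

theorem pow_val_injective : Function.Injective (fun k : ZMod p => z ^ k.val) := fun k l h => by
  have h' := pow_eq_pow_iff_modEq.1 h
  rw [E.order_z] at h'
  exact ZMod.val_injective p (Nat.ModEq.eq_of_lt_of_lt h' (ZMod.val_lt k) (ZMod.val_lt l))

theorem logz_pow_val (k : ZMod p) : logz p z (z ^ k.val) = k :=
  Function.leftInverse_invFun E.pow_val_injective k

theorem exists_pow_val {w : G} (hw : w ∈ zpowers z) : ∃ k : ZMod p, z ^ k.val = w := by
  obtain ⟨j, rfl⟩ := mem_powers_iff_mem_zpowers.2 hw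
  refine ⟨(j : ZMod p), ?_⟩
  show z ^ (j : ZMod p).val = z ^ j
  rw [pow_eq_pow_iff_modEq, E.order_z, ZMod.val_natCast]
  exact Nat.mod_modEq _ _

theorem pow_logz {w : G} (hw : w ∈ zpowers z) : z ^ (logz p z w).val = w := by
  obtain ⟨k, rfl⟩ := E.exists_pow_val hw
  rw [E.logz_pow_val]

theorem logz_mul {v w : G} (hv : v ∈ zpowers z) (hw : w ∈ zpowers z) :
    logz p z (v * w) = logz p z v + logz p z w := by
  obtain ⟨k, rfl⟩ := E.exists_pow_val hv
  obtain ⟨l, rfl⟩ := E.exists_pow_val hw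
  rw [← E.pow_val_add, E.logz_pow_val, E.logz_pow_val, E.logz_pow_val]

theorem logz_one : logz p z (1 : G) = 0 := by
  simpa using E.logz_pow_val 0

theorem logz_self : logz p z z = 1 := by
  simpa [ZMod.val_one] using E.logz_pow_val 1

theorem eq_one_of_logz {w : G} (hw : w ∈ zpowers z) (h : logz p z w = 0) : w = 1 := by
  rw [← E.pow_logz hw, h, ZMod.val_zero, pow_zero]

theorem logz_inv {w : G} (hw : w ∈ zpowers z) : logz p z w⁻¹ = - logz p z w := by
  have h := E.logz_mul hw (inv_mem hw)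
  rw [mul_inv_cancel, E.logz_one] at h
  linear_combination -h

theorem coA_mul {d e : G} (hd : d ∈ D) (he : e ∈ D) :
    coA p x z (d * e) = coA p x z d + coA p x z e := by
  have h1 := E.commutator_mem hd E.mem_x
  have h2 := E.commutator_mem he E.mem_x
  have e1 : d * e * x * (d * e)⁻¹ * x⁻¹ = d * (e * x * e⁻¹ * x⁻¹) * d⁻¹ * (d * x * d⁻¹ * x⁻¹) := by group
  rw [coA, e1, ← (E.commute_of_mem_zpowers h2 hd).eq, mul_inv_cancel_right, E.logz_mul h2 h1, coA, coA, add_comm]

theorem coB_mul {d e : G} (hd : d ∈ D) (he : e ∈ D) :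
    coB p y z (d * e) = coB p y z d + coB p y z e := by
  have h1 := E.commutator_mem E.mem_y hd
  have h2 := E.commutator_mem E.mem_y he
  have e1 : y * (d * e) * y⁻¹ * (d * e)⁻¹ = (y * d * y⁻¹ * d⁻¹) * (d * (y * e * y⁻¹ * e⁻¹) * d⁻¹) := by group
  rw [coB, e1, ← (E.commute_of_mem_zpowers h2 hd).eq, mul_inv_cancel_right, E.logz_mul h1 h2, coB, coB]

theorem coA_one : coA p x z (1 : G) = 0 := by simp [coA, E.logz_one]

theorem coB_one : coB p y z (1 : G) = 0 := by simp [coB, E.logz_one]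

theorem coA_inv {d : G} (hd : d ∈ D) : coA p x z d⁻¹ = - coA p x z d := by
  have h := E.coA_mul hd (inv_mem hd)
  rw [mul_inv_cancel, E.coA_one] at h
  linear_combination -h

theorem coB_inv {d : G} (hd : d ∈ D) : coB p y z d⁻¹ = - coB p y z d := by
  have h := E.coB_mul hd (inv_mem hd)
  rw [mul_inv_cancel, E.coB_one] at h
  linear_combination -h

theorem coA_pow {d : G} (hd : d ∈ D) (k : ℕ) : coA p x z (d ^ k) = k * coA p x z d := by
  induction k with
  | zero => simp [E.coA_one]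
  | succ k ih => rw [pow_succ, E.coA_mul (pow_mem hd k) hd, ih]; push_cast; ring

theorem coB_pow {d : G} (hd : d ∈ D) (k : ℕ) : coB p y z (d ^ k) = k * coB p y z d := by
  induction k with
  | zero => simp [E.coB_one]
  | succ k ih => rw [pow_succ, E.coB_mul (pow_mem hd k) hd, ih]; push_cast; ring

theorem coA_z {w : G} (hw : w ∈ zpowers z) : coA p x z w = 0 := by
  rw [coA, (E.commute_of_mem_zpowers hw E.mem_x).eq]
  simp [E.logz_one]

theorem coB_z {w : G} (hw : w ∈ zpowers z) : coB p y z w = 0 := by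
  rw [coB, show y * w * y⁻¹ = w by rw [(E.commute_of_mem_zpowers hw E.mem_y).symm.eq, mul_inv_cancel_right],
    mul_inv_cancel, E.logz_one]

theorem coA_y : coA p x z y = 1 := by rw [coA, E.commutator, E.logz_self]

theorem coB_x : coB p y z x = 1 := by rw [coB, E.commutator, E.logz_self]

theorem coA_x : coA p x z x = 0 := by simp [coA, E.logz_one]

theorem coB_y : coB p y z y = 0 := by simp [coB, E.logz_one]

/-- The coordinates determine an element modulo `⟨z⟩`. -/
theorem mem_zpowers_of_co {d : G} (hd : d ∈ D) (ha : coA p x z d = 0) (hb : coB p y z d = 0) :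
    d ∈ zpowers z := by
  let φ : D →* Multiplicative (ZMod p × ZMod p) :=
    { toFun := fun d => Multiplicative.ofAdd (coA p x z d, coB p y z d)
      map_one' := by simp [E.coA_one, E.coB_one]
      map_mul' := fun d e => by
        simp only [Subgroup.coe_mul, E.coA_mul d.2 e.2, E.coB_mul d.2 e.2]
        rfl }
  have hsur : Function.Surjective φ := fun v => by
    refine ⟨⟨y ^ (Multiplicative.toAdd v).1.val * x ^ (Multiplicative.toAdd v).2.val,
      mul_mem (pow_mem E.mem_y _) (pow_mem E.mem_x _)⟩, ?_⟩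
    show Multiplicative.ofAdd (coA p x z _, coB p y z _) = v
    rw [E.coA_mul (pow_mem E.mem_y _) (pow_mem E.mem_x _), E.coB_mul (pow_mem E.mem_y _) (pow_mem E.mem_x _),
      E.coA_pow E.mem_y, E.coA_pow E.mem_x, E.coB_pow E.mem_y, E.coB_pow E.mem_x, E.coA_y, E.coA_x, E.coB_x,
      E.coB_y]
    simp
  have hker : Nat.card φ.ker = p := by
    have h1 := φ.ker.card_mul_index
    rw [index_ker, MonoidHom.range_eq_top.2 hsur, card_top, E.card,
      show Nat.card (Multiplicative (ZMod p × ZMod p)) = p * p by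
        rw [Nat.card_congr Multiplicative.toAdd, Nat.card_prod, Nat.card_zmod]] at h1
    exact Nat.eq_of_mul_eq_mul_right (Nat.mul_pos (Fact.out : p.Prime).pos (Fact.out : p.Prime).pos)
      (h1.trans (by ring))
  have hZ : (zpowers z).subgroupOf D = φ.ker := by
    refine eq_of_le_of_card_ge (fun w hw => ?_) ?_
    · rw [MonoidHom.mem_ker]
      show Multiplicative.ofAdd (coA p x z w, coB p y z w) = 1
      rw [E.coA_z (mem_subgroupOf.1 hw), E.coB_z (mem_subgroupOf.1 hw)]
      rfl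
    · rw [hker, Nat.card_congr (subgroupOfEquivOfLe (zpowers_le.2 E.z_mem)).toEquiv, Nat.card_zpowers, E.order_z]
  have : (⟨d, hd⟩ : D) ∈ φ.ker := by
    rw [MonoidHom.mem_ker]
    show Multiplicative.ofAdd (coA p x z d, coB p y z d) = 1
    rw [ha, hb]
    rfl
  rw [← hZ] at this
  exact mem_subgroupOf.1 this

/-- An element is `y ^ a x ^ b` times a power of `z`. -/
theorem exists_decomp {d : G} (hd : d ∈ D) :
    ∃ w ∈ zpowers z, d = y ^ (coA p x z d).val * x ^ (coB p y z d).val * w := by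
  have hv : y ^ (coA p x z d).val * x ^ (coB p y z d).val ∈ D :=
    mul_mem (pow_mem E.mem_y _) (pow_mem E.mem_x _)
  refine ⟨(y ^ (coA p x z d).val * x ^ (coB p y z d).val)⁻¹ * d,
    E.mem_zpowers_of_co (mul_mem (inv_mem hv) hd) ?_ ?_, (mul_inv_cancel_left _ _).symm⟩
  · rw [E.coA_mul (inv_mem hv) hd, E.coA_inv hv, E.coA_mul (pow_mem E.mem_y _) (pow_mem E.mem_x _),
      E.coA_pow E.mem_y, E.coA_pow E.mem_x, E.coA_y, E.coA_x]
    simp only [ZMod.natCast_zmod_val]
    ring
  · rw [E.coB_mul (inv_mem hv) hd, E.coB_inv hv, E.coB_mul (pow_mem E.mem_y _) (pow_mem E.mem_x _),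
      E.coB_pow E.mem_y, E.coB_pow E.mem_x, E.coB_y, E.coB_x]
    simp only [ZMod.natCast_zmod_val]
    ring

/-- The commutator is the determinant of the coordinates. -/
theorem logz_commutator {d e : G} (hd : d ∈ D) (he : e ∈ D) :
    logz p z (d * e * d⁻¹ * e⁻¹) = coA p x z d * coB p y z e - coB p y z d * coA p x z e := by
  -- `d ↦ log [d, e]` is additive
  have hadd : ∀ u ∈ D, ∀ v ∈ D, logz p z (u * v * e * (u * v)⁻¹ * e⁻¹) =
      logz p z (u * e * u⁻¹ * e⁻¹) + logz p z (v * e * v⁻¹ * e⁻¹) := fun u hu v hv => by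
    have e1 : u * v * e * (u * v)⁻¹ * e⁻¹ = u * (v * e * v⁻¹ * e⁻¹) * u⁻¹ * (u * e * u⁻¹ * e⁻¹) := by group
    rw [e1, ← (E.commute_of_mem_zpowers (E.commutator_mem hv he) hu).eq, mul_inv_cancel_right,
      E.logz_mul (E.commutator_mem hv he) (E.commutator_mem hu he), add_comm]
  have hpow : ∀ u ∈ D, ∀ k : ℕ, logz p z (u ^ k * e * (u ^ k)⁻¹ * e⁻¹) = k * logz p z (u * e * u⁻¹ * e⁻¹) := by
    intro u hu k
    induction k with
    | zero => simp [E.logz_one]
    | succ k ih => rw [pow_succ, hadd _ (pow_mem hu k) u hu, ih]; push_cast; ring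
  have hx : logz p z (x * e * x⁻¹ * e⁻¹) = - coA p x z e := by
    rw [coA, ← E.logz_inv (E.commutator_mem he E.mem_x)]
    congr 1
    group
  obtain ⟨w, hw, hdec⟩ := E.exists_decomp hd
  have hyx : y ^ (coA p x z d).val * x ^ (coB p y z d).val ∈ D :=
    mul_mem (pow_mem E.mem_y _) (pow_mem E.mem_x _)
  have h1 : logz p z (w * e * w⁻¹ * e⁻¹) = 0 := by
    rw [(E.commute_of_mem_zpowers hw he).eq]
    simp [E.logz_one]
  conv_lhs => rw [hdec]
  rw [hadd _ hyx w (E.mem_D hw), hadd _ (pow_mem E.mem_y _) _ (pow_mem E.mem_x _), hpow y E.mem_y, hpow x E.mem_x,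
    h1, hx, ← coB, ZMod.natCast_zmod_val, ZMod.natCast_zmod_val]
  ring

theorem commute_iff_det {d e : G} (hd : d ∈ D) (he : e ∈ D) :
    Commute d e ↔ coA p x z d * coB p y z e - coB p y z d * coA p x z e = 0 := by
  rw [← E.logz_commutator hd he]
  constructor
  · intro h
    rw [h.eq]
    simp [E.logz_one]
  · intro h
    exact mul_inv_eq_iff_eq_mul.1 (mul_inv_eq_one.1 (E.eq_one_of_logz (E.commutator_mem hd he) h))

/-! ### The action of `C(t)` -/

theorem conj_mem {g d : G} (hg : g ∈ centralizer ({t} : Set G)) (hd : d ∈ D) : g * d * g⁻¹ ∈ D :=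
  (mem_normalizer_iff.1 (E.normal hg) d).1 hd

theorem conj_z {g : G} (hg : g ∈ centralizer ({t} : Set G)) :
    g * z * g⁻¹ = (g * y * g⁻¹) * (g * x * g⁻¹) * (g * y * g⁻¹)⁻¹ * (g * x * g⁻¹)⁻¹ := by
  rw [← E.commutator]; group

theorem conj_zpowers {g w : G} (hg : g ∈ centralizer ({t} : Set G)) (hw : w ∈ zpowers z) :
    g * w * g⁻¹ ∈ zpowers z := by
  obtain ⟨i, rfl⟩ := hw
  show g * z ^ i * g⁻¹ ∈ zpowers z
  rw [← conj_zpow, E.conj_z hg]
  exact zpow_mem (E.commutator_mem (E.conj_mem hg E.mem_y) (E.conj_mem hg E.mem_x)) i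

theorem zpowers_normal : centralizer ({t} : Set G) ≤ normalizer (zpowers z : Set G) := fun _ hg =>
  Coprime.mem_normalizer_of_forall fun _ hw => E.conj_zpowers hg hw

theorem logz_conj_z {g : G} (hg : g ∈ centralizer ({t} : Set G)) :
    logz p z (g * z * g⁻¹) = (actM p y x z g).det := by
  rw [E.conj_z hg, E.logz_commutator (E.conj_mem hg E.mem_y) (E.conj_mem hg E.mem_x), Matrix.det_fin_two]
  simp [actM]
  ring

theorem co_conj {g d : G} (hg : g ∈ centralizer ({t} : Set G)) (hd : d ∈ D) :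
    coA p x z (g * d * g⁻¹) =
        actM p y x z g 0 0 * coA p x z d + actM p y x z g 0 1 * coB p y z d ∧
      coB p y z (g * d * g⁻¹) =
        actM p y x z g 1 0 * coA p x z d + actM p y x z g 1 1 * coB p y z d := by
  obtain ⟨w, hw, hdec⟩ := E.exists_decomp hd
  set i := (coA p x z d).val with hi
  set j := (coB p y z d).val with hj
  have e : g * d * g⁻¹ = (g * y * g⁻¹) ^ i * (g * x * g⁻¹) ^ j * (g * w * g⁻¹) := by
    rw [hdec, conj_pow, conj_pow]; group
  have hyD := E.conj_mem hg E.mem_y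
  have hxD := E.conj_mem hg E.mem_x
  have hwZ := E.conj_zpowers hg hw
  rw [e, E.coA_mul (mul_mem (pow_mem hyD _) (pow_mem hxD _)) (E.mem_D hwZ),
    E.coB_mul (mul_mem (pow_mem hyD _) (pow_mem hxD _)) (E.mem_D hwZ),
    E.coA_mul (pow_mem hyD _) (pow_mem hxD _), E.coB_mul (pow_mem hyD _) (pow_mem hxD _), E.coA_pow hyD,
    E.coA_pow hxD, E.coB_pow hyD, E.coB_pow hxD, E.coA_z hwZ, E.coB_z hwZ, hi, hj, ZMod.natCast_zmod_val,
    ZMod.natCast_zmod_val]
  constructor <;> simp [actM] <;> ring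

theorem actM_mul {g h : G} (hg : g ∈ centralizer ({t} : Set G)) (hh : h ∈ centralizer ({t} : Set G)) :
    actM p y x z (g * h) = actM p y x z g * actM p y x z h := by
  obtain ⟨hy1, hy2⟩ := E.co_conj hg (E.conj_mem hh E.mem_y)
  obtain ⟨hx1, hx2⟩ := E.co_conj hg (E.conj_mem hh E.mem_x)
  have ey : g * h * y * (h⁻¹ * g⁻¹) = g * (h * y * h⁻¹) * g⁻¹ := by group
  have ex : g * h * x * (h⁻¹ * g⁻¹) = g * (h * x * h⁻¹) * g⁻¹ := by group
  ext i j
  fin_cases i <;> fin_cases j <;>
    simp [actM, Matrix.mul_apply, Fin.sum_univ_two, ey, ex, hy1, hy2, hx1, hx2]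

theorem actM_one : actM p y x z (1 : G) = 1 := by
  ext i j
  fin_cases i <;> fin_cases j <;> simp [actM, E.coA_y, E.coA_x, E.coB_x, E.coB_y]

theorem actM_r : actM p y x z r = !![1, 0; 0, -1] := by
  have ey : r * y * r⁻¹ = y := by rw [E.fix_y.eq, mul_inv_cancel_right]
  ext i j
  fin_cases i <;> fin_cases j <;>
    simp [actM, ey, E.inv_x, E.coA_y, E.coB_y, E.coA_inv E.mem_x, E.coB_inv E.mem_x, E.coA_x, E.coB_x]

end MixedExtraspecial

end Cfsg.Agent.GWDihedral
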