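import Cfsg.Agent.Lib.GWDihedral.Setup
import Cfsg.Agent.Lib.GWSeven.Main

/-!
# Gorenstein-Walter, dihedral case: `a = e b` only for `n = 3`

The two order formulas depend on `a` and `b` only through `a / b` up to a factor `b ^ 2`, so the arithmetic of
`GWSeven.order_cases` applies: if `a = e b` with `e ≥ 3` odd, then `n = 3`.

* `DHyp.three_of_ratio` : this, in a simple group
-/

set_option autoImplicit false
set_option linter.style.haveILetI false

namespace Cfsg.Agent.GWDihedral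

open Cfsg Subgroup
open Cfsg.Agent.GWKlein (coreU coreW)

variable {G : Type*} [Group G] [Finite G] {n : ℕ} {t r σ : G}

/-- The arithmetic: `N` is the odd part of `|G|`. -/
theorem ratio_arith {k u b e N : ℕ} {X : ℤ} (hN : Odd N) (hb : Odd b)
    (hX : (e = 3 ∧ X = -15) ∨ (e = 5 ∧ X = -7))
    (hf : (2 : ℚ) ^ (k + 3) * N * b ^ 2 * ((X : ℚ) - 1) ^ 2
      = 2 * X * (X + 1) * (2 ^ (k + 3) * (u : ℚ)) ^ 3 * (1 / (4 * e) + 1 / 4) ^ 2) : k = 0 := by
  have e3 : ((2 : ℚ) ^ (k + 3)) ≠ 0 := pow_ne_zero _ two_ne_zero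
  by_contra hk
  have e8 : (2 : ℚ) ^ k * 2 ^ k = 4 ^ k := by rw [← mul_pow]; norm_num
  obtain ⟨i, hi⟩ := hN.mul (hb.pow (n := 2))
  rcases hX with ⟨rfl, rfl⟩ | ⟨rfl, rfl⟩ <;> push_cast at hf
  · have h : 3 * (N * b ^ 2) = 4 ^ k * (35 * u ^ 3) := by
      have : (3 : ℚ) * ((N : ℚ) * (b : ℚ) ^ 2) = 4 ^ k * (35 * (u : ℚ) ^ 3) := by
        rw [← e8]
        refine mul_left_cancel₀ e3 ?_
        linear_combination (3 / 256 : ℚ) * hf
      exact_mod_cast this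
    obtain ⟨q, hq⟩ : 2 ∣ 4 ^ k * (35 * u ^ 3) := (dvd_pow (by norm_num) hk).mul_right _
    omega
  · have h : 25 * (N * b ^ 2) = 4 ^ k * (189 * u ^ 3) := by
      have : (25 : ℚ) * ((N : ℚ) * (b : ℚ) ^ 2) = 4 ^ k * (189 * (u : ℚ) ^ 3) := by
        rw [← e8]
        refine mul_left_cancel₀ e3 ?_
        linear_combination (25 / 64 : ℚ) * hf
      exact_mod_cast this
    obtain ⟨q, hq⟩ : 2 ∣ 4 ^ k * (189 * u ^ 3) := (dvd_pow (by norm_num) hk).mul_right _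
    omega

/-- In a simple group `a = e b` with `e ≥ 3` odd forces `n = 3`. -/
theorem DHyp.three_of_ratio [IsSimpleGroup G] (h : DHyp n t r σ) {e : ℕ} (he : Odd e) (he3 : 3 ≤ e)
    (hab : Nat.card (coreW t r) = e * Nat.card (coreW t (r * σ))) : n = 3 := by
  haveI := Fact.mk Nat.prime_two
  obtain ⟨k, rfl⟩ := h.exists_add
  obtain ⟨P, hP⟩ := h.sylow
  have hσP : σ ∈ (P : Subgroup G) := hP ▸ subset_closure (Set.mem_insert _ _)
  have hrP : r ∈ (P : Subgroup G) := hP ▸ subset_closure (Set.mem_insert_of_mem _ rfl)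
  have hrel : r * σ⁻¹ * r⁻¹ = σ⁻¹⁻¹ := by
    simpa [mul_assoc] using congrArg (·⁻¹) h.conj_σ
  have hgen : closure ({σ⁻¹, r} : Set G) = (P : Subgroup G) := by
    rw [hP]
    refine le_antisymm ((closure_le _).2 ?_) ((closure_le _).2 ?_)
    · rintro x (rfl | rfl)
      exacts [inv_mem (subset_closure (Set.mem_insert _ _)), subset_closure (Set.mem_insert_of_mem _ rfl)]
    · have h1 : σ⁻¹ ∈ closure ({σ⁻¹, r} : Set G) := subset_closure (Set.mem_insert _ _)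
      rintro x (rfl | rfl)
      exacts [by simpa using inv_mem h1, subset_closure (Set.mem_insert_of_mem _ rfl)]
  have hJ : σ⁻¹ ^ 2 ^ (k + 1) = t := by
    rw [inv_pow, show k + 1 = k + 3 - 2 by omega, ← h.t_eq, Involution.inv_eq h.order_t]
  have hστ : σ⁻¹ * r = r * σ := by
    have e1 := h.conj_σ
    rw [← e1, inv_mul_cancel_right]
  obtain ⟨M, hM⟩ := Blocks.exists_isPModular Nat.prime_two
  obtain ⟨x₁, x₂, x₃, δ₁, δ₂, δ₃, hx₁, hx₂, hx₃, hδ₁, hδ₂, hδ₃, hrel3, ⟨hPc, hdvd⟩, hform, hsec⟩ :=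
    GWSeven.degree_equations M hM k P σ⁻¹ r (inv_mem hσP) hrP
      (by rw [orderOf_inv, h.order_σ, show k + 3 - 1 = k + 2 by omega]) h.order_r hrel hgen
      (by rw [hJ, hστ]; exact ⟨h.isConj_t h.order_r, h.isConj_t h.order_r_mul_σ⟩)
  rw [hJ, hστ, h.card_centralizer, h.card_centralizer_pair, h.swap.card_centralizer_pair, hab] at hform hsec
  push_cast at hform hsec
  set b := Nat.card (coreW t (r * σ)) with hbdef
  set u := Nat.card (coreU t) with hudef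
  set g : ℚ := (Nat.card G : ℚ) * (b : ℚ) ^ 2 with hgdef
  have hb0 : (0 : ℚ) < b := by exact_mod_cast (show 0 < b from Nat.card_pos)
  have hg : (0 : ℚ) < g := mul_pos (by exact_mod_cast Nat.card_pos) (by positivity)
  have he0 : (0 : ℚ) < e := by exact_mod_cast he.pos
  have hu0 : (0 : ℚ) < u := by exact_mod_cast (show 0 < u from Nat.card_pos)
  set X : ℤ := δ₁ * x₁ with hX
  have h8 : (8 : ℤ) ∣ X - 1 := by
    have h1 : (8 : ℤ) ∣ (Nat.card P : ℤ) := ⟨2 ^ k, by rw [hPc]; push_cast; ring⟩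
    rw [hX, show δ₁ * (x₁ : ℤ) - 1 = δ₁ * ((x₁ : ℤ) - δ₁) by rcases hδ₁ with r | r <;> rw [r] <;> ring]
    exact (h1.trans hdvd).mul_left _
  have hXq : (X : ℚ) ≠ 0 := by
    have : X ≠ 0 := by rcases hδ₁ with r | r <;> rw [hX, r] <;> omega
    exact_mod_cast this
  have hc0 : (0 : ℚ) < 2 ^ (k + 3) * u := by positivity
  have hform' : g * ((X : ℚ) - 1) ^ 2
      = 2 * X * (X + 1) * (2 ^ (k + 3) * (u : ℚ)) ^ 3 * (1 / (4 * e) + 1 / 4) ^ 2 := by
    have hf : g * ((x₁ : ℚ) - δ₁) ^ 2 = 2 * (x₁ : ℚ) * ((x₁ : ℚ) + δ₁) * (2 ^ (k + 3) * (u : ℚ)) ^ 3 *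
        (1 / (4 * e) + 1 / 4) ^ 2 := by
      rw [hgdef, mul_right_comm, hform]
      field_simp
    rw [hX]; push_cast
    rcases hδ₁ with r | r <;> rw [r] at hf ⊢ <;> push_cast at hf ⊢ <;> linear_combination hf
  have hX1 : X ≠ 1 := by
    intro e1
    rw [e1] at hform'
    have : (0 : ℚ) < 4 * (2 ^ (k + 3) * (u : ℚ)) ^ 3 * (1 / (4 * e) + 1 / 4) ^ 2 := by positivity
    push_cast at hform'
    refine this.ne' ?_
    linear_combination -hform'
  set Y : ℤ := -δ₂ * x₂ with hY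
  set Z : ℤ := -δ₃ * x₃ with hZ
  have hYq : (Y : ℚ) ≠ 0 := by
    have : Y ≠ 0 := by rcases hδ₂ with r | r <;> rw [hY, r] <;> omega
    exact_mod_cast this
  have hZq : (Z : ℚ) ≠ 0 := by
    have : Z ≠ 0 := by rcases hδ₃ with r | r <;> rw [hZ, r] <;> omega
    exact_mod_cast this
  have hsum : Y + Z = 1 + X := by rw [hX, hY, hZ]; linarith
  have hsec' : g * ((X + 1) * ((Y : ℚ) * Z - X))
      = (2 ^ (k + 3) * (u : ℚ)) ^ 3 / (2 * e) * (X * ((Y : ℚ) * Z)) := by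
    have hs : (Y : ℚ) + Z = 1 + X := by exact_mod_cast hsum
    have e1 : (δ₁ : ℚ) / x₁ = 1 / X := by rw [hX]; push_cast; rcases hδ₁ with r | r <;> rw [r] <;> push_cast <;> field_simp
    have e2 : (δ₂ : ℚ) / x₂ = -(1 / Y) := by rw [hY]; push_cast; rcases hδ₂ with r | r <;> rw [r] <;> push_cast <;> field_simp
    have e3 : (δ₃ : ℚ) / x₃ = -(1 / Z) := by rw [hZ]; push_cast; rcases hδ₃ with r | r <;> rw [r] <;> push_cast <;> field_simp
    rw [e1, e2, e3] at hsec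
    field_simp at hsec
    rw [hgdef]
    field_simp
    refine mul_left_cancel₀ (show (8 : ℚ) ≠ 0 by norm_num) ?_
    linear_combination hsec + 16 * (Nat.card G : ℚ) * (b : ℚ) ^ 2 * e * X * hs
  have hE : (X + 1) ^ 2 * ((e : ℤ) + 1) ^ 2 * (Y * Z - X) = 4 * (e : ℤ) * (X - 1) ^ 2 * (Y * Z) := by
    have key : ((X : ℚ) + 1) ^ 2 * ((e : ℚ) + 1) ^ 2 * (Y * Z - X) = 4 * e * ((X : ℚ) - 1) ^ 2 * (Y * Z) := by
      have h1 : g * ((X : ℚ) - 1) ^ 2 * (16 * (e : ℚ) ^ 2)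
          = 2 * X * (X + 1) * (2 ^ (k + 3) * (u : ℚ)) ^ 3 * (1 + (e : ℚ)) ^ 2 := by
        rw [hform']; field_simp; ring
      have h2 : g * ((X + 1) * ((Y : ℚ) * Z - X)) * (2 * e)
          = (2 ^ (k + 3) * (u : ℚ)) ^ 3 * (X * ((Y : ℚ) * Z)) := by
        rw [hsec']; field_simp
      refine mul_left_cancel₀ (mul_ne_zero (mul_ne_zero (mul_ne_zero two_ne_zero hXq) (pow_ne_zero 3 hc0.ne')) hg.ne') ?_
      linear_combination (-g * (X + 1) * ((Y : ℚ) * Z - X)) * h1 + 8 * (e : ℚ) * g * ((X : ℚ) - 1) ^ 2 * h2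
    exact_mod_cast key
  have hXv : (e = 3 ∧ X = -15) ∨ (e = 5 ∧ X = -7) := by
    rcases GWSeven.degree_cases (a := (e : ℤ)) (by omega) (by exact_mod_cast he) h8 hX1 hsum hE with h' | h' <;>
      omega
  have hodd : Odd (P : Subgroup G).index :=
    Nat.not_even_iff_odd.mp fun h' => P.not_dvd_index (even_iff_two_dvd.mp h')
  have hG : (Nat.card G : ℚ) = 2 ^ (k + 3) * ((P : Subgroup G).index : ℚ) := by
    have : Nat.card G = 2 ^ (k + 3) * (P : Subgroup G).index := by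
      rw [← (P : Subgroup G).card_mul_index, hPc]; ring
    exact_mod_cast this
  rw [hgdef, hG] at hform'
  have := ratio_arith hodd h.swap.odd_coreW hXv hform'
  omega

end Cfsg.Agent.GWDihedral
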