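import Cfsg.Agent.Lib.PSL2.Basic
import Cfsg.Agent.Lib.GLOrder.Torus
import Mathlib.FieldTheory.IsAlgClosed.AlgebraicClosure

/-!
# Gorenstein-Walter, dihedral case: tools for the extraspecial configuration

* `SLTools`: elements and abelian subgroups of order prime to `p` of `SL(2, p)`
* `SLTools.pow_prime_unique`: a subgroup of odd order has at most one subgroup of order `p`
* `exists_delta`: the order formula gives `X = 1 ± 2 ^ n p e T`
-/

set_option autoImplicit false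
set_option linter.unusedSectionVars false
set_option linter.style.haveILetI false

namespace Cfsg.Agent.GWDihedral

namespace SLTools

open Matrix Polynomial
open Cfsg.Agent.PSL2

variable {p : ℕ} [Fact p.Prime]

theorem two_ne_zero_zmod (hp2 : p ≠ 2) : (2 : ZMod p) ≠ 0 := fun h => by
  have h1 : ((2 : ℕ) : ZMod p) = 0 := by exact_mod_cast h
  rw [ZMod.natCast_eq_zero_iff] at h1
  exact hp2 ((Nat.prime_dvd_prime_iff_eq Fact.out Nat.prime_two).1 h1)

/-- An element of order prime to `p` with trace `2` is trivial. -/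
theorem eq_one_of_tr_two {g : SL2 (ZMod p)} (hg : (orderOf g).Coprime p) (h : tr g = 2) : g = 1 := by
  have hN : (g.1 - 1) ^ 2 = 0 := by
    rw [pow_two, sub_mul, mul_sub, one_mul, mul_one, coe_sq, h, two_smul]
    abel
  have hp2 : 2 ≤ p := (Fact.out : p.Prime).two_le
  have h1 : (g.1 - 1) ^ p = g.1 ^ p - 1 ^ p := sub_pow_char_of_commute p (Commute.one_right _)
  rw [pow_eq_zero_of_le hp2 hN, one_pow, eq_comm, sub_eq_zero] at h1
  have hgp : g ^ p = 1 := Subtype.ext (by rw [Matrix.SpecialLinearGroup.coe_pow, h1, Matrix.SpecialLinearGroup.coe_one])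
  exact orderOf_eq_one_iff.1 (hg.eq_one_of_dvd (orderOf_dvd_of_pow_eq_one hgp))

theorem tr_mul_self (g : SL2 (ZMod p)) : tr (g * g) = tr g * tr g - 2 := by
  have h : (g * g).1 = tr g • g.1 - 1 := by rw [Matrix.SpecialLinearGroup.coe_mul, coe_sq]
  simp only [tr] at *
  rw [h]
  simp only [Matrix.sub_apply, Matrix.smul_apply, Matrix.one_apply_eq, smul_eq_mul]
  ring

/-- The trace of a non-central element of order prime to `p`. -/
theorem tr_sq_ne_four (hp2 : p ≠ 2) {g : SL2 (ZMod p)} (hg : (orderOf g).Coprime p)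
    (hc : g ∉ Subgroup.center (SL2 (ZMod p))) : tr g ^ 2 ≠ 4 := by
  intro h
  refine hc (mem_center_of_mul_self (two_ne_zero_zmod hp2) (eq_one_of_tr_two ?_ ?_))
  · rw [← pow_two]
    exact Nat.Coprime.coprime_dvd_left (orderOf_pow_dvd 2) hg
  · rw [tr_mul_self, ← pow_two, h]
    ring

theorem not_center_of_odd {g : SL2 (ZMod p)} (ho : Odd (orderOf g)) (hg : g ≠ 1) :
    g ∉ Subgroup.center (SL2 (ZMod p)) := fun hc => by
  rcases mem_center_iff'.1 hc with h | h
  · exact hg h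
  · have h2 : g ^ 2 = 1 := by rw [h, neg_one_sq]
    rcases (Nat.dvd_prime Nat.prime_two).1 (orderOf_dvd_of_pow_eq_one h2) with h3 | h3
    · exact hg (orderOf_eq_one_iff.1 h3)
    · rw [h3] at ho
      exact absurd ho (by decide)

/-- An element commuting with `g` of the same trace is `g` or `g⁻¹`. -/
theorem eq_or_eq_inv {g x : SL2 (ZMod p)} (hp2 : p ≠ 2) (hg : (orderOf g).Coprime p)
    (hc : g ∉ Subgroup.center (SL2 (ZMod p))) (hx : Commute x g) (ht : tr x = tr g) : x = g ∨ x = g⁻¹ := by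
  obtain ⟨a, b, hab⟩ := exists_lin_of_commute hc (congrArg Subtype.val hx)
  have h2 := two_ne_zero_zmod hp2
  have hd : a ^ 2 + tr g * a * b + b ^ 2 = 1 := by rw [← det_lin, ← hab]; exact x.2
  have htr : 2 * a + tr g * b = tr g := by
    conv_rhs => rw [← ht]
    simp only [tr, hab, lin, Matrix.add_apply, Matrix.smul_apply, Matrix.one_apply_eq, smul_eq_mul]
    ring
  have h4 : (1 - b ^ 2) * (tr g ^ 2 - 4) = 0 := by
    linear_combination 4 * hd - (2 * a + tr g * b + tr g) * htr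
  rcases mul_eq_zero.1 h4 with h | h
  · rcases sq_eq_one_iff.1 (sub_eq_zero.1 h).symm with rfl | rfl
    · have ha : a = 0 := mul_left_cancel₀ h2 (by linear_combination htr)
      exact Or.inl (Subtype.ext (by rw [hab, ha, lin, zero_smul, one_smul, zero_add]))
    · have ha : a = tr g := mul_left_cancel₀ h2 (by linear_combination htr)
      refine Or.inr (eq_inv_of_mul_eq_one_right ?_)
      refine Subtype.ext ?_
      rw [Matrix.SpecialLinearGroup.coe_one, Matrix.SpecialLinearGroup.coe_mul, hab, ha, lin, mul_add, mul_smul_comm,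
        mul_one, neg_one_smul, mul_neg, coe_sq]
      abel
  · exact absurd (sub_eq_zero.1 h) (tr_sq_ne_four hp2 hg hc)

/-- An element of odd order conjugating `g` into its centraliser centralises it. -/
theorem commute_of_conj {g u : SL2 (ZMod p)} (hp2 : p ≠ 2) (hg : (orderOf g).Coprime p)
    (hc : g ∉ Subgroup.center (SL2 (ZMod p))) (hu : Odd (orderOf u)) (h : Commute (u * g * u⁻¹) g) :
    Commute u g := by
  have h2 : Commute (u ^ 2) g := by
    refine mul_inv_eq_iff_eq_mul.1 ?_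
    have e : u ^ 2 * g * (u ^ 2)⁻¹ = u * (u * g * u⁻¹) * u⁻¹ := by rw [pow_two]; group
    rcases eq_or_eq_inv hp2 hg hc h (tr_conj g u) with h' | h'
    · rw [e, h', h']
    · rw [e, h', ← conj_inv, h', inv_inv]
  obtain ⟨j, hj⟩ := hu
  have e : u = (u ^ 2) ^ (j + 1) := by
    rw [← pow_mul, show 2 * (j + 1) = orderOf u + 1 by omega, pow_succ, pow_orderOf_eq_one, one_mul]
  rw [e]
  exact h2.pow_left _

/-- An abelian subgroup of order prime to `p` is cyclic. -/
theorem isCyclic_of_comm (hp2 : p ≠ 2) {A : Subgroup (SL2 (ZMod p))} (hA : ∀ a ∈ A, ∀ b ∈ A, Commute a b)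
    (hco : ∀ a ∈ A, (orderOf a).Coprime p) : IsCyclic A := by
  classical
  let K := AlgebraicClosure (ZMod p)
  by_cases hcen : A ≤ Subgroup.center (SL2 (ZMod p))
  · let f : A →* ZMod p :=
      { toFun := fun a => a.1.1 0 0
        map_one' := by simp
        map_mul' := fun a b => by
          rcases mem_center_iff'.1 (hcen a.2) with ha | ha <;> rcases mem_center_iff'.1 (hcen b.2) with hb | hb <;>
            simp [ha, hb] }
    refine isCyclic_of_subgroup_isDomain f fun a b hab => Subtype.ext ?_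
    have h2 := two_ne_zero_zmod hp2
    rcases mem_center_iff'.1 (hcen a.2) with ha | ha <;> rcases mem_center_iff'.1 (hcen b.2) with hb | hb
    · rw [ha, hb]
    · simp [f, ha, hb] at hab
      exact absurd (by linear_combination hab) h2
    · simp [f, ha, hb] at hab
      exact absurd (by linear_combination -hab) h2
    · rw [ha, hb]
  obtain ⟨g, hgA, hg⟩ := SetLike.not_le_iff_exists.1 hcen
  obtain ⟨ζ, hζ⟩ : ∃ ζ : K, ζ ^ 2 - algebraMap (ZMod p) K (tr g) * ζ + 1 = 0 := by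
    obtain ⟨ζ, hζ⟩ := IsAlgClosed.exists_root (X ^ 2 - C (algebraMap (ZMod p) K (tr g)) * X + 1 : K[X]) (by
      have : (X ^ 2 - C (algebraMap (ZMod p) K (tr g)) * X + 1 : K[X]).degree = 2 := by compute_degree!
      rw [this]; norm_num)
    exact ⟨ζ, by simpa [IsRoot] using hζ⟩
  have huniq : ∀ a b a' b' : ZMod p, lin g a b = lin g a' b' → a = a' ∧ b = b' := by
    intro a b a' b' h
    have e : (b - b') • g.1 = (a' - a) • (1 : Matrix (Fin 2) (Fin 2) (ZMod p)) := by
      rw [lin, lin] at h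
      rw [sub_smul, sub_smul, sub_eq_sub_iff_add_eq_add, add_comm (b • g.1), h]
    by_cases hb : b = b'
    · refine ⟨?_, hb⟩
      have := congrFun (congrFun e 0) 0
      simp [hb] at this
      linear_combination this
    · refine absurd ?_ hg
      have eg : g.1 = ((b - b')⁻¹ * (a' - a)) • (1 : Matrix (Fin 2) (Fin 2) (ZMod p)) := by
        rw [mul_smul, ← e, smul_smul, inv_mul_cancel₀ (sub_ne_zero.2 hb), one_smul]
      refine Subgroup.mem_center_iff.2 fun y => Subtype.ext ?_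
      rw [Matrix.SpecialLinearGroup.coe_mul, Matrix.SpecialLinearGroup.coe_mul, eg, mul_smul_comm, smul_mul_assoc, one_mul,
        mul_one]
  have hlin : ∀ a : A, ∃ c : ZMod p × ZMod p, a.1.1 = lin g c.1 c.2 := fun a => by
    obtain ⟨c, d, h⟩ := exists_lin_of_commute hg (congrArg Subtype.val (hA _ a.2 _ hgA))
    exact ⟨(c, d), h⟩
  choose c hc using hlin
  let φ : ZMod p →+* K := algebraMap (ZMod p) K
  let f : A →* K :=
    { toFun := fun a => φ (c a).1 + φ (c a).2 * ζ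
      map_one' := by
        obtain ⟨e1, e2⟩ := huniq _ _ 1 0 ((hc 1).symm.trans (by simp [lin]))
        simp [e1, e2]
      map_mul' := fun a b => by
        obtain ⟨e1, e2⟩ := huniq _ _ _ _ ((hc (a * b)).symm.trans
          (by rw [Subgroup.coe_mul, Matrix.SpecialLinearGroup.coe_mul, hc a, hc b, lin_mul_lin] :
            ((a * b : A) : SL2 (ZMod p)).1 = lin g ((c a).1 * (c b).1 - (c a).2 * (c b).2)
              ((c a).1 * (c b).2 + (c a).2 * (c b).1 + (c a).2 * (c b).2 * tr g)))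
        show φ _ + φ _ * ζ = _
        rw [e1, e2]
        simp only [map_add, map_sub, map_mul]
        linear_combination -(φ (c a).2 * φ (c b).2) * hζ }
  refine isCyclic_of_subgroup_isDomain f ((injective_iff_map_eq_one f).2 fun a ha => ?_)
  have ha' : φ (c a).1 + φ (c a).2 * ζ = 1 := ha
  have hd : (c a).1 ^ 2 + tr g * (c a).1 * (c a).2 + (c a).2 ^ 2 = 1 := by
    rw [← det_lin, ← hc a]; exact a.1.2
  have hdφ : φ (c a).1 ^ 2 + φ (tr g) * φ (c a).1 * φ (c a).2 + φ (c a).2 ^ 2 = 1 := by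
    have := congrArg φ hd
    simpa using this
  have h0 : φ (c a).2 * (φ (tr g) - 2 * ζ) = 0 := by
    linear_combination hdφ - (φ (c a).1 + φ (c a).2 * (φ (tr g) - ζ) + 1) * ha' - φ (c a).2 ^ 2 * hζ
  have hb : (c a).2 = 0 := by
    rcases mul_eq_zero.1 h0 with h | h
    · exact φ.injective (h.trans (map_zero φ).symm)
    · refine absurd (φ.injective (?_ : φ (tr g ^ 2) = φ 4)) (tr_sq_ne_four hp2 (hco g hgA) hg)
      rw [map_pow, map_ofNat]
      linear_combination (φ (tr g) - 2 * ζ) * h - 4 * hζ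
  have ha1 : (c a).1 = 1 := φ.injective (by rw [hb, map_zero, zero_mul, add_zero] at ha'; rw [ha', map_one])
  refine Subtype.ext (Subtype.ext ?_)
  rw [hc a, ha1, hb]
  simp [lin]

/-- Its order divides `p - 1` or `p + 1`. -/
theorem card_dvd_of_comm (hp2 : p ≠ 2) {A : Subgroup (SL2 (ZMod p))} (hA : ∀ a ∈ A, ∀ b ∈ A, Commute a b)
    (hco : ∀ a ∈ A, (orderOf a).Coprime p) : Nat.card A ∣ p - 1 ∨ Nat.card A ∣ p + 1 := by
  haveI := isCyclic_of_comm hp2 hA hco
  obtain ⟨g, hg⟩ := IsCyclic.exists_ofOrder_eq_natCard (α := A)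
  rw [← hg, ← Subgroup.orderOf_coe]
  simpa [Nat.card_zmod] using orderOf_dvd_of_coprime p (hco g g.2)

theorem sylow_count_arith {n p : ℕ} (hp : 3 ≤ p) (hn : n % p = 1) (ho : Odd n) (hd : n ∣ (p + 1) * (p - 1))
    (hpo : Odd p) : n = 1 := by
  obtain ⟨m, hm⟩ := hd
  obtain ⟨k, rfl⟩ : ∃ k, n = k * p + 1 := ⟨n / p, by rw [← hn, Nat.div_add_mod']⟩
  rcases Nat.eq_zero_or_pos k with rfl | hk
  · simp
  exfalso
  obtain ⟨q, rfl⟩ : ∃ q, p = q + 1 := ⟨p - 1, by omega⟩
  simp only [Nat.add_sub_cancel] at hm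
  have h1 : (q + 1) ∣ m + 1 := by
    rw [← Nat.dvd_add_right (dvd_mul_left (q + 1) (k * m))]
    exact ⟨q + 1, by linarith⟩
  obtain ⟨l, hl⟩ := h1
  have hl1 : 1 ≤ l := by
    rcases Nat.eq_zero_or_pos l with rfl | h
    · simp at hl
    · exact h
  have key : (k : ℤ) * ((l : ℤ) * (q + 1) - 1) = (q + 1) - l := by
    have e1 : ((q : ℤ) + 1 + 1) * q = ((k : ℤ) * (q + 1) + 1) * m := by exact_mod_cast hm
    have e2 : (m : ℤ) + 1 = ((q : ℤ) + 1) * l := by exact_mod_cast hl
    refine mul_left_cancel₀ (show ((q : ℤ) + 1) ≠ 0 by positivity) ?_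
    linear_combination -e1 - ((k : ℤ) * (q + 1) + 1) * e2
  have hk' : (1 : ℤ) ≤ k := by exact_mod_cast hk
  have hl' : (1 : ℤ) ≤ l := by exact_mod_cast hl1
  have hq : (2 : ℤ) ≤ q := by omega
  rcases eq_or_lt_of_le hl' with hl2 | hl2
  · rw [← hl2] at key
    have hk1 : (k : ℤ) = 1 := mul_right_cancel₀ (show (q : ℤ) ≠ 0 by omega) (by linear_combination key)
    have : k = 1 := by exact_mod_cast hk1
    subst this
    obtain ⟨i, hi⟩ := ho
    obtain ⟨j, hj⟩ := hpo
    omega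
  · nlinarith

/-- A subgroup of odd order has at most one subgroup of order `p`. -/
theorem pow_prime_unique (hp2 : p ≠ 2) {U : Subgroup (SL2 (ZMod p))} (hU : Odd (Nat.card U))
    {g h : SL2 (ZMod p)} (hgU : g ∈ U) (hhU : h ∈ U) (hg : g ^ p = 1) (hg1 : g ≠ 1) (hh : h ^ p = 1) :
    h ∈ Subgroup.zpowers g := by
  have hp := (Fact.out : p.Prime)
  have hcard : Nat.card U ∣ p * (p + 1) * (p - 1) := by
    have := U.card_subgroup_dvd_card
    rwa [GLOrder.card_SL_two', Nat.card_zmod] at this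
  have hgo : orderOf (⟨g, hgU⟩ : U) = p := by rw [Subgroup.orderOf_mk]; exact orderOf_eq_prime hg hg1
  obtain ⟨P, hP⟩ := (IsPGroup.of_card (n := 1) (p := p) (G := Subgroup.zpowers (⟨g, hgU⟩ : U))
    (by rw [Nat.card_zpowers, hgo, pow_one])).exists_le_sylow
  have hpU : p ∣ Nat.card U := hgo.symm.dvd.trans (orderOf_dvd_natCard _)
  have hnd : ¬ p ∣ (p + 1) * (p - 1) := fun hd => by
    rcases hp.dvd_mul.1 hd with hd | hd
    · exact hp.not_dvd_one ((Nat.dvd_add_right (dvd_refl p)).1 hd)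
    · exact absurd (Nat.le_of_dvd (by have := hp.two_le; omega) hd) (by have := hp.pos; omega)
  have hf : (Nat.card U).factorization p = 1 := by
    refine le_antisymm ?_ ((hp.dvd_iff_one_le_factorization Nat.card_pos.ne').1 hpU)
    by_contra hlt
    have h2 := ((hp.pow_dvd_iff_le_factorization Nat.card_pos.ne').2 (not_le.1 hlt)).trans hcard
    rw [pow_two, mul_assoc p] at h2
    exact hnd (Nat.dvd_of_mul_dvd_mul_left hp.pos h2)
  have hPg : Subgroup.zpowers (⟨g, hgU⟩ : U) = P := Subgroup.eq_of_le_of_card_ge hP (by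
    rw [Nat.card_zpowers, hgo, P.card_eq_multiplicity, hf, pow_one])
  haveI : Subsingleton (Sylow p U) := by
    refine (Nat.card_eq_one_iff_unique.1 ?_).1
    set m := Nat.card (Sylow p U)
    have hm1 : m % p = 1 := by
      have h0 := card_sylow_modEq_one p U
      rwa [Nat.ModEq, Nat.one_mod_eq_one.2 hp.ne_one] at h0
    have hmU : m ∣ Nat.card U := (Sylow.card_dvd_index P).trans (P : Subgroup U).index_dvd_card
    refine sylow_count_arith (by have := hp.two_le; omega) hm1 (hU.of_dvd_nat hmU) ?_ (hp.odd_of_ne_two hp2)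
    have hcop : m.Coprime p := by
      rw [Nat.coprime_comm, hp.coprime_iff_not_dvd, Nat.dvd_iff_mod_eq_zero, hm1]; omega
    refine hcop.dvd_of_dvd_mul_left ?_
    rw [← mul_assoc]
    exact hmU.trans hcard
  obtain ⟨Q, hQ⟩ := (IsPGroup.of_card (n := (orderOf (⟨h, hhU⟩ : U)).factorization p) (p := p)
    (G := Subgroup.zpowers (⟨h, hhU⟩ : U)) (by
      rw [Nat.card_zpowers]
      rcases (Nat.dvd_prime hp).1 (orderOf_dvd_of_pow_eq_one (show (⟨h, hhU⟩ : U) ^ p = 1 from Subtype.ext hh))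
        with e | e <;> rw [e]
      · simp
      · rw [hp.factorization_self, pow_one])).exists_le_sylow
  have hmem : (⟨h, hhU⟩ : U) ∈ Subgroup.zpowers (⟨g, hgU⟩ : U) := by
    rw [hPg, Subsingleton.elim P Q]; exact hQ (Subgroup.mem_zpowers _)
  obtain ⟨i, hi⟩ := hmem
  exact ⟨i, congrArg Subtype.val hi⟩

end SLTools

/-- The index `N` of `C(t)` is prime to `p T` and `1` modulo `p`: this determines `X`. -/
theorem exists_delta {n N p e T : ℕ} {X : ℤ} (hp : p.Prime) (hp2 : p ≠ 2) (he : 2 * e ≤ p + 1) (heo : Odd e)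
    (hT : 0 < T) (hn : 1 ≤ n) (hX : (2 : ℤ) ^ n ∣ X - 1) (hX1 : X ≠ 1)
    (heq : (N : ℤ) * (X - 1) ^ 2 = 2 ^ (2 * n - 1) * ((p : ℤ) * e * T) ^ 2 * (X * (X + 1)))
    (hco : N.Coprime (p * T)) (hmod : N % p = 1) :
    ∃ δ : ℤ, (δ = 1 ∨ δ = -1) ∧ X = 1 + δ * 2 ^ n * ((p : ℤ) * e * T) ∧ 2 * (N : ℤ) = X * (X + 1) := by
  have he0 : 0 < e := heo.pos
  obtain ⟨m, hm⟩ := hX
  obtain ⟨k, rfl⟩ : ∃ k, n = k + 1 := ⟨n - 1, by omega⟩
  have hXm : X = 1 + 2 ^ (k + 1) * m := by linear_combination hm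
  set P : ℤ := (p : ℤ) * e * T with hPdef
  set W := X * (1 + 2 ^ k * m) with hW
  have hm0 : m ≠ 0 := fun h => hX1 (by rw [hXm, h]; ring)
  have heq' : (N : ℤ) * m ^ 2 = P ^ 2 * W := by
    refine mul_left_cancel₀ (pow_ne_zero 2 (pow_ne_zero (k + 1) (two_ne_zero : (2 : ℤ) ≠ 0))) ?_
    rw [hm, show 2 * (k + 1) - 1 = k + 1 + k by omega, pow_add] at heq
    rw [hW]
    linear_combination heq + 2 ^ (k + 1) * 2 ^ k * P ^ 2 * X * hXm
  have hcm : IsCoprime (m ^ 2) W := by
    refine IsCoprime.pow_left (IsCoprime.mul_right ?_ ?_)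
    · exact ⟨-(2 ^ (k + 1)), 1, by rw [hXm]; ring⟩
    · exact ⟨-(2 ^ k), 1, by ring⟩
  have hmP : m ∣ P := (Int.pow_dvd_pow_iff two_ne_zero).1 (hcm.dvd_of_dvd_mul_right ⟨N, by linear_combination -heq'⟩)
  obtain ⟨f, hf⟩ := hmP
  have hN : (N : ℤ) = f ^ 2 * W := mul_left_cancel₀ (pow_ne_zero 2 hm0) (by
    rw [hf] at heq'; linear_combination heq')
  set F := f.natAbs with hF
  have hFN : F ∣ N := by
    have h1 : f ∣ (N : ℤ) := ⟨f * W, by rw [hN]; ring⟩
    rwa [← Int.natAbs_dvd_natAbs, Int.natAbs_natCast] at h1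
  have hFco : F.Coprime (p * T) := Nat.Coprime.coprime_dvd_left hFN hco
  have hFe : F ∣ e := by
    have h1 : f ∣ P := ⟨m, by rw [hf]; ring⟩
    rw [← Int.natAbs_dvd_natAbs, hPdef, Int.natAbs_mul, Int.natAbs_mul, Int.natAbs_natCast, Int.natAbs_natCast,
      Int.natAbs_natCast, mul_comm p e, mul_assoc] at h1
    exact hFco.dvd_of_dvd_mul_right h1
  have hP : Prime (p : ℤ) := Nat.prime_iff_prime_int.1 hp
  have hpf : ¬ (p : ℤ) ∣ f := fun h => hp.one_lt.ne' <| Nat.eq_one_of_dvd_coprimes hFco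
    (by rwa [← Int.natAbs_dvd_natAbs, Int.natAbs_natCast] at h) (dvd_mul_right p T)
  have hpm : (p : ℤ) ∣ m := (hP.dvd_or_dvd (hf ▸ (⟨(e : ℤ) * T, by rw [hPdef]; ring⟩ : (p : ℤ) ∣ P))).resolve_right hpf
  have hpN : (p : ℤ) ∣ f ^ 2 - 1 := by
    have hN1 : 1 ≤ N := by
      rcases Nat.eq_zero_or_pos N with rfl | h
      · simp at hmod
      · exact h
    have h1 : (p : ℤ) ∣ (N : ℤ) - 1 := by
      have h0 : Nat.ModEq p 1 N := by rw [Nat.ModEq, hmod, Nat.one_mod_eq_one.2 hp.ne_one]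
      simpa using (Nat.modEq_iff_dvd.1 h0)
    obtain ⟨j, hj⟩ := hpm
    have h2 : (p : ℤ) ∣ W - 1 :=
      ⟨j * (2 ^ (k + 1) + 2 ^ k + 2 ^ (k + 1) * 2 ^ k * m), by rw [hW, hXm, hj]; ring⟩
    have h3 := dvd_sub h1 (h2.mul_left (f ^ 2))
    refine h3.trans (dvd_of_eq ?_)
    rw [hN]; ring
  have hF1 : F = 1 := by
    have hF0 : 0 < F := Nat.pos_of_dvd_of_pos hFe he0
    have hFle := Nat.le_of_dvd he0 hFe
    have h1 : (p : ℤ) ∣ ((F : ℤ) - 1) * ((F : ℤ) + 1) := by
      have : (F : ℤ) ^ 2 = f ^ 2 := by rw [hF, Int.natCast_natAbs, sq_abs]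
      refine hpN.trans (dvd_of_eq ?_)
      rw [← this]; ring
    have h2p := hp.two_le
    rcases hP.dvd_or_dvd h1 with h | h
    · have := Int.eq_zero_of_abs_lt_dvd h (by rw [abs_of_nonneg (by omega)]; omega)
      omega
    · have := Int.le_of_dvd (by omega) h
      obtain ⟨j, hj⟩ := heo.of_dvd_nat hFe
      omega
  have hf1 : f = 1 ∨ f = -1 := Int.natAbs_eq_iff.1 (hF ▸ hF1 : f.natAbs = 1) |>.imp (by simp) (by simp)
  have hff : f * f = 1 := by rcases hf1 with h | h <;> rw [h] <;> rfl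
  refine ⟨f, hf1, ?_, ?_⟩
  · rw [hXm, show f * 2 ^ (k + 1) * P = 2 ^ (k + 1) * m * (f * f) by rw [hf]; ring, hff, mul_one]
  · rw [hN, hW, hXm, pow_two, hff]; ring

end Cfsg.Agent.GWDihedral
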