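import Cfsg.Agent.Lib.GWDihedral.Steps
import Cfsg.Agent.Lib.GWDihedral.Induction
import Cfsg.Agent.Lib.GWDihedral.SidesBasic
import Cfsg.Agent.Lib.GWDihedral.Subgroup
import Cfsg.Agent.Lib.GWReduce.Basic
import Cfsg.Agent.Lib.GWKlein.General.Basics
import Cfsg.Agent.Lib.PGroup.Basic
import Cfsg.Agent.Lib.Transfer.DihedralFusion

/-!
# Gorenstein-Walter, dihedral Sylow subgroups of order at least eight: tools for MAX and SYLOW

* `DHyp.agrees_fourV` : without rotations the four-group has no more automorphisms than in the Sylow subgroup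
* `DHyp.odd_mem_oddPart` : a subgroup over `⟨σ, r⟩` fused on neither four-group is `O(H) ⟨σ, r⟩`
* `commute_of_commute_fixed` : an element inverted by `r` centralising the fixed points of `r` on an invariant
  `p`-group centralises it, if its order is prime to `p`
-/

set_option autoImplicit false
set_option linter.unusedSectionVars false
set_option linter.style.haveILetI false

namespace Cfsg.Agent.GWDihedral

open Subgroup
open scoped commutatorElement
open Cfsg.Agent.GWKlein (coreU coreW fourV oddPart)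

variable {G : Type*} [Group G] [Finite G] {n : ℕ} {t r σ : G}

namespace DHyp

/-- Without rotations the normaliser of the four-group fixes `t`. -/
theorem conj_t_of_not_rot (h : DHyp n t r σ) (hno : ∀ s, ¬ Rot t r s) {g : G}
    (hg : g ∈ normalizer (fourV t r : Set G)) : g * t * g⁻¹ = t := by
  have htV := GWKlein.left_mem_fourV t r
  have hrV := GWKlein.right_mem_fourV t r
  have hperm : ∀ x ∈ fourV t r, x ≠ 1 → g * x * g⁻¹ = t ∨ g * x * g⁻¹ = r ∨ g * x * g⁻¹ = t * r :=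
    fun x hx hx1 => (h.mem_fourV_iff.1 ((mem_normalizer_iff.1 hg x).1 hx)).resolve_left
      fun e => hx1 (conj_eq_one_iff.1 e)
  obtain ⟨y, -, hyt, hyr⟩ := h.exists_quarter
  have hytc : y * t * y⁻¹ = t := by rw [hyt.eq, mul_inv_cancel_right]
  -- the inverse of a rotation in the other direction
  have back : ∀ w : G, w * r * w⁻¹ = t → w * t * w⁻¹ = t * r → False := by
    intro w e1 e2
    refine hno w⁻¹ ⟨?_, ?_⟩
    · conv_lhs => rw [← e1]
      group
    · have e3 : w * (t * r) * w⁻¹ = r := by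
        rw [← _root_.conj_mul, e2, e1, mul_assoc, h.comm_t_r.symm.eq, ← mul_assoc, h.mul_self_t, one_mul]
      conv_lhs => rw [← e3]
      group
  have hgy : g * y * t * (g * y)⁻¹ = g * t * g⁻¹ ∧
      g * y * r * (g * y)⁻¹ = (g * t * g⁻¹) * (g * r * g⁻¹) := by
    constructor
    · rw [show g * y * t * (g * y)⁻¹ = g * (y * t * y⁻¹) * g⁻¹ by group, hytc]
    · rw [show g * y * r * (g * y)⁻¹ = g * (y * r * y⁻¹) * g⁻¹ by group, hyr, ← _root_.conj_mul]
  rcases hperm t htV h.ne_one_t with e1 | e1 | e1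
  · exact e1
  · exfalso
    rcases hperm r hrV h.ne_one_r with e2 | e2 | e2
    · refine hno (g * y) ⟨by rw [hgy.1, e1], ?_⟩
      rw [hgy.2, e1, e2, h.comm_t_r.eq]
    · exact h.ne (conj_injective (e1.trans e2.symm))
    · exact hno g ⟨e1, e2⟩
  · exfalso
    rcases hperm r hrV h.ne_one_r with e2 | e2 | e2
    · exact back g e2 e1
    · refine back (g * y) ?_ (by rw [hgy.1, e1])
      rw [hgy.2, e1, e2, mul_assoc, h.mul_self_r, mul_one]
    · exact h.ne (conj_injective (e1.trans e2.symm))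

/-- Without rotations the four-group has the automorphisms induced by the Sylow subgroup only. -/
theorem agrees_fourV (h : DHyp n t r σ) (hno : ∀ s, ¬ Rot t r s) :
    Transfer.Agrees (closure ({σ, r} : Set G)) (fourV t r) := by
  intro g hg
  have hgt := h.conj_t_of_not_rot hno hg
  have hgr := (h.mem_fourV_iff.1 ((mem_normalizer_iff.1 hg r).1 (GWKlein.right_mem_fourV t r))).resolve_left
    fun e => h.ne_one_r (conj_eq_one_iff.1 e)
  obtain ⟨u, hu, hut, hur⟩ : ∃ u ∈ closure ({σ, r} : Set G), u * t * u⁻¹ = t ∧ u * r * u⁻¹ = g * r * g⁻¹ := by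
    rcases hgr with e | e | e
    · exact absurd (conj_injective (e.trans hgt.symm)) (Ne.symm h.ne)
    · exact ⟨1, one_mem _, by simp, by simp [e]⟩
    · obtain ⟨y, hy, hyt, hyr⟩ := h.exists_quarter
      exact ⟨y, zpowers_le.2 h.sylow_mem_σ hy, by rw [hyt.eq, mul_inv_cancel_right], hyr.trans e.symm⟩
  refine ⟨u, hu, fun q hq => ?_⟩
  rcases h.mem_fourV_iff.1 hq with e | e | e | e <;> subst q
  · simp
  · rw [hut, hgt]
  · exact hur
  · rw [← _root_.conj_mul, hut, hur]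
    conv_rhs => rw [← _root_.conj_mul, hgt]

/-- Without rotations on either four-group: a normal 2-complement. -/
theorem mem_oddCore_of_not_rot (h : DHyp n t r σ) (h1 : ∀ s, ¬ Rot t r s)
    (h2 : ∀ s, ¬ Rot t (r * σ) s) :
    (∀ x : G, Odd (orderOf x) → x ∈ Cfsg.oddCore G) ∧
      ∀ g : G, ∃ y ∈ Cfsg.oddCore G, ∃ v ∈ closure ({σ, r} : Set G), g = y * v := by
  haveI := Fact.mk Nat.prime_two
  obtain ⟨P, hP, ⟨e⟩⟩ := h.exists_equiv
  have hc : HasNormalPComplement 2 G := by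
    refine Transfer.hasNormalPComplement_of_agrees P (by positivity) e fun U hUP hU => ?_
    rw [hP] at hUP ⊢
    have htU : t ∈ U := GWReduce.mem_of_centralizes_klein P (by positivity) e hU h.mul_self_t
      (mem_centralizer_iff.2 fun x hx =>
        (mem_centralizer_singleton_iff.1 (h.sylow_le_centralizer (hUP hx))))
    haveI := hU
    obtain ⟨x, hx, hx1, hxt⟩ : ∃ x ∈ U, x ≠ 1 ∧ x ≠ t := by
      by_contra hno
      push Not at hno
      have hle : (U : Set G) ⊆ {1, t} := fun x hx => by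
        by_cases hx1 : x = 1
        · exact Or.inl hx1
        · exact Or.inr (hno x hx hx1)
      have h4 := Set.ncard_le_ncard hle
      rw [← Nat.card_coe_set_eq, SetLike.coe_sort_coe, hU.card_four, Set.ncard_pair h.ne_one_t.symm] at h4
      omega
    have hxo : orderOf x = 2 := by
      have := Monoid.pow_exponent_eq_one (⟨x, hx⟩ : U)
      rw [hU.exponent_two] at this
      exact orderOf_eq_prime (congrArg Subtype.val this) hx1
    rcases h.mem_sylow_cases (hUP hx) with ⟨k, hk⟩ | ⟨k, hk⟩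
    · exact absurd (hk.trans (h.eq_t_of_rotation (hk ▸ hxo))) hxt
    -- conjugate to one of the two reflections
    have key : ∀ ρ : G, fourV t ρ ≤ closure ({σ, r} : Set G) → Nat.card (fourV t ρ) = 4 →
        Transfer.Agrees (closure ({σ, r} : Set G)) (fourV t ρ) → ∀ a ∈ closure ({σ, r} : Set G),
          a * ρ * a⁻¹ = x → Transfer.Agrees (closure ({σ, r} : Set G)) U := by
      intro ρ _ hcard hA a ha hax
      have hat : a * t * a⁻¹ = t := by
        rw [mem_centralizer_singleton_iff.1 (h.sylow_le_centralizer ha), mul_inv_cancel_right]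
      have : (fourV t ρ).map (MulAut.conj a).toMonoidHom = U := by
        refine eq_of_le_of_card_ge ?_ ?_
        · rw [map_le_iff_le_comap]
          exact GWKlein.fourV_le_iff.2 ⟨mem_comap.2 (show a * t * a⁻¹ ∈ U from hat.symm ▸ htU),
            mem_comap.2 (show a * ρ * a⁻¹ ∈ U from hax.symm ▸ hx)⟩
        · rw [card_map_of_injective (MulAut.conj a).injective, hcard, hU.card_four]
      exact this ▸ Transfer.agrees_map_conj hA ha
    obtain ⟨m, hm⟩ := Nat.even_or_odd' k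
    have ha : (σ ^ m)⁻¹ ∈ closure ({σ, r} : Set G) := inv_mem (pow_mem h.sylow_mem_σ m)
    have e1 : r * (σ ^ m)⁻¹ = σ ^ m * r := by
      rw [← Involution.inverts_pow h.conj_σ m, Involution.inv_eq h.order_r, ← mul_assoc, ← mul_assoc,
        h.mul_self_r, one_mul]
    have e2 : (σ ^ m)⁻¹ * r = r * σ ^ m := by
      rw [inv_mul_eq_iff_eq_mul, ← mul_assoc, ← e1, inv_mul_cancel_right]
    rcases hm with hm | hm
    · refine key r h.fourV_le_sylow h.card_fourV (h.agrees_fourV h1) _ ha ?_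
      rw [hk, hm, inv_inv, e2, mul_assoc, ← pow_add, two_mul]
    · refine key (r * σ) (h.swap.fourV_le_sylow.trans h.closure_swap.le) h.swap.card_fourV
        (h.closure_swap ▸ h.swap.agrees_fourV h2) _ ha ?_
      rw [hk, hm, inv_inv, ← mul_assoc, e2, mul_assoc, mul_assoc, ← pow_succ', ← pow_add]
      congr 2
      omega
  have hle : pResidual 2 G ≤ pPrimeCore 2 G :=
    Cores.le_pPrimeCore inferInstance (Transfer.hasNormalPComplement_iff_coprime.mp hc)
  refine ⟨fun x hx => hle ((Transfer.mem_pResidual_iff hc _).2 (Nat.coprime_two_right.2 hx)), fun g => ?_⟩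
  have hK := (Transfer.isComplement'_pResidual_iff P).mpr (Transfer.hasNormalPComplement_iff_coprime.mp hc)
  obtain ⟨⟨y, v⟩, hyv⟩ := hK.surjective g
  exact ⟨y, hle y.2, v, hP ▸ v.2, hyv.symm⟩

/-- A subgroup over the Sylow subgroup fused on neither four-group is `O(H) ⟨σ, r⟩`. -/
theorem odd_mem_oddPart (h : DHyp n t r σ) {H : Subgroup G} (hS : closure ({σ, r} : Set G) ≤ H)
    (h1 : ¬ Fused t r H) (h2 : ¬ Fused t (r * σ) H) :
    (∀ x ∈ H, Odd (orderOf x) → x ∈ oddPart H) ∧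
      ∀ g ∈ H, ∃ y ∈ oddPart H, ∃ v ∈ closure ({σ, r} : Set G), g = y * v := by
  have h' := h.subgroup hS
  obtain ⟨ha, hb⟩ := h'.mem_oddCore_of_not_rot
    (fun s hs => h1 ⟨s, s.2, congrArg Subtype.val hs.1, congrArg Subtype.val hs.2⟩)
    (fun s hs => h2 ⟨s, s.2, congrArg Subtype.val hs.1, congrArg Subtype.val hs.2⟩)
  refine ⟨fun x hx ho => ⟨⟨x, hx⟩, ha _ (by rwa [Subgroup.orderOf_mk]), rfl⟩, fun g hg => ?_⟩
  obtain ⟨y, hy, v, hv, e⟩ := hb ⟨g, hg⟩
  refine ⟨y, ⟨y, hy, rfl⟩, v, ?_, congrArg Subtype.val e⟩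
  have h3 : (v : G) ∈ (closure ({⟨σ, h.mem_σ hS⟩, ⟨r, h.mem_r hS⟩} : Set H)).map H.subtype := ⟨v, hv, rfl⟩
  rw [MonoidHom.map_closure, Set.image_pair] at h3
  exact h3

end DHyp

variable {p q : ℕ} [Fact p.Prime]

/-- An element of order prime to `p` inverted by `r` and centralising the fixed points of `r` on an invariant
`p`-group centralises the group. -/
theorem commute_of_commute_fixed (hp : p ≠ 2) (hq : q.Prime) (hqp : q ≠ p) {e : G} (he : e ^ q = 1)
    (heo : Odd (orderOf e)) (hr : r * r = 1) (hinv : r * e * r⁻¹ = e⁻¹) {Q : Subgroup G}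
    (hQ : IsPGroup p Q) (heQ : e ∈ normalizer (Q : Set G)) (hrQ : r ∈ normalizer (Q : Set G))
    (hfix : ∀ y ∈ Q, Commute y r → Commute e y) : ∀ x ∈ Q, Commute e x := by
  obtain ⟨k, hk⟩ : ∃ k, k = Nat.card Q := ⟨_, rfl⟩
  induction k using Nat.strong_induction_on generalizing Q with
  | _ k ih =>
  rcases eq_or_ne Q ⊥ with hQ1 | hQ1
  · intro x hx
    rw [hQ1, mem_bot] at hx
    exact hx ▸ Commute.one_right e
  have hlt : ⁅Q, Q⁆ < Q := by
    haveI : Nontrivial Q := (nontrivial_iff_ne_bot Q).2 hQ1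
    have h1 : ⁅(⊤ : Subgroup Q), ⊤⁆ < (⊤ : Subgroup Q) := PGroup.commutator_lt_of_ne_bot hQ top_ne_bot
    have h2 := (Subgroup.map_lt_map_iff_of_injective Q.subtype_injective).2 h1
    rwa [map_commutator, ← MonoidHom.range_eq_map, range_subtype] at h2
  have hN : ∀ g ∈ normalizer (Q : Set G), g ∈ normalizer ((⁅Q, Q⁆ : Subgroup G) : Set G) := fun g hg => by
    refine Coprime.mem_normalizer_of_forall fun y hy => ?_
    have h1 : (MulAut.conj g).toMonoidHom y ∈ (⁅Q, Q⁆).map (MulAut.conj g).toMonoidHom := mem_map_of_mem _ hy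
    rw [map_commutator] at h1
    have hle : Q.map (MulAut.conj g).toMonoidHom ≤ Q := by
      rintro _ ⟨z, hz, rfl⟩
      exact (mem_normalizer_iff.1 hg z).1 hz
    exact commutator_mono hle hle h1
  have hQ' : ∀ x ∈ ⁅Q, Q⁆, Commute e x :=
    ih _ (hk ▸ lt_of_not_ge fun hge => hlt.ne (eq_of_le_of_card_ge hlt.le hge)) (hQ.to_le hlt.le) (hN e heQ)
      (hN r hrQ) (fun y hy => hfix y (hlt.le hy)) rfl
  -- the part centralised by `e` is normal
  have hFn : ∀ a ∈ Q, ∀ y ∈ Q, Commute e y → a * y * a⁻¹ ∈ Q ∧ Commute e (a * y * a⁻¹) := fun a ha y hy hc => by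
    refine ⟨mul_mem (mul_mem ha hy) (inv_mem ha), ?_⟩
    rw [show a * y * a⁻¹ = ⁅a, y⁆ * y by rw [commutatorElement_def]; group]
    exact (hQ' _ (commutator_mem_commutator ha hy)).mul_right hc
  have hodd : ∀ x ∈ Q, Odd (orderOf x) := fun x hx => by
    obtain ⟨i, hi⟩ := hQ ⟨x, hx⟩
    exact (((Fact.out : p.Prime).odd_of_ne_two hp).pow).of_dvd_nat
      (orderOf_dvd_of_pow_eq_one (congrArg Subtype.val hi))
  have hrr : r⁻¹ = r := inv_eq_of_mul_eq_one_right hr
  -- fixed times inverted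
  have dec : ∀ x ∈ Q, ∃ y ∈ Q, ∃ m ∈ Q, Commute y r ∧ r * m * r⁻¹ = m⁻¹ ∧ x = y * m := by
    intro x hx
    set m₀ := (r * x * r⁻¹)⁻¹ * x with hm₀
    have hm₀Q : m₀ ∈ Q := mul_mem (inv_mem ((mem_normalizer_iff.1 hrQ x).1 hx)) hx
    have hm₀i : r * m₀ * r⁻¹ = m₀⁻¹ := by
      rw [hm₀]
      calc r * ((r * x * r⁻¹)⁻¹ * x) * r⁻¹ = (r * r) * x⁻¹ * (r * r)⁻¹ * (r * x * r⁻¹) := by group
        _ = ((r * x * r⁻¹)⁻¹ * x)⁻¹ := by rw [hr]; group
    obtain ⟨j, hj⟩ := GWKlein.exists_sq_pow_eq (hodd _ hm₀Q)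
    have hmi : r * m₀ ^ j * r⁻¹ = (m₀ ^ j)⁻¹ := by rw [← conj_pow, hm₀i, inv_pow]
    have hm2 : m₀ ^ j * m₀ ^ j = m₀ := by rw [← pow_two, ← pow_mul, mul_comm j 2, pow_mul, hj]
    refine ⟨x * (m₀ ^ j)⁻¹, mul_mem hx (inv_mem (pow_mem hm₀Q j)), m₀ ^ j, pow_mem hm₀Q j, ?_, hmi,
      (inv_mul_cancel_right _ _).symm⟩
    refine (mul_inv_eq_iff_eq_mul.1 ?_).symm
    calc r * (x * (m₀ ^ j)⁻¹) * r⁻¹ = (r * x * r⁻¹) * (r * m₀ ^ j * r⁻¹)⁻¹ := by group
      _ = x * ((r * x * r⁻¹)⁻¹ * x)⁻¹ * m₀ ^ j := by rw [hmi, inv_inv]; group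
      _ = x * (m₀ ^ j * m₀ ^ j)⁻¹ * m₀ ^ j := by rw [hm2, hm₀]
      _ = x * (m₀ ^ j)⁻¹ := by group
  intro x hx
  obtain ⟨y, hy, m, hm, hyr, hmi, rfl⟩ := dec x hx
  refine (hfix y hy hyr).mul_right (GWKlein.commute_of_sq heo ?_)
  -- `e ^ 2` moves `m` by a fixed element
  set m' := e * m * e⁻¹ with hm'
  obtain ⟨y', hy', m₁, hm₁, hy'r, hm₁i, hdec⟩ := dec m' ((mem_normalizer_iff.1 heQ m).1 hm)
  set f := m' * (r * m' * r⁻¹) with hf
  have hf1 : f = y' * (m₁ * y' * m₁⁻¹) := by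
    rw [hf, hdec, ← _root_.conj_mul, GWKlein.conj_eq_of_commute hy'r, hm₁i]
    group
  have hfc : Commute e f := hf1 ▸ (hfix y' hy' hy'r).mul_right (hFn m₁ hm₁ y' hy' (hfix y' hy' hy'r)).2
  have hfQ : f ∈ Q := hf1 ▸ mul_mem hy' (hFn m₁ hm₁ y' hy' (hfix y' hy' hy'r)).1
  have hf2 : f = e * m * e⁻¹ * (e⁻¹ * m⁻¹ * e) := by
    rw [hf, hm', show r * (e * m * e⁻¹) * r⁻¹ = r * e * r⁻¹ * (r * m * r⁻¹) * (r * e * r⁻¹)⁻¹ by group, hinv,
      hmi, inv_inv]
  have hstep : e ^ 2 * m * (e ^ 2)⁻¹ = f * m := by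
    have h1 : e * f * e⁻¹ = f := by rw [hfc.eq, mul_inv_cancel_right]
    rw [← h1, hf2, pow_two]
    group
  have hpow : ∀ i : ℕ, (e ^ 2) ^ i * m * ((e ^ 2) ^ i)⁻¹ = f ^ i * m := by
    intro i
    induction i with
    | zero => simp
    | succ i hi =>
      calc (e ^ 2) ^ (i + 1) * m * ((e ^ 2) ^ (i + 1))⁻¹ = e ^ 2 * ((e ^ 2) ^ i * m * ((e ^ 2) ^ i)⁻¹) * (e ^ 2)⁻¹ := by
            rw [pow_succ' (e ^ 2)]; group
        _ = e ^ 2 * f ^ i * (e ^ 2)⁻¹ * (e ^ 2 * m * (e ^ 2)⁻¹) := by rw [hi]; group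
        _ = f ^ i * (f * m) := by rw [((hfc.pow_left 2).pow_right i).eq, mul_inv_cancel_right, hstep]
        _ = _ := by rw [pow_succ, ← mul_assoc]
  have hq1 := hpow q
  rw [← pow_mul, mul_comm 2 q, pow_mul, he, one_pow, one_mul, inv_one, mul_one, eq_comm, mul_eq_right] at hq1
  obtain ⟨i, hi⟩ := hQ ⟨f, hfQ⟩
  have hf0 : f = 1 := orderOf_eq_one_iff.1 (Nat.eq_one_of_dvd_coprimes
    (((Nat.coprime_primes hq Fact.out).2 hqp).pow_right i)
    (orderOf_dvd_of_pow_eq_one hq1) (orderOf_dvd_of_pow_eq_one (congrArg Subtype.val hi)))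
  rw [hf0, one_mul] at hstep
  exact mul_inv_eq_iff_eq_mul.1 hstep

end Cfsg.Agent.GWDihedral
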