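import Cfsg.Agent.Lib.GWDihedral.StepsB
import Cfsg.Agent.Lib.GWDihedral.MaxTools
import Cfsg.Agent.Lib.GWDihedral.SidesFunctor
import Cfsg.Agent.Lib.GWDihedral.Beta
import Cfsg.Agent.Lib.GWDihedral.LocalFacts
import Cfsg.Agent.Lib.GWKlein.General.TypesBase
import Cfsg.Agent.Lib.HallHigman.GrossTools
import Cfsg.Agent.Lib.TIHall.Basic

/-!
# Gorenstein-Walter, dihedral Sylow subgroups of order at least eight: SYLOW and MAX

Section 5 of `notes/gw_dihedral_eight.md`.

* `sylowInG` : (SYLOW)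
* `maximal` : (MAX), `C(t)` is a maximal subgroup

For MAX: a moved `R0 = O_q(O(M))` makes `q` exceptional, so the subgroup `⟨e⟩` of order `q` of `U` is inverted
by `r` and moves some `O_p(U)`. `Z = Ω1(R0)` is the product of two lines fixed by `W`, so `e` moves
`P1 = C_{O_p(U)}(Z)` and the fixed points `A1` of `r` on it. A rotation centralising a central element of `A1`
brings the line of `r` in `Z` to a conjugate of `⟨e⟩` under `W` centralising `A1`: `e` centralises `A1`.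
-/

set_option autoImplicit false
set_option linter.unusedSectionVars false
set_option linter.style.haveILetI false

namespace Cfsg.Agent.GWDihedral

open Subgroup
open scoped Pointwise
open Cfsg.Agent.GWKlein (coreU coreW fourV oddPart radU)

universe u

variable {G : Type u} [Group G] [Finite G] {n : ℕ} {t r σ : G} {p q : ℕ}

/-- **(SYLOW)**: a non-cyclic invariant Sylow subgroup of `U` centralised by no reflection is one of `G`. -/
theorem sylowInG (B : CaseB n t r σ) : SylowInG t r σ := by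
  intro p P hp hp2 hPU hP hnc hPc hPS hrP hrσP
  haveI := Fact.mk hp
  have h := B.ctx.hyp
  set N := normalizer (P : Set G)
  have h1 : ¬ Fused t r N := fun hF =>
    (B.sideRot p hp hp2 P hP (h.fourV_le_sylow.trans hPS) hF).elim
      (fun e => hrP (e (GWKlein.right_mem_fourV t r))) fun e => hnc (e.2.2.2.1 P hPU hP)
  have h2 : ¬ Fused t (r * σ) N := fun hF =>
    (B.sideRot' p hp hp2 P hP (h.swap.fourV_le_sylow.trans (h.closure_swap.le.trans hPS)) hF).elim
      (fun e => hrσP (e (GWKlein.right_mem_fourV t _))) fun e => hnc (e.2.2.2.1 P hPU hP)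
  have hodd := (h.odd_mem_oddPart hPS h1 h2).1
  by_contra hne
  obtain ⟨X, hPX⟩ := hP.exists_le_sylow
  have hlt : P < (X : Subgroup G) := lt_of_le_of_ne hPX fun e => hne <| by
    refine Nat.pow_right_injective hp.two_le ?_
    dsimp only
    rw [← hPc, e, X.card_eq_multiplicity]
  have hlt' := GWKlein.lt_inf_normalizer X.2 hlt
  set X₀ := (X : Subgroup G) ⊓ N with hX₀
  have hX₀p : IsPGroup p X₀ := X.2.to_le inf_le_left
  have hX₀O : X₀ ≤ oddPart N := fun x hx =>
    hodd x hx.2 ((odd_card_of_isPGroup hp2 hX₀p).of_dvd_nat (orderOf_dvd_natCard _ hx))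
  obtain ⟨R, hPR, -, hRS, hR, hRc⟩ := h.exists_invariant_sylow h.isPGroup_sylow (GWKlein.odd_card_oddPart N)
    (hPS.trans (GWKlein.le_normalizer_oddPart N)) (hlt'.le.trans hX₀O) hP hPS
  have hPne : P ≠ ⊥ := fun e => hnc (by rw [e]; infer_instance)
  have hmoved : ¬ R ≤ centralizer ({t} : Set G) := fun hRt => by
    have h3 := Coprime.card_le_of_isPGroup hR (fun x hx => h.mem_coreU_of_pgroup hp2 hR ⟨hx, hRt hx⟩)
    have h4 := Coprime.card_le_of_isPGroup hX₀p hX₀O
    rw [← hRc] at h4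
    rw [← hPc] at h3
    exact hlt'.ne (eq_of_le_of_card_ge hlt'.le (h4.trans h3))
  refine hnc ((B.sideExc p hp hp2 R ⟨hR, hRS, hmoved, fun e => hPne ?_⟩).2.2.2.1 P hPU hP)
  exact le_bot_iff.1 (e ▸ le_inf hPR hPU)

section Tools

/-- An element of order `q` normalising a subgroup of order `q` centralises it. -/
theorem commute_of_normalizes_prime [Fact q.Prime] {A : Subgroup G} (hA : Nat.card A = q) {e : G}
    (he : e ^ q = 1) (hn : e ∈ normalizer (A : Set G)) : ∀ a ∈ A, Commute e a := by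
  intro a ha
  rcases eq_or_ne a 1 with rfl | ha1
  · exact Commute.one_right e
  have hao : orderOf a = q := orderOf_eq_prime (by
    have := congrArg Subtype.val (pow_card_eq_one' (x := (⟨a, ha⟩ : A)))
    simpa [hA] using this) ha1
  have hAeq : zpowers a = A := eq_of_le_of_card_ge (zpowers_le.2 ha) (by rw [Nat.card_zpowers, hao, hA])
  obtain ⟨k, hk⟩ := mem_powers_iff_mem_zpowers.2 (hAeq ▸ (mem_normalizer_iff.1 hn a).1 ha)
  have hk' : e * a * e⁻¹ = a ^ k := hk.symm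
  have hpow : ∀ i : ℕ, e ^ i * a * (e ^ i)⁻¹ = a ^ k ^ i := by
    intro i
    induction i with
    | zero => simp
    | succ i ih =>
      calc e ^ (i + 1) * a * (e ^ (i + 1))⁻¹ = e * (e ^ i * a * (e ^ i)⁻¹) * e⁻¹ := by rw [pow_succ']; group
        _ = _ := by rw [ih, ← conj_pow, hk', ← pow_mul, ← pow_succ']
  have h1 := hpow q
  rw [he, one_mul, inv_one, mul_one] at h1
  have h1' := pow_eq_pow_iff_modEq.1 ((pow_one a).trans h1)
  rw [hao] at h1'
  have h2 : ((1 : ℕ) : ZMod q) = ((k ^ q : ℕ) : ZMod q) := (ZMod.natCast_eq_natCast_iff' _ _ _).2 h1'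
  rw [Nat.cast_pow, ZMod.pow_card] at h2
  have h3 : a ^ 1 = a ^ k := pow_eq_pow_iff_modEq.2 (hao ▸ (ZMod.natCast_eq_natCast_iff' _ _ _).1 h2)
  rw [pow_one] at h3
  exact mul_inv_eq_iff_eq_mul.1 (hk'.trans h3.symm)

/-- An element normalising a cyclic group normalises its subgroup of order `q`. -/
theorem mem_normalizer_zpowers_of_cyclic {X : Subgroup G} (hX : IsCyclic X) {a g : G} (ha : a ∈ X)
    (hao : orderOf a = q) (hg : g ∈ normalizer (X : Set G)) : g ∈ normalizer (zpowers a : Set G) := by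
  haveI := hX
  refine Coprime.mem_normalizer_of_forall (GWKlein.conj_zpowers_le ?_)
  have e : zpowers (g * a * g⁻¹) = zpowers a := TIHall.eq_of_card_eq_cyclic
    (zpowers_le.2 ((mem_normalizer_iff.1 hg a).1 ha)) (zpowers_le.2 ha) (by
      rw [Nat.card_zpowers, Nat.card_zpowers, hao]
      exact (orderOf_injective (MulAut.conj g).toMonoidHom (MulAut.conj g).injective a).trans hao)
  exact e ▸ mem_zpowers (g * a * g⁻¹)

/-- A moved `O_q(O(M))`. -/
theorem exists_moved_core {M : Subgroup G} (htM : t ∈ M) (ht : t * t = 1)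
    (hm : ¬ oddPart M ≤ centralizer ({t} : Set G)) :
    ∃ q, q.Prime ∧ q ≠ 2 ∧ ∃ R : Subgroup G, IsPGroup q R ∧ R ≤ oddPart M ∧
      M ≤ normalizer (R : Set G) ∧ ¬ R ≤ centralizer ({t} : Set G) := by
  haveI := Fact.mk Nat.prime_two
  haveI := Cores.pPrimeCore_normal 2 M
  set H := Cfsg.oddCore M
  have hodd : Odd (Nat.card H) := Nat.not_even_iff_odd.1 fun e =>
    Local.not_two_dvd_core M (even_iff_two_dvd.1 e)
  by_contra hno
  push Not at hno
  refine hm ?_
  have hall := Gross.commute_of_fitting (H := H) (S0205.result hodd) (y := (⟨t, htM⟩ : M)) (p := 2) (n := 1)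
    (Subtype.ext (by simpa [pow_two] using ht)) (Local.not_two_dvd_core M) fun q hq a ha => by
      set R := ((Cfsg.pCore q H).map H.subtype).map M.subtype
      have haR : (a : G) ∈ R := ⟨a, ha, rfl⟩
      by_cases hq2 : q = 2
      · obtain ⟨b, hb, rfl⟩ := ha
        obtain ⟨k, hk⟩ := Cores.isPGroup_pCore q H ⟨b, hb⟩
        have hb1 : b = 1 := orderOf_eq_one_iff.1 (Nat.eq_one_of_dvd_coprimes
          ((Nat.coprime_two_left.2 hodd).pow_left k)
          (orderOf_dvd_of_pow_eq_one (hq2 ▸ congrArg Subtype.val hk)) (orderOf_dvd_natCard b))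
        rw [hb1, map_one]
        exact Commute.one_right _
      have hR : R ≤ centralizer ({t} : Set G) := hno q hq hq2 R (((Cores.isPGroup_pCore q H).map _).map _)
        (map_mono (map_subtype_le _)) (by
          haveI : ((Cfsg.pCore q H).map H.subtype).Normal := by
            haveI := Cores.pCore_normal q H
            refine ⟨fun x hx g => ?_⟩
            have hgn : g ∈ normalizer (H : Set M) := by rw [normalizer_eq_top H]; exact mem_top g
            exact (mem_normalizer_iff.1 (Cores.normalizer_le_normalizer_map _ hgn) x).1 hx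
          refine le_trans ?_ (le_normalizer_map _)
          rw [normalizer_eq_top ((Cfsg.pCore q H).map H.subtype), ← MonoidHom.range_eq_map, range_subtype])
      exact Subtype.ext (mem_centralizer_singleton_iff.1 (hR haR)).symm
  rintro _ ⟨x, hx, rfl⟩
  exact mem_centralizer_singleton_iff.2 (congrArg Subtype.val (hall x hx).eq).symm

/-- An element of order `q` of `U` outside `O_q(U)` moves some `O_p(U)`. -/
theorem exists_moved_radU (h : DHyp n t r σ) [Fact q.Prime] {e : G} (heU : e ∈ coreU t)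
    (heo : orderOf e = q) (hrad : radU q t = ⊥) :
    ∃ p, p.Prime ∧ p ≠ 2 ∧ p ≠ q ∧ ∃ x ∈ radU p t, ¬ Commute e x := by
  by_contra hno
  push Not at hno
  haveI : Group.IsSolvable (coreU t) := h.isSolvable_coreU
  set F := Cfsg.fittingSubgroup (coreU t)
  have hq2 : q ≠ 2 := fun hq => Nat.not_even_iff_odd.2 (h.odd_orderOf heU) (by rw [heo, hq]; exact even_two)
  have hqc : ∀ x ∈ radU q t, Commute e x := fun x hx => by
    rw [hrad, mem_bot] at hx
    exact hx ▸ Commute.one_right e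
  have hc : (⟨e, heU⟩ : coreU t) ∈ centralizer (F : Set (coreU t)) := by
    have hle : F ≤ centralizer ({(⟨e, heU⟩ : coreU t)} : Set (coreU t)) := by
      show Cfsg.fittingSubgroup (coreU t) ≤ _
      rw [Cores.fittingSubgroup_eq_iSup_pCore, iSup_le_iff]
      intro l x hx
      have hxr : (x : G) ∈ radU (l : ℕ) t := ⟨x, hx, rfl⟩
      refine mem_centralizer_singleton_iff.2 (Subtype.ext ?_)
      by_cases hl2 : (l : ℕ) = 2
      · obtain ⟨k, hk⟩ := Cores.isPGroup_pCore (l : ℕ) (coreU t) ⟨x, hx⟩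
        have hx1 : x = 1 := orderOf_eq_one_iff.1 (Nat.eq_one_of_dvd_coprimes
          ((Nat.coprime_two_left.2 h.odd_coreU).pow_left k)
          (orderOf_dvd_of_pow_eq_one (hl2 ▸ congrArg Subtype.val hk)) (orderOf_dvd_natCard x))
        simp [hx1]
      by_cases hlq : (l : ℕ) = q
      · exact (hqc _ (hlq ▸ hxr)).symm.eq
      · exact (hno l l.2 hl2 hlq _ hxr).symm.eq
    exact mem_centralizer_iff.2 fun x hx => mem_centralizer_singleton_iff.1 (hle hx)
  have heF := Solvable.centralizer_fitting_le (coreU t) hc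
  suffices hmem : e ∈ radU q t by
    rw [hrad, mem_bot] at hmem
    exact (Fact.out : q.Prime).ne_one (by rw [← heo, hmem, orderOf_one])
  refine ⟨⟨e, heU⟩, ?_, rfl⟩
  rw [← Cores.pCore_fittingSubgroup q]
  refine ⟨⟨⟨e, heU⟩, heF⟩, ?_, rfl⟩
  obtain ⟨P, hP⟩ := (IsPGroup.of_card (n := 1) (by
    rw [Nat.card_zpowers, Subgroup.orderOf_mk, Subgroup.orderOf_mk, heo, pow_one]) :
    IsPGroup q (zpowers (⟨⟨e, heU⟩, heF⟩ : F))).exists_le_sylow
  haveI : Group.IsNilpotent F := Cores.fittingSubgroup_isNilpotent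
  haveI : (P : Subgroup F).Normal :=
    Sylow.normal_of_normalizerCondition Group.normalizerCondition_of_isNilpotent P
  rw [Cores.pCore_eq_sylow P]
  exact hP (mem_zpowers _)

/-- A group of order `q ^ 2` with two lines fixed by `y`: other lines are fixed only by powers. -/
theorem line_cases [Fact q.Prime] {Z A B L : Subgroup G} (hA : Nat.card A = q) (hB : Nat.card B = q)
    (hL : Nat.card L = q) (hdis : A ⊓ B = ⊥) (hZ : ∀ z ∈ Z, ∃ a ∈ A, ∃ b ∈ B, z = a * b)
    (hab : ∀ a ∈ A, ∀ b ∈ B, Commute a b) (hLZ : L ≤ Z) {y : G} (hyA : y ∈ normalizer (A : Set G))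
    (hyB : y ∈ normalizer (B : Set G)) (hyL : y ∈ normalizer (L : Set G)) :
    L = A ∨ L = B ∨ ∃ k : ℤ, ∀ z ∈ Z, y * z * y⁻¹ = z ^ k := by
  have hne : ∀ {H : Subgroup G}, Nat.card H = q → ∀ {x : G}, x ∈ H → x ≠ 1 → zpowers x = H := by
    intro H hH x hx hx1
    have hxo : orderOf x = q := orderOf_eq_prime (by
      have := congrArg Subtype.val (pow_card_eq_one' (x := (⟨x, hx⟩ : H)))
      simpa [hH] using this) hx1
    exact eq_of_le_of_card_ge (zpowers_le.2 hx) (by rw [Nat.card_zpowers, hxo, hH])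
  obtain ⟨w, hw, hw1⟩ := (Subgroup.bot_or_exists_ne_one L).resolve_left fun e => by
    rw [e, card_bot] at hL
    exact (Fact.out : q.Prime).one_lt.ne hL
  obtain ⟨a, ha, b, hb, rfl⟩ := hZ w (hLZ hw)
  by_cases ha1 : a = 1
  · subst ha1
    rw [one_mul] at hw hw1
    exact Or.inr (Or.inl ((hne hL hw hw1).symm.trans (hne hB hb hw1)))
  by_cases hb1 : b = 1
  · subst hb1
    rw [mul_one] at hw hw1
    exact Or.inl ((hne hL hw hw1).symm.trans (hne hA ha hw1))
  obtain ⟨k, hk⟩ := mem_zpowers_iff.1 ((hne hL hw hw1).symm ▸ (mem_normalizer_iff.1 hyL _).1 hw)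
  have hya : y * a * y⁻¹ ∈ A := (mem_normalizer_iff.1 hyA a).1 ha
  have hyb : y * b * y⁻¹ ∈ B := (mem_normalizer_iff.1 hyB b).1 hb
  have e1 : y * a * y⁻¹ * (y * b * y⁻¹) = a ^ k * b ^ k := by
    rw [← (hab a ha b hb).mul_zpow, hk]; group
  have e2 : (a ^ k)⁻¹ * (y * a * y⁻¹) = b ^ k * (y * b * y⁻¹)⁻¹ := by
    rw [eq_mul_inv_iff_mul_eq, mul_assoc, e1, inv_mul_cancel_left]
  have e3 : (a ^ k)⁻¹ * (y * a * y⁻¹) = 1 := by
    have : (a ^ k)⁻¹ * (y * a * y⁻¹) ∈ A ⊓ B :=
      mem_inf.2 ⟨mul_mem (inv_mem (zpow_mem ha k)) hya, e2 ▸ mul_mem (zpow_mem hb k) (inv_mem hyb)⟩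
    rwa [hdis, mem_bot] at this
  have hak : y * a * y⁻¹ = a ^ k := (inv_mul_eq_one.1 e3).symm
  have hbk : y * b * y⁻¹ = b ^ k := by
    rw [e3] at e2
    exact (mul_inv_eq_one.1 e2.symm).symm
  refine Or.inr (Or.inr ⟨k, fun z hz => ?_⟩)
  obtain ⟨a', ha', b', hb', rfl⟩ := hZ z hz
  obtain ⟨i, rfl⟩ := mem_zpowers_iff.1 ((hne hA ha ha1).symm ▸ ha')
  obtain ⟨j, rfl⟩ := mem_zpowers_iff.1 ((hne hB hb hb1).symm ▸ hb')
  rw [← _root_.conj_mul, ← conj_zpow, ← conj_zpow, hak, hbk, (hab _ ha' _ hb').mul_zpow, ← zpow_mul, ← zpow_mul,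
    ← zpow_mul, ← zpow_mul, mul_comm i k, mul_comm j k]

/-- An element of odd order permuting two lines fixes each. -/
theorem mem_normalizer_of_pair {A B : Subgroup G} (hne : A ≠ B) {g : G} (hg : Odd (orderOf g))
    (hA : MulAut.conj g • A = A ∨ MulAut.conj g • A = B)
    (hB : MulAut.conj g • B = A ∨ MulAut.conj g • B = B) :
    g ∈ normalizer (A : Set G) ∧ g ∈ normalizer (B : Set G) := by
  rcases hA with hA | hA
  · refine ⟨Coprime.mem_normalizer_of_conj_eq hA, Coprime.mem_normalizer_of_conj_eq ?_⟩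
    exact hB.resolve_left fun e => hne (smul_left_cancel _ (hA.trans e.symm))
  · exfalso
    have hB' : MulAut.conj g • B = A :=
      hB.resolve_right fun e => hne (smul_left_cancel _ (hA.trans e.symm))
    obtain ⟨k, hk⟩ := GWKlein.exists_sq_pow_eq hg
    have h2 : g ^ 2 ∈ normalizer (A : Set G) :=
      Coprime.mem_normalizer_of_conj_eq (by rw [pow_two, map_mul, mul_smul, hA, hB'])
    have h3 : g ∈ normalizer (A : Set G) := hk ▸ pow_mem h2 k
    exact hne ((Coprime.conj_eq_of_mem_normalizer h3).symm.trans hA)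

/-- On a group of two lines fixed by `y` the commutators of `y` with an element of order `q` are trivial. -/
theorem commutator_mem_centralizer_of_lines [Fact q.Prime] [Fact p.Prime] (hp : p ≠ 2) {Z A B P : Subgroup G}
    (hAZ : A ≤ Z) (hBZ : B ≤ Z) (hA : Nat.card A = q) (hB : Nat.card B = q) (hdis : A ⊓ B = ⊥)
    (hZ : ∀ z ∈ Z, ∃ a ∈ A, ∃ b ∈ B, z = a * b) (hab : ∀ a ∈ A, ∀ b ∈ B, Commute a b) {e : G}
    (heq : e ^ q = 1) (heo : Odd (orderOf e)) (heZ : e ∈ normalizer (Z : Set G)) (hP : IsPGroup p P)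
    (hPZ : P ≤ normalizer (Z : Set G)) (heP : e ∈ normalizer (P : Set G)) {y : G} (hy : y ∈ P)
    (hyA : y ∈ normalizer (A : Set G)) (hyB : y ∈ normalizer (B : Set G)) :
    e * y * e⁻¹ * y⁻¹ ∈ centralizer (Z : Set G) := by
  have hyZ := hPZ hy
  have inZ : ∀ {g : G}, g ∈ normalizer (Z : Set G) → ∀ z ∈ Z, g * z * g⁻¹ ∈ Z := fun hg z hz =>
    (mem_normalizer_iff.1 hg z).1 hz
  by_cases hsc : ∃ k : ℤ, ∀ z ∈ Z, y * z * y⁻¹ = z ^ k
  · obtain ⟨k, hk⟩ := hsc
    refine mem_centralizer_iff.2 fun z hz => ((mul_inv_eq_iff_eq_mul.1 ?_).symm : z * _ = _ * z)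
    have h1 : y⁻¹ * z * y ∈ Z := by simpa using inZ (inv_mem hyZ) z hz
    have h2 : e⁻¹ * (y⁻¹ * z * y) * e ∈ Z := by simpa using inZ (inv_mem heZ) _ h1
    calc e * y * e⁻¹ * y⁻¹ * z * (e * y * e⁻¹ * y⁻¹)⁻¹ = e * (y * (e⁻¹ * (y⁻¹ * z * y) * e) * y⁻¹) * e⁻¹ := by
          group
      _ = e * (e⁻¹ * (y⁻¹ * z * y) * e) ^ k * e⁻¹ := by rw [hk _ h2]
      _ = (y⁻¹ * z * y) ^ k := by rw [← conj_zpow]; group
      _ = z := by rw [← hk _ h1]; group
  have hne : A ≠ B := fun e => by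
    rw [e, inf_idem] at hdis
    rw [hdis, card_bot] at hB
    exact (Fact.out : q.Prime).one_lt.ne hB
  -- only the two lines are fixed by `y`
  have two : ∀ {g : G}, g ∈ normalizer (Z : Set G) → ∀ {H : Subgroup G}, H ≤ Z → Nat.card H = q →
      g⁻¹ * y * g ∈ normalizer (H : Set G) → MulAut.conj g • H = A ∨ MulAut.conj g • H = B := by
    intro g hg H hH hHc hgy
    have hle : MulAut.conj g • H ≤ Z := fun x hx => by
      have := inZ hg _ (hH (Coprime.mem_conj.1 hx))
      simpa [mul_assoc] using this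
    have hyn : y ∈ normalizer ((MulAut.conj g • H : Subgroup G) : Set G) :=
      Coprime.mem_normalizer_of_forall fun x hx => by
        rw [Coprime.mem_conj] at hx ⊢
        have := (mem_normalizer_iff.1 hgy _).1 hx
        simpa [mul_assoc] using this
    rcases line_cases hA hB ((Coprime.card_conj g H).trans hHc) hdis hZ hab hle hyA hyB hyn with h1 | h1 | h1
    exacts [Or.inl h1, Or.inr h1, absurd h1 hsc]
  -- all of `P` fixes both
  set N := P ⊓ normalizer (A : Set G) ⊓ normalizer (B : Set G) with hN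
  have hNP : N = P := by
    by_contra hne'
    have hlt : N < P := lt_of_le_of_ne (inf_le_left.trans inf_le_left) hne'
    refine (GWKlein.lt_inf_normalizer hP hlt).not_ge fun g hg => ?_
    have hgy : g⁻¹ * y * g ∈ N := by
      have := (mem_normalizer_iff.1 (inv_mem hg.2) y).1 ⟨⟨hy, hyA⟩, hyB⟩
      simpa using this
    have hgodd : Odd (orderOf g) :=
      (odd_card_of_isPGroup hp hP).of_dvd_nat (orderOf_dvd_natCard _ hg.1)
    obtain ⟨h1, h2⟩ := mem_normalizer_of_pair hne hgodd (two (hPZ hg.1) hAZ hA hgy.1.2)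
      (two (hPZ hg.1) hBZ hB hgy.2)
    exact ⟨⟨hg.1, h1⟩, h2⟩
  have hey : e⁻¹ * y * e ∈ N := by
    rw [hNP]
    simpa using (mem_normalizer_iff.1 (inv_mem heP) y).1 hy
  obtain ⟨heA, heB⟩ := mem_normalizer_of_pair hne heo (two heZ hAZ hA hey.1.2) (two heZ hBZ hB hey.2)
  have hec : ∀ z ∈ Z, Commute e z := fun z hz => by
    obtain ⟨a, ha, b, hb, rfl⟩ := hZ z hz
    exact (commute_of_normalizes_prime hA heq heA a ha).mul_right (commute_of_normalizes_prime hB heq heB b hb)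
  refine mem_centralizer_iff.2 fun z hz => ((mul_inv_eq_iff_eq_mul.1 ?_).symm : z * _ = _ * z)
  have h1 : y⁻¹ * z * y ∈ Z := by simpa using inZ (inv_mem hyZ) z hz
  calc e * y * e⁻¹ * y⁻¹ * z * (e * y * e⁻¹ * y⁻¹)⁻¹ = e * (y * (e⁻¹ * (y⁻¹ * z * y) * e) * y⁻¹) * e⁻¹ := by
        group
    _ = e * (y * (y⁻¹ * z * y) * y⁻¹) * e⁻¹ := by rw [(hec _ h1).inv_left.eq, inv_mul_cancel_right]
    _ = e * z * e⁻¹ := by group
    _ = z := by rw [(hec z hz).eq, mul_inv_cancel_right]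

end Tools

/-- **(MAX)**: `C(t)` is a maximal subgroup. -/
theorem maximal [IsSimpleGroup G] (B : CaseB n t r σ) : Maximal t := by
  intro M hM hC
  by_contra hne
  have h := B.ctx.hyp
  set C := centralizer ({t} : Set G)
  set U := coreU t
  have hSM : closure ({σ, r} : Set G) ≤ M := h.sylow_le_centralizer.trans hC
  have htM : t ∈ M := h.mem_t hSM
  have hUC : U ≤ C := GWKlein.coreU_le_centralizer t
  -- `O(M)` is moved
  have hmv : ¬ oddPart M ≤ C := fun hle => hne <| le_antisymm (fun g hg => by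
    obtain ⟨y, hy, v, hv, rfl⟩ := (h.odd_mem_oddPart hSM (B.noOver M hM hC) (B.noOver' M hM hC)).2 g hg
    exact mul_mem (hle hy) (h.sylow_le_centralizer hv)) hC
  obtain ⟨q, hq, hq2, R₀, hR₀, -, hMR₀, hR₀t⟩ := exists_moved_core htM h.mul_self_t hmv
  haveI := Fact.mk hq
  -- `q` divides `|U|`
  obtain ⟨s₀, hs₀⟩ := h.exists_rot
  have hback : ∀ f : G, orderOf f = q → Commute f r → ∀ s, Rot t r s → s⁻¹ * f * s ∈ U := fun f hf hfr s hs =>
    h.mem_coreU.2 ⟨Rot.commute_t hs hfr, by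
      have e := orderOf_injective (MulAut.conj s⁻¹).toMonoidHom (MulAut.conj s⁻¹).injective f
      simp only [MulEquiv.coe_toMonoidHom, MulAut.conj_apply, inv_inv] at e
      rw [e, hf]; exact hq.odd_of_ne_two hq2⟩
  have horder : ∀ f s : G, orderOf (s⁻¹ * f * s) = orderOf f := fun f s => by
    have e := orderOf_injective (MulAut.conj s⁻¹).toMonoidHom (MulAut.conj s⁻¹).injective f
    simpa using e
  obtain ⟨f₀, -, hf₀, hf₀r, -⟩ := exists_fixed_inverted h hq2 hR₀ (hSM.trans hMR₀) hR₀t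
  have hqu : q ∣ Nat.card U := by
    rw [← hf₀, ← horder f₀ s₀]
    exact orderOf_dvd_natCard _ (hback f₀ hf₀ hf₀r s₀ hs₀)
  -- an invariant Sylow subgroup makes a side, so `q` is exceptional
  obtain ⟨X, -, hXU, hXS, hX, hXc⟩ := h.exists_invariant_sylow (p := q) (Q := ⊥) h.isPGroup_sylow h.odd_coreU
    h.sylow_le_normalizer_coreU bot_le IsPGroup.of_bot (by rw [normalizer_eq_top]; exact le_top)
  have hXne : X ≠ ⊥ := fun e => by
    rw [e, card_bot] at hXc
    have := (Nat.Prime.factorization_pos_of_dvd hq Nat.card_pos.ne' hqu)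
    exact (Nat.one_lt_pow this.ne' hq.one_lt).ne hXc
  have hexc : Exc t r σ q := B.sideExc q hq hq2 (X ⊔ R₀)
    ⟨IsPGroup.to_sup_of_normal_right' hX hR₀ (hXU.trans (hUC.trans (hC.trans hMR₀))),
      (le_inf hXS (hSM.trans hMR₀)).trans (GWKlein.normalizer_inf_le_sup _ _),
      fun hle => hR₀t (le_sup_right.trans hle),
      fun e => hXne (le_bot_iff.1 (e ▸ le_inf le_sup_left hXU))⟩
  obtain ⟨-, hqa, -, hcyc, hnn⟩ := hexc
  -- `O_q(U) = 1`, so `t` inverts `R₀`
  have hrad : radU q t = ⊥ := by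
    by_contra hr'
    haveI : Nontrivial (radU q t) := (nontrivial_iff_ne_bot _).2 hr'
    obtain ⟨j, hj0, hj⟩ := (GWKlein.isPGroup_radU q t).nontrivial_iff_card.1 inferInstance
    obtain ⟨x, hx⟩ := exists_prime_orderOf_dvd_card' (G := radU q t) q (hj ▸ dvd_pow_self q hj0.ne')
    refine hnn (zpowers (x : G)) (zpowers_le.2 (GWKlein.radU_le q t x.2))
      (by rw [Nat.card_zpowers, Subgroup.orderOf_coe, hx]) fun g hg => ?_
    exact mem_normalizer_zpowers_of_cyclic (hcyc _ (GWKlein.radU_le q t) (GWKlein.isPGroup_radU q t)) x.2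
      ((Subgroup.orderOf_coe x).trans hx) (GWKlein.centralizer_le_normalizer_radU q t hg)
  have hR₀U : R₀ ⊓ U = ⊥ := le_bot_iff.1 <| hrad ▸ GWKlein.le_radU (hR₀.to_le inf_le_left) inf_le_right
    ((le_inf (hUC.trans (hC.trans hMR₀)) le_normalizer).trans inf_normalizer_le_normalizer_inf)
  have hinvt : ∀ x ∈ R₀, t * x * t⁻¹ = x⁻¹ := inverts_of_fixed_eq_one h.mul_self_t (hMR₀ htM) fun x hx hc => by
    have : x ∈ R₀ ⊓ U := ⟨hx, h.mem_coreU_of_pgroup hq2 hR₀ ⟨hx, mem_centralizer_t.2 hc.symm⟩⟩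
    rwa [hR₀U, mem_bot] at this
  have hcomm : ∀ a ∈ R₀, ∀ b ∈ R₀, Commute a b := fun a ha b hb => by
    have e := hinvt _ (mul_mem (inv_mem ha) (inv_mem hb))
    rw [← _root_.conj_mul, hinvt _ (inv_mem ha), hinvt _ (inv_mem hb), inv_inv, inv_inv, mul_inv_rev,
      inv_inv, inv_inv] at e
    exact e
  -- `Z = Ω₁(R₀)`
  let Z : Subgroup G :=
    { carrier := {x | x ∈ R₀ ∧ x ^ q = 1}
      one_mem' := ⟨one_mem _, one_pow q⟩
      mul_mem' := fun {a b} ha hb => ⟨mul_mem ha.1 hb.1, by rw [(hcomm a ha.1 b hb.1).mul_pow, ha.2, hb.2, one_mul]⟩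
      inv_mem' := fun {a} ha => ⟨inv_mem ha.1, by rw [inv_pow, ha.2, inv_one]⟩ }
  have hMZ : M ≤ normalizer (Z : Set G) := fun g hg => Coprime.mem_normalizer_of_forall fun x hx =>
    ⟨(mem_normalizer_iff.1 (hMR₀ hg) x).1 hx.1, by rw [conj_pow, hx.2, mul_one, mul_inv_cancel]⟩
  have hZR : Z ≤ R₀ := fun x hx => hx.1
  have hZp : IsPGroup q Z := hR₀.to_le hZR
  have hZt : ¬ Z ≤ C := fun hle => by
    haveI : Nontrivial R₀ := (nontrivial_iff_ne_bot _).2 fun e => hR₀t (e ▸ bot_le)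
    obtain ⟨j, hj0, hj⟩ := hR₀.nontrivial_iff_card.1 inferInstance
    obtain ⟨x, hx⟩ := exists_prime_orderOf_dvd_card' (G := R₀) q (hj ▸ dvd_pow_self q hj0.ne')
    have hxo : orderOf (x : G) = q := (Subgroup.orderOf_coe x).trans hx
    have hxZ : (x : G) ∈ Z := ⟨x.2, by rw [← hxo, pow_orderOf_eq_one]⟩
    exact not_commute_of_inverted (hxo ▸ hq.odd_of_ne_two hq2) (fun e => hq.ne_one (by rw [← hxo, e, orderOf_one]))
      (hinvt x x.2) (mem_centralizer_t.1 (hle hxZ))
  obtain ⟨f, hfZ, hfo, hfr, hfi⟩ := exists_fixed_inverted h hq2 hZp (hSM.trans hMZ) hZt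
  -- the two lines
  set A := Z ⊓ centralizer ({r} : Set G) with hA
  set Bl := Z ⊓ centralizer ({t * r} : Set G) with hBl
  have hAc : Nat.card A = q := by
    have hle : A.map (MulAut.conj s₀⁻¹).toMonoidHom ≤ U := by
      rintro _ ⟨a, ha, rfl⟩
      rcases eq_or_ne a 1 with rfl | ha1
      · simp
      show s₀⁻¹ * a * s₀⁻¹⁻¹ ∈ U
      rw [inv_inv]
      exact hback a (orderOf_eq_prime ha.1.2 ha1) (mem_centralizer_singleton_iff.1 ha.2) s₀ hs₀
    haveI : IsCyclic A := by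
      haveI := hcyc _ hle ((hZp.to_le inf_le_left).map _)
      exact isCyclic_of_injective
        (A.equivMapOfInjective (MulAut.conj s₀⁻¹).toMonoidHom (MulAut.conj s₀⁻¹).injective).toMonoidHom
        (MulEquiv.injective _)
    obtain ⟨⟨g, hg⟩, hgen⟩ := IsCyclic.exists_generator (α := A)
    have hAg : A = zpowers g := le_antisymm (fun x hx => by
      obtain ⟨i, hi⟩ := mem_zpowers_iff.1 (hgen ⟨x, hx⟩)
      exact mem_zpowers_iff.2 ⟨i, congrArg Subtype.val hi⟩) (zpowers_le.2 hg)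
    rw [hAg, Nat.card_zpowers, orderOf_eq_prime hg.1.2]
    intro hg1
    have : f ∈ A := ⟨hfZ, mem_centralizer_singleton_iff.2 hfr⟩
    rw [hAg, hg1, zpowers_one_eq_bot, mem_bot] at this
    rw [this, orderOf_one] at hfo
    exact hq.one_lt.ne hfo
  obtain ⟨y₁, hy₁, hy₁t, hy₁r⟩ := h.exists_quarter
  have hy₁Z : y₁ ∈ normalizer (Z : Set G) := hMZ (hSM (zpowers_le.2 h.sylow_mem_σ hy₁))
  have hBc : Nat.card Bl = q := by
    have e : A.map (MulAut.conj y₁).toMonoidHom = Bl := by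
      ext x
      rw [Transfer.mem_map_conj_iff, hA, hBl, mem_inf, mem_inf, mem_centralizer_singleton_iff,
        mem_centralizer_singleton_iff]
      have e1 : y₁⁻¹ * (t * r) * y₁ = r := by rw [← hy₁r]; group
      constructor
      · rintro ⟨h1, h2⟩
        refine ⟨by simpa [mul_assoc] using (mem_normalizer_iff.1 hy₁Z _).1 h1, ?_⟩
        calc x * (t * r) = y₁ * (y₁⁻¹ * x * y₁ * (y₁⁻¹ * (t * r) * y₁)) * y₁⁻¹ := by group
          _ = y₁ * (r * (y₁⁻¹ * x * y₁)) * y₁⁻¹ := by rw [e1, h2]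
          _ = y₁ * r * y₁⁻¹ * x := by group
          _ = t * r * x := by rw [hy₁r]
      · rintro ⟨h1, h2⟩
        refine ⟨by simpa using (mem_normalizer_iff.1 (inv_mem hy₁Z) _).1 h1, ?_⟩
        rw [← e1]
        calc y₁⁻¹ * x * y₁ * (y₁⁻¹ * (t * r) * y₁) = y₁⁻¹ * (x * (t * r)) * y₁ := by group
          _ = _ := by rw [h2]; group
    rw [← e, card_map_of_injective (MulAut.conj y₁).injective, hAc]
  have hdis : A ⊓ Bl = ⊥ := by
    rw [eq_bot_iff]
    rintro x ⟨hxA, hxB⟩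
    by_contra hx1
    have hxr : Commute x r := mem_centralizer_singleton_iff.1 hxA.2
    have hxt : Commute x t := by
      have := (show Commute x (t * r) from mem_centralizer_singleton_iff.1 hxB.2).mul_right hxr
      rwa [mul_assoc, h.mul_self_r, mul_one] at this
    exact not_commute_of_inverted ((odd_card_of_isPGroup hq2 hZp).of_dvd_nat (orderOf_dvd_natCard _ hxA.1))
      hx1 (hinvt x hxA.1.1) hxt
  have hrZ : ∀ x ∈ Z, r * x * r⁻¹ ∈ Z := fun x hx => (mem_normalizer_iff.1 (hMZ (h.mem_r hSM)) x).1 hx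
  have hrr : ∀ x : G, r * (r * x * r⁻¹) * r⁻¹ = x := fun x => conj_conj_self h.mul_self_r x
  have hdec : ∀ z ∈ Z, ∃ a ∈ A, ∃ b ∈ Bl, z = a * b := by
    intro z hz
    set z' := r * z * r⁻¹ with hz'
    have hcm : Commute z z' := hcomm z hz.1 z' (hrZ z hz).1
    obtain ⟨k, hk⟩ := GWKlein.exists_sq_pow_eq
      ((odd_card_of_isPGroup hq2 hZp).of_dvd_nat (orderOf_dvd_natCard _ hz))
    have ha : z * z' ∈ A := mem_inf.2 ⟨mul_mem hz (hrZ z hz), mem_centralizer_singleton_iff.2 (mul_inv_eq_iff_eq_mul.1 (by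
      rw [← _root_.conj_mul, hrr z, ← hz', hcm.eq])).symm⟩
    have hb : z * z'⁻¹ ∈ Bl := mem_inf.2 ⟨mul_mem hz (inv_mem (hrZ z hz)),
      mem_centralizer_singleton_iff.2 (mul_inv_eq_iff_eq_mul.1 (by
        rw [show t * r * (z * z'⁻¹) * (t * r)⁻¹ = t * (r * z * r⁻¹ * (r * z' * r⁻¹)⁻¹) * t⁻¹ by group, hrr z,
          ← hz', hinvt _ (mul_mem (hrZ z hz).1 (inv_mem hz.1)), mul_inv_rev, inv_inv])).symm⟩
    refine ⟨_, pow_mem ha k, _, pow_mem hb k, ?_⟩
    rw [← (hcomm _ (hZR ha.1) _ (hZR hb.1)).mul_pow]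
    conv_lhs => rw [← hk]
    congr 1
    rw [pow_two, hcm.eq]
    calc z * z = z * (z' * z'⁻¹) * z := by group
      _ = z * z' * (z'⁻¹ * z) := by group
      _ = z * z' * (z * z'⁻¹) := by rw [hcm.inv_right.symm.eq]
      _ = z' * z * (z * z'⁻¹) := by rw [hcm.eq]
  have hab : ∀ a ∈ A, ∀ b ∈ Bl, Commute a b := fun a ha b hb => hcomm a ha.1.1 b hb.1.1
  -- the line `⟨e⟩` of `U`
  haveI hXcyc := hcyc X hXU hX
  obtain ⟨j, hj0, hj⟩ : ∃ j, 0 < j ∧ Nat.card X = q ^ j := ⟨_, Nat.pos_of_ne_zero fun h0 => hXne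
    (eq_bot_of_card_eq _ (by rw [hXc, h0, pow_zero])), hXc⟩
  obtain ⟨⟨e, heX⟩, heo'⟩ := exists_prime_orderOf_dvd_card' (G := X) q (hj ▸ dvd_pow_self q hj0.ne')
  have heo : orderOf e = q := by rw [← heo', Subgroup.orderOf_mk]
  have heU : e ∈ U := hXU heX
  have heC : e ∈ C := hUC heU
  have hinv : r * e * r⁻¹ = e⁻¹ := by
    have hre : r * e * r⁻¹ ∈ zpowers e := (mem_normalizer_iff.1 (mem_normalizer_zpowers_of_cyclic hXcyc heX heo
      (hXS h.sylow_mem_r)) e).1 (mem_zpowers e)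
    set w := e * (r * e * r⁻¹) with hw
    have hwe : w ∈ zpowers e := mul_mem (mem_zpowers e) hre
    have hwr : Commute w r := (mul_inv_eq_iff_eq_mul.1 (show r * w * r⁻¹ = w from by
      obtain ⟨i, hi⟩ := mem_zpowers_iff.1 hre
      rw [hw, ← _root_.conj_mul, hrr e, ← hi]
      exact (Commute.zpow_self e i).eq)).symm
    have hwW : w ∈ coreW t r := ⟨zpowers_le.2 heU hwe, mem_centralizer_singleton_iff.2 hwr⟩
    have hw1 : w = 1 := orderOf_eq_one_iff.1 (by
      rcases hq.eq_one_or_self_of_dvd _ (heo ▸ orderOf_dvd_of_mem_zpowers hwe) with e1 | e1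
      · exact e1
      · exact absurd (e1 ▸ orderOf_dvd_natCard _ hwW) hqa)
    exact (eq_inv_of_mul_eq_one_right hw1)
  have heodd : Odd (orderOf e) := heo ▸ hq.odd_of_ne_two hq2
  have heq : e ^ q = 1 := heo ▸ pow_orderOf_eq_one e
  obtain ⟨p, hp, hp2, hpq, x, hx, hxe⟩ := exists_moved_radU h heU heo
    hrad
  haveI := Fact.mk hp
  set P := radU p t
  have hP : IsPGroup p P := GWKlein.isPGroup_radU p t
  have hCP : C ≤ normalizer (P : Set G) := GWKlein.centralizer_le_normalizer_radU p t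
  have hPC : P ≤ C := (GWKlein.radU_le p t).trans hUC
  have hrC : r ∈ C := h.sylow_le_centralizer h.sylow_mem_r
  -- the part centralising `Z`
  set P₁ := P ⊓ centralizer (Z : Set G) with hP₁
  have hCP₁ : C ≤ normalizer (P₁ : Set G) :=
    (le_inf hCP ((hC.trans hMZ).trans fun g hg => Coprime.mem_normalizer_of_forall fun x hx =>
      mem_centralizer_iff.2 fun z hz => by
        have h1 : g⁻¹ * z * g ∈ Z := by simpa using (mem_normalizer_iff.1 (inv_mem hg) z).1 hz
        have h2 := mem_centralizer_iff.1 hx _ h1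
        calc z * (g * x * g⁻¹) = g * (g⁻¹ * z * g * x) * g⁻¹ := by group
          _ = g * (x * (g⁻¹ * z * g)) * g⁻¹ := by rw [h2]
          _ = g * x * g⁻¹ * z := by group)).trans inf_normalizer_le_normalizer_inf
  have hcomZ : ∀ y ∈ P, Commute y r → e * y * e⁻¹ * y⁻¹ ∈ P₁ := by
    intro y hy hyr
    refine mem_inf.2 ⟨mul_mem ((mem_normalizer_iff.1 (hCP heC) y).1 hy) (inv_mem hy), ?_⟩
    have hyt : Commute y t := mem_centralizer_t.1 (hPC hy)
    have hyn : ∀ v : G, Commute y v → y ∈ normalizer ((Z ⊓ centralizer ({v} : Set G) : Subgroup G) : Set G) :=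
      fun v hv => inf_normalizer_le_normalizer_inf ⟨hMZ (hC (hPC hy)),
        le_normalizer (mem_centralizer_singleton_iff.2 hv)⟩
    exact commutator_mem_centralizer_of_lines hp2 inf_le_left inf_le_left hAc hBc hdis hdec hab heq heodd
      (hMZ (hC heC)) hP ((hPC.trans hC).trans hMZ) (hCP heC) hy (hyn r hyr) (hyn (t * r) (hyt.mul_right hyr))
  -- `e` moves the fixed points on it
  set A₁ := P₁ ⊓ centralizer ({r} : Set G) with hA₁
  have hA₁e : ¬ ∀ b ∈ A₁, Commute e b := fun hall => hxe <| by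
    have hP₁e : ∀ b ∈ P₁, Commute e b := commute_of_commute_fixed hp2 hq hpq.symm heq heodd h.mul_self_r hinv
      (hP.to_le inf_le_left) (hCP₁ heC) (hCP₁ hrC) fun b hb hbr =>
        hall b ⟨hb, mem_centralizer_singleton_iff.2 hbr⟩
    refine commute_of_commute_fixed hp2 hq hpq.symm heq heodd h.mul_self_r hinv hP (hCP heC) (hCP hrC)
      (fun y hy hyr => ?_) x hx
    set c := e * y * e⁻¹ * y⁻¹ with hc
    have hec : Commute e c := hP₁e c (hcomZ y hy hyr)
    have hpow : ∀ i : ℕ, e ^ i * y * (e ^ i)⁻¹ = c ^ i * y := by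
      intro i
      induction i with
      | zero => simp
      | succ i hi =>
        calc e ^ (i + 1) * y * (e ^ (i + 1))⁻¹ = e * (e ^ i * y * (e ^ i)⁻¹) * e⁻¹ := by rw [pow_succ']; group
          _ = e * c ^ i * e⁻¹ * (e * y * e⁻¹) := by rw [hi]; group
          _ = c ^ i * (c * y) := by rw [(hec.pow_right i).eq, mul_inv_cancel_right, hc, inv_mul_cancel_right]
          _ = _ := by rw [pow_succ, ← mul_assoc]
    have h1 := hpow q
    rw [heq, one_mul, inv_one, mul_one, eq_comm, mul_eq_right] at h1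
    obtain ⟨i, hi⟩ := hP ⟨c, (hcomZ y hy hyr).1⟩
    have hc1 : c = 1 := orderOf_eq_one_iff.1 (Nat.eq_one_of_dvd_coprimes
      (((Nat.coprime_primes hq hp).2 hpq.symm).pow_right i)
      (orderOf_dvd_of_pow_eq_one h1) (orderOf_dvd_of_pow_eq_one (congrArg Subtype.val hi)))
    exact mul_inv_eq_iff_eq_mul.1 (mul_inv_eq_one.1 hc1)
  have hA₁U : A₁ ≤ U := inf_le_left.trans (inf_le_left.trans (GWKlein.radU_le p t))
  have hA₁p : IsPGroup p A₁ := hP.to_le (inf_le_left.trans inf_le_left)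
  haveI : Nontrivial A₁ := (nontrivial_iff_ne_bot _).2 fun e0 => hA₁e fun b hb => by
    rw [e0, mem_bot] at hb
    exact hb ▸ Commute.one_right e
  -- a central element, fused
  obtain ⟨⟨y, hy⟩, hyc, hy1⟩ := (Subgroup.bot_or_exists_ne_one (center A₁)).resolve_left
    (ne_of_gt hA₁p.bot_lt_center)
  have hy1' : y ≠ 1 := fun e0 => hy1 (Subtype.ext e0)
  have hycomm : ∀ b ∈ A₁, Commute b y := fun b hb => congrArg Subtype.val (mem_center_iff.1 hyc ⟨b, hb⟩)
  have hyW : y ∈ coreW t r := ⟨hA₁U hy, hy.2⟩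
  obtain ⟨i, hi⟩ := IsPGroup.iff_orderOf.1 hA₁p ⟨y, hy⟩
  rw [Subgroup.orderOf_mk] at hi
  have hypp : IsPrimePow (orderOf y) := hi ▸ (hp.isPrimePow.pow (fun e0 => hy1'
    (orderOf_eq_one_iff.1 (by rw [hi, e0, pow_zero]))))
  obtain ⟨s, hs, hsy⟩ := B.fused y hyW hypp
  obtain ⟨T, -, -, -, -, hTc, hT, -⟩ := B.centShape y hyW hypp hy1'
  haveI := hTc
  set g := s⁻¹ * f * s with hg
  have hgo : orderOf g = q := (horder f s).trans hfo
  have hgU : g ∈ U := hback f hfo hfr s hs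
  have hfy : Commute f y := mem_centralizer_iff.1 hy.1.2 f hfZ
  have hgy : Commute g y := (hsy.inv_left.mul_left hfy).mul_left hsy
  have hgi : r * g * r⁻¹ = g⁻¹ := by
    calc r * g * r⁻¹ = s⁻¹ * (s * r * s⁻¹ * f * (s * r * s⁻¹)⁻¹) * s := by rw [hg]; group
      _ = s⁻¹ * (t * (r * f * r⁻¹) * t⁻¹) * s := by rw [hs.2]; group
      _ = g⁻¹ := by rw [GWKlein.conj_eq_of_commute hfr, hfi, hg]; group
  have hgT : g ∈ T := (hT g).2 ⟨hgU, hgy, hgi⟩
  -- it centralises the fixed points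
  have hgA : ∀ b ∈ A₁, Commute b g := by
    intro b hb
    have hbr : Commute b r := mem_centralizer_singleton_iff.1 hb.2
    have hbg : b * g * b⁻¹ ∈ T := (hT _).2 ⟨mul_mem (mul_mem (hA₁U hb) hgU) (inv_mem (hA₁U hb)),
      ((hycomm b hb).mul_left hgy).mul_left (hycomm b hb).inv_left, by
        calc r * (b * g * b⁻¹) * r⁻¹ = (r * b) * g * (r * b)⁻¹ := by group
          _ = b * (r * g * r⁻¹) * b⁻¹ := by rw [← hbr.eq]; group
          _ = (b * g * b⁻¹)⁻¹ := by rw [hgi]; group⟩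
    have he' : zpowers (b * g * b⁻¹) = zpowers g := TIHall.eq_of_card_eq_cyclic (zpowers_le.2 hbg)
      (zpowers_le.2 hgT) (by
        rw [Nat.card_zpowers, Nat.card_zpowers]
        exact orderOf_injective (MulAut.conj b).toMonoidHom (MulAut.conj b).injective g)
    have h1 : b * g * b⁻¹ * g⁻¹ ∈ zpowers g :=
      mul_mem (he' ▸ mem_zpowers (b * g * b⁻¹)) (inv_mem (mem_zpowers g))
    have h2 : b * g * b⁻¹ * g⁻¹ ∈ P₁ := by
      rw [show b * g * b⁻¹ * g⁻¹ = b * (g * b⁻¹ * g⁻¹) by group]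
      exact mul_mem hb.1 ((mem_normalizer_iff.1 (hCP₁ (hUC hgU)) _).1 (inv_mem hb.1))
    obtain ⟨k, hk⟩ := IsPGroup.iff_card.1 (hP.to_le (inf_le_left : P₁ ≤ P))
    have h3 : b * g * b⁻¹ * g⁻¹ = 1 := Coprime.eq_one_of_mem_of_mem
      (by rw [Nat.card_zpowers, hgo, hk]; exact ((Nat.coprime_primes hq hp).2 hpq.symm).pow_right k) h1 h2
    exact mul_inv_eq_iff_eq_mul.1 (mul_inv_eq_one.1 h3)
  -- and is conjugate to a power of `e` in `W`
  have hVg : fourV t r ≤ normalizer (zpowers g : Set G) := GWKlein.fourV_le_iff.2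
    ⟨Coprime.mem_normalizer_of_forall (GWKlein.conj_zpowers_le (by
        rw [← (GWKlein.commute_of_mem_coreU hgU).eq, mul_inv_cancel_right]; exact mem_zpowers g)),
      Coprime.mem_normalizer_of_forall (GWKlein.conj_zpowers_le (hgi ▸ inv_mem (mem_zpowers g)))⟩
  have hVU : fourV t r ≤ normalizer (U : Set G) := h.fourV_le_sylow.trans h.sylow_le_normalizer_coreU
  obtain ⟨X', hgX', hX'U, hX'V, -, hX'c⟩ := h.exists_invariant_sylow (p := q) h.isPGroup_fourV h.odd_coreU hVU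
    (zpowers_le.2 hgU) (IsPGroup.of_card (n := 1) (by rw [Nat.card_zpowers, hgo, pow_one])) hVg
  haveI := Fact.mk Nat.prime_two
  obtain ⟨c, hc, hcX⟩ := Coprime.exists_mem_centralizer_conj_of_card hVU
    (h.coprime_card h.isPGroup_fourV h.odd_coreU) (Or.inl (Coprime.isSolvable_of_isPGroup h.isPGroup_fourV))
    hXU hX'U (h.fourV_le_sylow.trans hXS) hX'V hXc hX'c
  have hcgX : c * g * c⁻¹ ∈ X := hcX ▸ Coprime.conj_mem_conj.2 (hgX' (mem_zpowers g))
  have hzp : zpowers (c * g * c⁻¹) = zpowers e := TIHall.eq_of_card_eq_cyclic (zpowers_le.2 hcgX)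
    (zpowers_le.2 heX) (by
      rw [Nat.card_zpowers, Nat.card_zpowers, heo, ← hgo]
      exact orderOf_injective (MulAut.conj c).toMonoidHom (MulAut.conj c).injective g)
  have hcr : Commute c r := (GWKlein.mem_centralizer_fourV.1 hc.2).2
  have hcC : c ∈ C := hUC hc.1
  refine hA₁e fun b hb => ?_
  have hb' : c⁻¹ * b * c ∈ A₁ := by
    refine ⟨by simpa using (mem_normalizer_iff.1 (inv_mem (hCP₁ hcC)) b).1 hb.1,
      mem_centralizer_singleton_iff.2 ?_⟩
    exact ((hcr.inv_left.mul_left (mem_centralizer_singleton_iff.1 hb.2)).mul_left hcr).eq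
  have h1 := (hgA _ hb').map (MulAut.conj c).toMonoidHom
  simp only [MulEquiv.coe_toMonoidHom, MulAut.conj_apply] at h1
  rw [show c * (c⁻¹ * b * c) * c⁻¹ = b by group] at h1
  obtain ⟨i, hi⟩ := mem_zpowers_iff.1 (hzp.ge (mem_zpowers e))
  exact hi ▸ (h1.symm.zpow_left i)

end Cfsg.Agent.GWDihedral
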