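import Cfsg.Agent.Lib.GWDihedral.ExtraCoord
import Cfsg.Agent.Lib.GWDihedral.ExtraTools
import Cfsg.Agent.Lib.GWDihedral.MaxSylow
import Cfsg.Agent.Lib.GWDihedral.Mixed5
import Cfsg.Agent.Lib.PLocal.Basic

/-!
# Gorenstein-Walter, dihedral case: the extraspecial configuration

* `Extra` : case B without mixed pairs, with a mixed extraspecial subgroup `D`
* `Extra.psi` : the action of `C(t) ⊓ C(z)` on the coordinates, in `SL(2, p)`
* `Extra.swap` : the same configuration for the other class of reflections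
* `extraT t D = C_U(D)` : cyclic, central in `U`, inverted by both reflections; `extraK t D = D C_U(D)`
-/

set_option autoImplicit false
set_option linter.unusedSectionVars false
set_option linter.style.haveILetI false

namespace Cfsg.Agent.GWDihedral

open Subgroup
open Cfsg.Agent.GWKlein (coreU coreW fourV)
open Cfsg.Agent.PSL2 (SL2)

universe u

variable {G : Type u} [Group G]

/-- `C_U(D)`. -/
def extraT (t : G) (D : Subgroup G) : Subgroup G := coreU t ⊓ centralizer (D : Set G)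

/-- `D C_U(D)`. -/
def extraK (t : G) (D : Subgroup G) : Subgroup G := D ⊔ extraT t D

/-- `C(t) ⊓ C(z)`. -/
def extraH (t z : G) : Subgroup G := centralizer ({t} : Set G) ⊓ centralizer ({z} : Set G)

/-- Case B without mixed pairs, with a mixed extraspecial subgroup. -/
structure Extra (n p : ℕ) (t r σ y x z : G) (D : Subgroup G) : Prop where
  caseB : CaseB n t r σ
  noPair : ∀ (p : ℕ) (X : Subgroup G) (y l : G), ¬ MixedPair p t r y l X ∧ ¬ MixedPair p t (r * σ) y l X
  ext : MixedExtraspecial p t r y x z D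

namespace Extra

variable [Finite G] [IsSimpleGroup G] {n p : ℕ} [Fact p.Prime] {t r σ y x z : G} {D : Subgroup G}
  (E : Extra n p t r σ y x z D)
include E

theorem hyp : DHyp n t r σ := E.caseB.ctx.hyp

theorem mem_U_of_mem_D {d : G} (hd : d ∈ D) : d ∈ coreU t := E.ext.le hd

theorem not_abelian : ¬ ∀ a ∈ coreU t, ∀ b ∈ coreU t, Commute a b := fun h =>
  E.ext.not_commute_yx (h y (E.mem_U_of_mem_D E.ext.mem_y) x (E.mem_U_of_mem_D E.ext.mem_x))

theorem z_elementary : Cfsg.IsElementaryAbelian p (zpowers z) := by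
  refine ⟨⟨⟨fun a b => Subtype.ext ?_⟩⟩, fun a ha => E.ext.exponent a (E.ext.mem_D ha)⟩
  exact (E.ext.commute_of_mem_zpowers a.2 (E.ext.mem_D b.2)).eq

theorem conj_inv_zpowers {a g : G} (h : g * a * g⁻¹ = a⁻¹) {w : G} (hw : w ∈ zpowers a) : g * w * g⁻¹ = w⁻¹ := by
  obtain ⟨i, rfl⟩ := hw
  show g * a ^ i * g⁻¹ = (a ^ i)⁻¹
  rw [← conj_zpow, h, inv_zpow]

theorem rσ_mem_C : r * σ ∈ centralizer ({t} : Set G) := E.hyp.swap.r_mem_C

theorem inv_z' : r * σ * z * (r * σ)⁻¹ = z⁻¹ := by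
  have h := E.hyp
  by_contra hne
  have hzU := E.mem_U_of_mem_D E.ext.z_mem
  set w := r * σ * z * (r * σ)⁻¹ with hwdef
  have hw : w ∈ zpowers z := E.ext.conj_zpowers E.rσ_mem_C (mem_zpowers z)
  -- otherwise it centralises `z`
  have hfix : Commute (r * σ) z := by
    have hww : r * σ * w * (r * σ)⁻¹ = z := conj_conj_self h.mul_σ_sq z
    obtain ⟨k, hk⟩ := E.ext.exists_pow_val hw
    have h2 : z ^ (k * k).val = z := by
      rw [← hk, ← conj_pow, ← hwdef, ← hk, ← pow_mul, pow_eq_pow_iff_modEq.2] at hww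
      · exact hww
      · rw [E.ext.order_z, ZMod.val_mul]
        exact (Nat.mod_modEq _ _).symm
    have h3 : k * k = 1 := E.ext.pow_val_injective (by simpa [ZMod.val_one] using h2)
    rcases mul_self_eq_one_iff.1 h3 with rfl | rfl
    · rw [ZMod.val_one, pow_one] at hk
      exact mul_inv_eq_iff_eq_mul.1 (hwdef ▸ hk.symm)
    · refine absurd ?_ hne
      refine hk.symm.trans (eq_inv_of_mul_eq_one_left ?_)
      have := E.ext.pow_val_add (-1 : ZMod p) 1
      rw [neg_add_cancel, ZMod.val_zero, pow_zero, ZMod.val_one, pow_one] at this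
      exact this.symm
  refine E.ext.ne_one (mem_bot.1 ?_)
  rw [← noNormalInW E.caseB.swap p (zpowers z) (Fact.out) E.z_elementary (zpowers_le.2 (h.swap.mem_coreW.2
    ⟨GWKlein.commute_of_mem_coreU hzU, hfix.symm, h.odd_orderOf hzU⟩)) E.ext.zpowers_normal]
  exact mem_zpowers z

theorem inv_Z {w : G} (hw : w ∈ zpowers z) : r * w * r⁻¹ = w⁻¹ := conj_inv_zpowers E E.ext.inv_z hw

theorem inv_Z' {w : G} (hw : w ∈ zpowers z) : r * σ * w * (r * σ)⁻¹ = w⁻¹ := conj_inv_zpowers E E.inv_z' hw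

theorem commute_z {u : G} (hu : u ∈ coreU t) : Commute u z :=
  commute_of_inverted E.hyp E.caseB.noTheta E.not_abelian E.ext.zpowers_normal
    (fun _ hw => E.inv_Z hw) (fun _ hw => E.inv_Z' hw) u hu z (mem_zpowers z)

theorem commute_σ_z : Commute σ z := by
  have e := E.inv_z'
  rw [show r * σ * z * (r * σ)⁻¹ = r * (σ * z * σ⁻¹) * r⁻¹ by group, ← E.ext.inv_z] at e
  exact mul_inv_eq_iff_eq_mul.1 (mul_left_cancel (mul_right_cancel e))

theorem U_le_H : coreU t ≤ extraH t z := fun _ hu =>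
  ⟨GWKlein.coreU_le_centralizer t hu, mem_centralizer_singleton_iff.2 (E.commute_z hu).eq⟩

theorem σ_mem_H : σ ∈ extraH t z :=
  ⟨E.hyp.σ_mem_C, mem_centralizer_singleton_iff.2 E.commute_σ_z.eq⟩

theorem det_H {g : G} (hg : g ∈ extraH t z) : (actM p y x z g).det = 1 := by
  rw [← E.ext.logz_conj_z hg.1, show g * z * g⁻¹ = z by
    rw [(mem_centralizer_singleton_iff.1 hg.2 : g * z = z * g), mul_inv_cancel_right], E.ext.logz_self]

/-- The action on the coordinates. -/
noncomputable def psi : extraH t z →* SL2 (ZMod p) where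
  toFun g := ⟨actM p y x z (g : G), E.det_H g.2⟩
  map_one' := Subtype.ext E.ext.actM_one
  map_mul' g h := Subtype.ext (E.ext.actM_mul g.2.1 h.2.1)

theorem psi_coe (g : extraH t z) : (E.psi g).1 = actM p y x z (g : G) := rfl

/-- The same configuration for the other class of reflections. -/
theorem swap : ∃ y' x' z', Extra n p t (r * σ) σ⁻¹ y' x' z' D ∧ zpowers z' = zpowers z := by
  have h := E.hyp
  have hp := E.ext.ne_two
  have hsC := E.rσ_mem_C
  set s := r * σ with hs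
  set M := actM p y x z s with hM
  have hdet : M.det = -1 := by
    rw [hM, ← E.ext.logz_conj_z hsC, hs, E.inv_z', E.ext.logz_inv (mem_zpowers z), E.ext.logz_self]
  obtain ⟨d, hd, hd1, hds⟩ : ∃ d ∈ D, d ≠ 1 ∧ Commute s d := by
    by_contra! hc
    have hi := inverts_of_fixed_eq_one h.mul_σ_sq (E.ext.normal hsC)
      fun a ha hca => by_contra fun h1 => hc a ha h1 hca
    refine E.ext.not_commute_yx (Commute.inv_inv_iff.1 ?_)
    have e := hi _ (mul_mem E.ext.mem_y E.ext.mem_x)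
    rw [← _root_.conj_mul, hi y E.ext.mem_y, hi x E.ext.mem_x, mul_inv_rev] at e
    exact e
  obtain ⟨g, hg, hge⟩ : ∃ g ∈ D, g⁻¹ * (s * g * s⁻¹) ∉ zpowers z := by
    by_contra! hc
    have hA : ∀ g ∈ D, coA p x z (s * g * s⁻¹) = coA p x z g ∧ coB p y z (s * g * s⁻¹) = coB p y z g := by
      intro g hg
      have e : s * g * s⁻¹ = g * (g⁻¹ * (s * g * s⁻¹)) := (mul_inv_cancel_left _ _).symm
      rw [e, E.ext.coA_mul hg (E.ext.mem_D (hc g hg)), E.ext.coB_mul hg (E.ext.mem_D (hc g hg)),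
        E.ext.coA_z (hc g hg), E.ext.coB_z (hc g hg), add_zero, add_zero]
      exact ⟨rfl, rfl⟩
    obtain ⟨hy1, hy2⟩ := hA y E.ext.mem_y
    obtain ⟨hx1, hx2⟩ := hA x E.ext.mem_x
    rw [hM, Matrix.det_fin_two] at hdet
    simp only [actM, Matrix.of_apply, Matrix.cons_val', Matrix.cons_val_zero, Matrix.cons_val_one,
      Matrix.empty_val', Matrix.cons_val_fin_one, hy1, hy2, hx1, hx2, E.ext.coA_y, E.ext.coB_y, E.ext.coA_x,
      E.ext.coB_x] at hdet
    exact SLTools.two_ne_zero_zmod hp (by linear_combination hdet)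
  set e := g⁻¹ * (s * g * s⁻¹) with hedef
  have heD : e ∈ D := mul_mem (inv_mem hg) (E.ext.conj_mem hsC hg)
  have hei : s * e * s⁻¹ = e⁻¹ :=
    calc s * e * s⁻¹ = (s * g * s⁻¹)⁻¹ * (s * (s * g * s⁻¹) * s⁻¹) := by rw [hedef]; group
      _ = (s * g * s⁻¹)⁻¹ * g := by rw [conj_conj_self h.mul_σ_sq g]
      _ = e⁻¹ := by rw [hedef]; group
  have hdne : ¬ (coA p x z d = 0 ∧ coB p y z d = 0) := fun hd0 => by
    have hdZ := E.ext.mem_zpowers_of_co hd hd0.1 hd0.2
    exact hd1 (eq_one_of_fixed_inverted hp (E.ext.exponent d hd) hds (E.inv_Z' hdZ))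
  have hne : ¬ Commute d e := fun hc => by
    have h0 := (E.ext.commute_iff_det hd heD).1 hc
    obtain ⟨f1, f2⟩ := E.ext.co_conj hsC hd
    obtain ⟨g1, g2⟩ := E.ext.co_conj hsC heD
    rw [hds.eq, mul_inv_cancel_right, ← hM] at f1 f2
    rw [hei, E.ext.coA_inv heD, ← hM] at g1
    rw [hei, E.ext.coB_inv heD, ← hM] at g2
    have h2 := SLTools.two_ne_zero_zmod (p := p) hp
    set a := coA p x z d
    set b := coB p y z d
    set a' := coA p x z e
    set b' := coB p y z e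
    have k1 : 2 * (a * a') = 0 := by linear_combination a' * f1 - a * g1 - M 0 1 * h0
    have k2 : 2 * (b * b') = 0 := by linear_combination b' * f2 - b * g2 + M 1 0 * h0
    have k3 : 2 * (a * b') = 0 := by linear_combination b' * f1 - b * g1 + (1 + M 0 0) * h0
    have k4 : 2 * (b * a') = 0 := by linear_combination a' * f2 - a * g2 - (1 + M 1 1) * h0
    replace k1 := (mul_eq_zero.1 k1).resolve_left h2
    replace k2 := (mul_eq_zero.1 k2).resolve_left h2
    replace k3 := (mul_eq_zero.1 k3).resolve_left h2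
    replace k4 := (mul_eq_zero.1 k4).resolve_left h2
    refine hge (E.ext.mem_zpowers_of_co heD ?_ ?_)
    · rcases mul_eq_zero.1 k1 with ha | ha
      · rcases mul_eq_zero.1 k4 with hb | hb
        · exact absurd ⟨ha, hb⟩ hdne
        · exact hb
      · exact ha
    · rcases mul_eq_zero.1 k3 with ha | ha
      · rcases mul_eq_zero.1 k2 with hb | hb
        · exact absurd ⟨ha, hb⟩ hdne
        · exact hb
      · exact ha
  set z' := d * e * d⁻¹ * e⁻¹ with hz'
  have hzm : z' ∈ zpowers z := E.ext.commutator_mem hd heD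
  have hext : MixedExtraspecial p t s d e z' D :=
    ⟨Fact.out, hp, E.ext.card, E.ext.exponent, E.ext.le, E.ext.normal, hd, heD, rfl,
      fun h1 => hne (mul_inv_eq_iff_eq_mul.1 (mul_inv_eq_one.1 h1)), hds, hei, E.inv_Z' hzm⟩
  refine ⟨d, e, z', ⟨E.caseB.swap, fun q X a l => ?_, hext⟩, hext.center_eq.symm.trans E.ext.center_eq⟩
  rw [hs, mul_inv_cancel_right]
  exact (E.noPair q X a l).symm

/-! ### `C_U(D)` -/

theorem extraT_le : extraT t D ≤ coreU t := inf_le_left

theorem commute_T {w d : G} (hw : w ∈ extraT t D) (hd : d ∈ D) : Commute w d :=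
  (mem_centralizer_iff.1 hw.2 d hd).symm

theorem y_mem_coreW : y ∈ coreW t r :=
  E.hyp.mem_coreW.2 ⟨GWKlein.commute_of_mem_coreU (E.mem_U_of_mem_D E.ext.mem_y), E.ext.fix_y.symm,
    E.hyp.odd_orderOf (E.mem_U_of_mem_D E.ext.mem_y)⟩

theorem y_ne_one : y ≠ 1 := fun e => E.ext.not_commute_yx (e ▸ Commute.one_left x)

theorem order_y : orderOf y = p := orderOf_eq_prime (E.ext.exponent y E.ext.mem_y) E.y_ne_one

theorem order_x : orderOf x = p :=
  orderOf_eq_prime (E.ext.exponent x E.ext.mem_x) fun e => E.ext.not_commute_yx (e ▸ Commute.one_right y)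

theorem noFixed {w : G} (hw : w ∈ extraT t D) (hwr : Commute r w) : w = 1 := by
  by_contra hw1
  have h := E.hyp
  obtain ⟨q, hq, hqd⟩ := Nat.exists_prime_and_dvd (n := Nat.card (zpowers w)) (by
    rw [Nat.card_zpowers]; exact fun e => hw1 (orderOf_eq_one_iff.1 e))
  haveI := Fact.mk hq
  obtain ⟨v, hv⟩ := exists_prime_orderOf_dvd_card' (G := zpowers w) q hqd
  rw [← Subgroup.orderOf_coe] at hv
  obtain ⟨j, hj : w ^ j = (v : G)⟩ := v.2
  have hvT : (v : G) ∈ extraT t D := hj ▸ zpow_mem hw j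
  have hvU := E.extraT_le hvT
  have hv1 : (v : G) ≠ 1 := fun e => hq.ne_one (by rw [← hv, e, orderOf_one])
  obtain ⟨T, _, _, _, _, hT, hmem, -⟩ := E.caseB.centShape v
    (h.mem_coreW.2 ⟨GWKlein.commute_of_mem_coreU hvU, hj ▸ (hwr.zpow_right j).symm, h.odd_orderOf hvU⟩)
    (hv.symm ▸ hq.isPrimePow) hv1
  have hxT : x ∈ T := (hmem x).2 ⟨E.mem_U_of_mem_D E.ext.mem_x, (E.commute_T hvT E.ext.mem_x).symm, E.ext.inv_x⟩
  have hzT : z ∈ T := (hmem z).2 ⟨E.mem_U_of_mem_D E.ext.z_mem, (E.commute_T hvT E.ext.z_mem).symm, E.ext.inv_z⟩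
  haveI := hT
  have e := TIHall.eq_of_card_eq_cyclic (zpowers_le.2 hxT) (zpowers_le.2 hzT)
    (by rw [Nat.card_zpowers, Nat.card_zpowers, E.order_x, E.ext.order_z])
  exact E.ext.not_commute_yx (E.ext.commute_of_mem_zpowers (e ▸ mem_zpowers x) E.ext.mem_y).symm

theorem T_normal : centralizer ({t} : Set G) ≤ normalizer (extraT t D : Set G) := fun g hg =>
  Coprime.mem_normalizer_of_forall fun w hw =>
    ⟨(mem_normalizer_iff.1 (GWKlein.centralizer_le_normalizer_coreU t hg) w).1 hw.1,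
      mem_centralizer_iff.2 fun d hd => by
        have hd' : g⁻¹ * d * g ∈ D := by
          have := (mem_normalizer_iff.1 (inv_mem (E.ext.normal hg)) d).1 hd
          rwa [inv_inv] at this
        calc d * (g * w * g⁻¹) = g * (g⁻¹ * d * g * w) * g⁻¹ := by group
          _ = g * w * g⁻¹ * d := by rw [← (E.commute_T hw hd').eq]; group⟩

theorem inv_T : ∀ w ∈ extraT t D, r * w * r⁻¹ = w⁻¹ :=
  inverts_of_fixed_eq_one E.hyp.mul_self_r (E.T_normal E.hyp.r_mem_C) fun _ hw hc => E.noFixed hw hc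

theorem inv_T' : ∀ w ∈ extraT t D, r * σ * w * (r * σ)⁻¹ = w⁻¹ := by
  obtain ⟨_, _, _, E', -⟩ := E.swap
  exact E'.inv_T

theorem T_central : ∀ u ∈ coreU t, ∀ w ∈ extraT t D, Commute u w :=
  commute_of_inverted E.hyp E.caseB.noTheta E.not_abelian E.T_normal E.inv_T E.inv_T'

theorem z_mem_T : z ∈ extraT t D :=
  ⟨E.mem_U_of_mem_D E.ext.z_mem, mem_centralizer_iff.2 fun _ hd =>
    (E.ext.commute_of_mem_zpowers (mem_zpowers z) hd).eq.symm⟩

theorem D_inf_T : D ⊓ extraT t D = zpowers z := by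
  refine le_antisymm ?_ (zpowers_le.2 ⟨E.ext.z_mem, E.z_mem_T⟩)
  rw [← E.ext.center_eq]
  exact fun w hw => ⟨hw.1, hw.2.2⟩

theorem T_cyclic : IsCyclic (extraT t D) := by
  obtain ⟨T, _, _, _, _, hT, hmem, -⟩ := E.caseB.centShape y E.y_mem_coreW (E.order_y ▸ (Fact.out : p.Prime).isPrimePow)
    E.y_ne_one
  haveI := hT
  exact isCyclic_of_injective (inclusion fun w hw => (hmem w).2
    ⟨E.extraT_le hw, E.commute_T hw E.ext.mem_y, E.inv_T w hw⟩) (inclusion_injective _)

theorem p_dvd_T : p ∣ Nat.card (extraT t D) := by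
  rw [← E.ext.order_z]
  exact orderOf_dvd_natCard _ E.z_mem_T

theorem odd_T : Odd (Nat.card (extraT t D)) :=
  E.hyp.odd_coreU.of_dvd_nat (card_dvd_of_le E.extraT_le)

/-- Subgroups of `C_U(D)` are normal in `C(t)`. -/
theorem T_sub_normal {q : ℕ} {a : G} (ha : a ∈ extraT t D) (hao : orderOf a = q) :
    centralizer ({t} : Set G) ≤ normalizer (zpowers a : Set G) := fun _ hg =>
  mem_normalizer_zpowers_of_cyclic E.T_cyclic ha hao (E.T_normal hg)

/-! ### `D C_U(D)` -/

theorem extraK_le : extraK t D ≤ coreU t := sup_le E.ext.le E.extraT_le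

theorem K_normal : centralizer ({t} : Set G) ≤ normalizer (extraK t D : Set G) := fun _ hg =>
  GWKlein.normalizer_inf_le_sup _ _ ⟨E.ext.normal hg, E.T_normal hg⟩

theorem card_K : Nat.card (extraK t D) = p ^ 2 * Nat.card (extraT t D) := by
  have h1 := PLocal.card_sup_mul_card_inf (H := extraT t D) (K := D)
    (E.ext.le.trans ((GWKlein.coreU_le_centralizer t).trans E.T_normal))
  rw [inf_comm, E.D_inf_T, Nat.card_zpowers, E.ext.order_z, sup_comm, E.ext.card] at h1
  exact Nat.eq_of_mul_eq_mul_right (Fact.out : p.Prime).pos (h1.trans (by ring))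

theorem exists_mul_of_mem_K {k : G} (hk : k ∈ extraK t D) : ∃ d ∈ D, ∃ w ∈ extraT t D, k = d * w := by
  have hle : D ≤ normalizer (extraT t D : Set G) :=
    E.ext.le.trans ((GWKlein.coreU_le_centralizer t).trans E.T_normal)
  have h : k ∈ ((D ⊔ extraT t D : Subgroup G) : Set G) := hk
  rw [Subgroup.coe_mul_of_left_le_normalizer_right D (extraT t D) hle] at h
  obtain ⟨d, hd, w, hw, rfl⟩ := Set.mem_mul.1 h
  exact ⟨d, hd, w, hw, rfl⟩

theorem actM_D {d : G} (hd : d ∈ D) : actM p y x z d = 1 := by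
  have hc : ∀ g ∈ D, coA p x z (d * g * d⁻¹) = coA p x z g ∧ coB p y z (d * g * d⁻¹) = coB p y z g := by
    intro g hg
    rw [E.ext.coA_mul (mul_mem hd hg) (inv_mem hd), E.ext.coA_mul hd hg, E.ext.coA_inv hd,
      E.ext.coB_mul (mul_mem hd hg) (inv_mem hd), E.ext.coB_mul hd hg, E.ext.coB_inv hd]
    constructor <;> ring
  obtain ⟨hy1, hy2⟩ := hc y E.ext.mem_y
  obtain ⟨hx1, hx2⟩ := hc x E.ext.mem_x
  ext i j
  fin_cases i <;> fin_cases j <;>
    simp [actM, hy1, hy2, hx1, hx2, E.ext.coA_y, E.ext.coA_x, E.ext.coB_x, E.ext.coB_y]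

theorem actM_K {k : G} (hk : k ∈ extraK t D) : actM p y x z k = 1 := by
  obtain ⟨d, hd, w, hw, rfl⟩ := E.exists_mul_of_mem_K hk
  have hC := GWKlein.coreU_le_centralizer t
  rw [E.ext.actM_mul (hC (E.mem_U_of_mem_D hd)) (hC (E.extraT_le hw)), E.actM_D hd, one_mul]
  ext i j
  have ey : w * y * w⁻¹ = y := by rw [(E.commute_T hw E.ext.mem_y).eq, mul_inv_cancel_right]
  have ex : w * x * w⁻¹ = x := by rw [(E.commute_T hw E.ext.mem_x).eq, mul_inv_cancel_right]
  fin_cases i <;> fin_cases j <;>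
    simp [actM, ey, ex, E.ext.coA_y, E.ext.coA_x, E.ext.coB_x, E.ext.coB_y]

theorem mem_K_of_actM {u : G} (hu : u ∈ coreU t) (h1 : actM p y x z u = 1) : u ∈ extraK t D := by
  have hC := GWKlein.coreU_le_centralizer t hu
  have key : ∀ g ∈ D, coA p x z (u * g * u⁻¹) = coA p x z g → coB p y z (u * g * u⁻¹) = coB p y z g →
      ∃ k : ZMod p, u * g * u⁻¹ = g * z ^ k.val := fun g hg ha hb => by
    have hgD := E.ext.conj_mem hC hg
    obtain ⟨k, hk⟩ := E.ext.exists_pow_val (E.ext.mem_zpowers_of_co (mul_mem (inv_mem hg) hgD)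
      (by rw [E.ext.coA_mul (inv_mem hg) hgD, E.ext.coA_inv hg, ha]; ring)
      (by rw [E.ext.coB_mul (inv_mem hg) hgD, E.ext.coB_inv hg, hb]; ring))
    exact ⟨k, by rw [hk, mul_inv_cancel_left]⟩
  have hy := E.ext.co_conj hC E.ext.mem_y
  have hx := E.ext.co_conj hC E.ext.mem_x
  simp [h1, E.ext.coA_y, E.ext.coA_x, E.ext.coB_x, E.ext.coB_y] at hy hx
  obtain ⟨i, hi⟩ := key y E.ext.mem_y (hy.1.trans E.ext.coA_y.symm) (hy.2.trans E.ext.coB_y.symm)
  obtain ⟨j, hj⟩ := key x E.ext.mem_x (hx.1.trans E.ext.coA_x.symm) (hx.2.trans E.ext.coB_x.symm)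
  -- the inner part
  set d := y ^ j.val * x ^ (-i).val with hddef
  have hd : d ∈ D := mul_mem (pow_mem E.ext.mem_y _) (pow_mem E.ext.mem_x _)
  have hda : coA p x z d = j := by
    rw [hddef, E.ext.coA_mul (pow_mem E.ext.mem_y _) (pow_mem E.ext.mem_x _), E.ext.coA_pow E.ext.mem_y,
      E.ext.coA_pow E.ext.mem_x, E.ext.coA_y, E.ext.coA_x, ZMod.natCast_zmod_val]
    ring
  have hdb : coB p y z d = -i := by
    rw [hddef, E.ext.coB_mul (pow_mem E.ext.mem_y _) (pow_mem E.ext.mem_x _), E.ext.coB_pow E.ext.mem_y,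
      E.ext.coB_pow E.ext.mem_x, E.ext.coB_y, E.ext.coB_x]
    simp only [ZMod.natCast_zmod_val]
    ring
  have inner : ∀ g ∈ D, ∀ k : ZMod p, coA p x z d * coB p y z g - coB p y z d * coA p x z g = k →
      d * g * d⁻¹ = g * z ^ k.val := fun g hg k hk => by
    have e := E.ext.pow_logz (E.ext.commutator_mem hd hg)
    rw [E.ext.logz_commutator hd hg, hk] at e
    rw [← (E.ext.commute_of_mem_zpowers (pow_mem (mem_zpowers z) _) hg).eq, e]
    group
  have h3 : d * y * d⁻¹ = u * y * u⁻¹ := by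
    rw [hi, inner y E.ext.mem_y i (by rw [hda, hdb, E.ext.coA_y, E.ext.coB_y]; ring)]
  have h4 : d * x * d⁻¹ = u * x * u⁻¹ := by
    rw [hj, inner x E.ext.mem_x j (by rw [hda, hdb, E.ext.coA_x, E.ext.coB_x]; ring)]
  have hw : d⁻¹ * u ∈ extraT t D := by
    refine mem_inf.2 ⟨mul_mem (inv_mem (E.mem_U_of_mem_D hd)) hu, mem_centralizer_iff.2 fun g hg => ?_⟩
    have cy : Commute (d⁻¹ * u) y := mul_inv_eq_iff_eq_mul.1 (by
      rw [show d⁻¹ * u * y * (d⁻¹ * u)⁻¹ = d⁻¹ * (u * y * u⁻¹) * d by group, ← h3]; group)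
    have cx : Commute (d⁻¹ * u) x := mul_inv_eq_iff_eq_mul.1 (by
      rw [show d⁻¹ * u * x * (d⁻¹ * u)⁻¹ = d⁻¹ * (u * x * u⁻¹) * d by group, ← h4]; group)
    have cz : Commute (d⁻¹ * u) z := E.commute_z (mul_mem (inv_mem (E.mem_U_of_mem_D hd)) hu)
    obtain ⟨w, hw, hdec⟩ := E.ext.exists_decomp hg
    obtain ⟨k, rfl⟩ := mem_powers_iff_mem_zpowers.2 hw
    rw [hdec]
    exact (((cy.pow_right _).mul_right (cx.pow_right _)).mul_right (cz.pow_right _)).eq.symm
  rw [← mul_inv_cancel_left d u]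
  exact mul_mem (mem_sup_left hd) (mem_sup_right hw)

end Extra

end Cfsg.Agent.GWDihedral
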