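import Cfsg.Agent.Lib.GWDihedral.ExtraSetup
import Cfsg.Agent.Lib.GWDihedral.ExtraRatio

/-!
# Gorenstein-Walter, dihedral case: the group induced on the extraspecial subgroup

* `Extra.noLine` : `C(t)` fixes no line of the coordinates
* `Extra.psiU` : the action of `U`, with kernel `extraK t D` and image `A` of order `e` prime to `p`
* `Extra.core` : both reflections invert the image, so `A⟨σ⟩` is abelian and `|W| = p` on both sides
-/

set_option autoImplicit false
set_option linter.unusedSectionVars false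
set_option linter.style.haveILetI false

namespace Cfsg.Agent.GWDihedral

open Subgroup
open Cfsg.Agent.GWKlein (coreU coreW fourV)
open Cfsg.Agent.PSL2 (SL2 tr lin)

universe u

namespace SLTools

variable {p : ℕ} [Fact p.Prime]

/-- Two independent fixed vectors. -/
theorem eq_one_of_fixed_pair {g : SL2 (ZMod p)} {v w : Fin 2 → ZMod p} (hv : g.1.mulVec v = v)
    (hw : g.1.mulVec w = w) (h : w 0 * v 1 - w 1 * v 0 ≠ 0) : g = 1 := by
  have hv0 := congrFun hv 0
  have hv1 := congrFun hv 1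
  have hw0 := congrFun hw 0
  have hw1 := congrFun hw 1
  simp [Matrix.mulVec, dotProduct, Fin.sum_univ_two] at hv0 hv1 hw0 hw1
  have e00 : g.1 0 0 = 1 := mul_right_cancel₀ h (by linear_combination v 1 * hw0 - w 1 * hv0)
  have e01 : g.1 0 1 = 0 := mul_right_cancel₀ h (by linear_combination w 0 * hv0 - v 0 * hw0)
  have e10 : g.1 1 0 = 0 := mul_right_cancel₀ h (by linear_combination v 1 * hw1 - w 1 * hv1)
  have e11 : g.1 1 1 = 1 := mul_right_cancel₀ h (by linear_combination w 0 * hv1 - v 0 * hw1)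
  refine Subtype.ext (Matrix.ext fun i j => ?_)
  fin_cases i <;> fin_cases j <;> simp [e00, e01, e10, e11]

end SLTools

section Conj

variable {G : Type u} [Group G]

/-- Conjugation by an element of `C(t)` on `U`. -/
noncomputable def uConj {t c : G} (hc : c ∈ centralizer ({t} : Set G)) : coreU t →* coreU t where
  toFun u := ⟨c * u * c⁻¹, (mem_normalizer_iff.1 (GWKlein.centralizer_le_normalizer_coreU t hc) _).1 u.2⟩
  map_one' := Subtype.ext (by simp)
  map_mul' a b := Subtype.ext (by simp [mul_assoc])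

theorem uConj_coe {t c : G} (hc : c ∈ centralizer ({t} : Set G)) (u : coreU t) :
    ((uConj hc u : coreU t) : G) = c * u * c⁻¹ := rfl

end Conj

namespace Extra

variable {G : Type u} [Group G] [Finite G] [IsSimpleGroup G] {n p : ℕ} [Fact p.Prime] {t r σ y x z : G}
  {D : Subgroup G} (E : Extra n p t r σ y x z D)
include E

/-! ### No invariant line -/

/-- `C(t)` fixes no line of the coordinates. -/
theorem noLine {v : Fin 2 → ZMod p} (hv : v ≠ 0)
    (h : ∀ g ∈ centralizer ({t} : Set G),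
      (actM p y x z g).mulVec v 0 * v 1 - (actM p y x z g).mulVec v 1 * v 0 = 0) : False := by
  have hyp := E.hyp
  have hp := E.ext.ne_two
  have hv' : ¬ (v 0 = 0 ∧ v 1 = 0) := fun hc => hv (funext fun i => by fin_cases i <;> simp [hc.1, hc.2])
  let X : Subgroup G :=
    { carrier := {d | d ∈ D ∧ coA p x z d * v 1 - coB p y z d * v 0 = 0}
      one_mem' := ⟨one_mem D, by simp [E.ext.coA_one, E.ext.coB_one]⟩
      mul_mem' := fun {a b} ha hb => ⟨mul_mem ha.1 hb.1, by
        rw [E.ext.coA_mul ha.1 hb.1, E.ext.coB_mul ha.1 hb.1]; linear_combination ha.2 + hb.2⟩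
      inv_mem' := fun {a} ha => ⟨inv_mem ha.1, by
        rw [E.ext.coA_inv ha.1, E.ext.coB_inv ha.1]; linear_combination -ha.2⟩ }
  have hmem : ∀ {d : G}, d ∈ X ↔ d ∈ D ∧ coA p x z d * v 1 - coB p y z d * v 0 = 0 := fun {d} => Iff.rfl
  have hXD : X ≤ D := fun d hd => hd.1
  have hXU : X ≤ coreU t := hXD.trans E.ext.le
  have hzX : z ∈ X := hmem.2 ⟨E.ext.z_mem, by rw [E.ext.coA_z (mem_zpowers z), E.ext.coB_z (mem_zpowers z)]; ring⟩
  have hXab : ∀ a ∈ X, ∀ b ∈ X, Commute a b := fun a ha b hb => by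
    refine (E.ext.commute_iff_det ha.1 hb.1).2 ?_
    rcases not_and_or.1 hv' with hv0 | hv1
    · refine mul_left_cancel₀ hv0 ?_
      linear_combination coA p x z b * ha.2 - coA p x z a * hb.2
    · refine mul_left_cancel₀ hv1 ?_
      linear_combination coB p y z b * ha.2 - coB p y z a * hb.2
  have hXe : Cfsg.IsElementaryAbelian p X :=
    ⟨⟨⟨fun a b => Subtype.ext (hXab a a.2 b b.2).eq⟩⟩, fun a ha => E.ext.exponent a (hXD ha)⟩
  have hXn : centralizer ({t} : Set G) ≤ normalizer (X : Set G) := fun g hg =>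
    Coprime.mem_normalizer_of_forall fun d hd => by
      refine hmem.2 ⟨E.ext.conj_mem hg hd.1, ?_⟩
      obtain ⟨e1, e2⟩ := E.ext.co_conj hg hd.1
      have hg' := h g hg
      simp [Matrix.mulVec, dotProduct, Fin.sum_univ_two] at hg'
      rw [e1, e2]
      rcases not_and_or.1 hv' with hv0 | hv1
      · refine mul_left_cancel₀ hv0 ?_
        linear_combination coA p x z d * hg' +
          (actM p y x z g 1 1 * v 0 - actM p y x z g 0 1 * v 1) * hd.2
      · refine mul_left_cancel₀ hv1 ?_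
        linear_combination coB p y z d * hg' +
          (actM p y x z g 0 0 * v 1 - actM p y x z g 1 0 * v 0) * hd.2
  have hr := h r hyp.r_mem_C
  rw [E.ext.actM_r] at hr
  simp [Matrix.mulVec, dotProduct, Fin.sum_univ_two] at hr
  have huv : 2 * (v 0 * v 1) = 0 := by linear_combination hr
  replace huv := (mul_eq_zero.1 huv).resolve_left (SLTools.two_ne_zero_zmod hp)
  have hXc : Nat.card X = p ^ 2 := by
    let φ : D →* Multiplicative (ZMod p) :=
      { toFun := fun d => Multiplicative.ofAdd (coA p x z d * v 1 - coB p y z d * v 0)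
        map_one' := by simp [E.ext.coA_one, E.ext.coB_one]
        map_mul' := fun a b => by
          rw [← ofAdd_add, Subgroup.coe_mul, E.ext.coA_mul a.2 b.2, E.ext.coB_mul a.2 b.2]
          congr 1
          ring }
    have hrange : φ.range = ⊤ := by
      haveI : Fact (Nat.card (Multiplicative (ZMod p))).Prime :=
        ⟨by rw [Nat.card_congr Multiplicative.toAdd, Nat.card_zmod]; exact Fact.out⟩
      refine (φ.range.eq_bot_or_eq_top_of_prime_card).resolve_left fun e => hv' ⟨?_, ?_⟩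
      · have h1 : φ ⟨x, E.ext.mem_x⟩ ∈ φ.range := ⟨_, rfl⟩
        rw [e, mem_bot] at h1
        have h2 : coA p x z x * v 1 - coB p y z x * v 0 = 0 := congrArg Multiplicative.toAdd h1
        rw [E.ext.coA_x, E.ext.coB_x] at h2
        linear_combination -h2
      · have h1 : φ ⟨y, E.ext.mem_y⟩ ∈ φ.range := ⟨_, rfl⟩
        rw [e, mem_bot] at h1
        have h2 : coA p x z y * v 1 - coB p y z y * v 0 = 0 := congrArg Multiplicative.toAdd h1
        rw [E.ext.coA_y, E.ext.coB_y] at h2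
        linear_combination h2
    have h1 := φ.ker.card_mul_index
    rw [index_ker, hrange, card_top, E.ext.card, Nat.card_congr Multiplicative.toAdd, Nat.card_zmod] at h1
    have e : φ.ker = X.subgroupOf D := by
      ext d
      rw [MonoidHom.mem_ker, mem_subgroupOf, hmem]
      exact ⟨fun he => ⟨d.2, congrArg Multiplicative.toAdd he⟩, fun he => congrArg Multiplicative.ofAdd he.2⟩
    rw [e, Nat.card_congr (subgroupOfEquivOfLe hXD).toEquiv] at h1
    exact Nat.eq_of_mul_eq_mul_right (Fact.out : p.Prime).pos (h1.trans (by ring))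
  rcases mul_eq_zero.1 huv with h0 | h1
  · -- the line of `x`
    have hxX : x ∈ X := hmem.2 ⟨E.ext.mem_x, by rw [E.ext.coA_x, h0]; ring⟩
    have hrσX : r * σ ∈ normalizer (X : Set G) := hXn E.rσ_mem_C
    by_cases hf : ∃ f ∈ X, f ≠ 1 ∧ Commute (r * σ) f
    · obtain ⟨f, hf, hf1, hfc⟩ := hf
      exact (E.noPair p X f z).2 ⟨Fact.out, hp, hXe, hXc, hXU, hXn, hf, hzX,
        orderOf_eq_prime (hXe.2 f hf) hf1, E.ext.order_z, hfc, E.inv_z'⟩
    · push Not at hf
      have hi2 := inverts_of_fixed_eq_one hyp.mul_σ_sq hrσX fun a ha hc =>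
        by_contra fun h1 => hf a ha h1 hc
      have hi1 : ∀ a ∈ X, r * a * r⁻¹ = a⁻¹ := fun a ha => by
        have hB : coA p x z a = 0 := by
          have := ha.2
          rw [h0, mul_zero, sub_zero] at this
          exact (mul_eq_zero.1 this).resolve_right fun e => hv' ⟨h0, e⟩
        obtain ⟨w, hw, hdec⟩ := E.ext.exists_decomp ha.1
        rw [hdec, hB, ZMod.val_zero, pow_zero, one_mul, ← _root_.conj_mul, ← conj_pow, E.ext.inv_x, E.inv_Z hw,
          mul_inv_rev, inv_pow]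
        exact ((E.ext.commute_of_mem_zpowers hw (pow_mem E.ext.mem_x _)).inv_inv).eq.symm
      exact E.ext.not_commute_yx (commute_of_inverted hyp E.caseB.noTheta E.not_abelian hXn hi1 hi2 y
        (E.mem_U_of_mem_D E.ext.mem_y) x hxX)
  · -- the line of `y`
    exact (E.noPair p X y z).1 ⟨Fact.out, hp, hXe, hXc, hXU, hXn,
      hmem.2 ⟨E.ext.mem_y, by rw [E.ext.coB_y, h1]; ring⟩, hzX, E.order_y, E.ext.order_z, E.ext.fix_y, E.ext.inv_z⟩

/-- The case of the line of `y`. -/
theorem false_of_triangular (hU : ∀ u ∈ coreU t, actM p y x z u 1 0 = 0) (hσ : actM p y x z σ 1 0 = 0) : False := by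
  let M : Submonoid G :=
    { carrier := {g | g ∈ centralizer ({t} : Set G) ∧ actM p y x z g 1 0 = 0}
      one_mem' := ⟨one_mem _, by rw [E.ext.actM_one]; simp⟩
      mul_mem' := fun {a b} ha hb => ⟨mul_mem ha.1 hb.1, by
        rw [E.ext.actM_mul ha.1 hb.1]; simp [Matrix.mul_apply, Fin.sum_univ_two, ha.2, hb.2]⟩ }
  let K : Subgroup G :=
    { M with
      inv_mem' := fun {g} hg => by
        have : g⁻¹ ∈ Submonoid.powers g := by
          rw [← SetLike.mem_coe, IsOfFinOrder.powers_eq_zpowers (isOfFinOrder_of_finite g)]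
          exact inv_mem (Subgroup.mem_zpowers g)
        exact (Submonoid.powers_le.2 (show g ∈ M from hg)) this }
  have hle : centralizer ({t} : Set G) ≤ K := E.hyp.centralizer_le_of_gen
    (fun u hu => ⟨GWKlein.coreU_le_centralizer t hu, hU u hu⟩) ⟨E.hyp.σ_mem_C, hσ⟩
    ⟨E.hyp.r_mem_C, by rw [E.ext.actM_r]; simp⟩
  refine E.noLine (v := ![1, 0]) (fun e => by simpa using congrFun e 0) fun g hg => ?_
  have h10 : actM p y x z g 1 0 = 0 := (hle hg).2
  simp [Matrix.mulVec, dotProduct, Fin.sum_univ_two, h10]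

/-! ### The image of `U` -/

/-- The action of `U`. -/
noncomputable def psiU : coreU t →* SL2 (ZMod p) := E.psi.comp (inclusion E.U_le_H)

theorem psiU_coe (u : coreU t) : (E.psiU u).1 = actM p y x z (u : G) := rfl

theorem ker_psiU : E.psiU.ker = (extraK t D).subgroupOf (coreU t) := by
  ext u
  rw [MonoidHom.mem_ker, mem_subgroupOf]
  exact ⟨fun h => E.mem_K_of_actM u.2 (congrArg Subtype.val h), fun h => Subtype.ext (E.actM_K h)⟩

theorem mem_K_iff {u : coreU t} : (u : G) ∈ extraK t D ↔ E.psiU u = 1 := by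
  rw [← MonoidHom.mem_ker, E.ker_psiU, mem_subgroupOf]

theorem card_range : Nat.card E.psiU.range = (extraK t D).relIndex (coreU t) := by
  rw [← index_ker, E.ker_psiU]
  rfl

theorem card_U : Nat.card (coreU t) = (extraK t D).relIndex (coreU t) * (p ^ 2 * Nat.card (extraT t D)) := by
  rw [← E.card_K, mul_comm, ← Subgroup.relIndex_bot_left (extraK t D),
    Subgroup.relIndex_mul_relIndex _ _ _ bot_le E.extraK_le, Subgroup.relIndex_bot_left]

theorem odd_range : Odd (Nat.card E.psiU.range) :=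
  E.hyp.odd_coreU.of_dvd_nat (card_range_dvd _)

theorem odd_relIndex : Odd ((extraK t D).relIndex (coreU t)) := E.card_range ▸ E.odd_range

theorem actM_conj {c g : G} (hc : c ∈ centralizer ({t} : Set G)) (hg : g ∈ centralizer ({t} : Set G)) :
    actM p y x z g * actM p y x z c = actM p y x z c * actM p y x z (c⁻¹ * g * c) := by
  rw [← E.ext.actM_mul hg hc, ← E.ext.actM_mul hc (mul_mem (mul_mem (inv_mem hc) hg) hc)]
  congr 1
  group

theorem p_not_dvd : ¬ p ∣ (extraK t D).relIndex (coreU t) := by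
  rw [← E.card_range]
  intro hd
  obtain ⟨⟨g, u, rfl⟩, hg⟩ := exists_prime_orderOf_dvd_card' (G := E.psiU.range) p hd
  rw [← Subgroup.orderOf_coe] at hg
  simp only at hg
  set g := E.psiU u with hgu
  have hgp : g ^ p = 1 := orderOf_dvd_iff_pow_eq_one.1 hg.dvd
  have hg1 : g ≠ 1 := fun e => (Fact.out : p.Prime).ne_one (hg.symm.trans (by rw [e, orderOf_one]))
  obtain ⟨v, hv, hgv⟩ : ∃ v, v ≠ 0 ∧ (g.1 - 1).mulVec v = 0 := by
    refine Matrix.exists_mulVec_eq_zero_iff.2 (pow_eq_zero_iff (Fact.out : p.Prime).ne_zero |>.1 ?_)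
    rw [← Matrix.det_pow, sub_pow_char_of_commute p (Commute.one_right g.1), one_pow,
      ← Matrix.SpecialLinearGroup.coe_pow, hgp, Matrix.SpecialLinearGroup.coe_one, sub_self, Matrix.det_zero]
  rw [Matrix.sub_mulVec, Matrix.one_mulVec, sub_eq_zero] at hgv
  refine E.noLine hv fun c hc => ?_
  have hu' : c⁻¹ * u * c ∈ coreU t := by
    have := (mem_normalizer_iff.1 (inv_mem (GWKlein.centralizer_le_normalizer_coreU t hc)) (u : G)).1 u.2
    rwa [inv_inv] at this
  have hpow : E.psiU ⟨_, hu'⟩ ∈ zpowers g := by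
    refine SLTools.pow_prime_unique E.ext.ne_two E.odd_range ⟨u, rfl⟩ ⟨_, rfl⟩ hgp hg1 ?_
    rw [← map_pow]
    have h1 : (u : G) ^ p ∈ extraK t D := by
      have h2 : E.psiU (u ^ p) = 1 := by rw [map_pow, ← hgu, hgp]
      simpa using E.mem_K_iff.2 h2
    refine E.mem_K_iff.1 ?_
    show (c⁻¹ * u * c) ^ p ∈ extraK t D
    have h3 := (mem_normalizer_iff.1 (inv_mem (E.K_normal hc)) _).1 h1
    rw [inv_inv] at h3
    rwa [show (c⁻¹ * (u : G) * c) ^ p = c⁻¹ * (u : G) ^ p * c by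
      simpa using conj_pow (a := c⁻¹) (b := (u : G)) (i := p)]
  obtain ⟨k, hk⟩ := mem_powers_iff_mem_zpowers.2 hpow
  have hfix : ∀ k : ℕ, (g ^ k).1.mulVec v = v := fun k => by
    induction k with
    | zero => simp
    | succ k ih => rw [pow_succ, Matrix.SpecialLinearGroup.coe_mul, ← Matrix.mulVec_mulVec, hgv, ih]
  have hcv : g.1.mulVec ((actM p y x z c).mulVec v) = (actM p y x z c).mulVec v := by
    rw [Matrix.mulVec_mulVec, hgu, E.psiU_coe, E.actM_conj hc (GWKlein.coreU_le_centralizer t u.2),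
      ← Matrix.mulVec_mulVec, show actM p y x z (c⁻¹ * u * c) = (g ^ k).1 from congrArg Subtype.val hk.symm, hfix]
  by_contra hne
  exact hg1 (SLTools.eq_one_of_fixed_pair hgv hcv hne)

theorem coprime_of_mem {a : SL2 (ZMod p)} (ha : a ∈ E.psiU.range) : (orderOf a).Coprime p := by
  rw [Nat.coprime_comm, (Fact.out : p.Prime).coprime_iff_not_dvd]
  intro hd
  refine E.p_not_dvd (hd.trans ?_)
  rw [← E.card_range]
  exact orderOf_dvd_natCard _ ha

theorem range_comm : ∀ a ∈ E.psiU.range, ∀ b ∈ E.psiU.range, Commute a b := by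
  classical
  set B := E.psiU.range
  haveI : Group.IsSolvable (coreU t) := E.hyp.isSolvable_coreU
  haveI : Group.IsSolvable B := Group.isSolvable_of_surjective (f := E.psiU.rangeRestrict)
    E.psiU.rangeRestrict_surjective
  obtain ⟨m, hm⟩ := Group.IsSolvable.solvable (G := B)
  have hex : ∃ m, derivedSeries B m = ⊥ := ⟨m, hm⟩
  rcases Nat.eq_zero_or_pos (Nat.find hex) with h0 | hpos
  · have h1 := Nat.find_spec hex
    rw [h0, derivedSeries_zero] at h1
    intro a ha b _
    have : (⟨a, ha⟩ : B) = 1 := mem_bot.1 (h1 ▸ mem_top _)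
    rw [show a = 1 from congrArg Subtype.val this]
    exact Commute.one_left b
  obtain ⟨k, hk⟩ : ∃ k, Nat.find hex = k + 1 := ⟨Nat.find hex - 1, by omega⟩
  have hQ0 : derivedSeries B k ≠ ⊥ := Nat.find_min hex (by omega)
  have hQ1 : ⁅derivedSeries B k, derivedSeries B k⁆ = ⊥ := by
    rw [← derivedSeries_succ, ← hk]; exact Nat.find_spec hex
  obtain ⟨q, hq, hq1⟩ := (derivedSeries B k).bot_or_exists_ne_one.resolve_left hQ0
  have hq1' : (q : SL2 (ZMod p)) ≠ 1 := fun e => hq1 (Subtype.ext e)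
  have hodd : ∀ a ∈ B, Odd (orderOf a) := fun a ha => E.odd_range.of_dvd_nat (orderOf_dvd_natCard _ ha)
  have hcq := SLTools.not_center_of_odd (hodd _ q.2) hq1'
  have key : ∀ a ∈ B, Commute a (q : SL2 (ZMod p)) := fun a ha => by
    refine SLTools.commute_of_conj E.ext.ne_two (E.coprime_of_mem q.2) hcq (hodd a ha) ?_
    have hn : (⟨a, ha⟩ : B) * q * (⟨a, ha⟩ : B)⁻¹ ∈ derivedSeries B k :=
      (derivedSeries_normal B k).conj_mem q hq _
    have := commutator_eq_bot_iff_le_centralizer.1 hQ1 hn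
    exact (congrArg Subtype.val (mem_centralizer_iff.1 this q hq)).symm
  exact fun a ha b hb => PSL2.commute_of_commute hcq (key a ha) (key b hb)

theorem range_cyclic : IsCyclic E.psiU.range :=
  SLTools.isCyclic_of_comm E.ext.ne_two E.range_comm fun _ ha => E.coprime_of_mem ha

/-- `C(t)` preserves the kernel. -/
theorem psiU_uConj_eq_one {c : G} (hc : c ∈ centralizer ({t} : Set G)) {u : coreU t} (hu : E.psiU u = 1) :
    E.psiU (uConj hc u) = 1 := by
  refine E.mem_K_iff.1 ?_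
  rw [uConj_coe]
  exact (mem_normalizer_iff.1 (E.K_normal hc) _).1 (E.mem_K_iff.2 hu)

theorem psiU_conj_r (u : coreU t) :
    (E.psiU (uConj E.hyp.r_mem_C u)).1 = !![(E.psiU u).1 0 0, -(E.psiU u).1 0 1;
      -(E.psiU u).1 1 0, (E.psiU u).1 1 1] := by
  have hC := GWKlein.coreU_le_centralizer t u.2
  have e : r * (u : G) * r⁻¹ = r * (u : G) * r := by rw [inv_eq_of_mul_eq_one_right E.hyp.mul_self_r]
  show actM p y x z (r * (u : G) * r⁻¹) = _
  rw [e, E.ext.actM_mul (mul_mem E.hyp.r_mem_C hC) E.hyp.r_mem_C, E.ext.actM_mul E.hyp.r_mem_C hC, E.ext.actM_r,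
    E.psiU_coe]
  generalize actM p y x z (u : G) = m
  conv_lhs => rw [Matrix.eta_fin_two m, Matrix.mul_fin_two, Matrix.mul_fin_two]
  simp

theorem tr_conj_r (u : coreU t) : tr (E.psiU (uConj E.hyp.r_mem_C u)) = tr (E.psiU u) := by
  simp [tr, E.psiU_conj_r u]

/-- `r` centralises or inverts `U` modulo `D C_U(D)`. -/
theorem sign : (∀ u ∈ coreU t, u⁻¹ * (r * u * r⁻¹) ∈ extraK t D) ∨
    ∀ u ∈ coreU t, u * (r * u * r⁻¹) ∈ extraK t D := by
  have hr := E.hyp.r_mem_C
  haveI := E.range_cyclic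
  obtain ⟨⟨g, u0, rfl⟩, hgen⟩ := IsCyclic.exists_generator (α := E.psiU.range)
  have hrep : ∀ u : coreU t, ∃ i : ℤ, E.psiU u = (E.psiU u0) ^ i ∧
      E.psiU (uConj hr u) = (E.psiU (uConj hr u0)) ^ i := fun u => by
    obtain ⟨i, hi⟩ := mem_zpowers_iff.1 (hgen ⟨E.psiU u, u, rfl⟩)
    have hi' : E.psiU u = (E.psiU u0) ^ i := (congrArg Subtype.val hi).symm
    refine ⟨i, hi', ?_⟩
    have h2 := E.psiU_uConj_eq_one hr (u := (u0 ^ i)⁻¹ * u)
      (by rw [map_mul, map_inv, map_zpow, hi', inv_mul_cancel])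
    simp only [map_mul, map_inv, map_zpow] at h2
    exact (inv_mul_eq_one.1 h2).symm
  have hcase : E.psiU (uConj hr u0) = E.psiU u0 ∨ E.psiU (uConj hr u0) = (E.psiU u0)⁻¹ := by
    by_cases h1 : E.psiU u0 = 1
    · exact Or.inl ((E.psiU_uConj_eq_one hr h1).trans h1.symm)
    · exact SLTools.eq_or_eq_inv E.ext.ne_two (E.coprime_of_mem ⟨u0, rfl⟩)
        (SLTools.not_center_of_odd (E.odd_range.of_dvd_nat (orderOf_dvd_natCard _ ⟨u0, rfl⟩)) h1)
        (E.range_comm _ ⟨_, rfl⟩ _ ⟨_, rfl⟩) (E.tr_conj_r u0)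
  rcases hcase with h1 | h1
  · refine Or.inl fun u hu => ?_
    obtain ⟨i, hi, hi'⟩ := hrep ⟨u, hu⟩
    have h3 : E.psiU ((⟨u, hu⟩ : coreU t)⁻¹ * uConj hr ⟨u, hu⟩) = 1 := by
      rw [map_mul, map_inv, hi', h1, hi, inv_mul_cancel]
    simpa [uConj_coe] using E.mem_K_iff.2 h3
  · refine Or.inr fun u hu => ?_
    obtain ⟨i, hi, hi'⟩ := hrep ⟨u, hu⟩
    have h3 : E.psiU ((⟨u, hu⟩ : coreU t) * uConj hr ⟨u, hu⟩) = 1 := by
      rw [map_mul, hi', h1, hi, inv_zpow, mul_inv_cancel]
    simpa [uConj_coe] using E.mem_K_iff.2 h3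

/-! ### The orders of `W` -/

theorem fixed_K {k : G} (hk : k ∈ extraK t D) (hr : Commute r k) : k ∈ zpowers y := by
  obtain ⟨d, hd, w, hw, rfl⟩ := E.exists_mul_of_mem_K hk
  have hrd := E.ext.conj_mem E.hyp.r_mem_C hd
  have e : r * d * r⁻¹ = d * (w * w) := by
    have h1 : r * (d * w) * r⁻¹ = d * w := by rw [hr.eq, mul_inv_cancel_right]
    rw [← _root_.conj_mul, E.inv_T w hw, mul_inv_eq_iff_eq_mul] at h1
    rw [h1, mul_assoc]
  have hww : w * w ∈ zpowers z := by
    rw [← E.D_inf_T]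
    refine mem_inf.2 ⟨?_, mul_mem hw hw⟩
    rw [show w * w = d⁻¹ * (r * d * r⁻¹) by rw [e, inv_mul_cancel_left]]
    exact mul_mem (inv_mem hd) hrd
  have hwz : w ∈ zpowers z := by
    obtain ⟨j, hj⟩ := E.hyp.odd_orderOf (E.extraT_le hw)
    have e2 : (w * w) ^ (j + 1) = w := by
      rw [← pow_two, ← pow_mul, show 2 * (j + 1) = orderOf w + 1 by omega, pow_succ, pow_orderOf_eq_one, one_mul]
    exact e2 ▸ pow_mem hww _
  have hk : d * w ∈ D := mul_mem hd (E.ext.mem_D hwz)
  obtain ⟨f1, f2⟩ := E.ext.co_conj E.hyp.r_mem_C hk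
  rw [hr.eq, mul_inv_cancel_right, E.ext.actM_r] at f1 f2
  simp at f2
  have hb : coB p y z (d * w) = 0 :=
    (mul_eq_zero.1 (show 2 * coB p y z (d * w) = 0 by linear_combination f2)).resolve_left
      (SLTools.two_ne_zero_zmod E.ext.ne_two)
  obtain ⟨w', hw', hdec⟩ := E.ext.exists_decomp hk
  rw [hb, ZMod.val_zero, pow_zero, mul_one] at hdec
  have hw1 : w' = 1 := by
    refine eq_one_of_fixed_inverted E.ext.ne_two (E.ext.exponent _ (E.ext.mem_D hw')) ?_ (E.inv_Z hw')
    have h2 := (E.ext.fix_y.pow_right (coA p x z (d * w)).val).inv_right.mul_right hr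
    have h3 : w' = (y ^ (coA p x z (d * w)).val)⁻¹ * (d * w) := eq_inv_mul_iff_mul_eq.2 hdec.symm
    rwa [← h3] at h2
  rw [hdec, hw1, mul_one]
  exact pow_mem (mem_zpowers y) _

theorem coreW_inf_K : coreW t r ⊓ extraK t D = zpowers y :=
  le_antisymm (fun k hk => E.fixed_K hk.2 (E.hyp.mem_coreW.1 hk.1).2.1.symm)
    (zpowers_le.2 ⟨E.y_mem_coreW, mem_sup_left E.ext.mem_y⟩)

theorem coreW_of_inverts (hi : ∀ u ∈ coreU t, u * (r * u * r⁻¹) ∈ extraK t D) : coreW t r = zpowers y := by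
  rw [← E.coreW_inf_K, eq_comm, inf_eq_left]
  intro w hw
  have hwU : w ∈ coreU t := hw.1
  have h1 := hi w hwU
  rw [show r * w * r⁻¹ = w by rw [(E.hyp.mem_coreW.1 hw).2.1.symm.eq, mul_inv_cancel_right]] at h1
  obtain ⟨j, hj⟩ := E.hyp.odd_orderOf hwU
  rw [show w = (w * w) ^ (j + 1) by
    rw [← pow_two, ← pow_mul, show 2 * (j + 1) = orderOf w + 1 by omega, pow_succ, pow_orderOf_eq_one, one_mul]]
  exact pow_mem h1 _

theorem card_coreW_of_inverts (hi : ∀ u ∈ coreU t, u * (r * u * r⁻¹) ∈ extraK t D) :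
    Nat.card (coreW t r) = p := by
  rw [E.coreW_of_inverts hi, Nat.card_zpowers, E.order_y]

theorem card_coreW_of_centralises (hc : ∀ u ∈ coreU t, u⁻¹ * (r * u * r⁻¹) ∈ extraK t D) :
    Nat.card (coreW t r) = (extraK t D).relIndex (coreU t) * p := by
  have hWU : coreW t r ≤ coreU t := GWKlein.coreW_le_coreU t r
  have hsup : extraK t D ⊔ coreW t r = coreU t := by
    refine le_antisymm (sup_le E.extraK_le hWU) fun u hu => ?_
    obtain ⟨a, haU, -, hai, hac⟩ := E.hyp.exists_inverted_mul hu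
    have h1 := hc a haU
    rw [hai] at h1
    have haK : a ∈ extraK t D := by
      obtain ⟨j, hj⟩ := E.hyp.odd_orderOf (inv_mem haU)
      rw [← inv_inv a, show a⁻¹ = (a⁻¹ * a⁻¹) ^ (j + 1) by
        rw [← pow_two, ← pow_mul, show 2 * (j + 1) = orderOf a⁻¹ + 1 by omega, pow_succ, pow_orderOf_eq_one,
          one_mul]]
      exact inv_mem (pow_mem h1 _)
    rw [show u = a * (a⁻¹ * u) from (mul_inv_cancel_left a u).symm]
    have hv : a⁻¹ * u ∈ coreU t := mul_mem (inv_mem haU) hu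
    exact mul_mem (mem_sup_left haK) (mem_sup_right (E.hyp.mem_coreW.2
      ⟨GWKlein.commute_of_mem_coreU hv, hac.symm, E.hyp.odd_orderOf hv⟩))
  have h1 := PLocal.card_sup_mul_card_inf (H := extraK t D) (K := coreW t r)
    (hWU.trans ((GWKlein.coreU_le_centralizer t).trans E.K_normal))
  rw [hsup, inf_comm, E.coreW_inf_K, Nat.card_zpowers, E.order_y, E.card_U, E.card_K] at h1
  refine Nat.eq_of_mul_eq_mul_left (show 0 < p ^ 2 * Nat.card (extraT t D) from
    Nat.mul_pos (pow_pos (Fact.out : p.Prime).pos 2) Nat.card_pos) ?_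
  rw [← h1]
  ring

/-! ### Both reflections invert the image -/

theorem psiU_conj (hσ : σ ∈ centralizer ({t} : Set G)) (u : coreU t) :
    E.psiU (uConj hσ u) = E.psi ⟨σ, E.σ_mem_H⟩ * E.psiU u * (E.psi ⟨σ, E.σ_mem_H⟩)⁻¹ := by
  rw [← map_inv]
  show E.psi (inclusion E.U_le_H (uConj hσ u)) = _ * E.psi (inclusion E.U_le_H u) * _
  rw [← map_mul, ← map_mul]
  exact congrArg E.psi (Subtype.ext rfl)

/-- The action of `r σ` modulo `K`, from those of `r` and `σ`. -/
theorem psiU_rσ (u : coreU t) : E.psiU (uConj E.rσ_mem_C u) =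
    E.psiU (uConj E.hyp.r_mem_C (uConj E.hyp.σ_mem_C u)) :=
  congrArg E.psiU (Subtype.ext (by show r * σ * (u : G) * (r * σ)⁻¹ = r * (σ * u * σ⁻¹) * r⁻¹; group))

theorem psiU_cent (hc : ∀ u ∈ coreU t, u⁻¹ * (r * u * r⁻¹) ∈ extraK t D) (u : coreU t) :
    E.psiU (uConj E.hyp.r_mem_C u) = E.psiU u := by
  have h1 := (E.mem_K_iff (u := u⁻¹ * uConj E.hyp.r_mem_C u)).1 (hc u u.2)
  rw [map_mul, map_inv, inv_mul_eq_one] at h1
  exact h1.symm

/-- A mixed action forces `n = 3`, where `σ` acts as a scalar. -/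
theorem false_of_mixed (he : (extraK t D).relIndex (coreU t) ≠ 1)
    (hc : ∀ u ∈ coreU t, u⁻¹ * (r * u * r⁻¹) ∈ extraK t D)
    (hi : ∀ u ∈ coreU t, u * (r * σ * u * (r * σ)⁻¹) ∈ extraK t D) : False := by
  have h := E.hyp
  obtain ⟨y', x', z', E', -⟩ := E.swap
  have hW := E.card_coreW_of_centralises hc
  have hW' := E'.card_coreW_of_inverts hi
  obtain ⟨j, hj⟩ := E.odd_relIndex
  have hn : n = 3 := h.three_of_ratio E.odd_relIndex (by omega) (by rw [hW, hW'])
  subst hn
  set S := E.psi ⟨σ, E.σ_mem_H⟩ with hS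
  have hS2 : S * S = 1 := by
    rw [hS, ← map_mul]
    refine Subtype.ext ?_
    show actM p y x z (σ * σ) = 1
    have et : σ * σ = t := by rw [h.t_eq]; norm_num [pow_two]
    have ey : t * y * t⁻¹ = y := by
      rw [(GWKlein.commute_of_mem_coreU (E.mem_U_of_mem_D E.ext.mem_y)).symm.eq, mul_inv_cancel_right]
    have ex : t * x * t⁻¹ = x := by
      rw [(GWKlein.commute_of_mem_coreU (E.mem_U_of_mem_D E.ext.mem_x)).symm.eq, mul_inv_cancel_right]
    rw [et]
    ext i k
    fin_cases i <;> fin_cases k <;>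
      simp [actM, ey, ex, E.ext.coA_y, E.ext.coA_x, E.ext.coB_x, E.ext.coB_y]
  have hSc := PSL2.mem_center_of_mul_self (SLTools.two_ne_zero_zmod E.ext.ne_two) hS2
  refine he ?_
  rw [← E.card_range]
  refine card_eq_one.2 ((eq_bot_iff_forall _).2 ?_)
  rintro _ ⟨u, rfl⟩
  have h1 := (E.mem_K_iff (u := u * uConj E.rσ_mem_C u)).1 (hi u u.2)
  rw [map_mul, E.psiU_rσ, E.psiU_cent hc, E.psiU_conj, ← hS, ← Subgroup.mem_center_iff.1 hSc (E.psiU u),
    mul_inv_cancel_right] at h1
  by_contra hne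
  have h2 : orderOf (E.psiU u) ∣ 2 := orderOf_dvd_of_pow_eq_one (by rw [pow_two]; exact h1)
  rcases (Nat.dvd_prime Nat.prime_two).1 h2 with h3 | h3
  · exact hne (orderOf_eq_one_iff.1 h3)
  · exact absurd (E.odd_range.of_dvd_nat (orderOf_dvd_natCard _ ⟨u, rfl⟩)) (by rw [h3]; decide)

/-- If both reflections centralise a non-trivial image, everything is diagonal. -/
theorem false_of_centralised (he : (extraK t D).relIndex (coreU t) ≠ 1)
    (hc : ∀ u ∈ coreU t, u⁻¹ * (r * u * r⁻¹) ∈ extraK t D)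
    (hc' : ∀ u ∈ coreU t, u⁻¹ * (r * σ * u * (r * σ)⁻¹) ∈ extraK t D) : False := by
  have h2 := SLTools.two_ne_zero_zmod (p := p) E.ext.ne_two
  obtain ⟨u0, hu0⟩ : ∃ u0, E.psiU u0 ≠ 1 := by
    by_contra! hall
    refine he ?_
    rw [← E.card_range]
    refine card_eq_one.2 ((eq_bot_iff_forall _).2 ?_)
    rintro _ ⟨u, rfl⟩
    exact hall u
  set g := E.psiU u0 with hg
  have hgc := SLTools.not_center_of_odd (E.odd_range.of_dvd_nat (orderOf_dvd_natCard _ ⟨u0, rfl⟩)) hu0
  have hdiag : ∀ u, (E.psiU u).1 1 0 = 0 := fun u => by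
    have e := congrArg (fun m : SL2 (ZMod p) => m.1 1 0) (E.psiU_cent hc u)
    simp [E.psiU_conj_r u] at e
    exact (mul_eq_zero.1 (show 2 * (E.psiU u).1 1 0 = 0 by linear_combination -e)).resolve_left h2
  refine E.false_of_triangular (fun u hu => hdiag ⟨u, hu⟩) ?_
  have hcomm : Commute (E.psi ⟨σ, E.σ_mem_H⟩) g := by
    refine mul_inv_eq_iff_eq_mul.1 ?_
    have h1 := (E.mem_K_iff (u := u0⁻¹ * uConj E.rσ_mem_C u0)).1 (hc' u0 u0.2)
    rw [map_mul, map_inv, E.psiU_rσ, E.psiU_cent hc, E.psiU_conj, inv_mul_eq_one] at h1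
    exact h1.symm
  obtain ⟨a, b, hab⟩ := PSL2.exists_lin_of_commute hgc (congrArg Subtype.val hcomm.eq)
  have e := congrFun (congrFun hab 1) 0
  rw [E.psi_coe] at e
  simpa [lin, hg, hdiag u0] using e

/-- **The structure**: both reflections invert the image, `σ` centralises it, `|W| = p` on both sides. -/
theorem core : Nat.card (coreW t r) = p ∧ Nat.card (coreW t (r * σ)) = p ∧
    ∃ i : ℕ, i ≤ n - 1 ∧ orderOf (E.psi ⟨σ, E.σ_mem_H⟩) = 2 ^ i ∧
      (∀ a ∈ E.psiU.range, Commute (E.psi ⟨σ, E.σ_mem_H⟩) a) ∧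
      ((extraK t D).relIndex (coreU t) = 1 → 2 ≤ i) ∧
      ((extraK t D).relIndex (coreU t) * 2 ^ i ∣ p - 1 ∨
        (extraK t D).relIndex (coreU t) * 2 ^ i ∣ p + 1) := by
  have h := E.hyp
  obtain ⟨y', x', z', E', -⟩ := E.swap
  set e := (extraK t D).relIndex (coreU t) with he
  have hinv1 : e = 1 → ∀ (c : G), c ∈ centralizer ({t} : Set G) → ∀ u ∈ coreU t, u * (c * u * c⁻¹) ∈ extraK t D :=
    fun he1 c hc u hu => relIndex_eq_one.1 he1
      (mul_mem hu ((mem_normalizer_iff.1 (GWKlein.centralizer_le_normalizer_coreU t hc) u).1 hu))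
  obtain ⟨hi, hi'⟩ : (∀ u ∈ coreU t, u * (r * u * r⁻¹) ∈ extraK t D) ∧
      ∀ u ∈ coreU t, u * (r * σ * u * (r * σ)⁻¹) ∈ extraK t D := by
    by_cases he1 : e = 1
    · exact ⟨hinv1 he1 r h.r_mem_C, hinv1 he1 _ E.rσ_mem_C⟩
    rcases E.sign with hc | hi <;> rcases E'.sign with hc' | hi'
    · exact (E.false_of_centralised he1 hc hc').elim
    · exact (E.false_of_mixed he1 hc hi').elim
    · exact (E'.false_of_mixed he1 hc' (by rwa [mul_inv_cancel_right])).elim
    · exact ⟨hi, hi'⟩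
  refine ⟨E.card_coreW_of_inverts hi, E'.card_coreW_of_inverts hi', ?_⟩
  set S := E.psi ⟨σ, E.σ_mem_H⟩ with hS
  have hinv : ∀ u, E.psiU (uConj h.r_mem_C u) = (E.psiU u)⁻¹ := fun u => by
    have h1 := (E.mem_K_iff (u := u * uConj h.r_mem_C u)).1 (hi u u.2)
    rw [map_mul] at h1
    exact eq_inv_of_mul_eq_one_right h1
  have hcomm : ∀ a ∈ E.psiU.range, Commute S a := by
    rintro _ ⟨u, rfl⟩
    refine mul_inv_eq_iff_eq_mul.1 ?_
    have h1 := (E.mem_K_iff (u := u * uConj E.rσ_mem_C u)).1 (hi' u u.2)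
    rw [map_mul, E.psiU_rσ, hinv, mul_inv_eq_one, E.psiU_conj] at h1
    exact h1.symm
  have hSn : S ^ 2 ^ (n - 1) = 1 := by
    rw [hS, ← map_pow, show (⟨σ, E.σ_mem_H⟩ : extraH t z) ^ 2 ^ (n - 1) = 1 from
      Subtype.ext (by rw [SubmonoidClass.coe_pow]; exact h.order_σ ▸ pow_orderOf_eq_one σ), map_one]
  obtain ⟨i, hi2, hord⟩ := (Nat.dvd_prime_pow Nat.prime_two).1 (orderOf_dvd_of_pow_eq_one hSn)
  refine ⟨i, hi2, hord, hcomm, fun he1 => ?_, ?_⟩
  · by_contra hlt
    have hU : ∀ u ∈ coreU t, actM p y x z u = 1 := fun u hu =>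
      E.actM_K (relIndex_eq_one.1 he1 hu)
    refine E.false_of_triangular (fun u hu => by rw [hU u hu]; simp) ?_
    have hSS : S * S = 1 := by
      rw [← pow_two]
      exact orderOf_dvd_iff_pow_eq_one.1 (hord ▸ pow_dvd_pow 2 (show i ≤ 1 by omega) |>.trans (by norm_num))
    rw [← E.psi_coe ⟨σ, E.σ_mem_H⟩]
    rcases PSL2.mem_center_iff'.1 (PSL2.mem_center_of_mul_self (SLTools.two_ne_zero_zmod E.ext.ne_two) hSS) with
      h1 | h1 <;> rw [show E.psi ⟨σ, E.σ_mem_H⟩ = S from rfl, h1] <;> simp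
  · set A := E.psiU.range ⊔ zpowers S with hA
    have hcen : ∀ a ∈ E.psiU.range, ∀ w ∈ zpowers S, Commute a w := fun a ha w hw => by
      obtain ⟨k, rfl⟩ := hw
      exact ((hcomm a ha).symm).zpow_right k
    have hA' : A ≤ centralizer (A : Set (SL2 (ZMod p))) := by
      refine sup_le (le_centralizer_iff.1 (sup_le ?_ ?_)) (le_centralizer_iff.1 (sup_le ?_ ?_))
      · exact fun a ha => mem_centralizer_iff.2 fun b hb => (E.range_comm b hb a ha).eq
      · exact fun a ha => mem_centralizer_iff.2 fun b hb => (hcen b hb a ha).eq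
      · exact fun a ha => mem_centralizer_iff.2 fun b hb => (hcen a ha b hb).eq.symm
      · intro a ha
        obtain ⟨k, rfl⟩ := ha
        refine mem_centralizer_iff.2 fun b hb => ?_
        obtain ⟨l, rfl⟩ := hb
        exact ((Commute.refl S).zpow_zpow l k).eq
    have hnorm : zpowers S ≤ normalizer (E.psiU.range : Set (SL2 (ZMod p))) := fun w hw =>
      Coprime.mem_normalizer_of_forall fun a ha => by
        rwa [← (hcen a ha w hw).eq, mul_inv_cancel_right]
    have hcard : Nat.card A = e * 2 ^ i := by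
      have h1 := PLocal.card_sup_mul_card_inf (H := E.psiU.range) (K := zpowers S) hnorm
      rw [inf_eq_bot_of_coprime (by
        rw [Nat.card_zpowers, hord]
        exact (Nat.coprime_two_right.2 E.odd_range).pow_right i), card_bot, mul_one, E.card_range,
        Nat.card_zpowers, hord] at h1
      exact h1
    have hco : ∀ a ∈ A, (orderOf a).Coprime p := fun a ha => by
      refine Nat.Coprime.coprime_dvd_left (hcard ▸ orderOf_dvd_natCard _ ha) ?_
      rw [Nat.coprime_comm, (Fact.out : p.Prime).coprime_iff_not_dvd]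
      intro hd
      rcases (Fact.out : p.Prime).dvd_mul.1 hd with hd | hd
      · exact E.p_not_dvd hd
      · exact E.ext.ne_two ((Nat.prime_dvd_prime_iff_eq Fact.out Nat.prime_two).1
          ((Fact.out : p.Prime).dvd_of_dvd_pow hd))
    exact hcard ▸ SLTools.card_dvd_of_comm E.ext.ne_two
      (fun a ha b hb => (mem_centralizer_iff.1 (hA' hb) a ha)) hco

end Extra

end Cfsg.Agent.GWDihedral
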