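import Cfsg.Agent.Lib.GWDihedral.Corner
import Cfsg.Agent.Lib.GWDihedral.Growth
import Cfsg.Agent.Lib.GWDihedral.Functor

/-!
# Gorenstein-Walter, dihedral Sylow subgroups of order at least eight: fusion at the primes of `|W|` (2.1)

* `DHyp.exists_rot_normalizing` : a rotation normalises a Sylow subgroup of `W`
* `DHyp.exists_rot_proper` : one centralises it if it is not a Sylow subgroup of `U`
* `DHyp.rot_of_swap` : the commutator of a rotation with an element exchanging `r` and `t r`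
* `Ctx.exists_rot_centralizing`, `Ctx.otherPrimes`, `Ctx.primePowFused` : (2.1), modulo the corner
-/

set_option autoImplicit false
set_option linter.unusedSectionVars false
set_option linter.style.haveILetI false

namespace Cfsg.Agent.GWDihedral

open Subgroup
open scoped Pointwise
open Cfsg.Agent.GWKlein (coreU coreW fourV oddPart)

universe u

variable {G : Type u} [Group G] [Finite G] {n : ℕ} {t r σ : G} {q : ℕ} [Fact q.Prime]

namespace DHyp

theorem fourV_le_normalizer_of_le_coreW (h : DHyp n t r σ) {W : Subgroup G} (hW : W ≤ coreW t r) :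
    fourV t r ≤ normalizer (W : Set G) := by
  refine le_trans ?_ (centralizer_le_normalizer _)
  intro v hv
  exact mem_centralizer_iff.2 fun w hw => (mem_centralizer_iff.1 (h.coreW_le_centralizer (hW hw)) v hv).symm

theorem rot_mem_normalizer_fourV (h : DHyp n t r σ) {s : G} (hs : Rot t r s) :
    s ∈ normalizer (fourV t r : Set G) := by
  refine Coprime.mem_normalizer_of_forall fun x hx => ?_
  rcases h.mem_fourV_iff.1 hx with rfl | rfl | rfl | rfl
  · simp
  · rw [hs.1]; exact GWKlein.right_mem_fourV _ _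
  · rw [hs.2]; exact mul_mem (GWKlein.left_mem_fourV _ _) (GWKlein.right_mem_fourV _ _)
  · rw [Rot.conj_mul hs h.comm_t_r h.mul_self_r]; exact GWKlein.left_mem_fourV _ _

theorem normalizer_fourV_le_normalizer_coreW (h : DHyp n t r σ) :
    normalizer (fourV t r : Set G) ≤ normalizer (coreW t r : Set G) := fun x hx => by
  refine Coprime.mem_normalizer_of_forall fun w hw => ?_
  refine h.mem_coreW_of_odd (mem_centralizer_iff.2 fun v hv => ?_) (by
    rw [Involution.orderOf_conj]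
    exact h.odd_orderOf (mem_inf.1 hw).1)
  have hv' : x⁻¹ * v * x ∈ fourV t r := by
    have := (mem_normalizer_iff.1 (inv_mem hx) v).1 hv
    simpa using this
  have := mem_centralizer_iff.1 (h.coreW_le_centralizer hw) _ hv'
  calc v * (x * w * x⁻¹) = x * (x⁻¹ * v * x * w) * x⁻¹ := by group
    _ = x * w * x⁻¹ * v := by rw [this]; group

/-- A rotation normalises a Sylow subgroup of `W`. -/
theorem exists_rot_normalizing [IsSimpleGroup G] (h : DHyp n t r σ) {W : Subgroup G} (hW : W ≤ coreW t r)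
    (hWp : IsPGroup q W) (hWc : Nat.card W = q ^ (Nat.card (coreW t r)).factorization q) :
    ∃ s, Rot t r s ∧ s ∈ normalizer (W : Set G) := by
  obtain ⟨s, hs⟩ := h.exists_rot
  obtain ⟨X, s', -, hs', hsX, hWX, -, -, -, hXc⟩ := h.exists_invariant_rot h.odd_coreW
    (H := normalizer (fourV t r : Set G))
    ((h.coreW_le_centralizer).trans (centralizer_le_normalizer _))
    h.normalizer_fourV_le_normalizer_coreW le_normalizer ⟨s, h.rot_mem_normalizer_fourV hs, hs⟩ hW hWp
    (h.fourV_le_normalizer_of_le_coreW hW)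
  refine ⟨s', hs', ?_⟩
  rwa [eq_of_le_of_card_ge hWX (by rw [hXc, hWc])]

/-- If a Sylow subgroup of `W` is not one of `U`, a rotation centralises it. -/
theorem exists_rot_proper [IsSimpleGroup G] (h : DHyp n t r σ) (hP : ProperGWLike G) (hS : SideRot t r σ)
    {W : Subgroup G} (hW : W ≤ coreW t r) (hWp : IsPGroup q W)
    (hWc : Nat.card W = q ^ (Nat.card (coreW t r)).factorization q)
    (hlt : (Nat.card (coreW t r)).factorization q < (Nat.card (coreU t)).factorization q) :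
    ∃ s, Rot t r s ∧ s ∈ centralizer (W : Set G) := by
  haveI := Fact.mk Nat.prime_two
  by_cases hW1 : W = ⊥
  · obtain ⟨s, hs⟩ := h.exists_rot
    exact ⟨s, hs, mem_centralizer_iff.2 fun w hw => by
      rw [hW1, SetLike.mem_coe, mem_bot] at hw; simp [hw]⟩
  have hqa : q ∣ Nat.card (coreW t r) := by
    obtain ⟨k, hk⟩ := IsPGroup.iff_card.1 hWp
    have hk0 : k ≠ 0 := fun e => hW1 (card_eq_one.1 (by rw [hk, e, pow_zero]))
    exact (dvd_pow_self q hk0).trans (hk ▸ card_dvd_of_le hW)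
  have hWU : W ≤ coreU t := hW.trans inf_le_left
  have hWV := h.fourV_le_normalizer_of_le_coreW hW
  have hrW : ∀ w ∈ W, Commute w r := fun w hw => (h.mem_coreW.1 (hW hw)).2.1
  obtain ⟨Q, hWQ, hQU, hQV, hQp, hQc⟩ := h.exists_invariant_sylow h.isPGroup_fourV h.odd_coreU
    (h.fourV_le_sylow.trans h.sylow_le_normalizer_coreU) hWU hWp hWV
  have hrQ : r ∈ normalizer (Q : Set G) := hQV (GWKlein.right_mem_fourV t r)
  have hne : W.subgroupOf Q ≠ ⊤ := fun e => by
    have h1 : Nat.card Q ≤ Nat.card W := card_le_of_le (subgroupOf_eq_top.1 e)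
    rw [hQc, hWc] at h1
    exact absurd ((Nat.pow_le_pow_iff_right (Fact.out (p := q.Prime)).one_lt).1 h1) (by omega)
  haveI : Group.IsNilpotent Q := hQp.isNilpotent
  have hNC : NormalizerCondition Q := Group.normalizerCondition_of_isNilpotent
  -- an element of the normaliser inverted by `r`, centralising `W`
  obtain ⟨u, huQ, hu1, huI, huW⟩ : ∃ u ∈ Q, u ≠ 1 ∧ r * u * r⁻¹ = u⁻¹ ∧ u ∈ centralizer (W : Set G) := by
    obtain ⟨x, hxN, hxW⟩ := SetLike.exists_of_lt (hNC _ (Ne.lt_top hne))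
    have hxn : (x : G) ∈ normalizer (W : Set G) := by
      refine Coprime.mem_normalizer_of_forall fun w hw => ?_
      exact mem_subgroupOf.1 ((mem_normalizer_iff.1 hxN ⟨w, hWQ hw⟩).1 (mem_subgroupOf.2 hw))
    set y := r * (x : G) * r⁻¹ with hy
    have hyQ : y ∈ Q := (mem_normalizer_iff.1 hrQ _).1 x.2
    have hyy : r * y * r⁻¹ = (x : G) := by
      rw [hy, show r * (r * (x : G) * r⁻¹) * r⁻¹ = (r * r) * x * (r * r)⁻¹ by group, h.mul_self_r]; simp
    refine ⟨(x : G)⁻¹ * y, mul_mem (inv_mem x.2) hyQ, fun e => hxW (mem_subgroupOf.2 ?_), ?_,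
      mem_centralizer_iff.2 fun w hw => ?_⟩
    · -- a fixed element is in `W`
      have hxr : Commute (x : G) r := by
        have e2 : r * (x : G) * r⁻¹ = x := (inv_mul_eq_one.1 e).symm
        exact (mul_inv_eq_iff_eq_mul.1 e2).symm
      have hxU : (x : G) ∈ coreU t := hQU x.2
      have hxX : (x : G) ∈ coreW t r :=
        h.mem_coreW.2 ⟨GWKlein.commute_of_mem_coreU hxU, hxr, h.odd_orderOf hxU⟩
      have hsup : IsPGroup q ((W ⊔ zpowers (x : G) : Subgroup G)) :=
        hQp.to_le (sup_le hWQ (zpowers_le.2 x.2))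
      obtain ⟨k, hk⟩ := IsPGroup.iff_card.1 hsup
      have hle : k ≤ (Nat.card (coreW t r)).factorization q :=
        ((Fact.out : q.Prime).pow_dvd_iff_le_factorization Nat.card_pos.ne').1
          (hk ▸ card_dvd_of_le (sup_le hW (zpowers_le.2 hxX)))
      have := eq_of_le_of_card_ge (le_sup_left (a := W) (b := zpowers (x : G)))
        (by rw [hk, hWc]; exact Nat.pow_le_pow_right (Fact.out : q.Prime).pos hle)
      rw [this]
      exact mem_sup_right (mem_zpowers _)
    · calc r * ((x : G)⁻¹ * y) * r⁻¹ = (r * (x : G) * r⁻¹)⁻¹ * (r * y * r⁻¹) := by group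
        _ = ((x : G)⁻¹ * y)⁻¹ := by rw [← hy, hyy]; group
    · have hw' : (x : G) * w * (x : G)⁻¹ ∈ W := (mem_normalizer_iff.1 hxn w).1 hw
      have e1 : y * w * y⁻¹ = (x : G) * w * (x : G)⁻¹ := by
        calc y * w * y⁻¹ = r * ((x : G) * (r⁻¹ * (w * r)) * (x : G)⁻¹) * r⁻¹ := by rw [hy]; group
          _ = r * ((x : G) * w * (x : G)⁻¹) * r⁻¹ := by rw [(hrW w hw).eq, inv_mul_cancel_left]
          _ = (x : G) * w * (x : G)⁻¹ := by rw [← (hrW _ hw').eq, mul_inv_cancel_right]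
      calc w * ((x : G)⁻¹ * y) = (x : G)⁻¹ * ((x : G) * w * (x : G)⁻¹) * y := by group
        _ = (x : G)⁻¹ * (y * w * y⁻¹) * y := by rw [e1]
        _ = (x : G)⁻¹ * y * w := by group
  have huU : u ∈ coreU t := hQU huQ
  have hut : Commute u t := GWKlein.commute_of_mem_coreU huU
  have hu0 : Odd (orderOf u) := h.odd_orderOf huU
  obtain ⟨s, hs, hsW⟩ := h.exists_rot_normalizing hW hWp hWc
  have hVW : fourV t r ≤ centralizer (W : Set G) := fun v hv =>
    mem_centralizer_iff.2 fun w hw => (mem_centralizer_iff.1 (h.coreW_le_centralizer (hW hw)) v hv).symm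
  set C := centralizer (W : Set G) with hC
  have hCN : C ≤ normalizer (W : Set G) := centralizer_le_normalizer _
  have hnC : normalizer (W : Set G) ≤ normalizer (C : Set G) := fun x hx =>
    Coprime.mem_normalizer_of_forall fun y hy => mem_centralizer_iff.2 fun w hw => by
      have hw' : x⁻¹ * w * x ∈ W := by
        have := (mem_normalizer_iff.1 (inv_mem hx) w).1 hw
        simpa using this
      have := mem_centralizer_iff.1 hy _ hw'
      calc w * (x * y * x⁻¹) = x * (x⁻¹ * w * x * y) * x⁻¹ := by group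
        _ = x * y * x⁻¹ * w := by rw [this]; group
  -- it is not in the core
  have hnot : u ∉ oddPart C := by
    intro huc
    have hle : oddPart C ≤ oddPart (normalizer (W : Set G)) := by
      refine le_oddPart_of_normal ((GWKlein.oddPart_le C).trans hCN) (fun x hx => ?_)
        (GWKlein.odd_card_oddPart C)
      exact Cores.normalizer_le_normalizer_map (Cfsg.pPrimeCore 2 C) (hnC hx)
    have hVu : fourV t r ≤ normalizer (zpowers u : Set G) := GWKlein.fourV_le_iff.2
      ⟨Coprime.mem_normalizer_of_forall fun y hy => by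
          obtain ⟨i, rfl⟩ := mem_zpowers_iff.1 hy
          rw [(hut.symm.zpow_right i).eq, mul_inv_cancel_right]
          exact zpow_mem (mem_zpowers u) i,
        Coprime.mem_normalizer_of_forall fun y hy => by
          obtain ⟨i, rfl⟩ := mem_zpowers_iff.1 hy
          rw [← conj_zpow, huI]
          exact zpow_mem (inv_mem (mem_zpowers u)) i⟩
    have := h.central_of_rot (q := q) hS hqa (hVW.trans hCN) ⟨s, hsW, hs⟩
      (hQp.to_le (zpowers_le.2 huQ)) (zpowers_le.2 (hle huc)) hVu (GWKlein.right_mem_fourV t r)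
    exact hu1 (eq_one_of_conj_inv hu0 huI (mem_centralizer_iff.1 this u (mem_zpowers u)))
  have hns : ¬ Group.IsSolvable C := fun hsol => hnot
    (h.mem_oddPart_of_solvable hsol h.order_t (hVW (GWKlein.left_mem_fourV t r)) huW hu0 hut)
  have hCne : C ≠ ⊤ := fun e => hW1 (eq_bot_iff.2 fun w hw => by
    have hwc : w ∈ center G := mem_center_iff.2 fun g =>
      (mem_centralizer_iff.1 (e.symm ▸ mem_top g : g ∈ C) w hw).symm
    rcases (inferInstance : (center G).Normal).eq_bot_or_eq_top with e' | e'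
    · exact e' ▸ hwc
    · exact absurd (Group.isSolvable_of_comm fun a b => mem_center_iff.1 (e' ▸ mem_top b) a)
        h.not_isSolvable)
  obtain ⟨s', hs'C, hs'⟩ := h.fused_of_normal hP hCne hns hVW hs (hnC hsW)
  exact ⟨s', hs', hs'C⟩

/-- The commutator of a rotation with an element exchanging `r` and `t r` is a rotation. -/
theorem rot_of_swap (h : DHyp n t r σ) {τ s : G} (hs : Rot t r s) (hτt : Commute τ t)
    (hτr : τ * r * τ⁻¹ = t * r) : Rot t r (τ * s * τ⁻¹ * s⁻¹) := by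
  have hp := Rot.conj_mul hs h.comm_t_r h.mul_self_r
  have e1 : s⁻¹ * t * s = t * r := by nth_rw 1 [← hp]; group
  have e2 : s⁻¹ * r * s = t := by nth_rw 1 [← hs.1]; group
  have hτt' : τ * t * τ⁻¹ = t := by rw [hτt.eq, mul_inv_cancel_right]
  have e3 : τ⁻¹ * t * τ = t := by rw [mul_assoc, hτt.symm.eq, inv_mul_cancel_left]
  have e4 : τ⁻¹ * (t * r) * τ = r := by rw [← hτr]; group
  constructor
  · calc τ * s * τ⁻¹ * s⁻¹ * t * (τ * s * τ⁻¹ * s⁻¹)⁻¹
          = τ * (s * (τ⁻¹ * (s⁻¹ * t * s) * τ) * s⁻¹) * τ⁻¹ := by group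
      _ = r := by
          rw [e1, e4, hs.2, show τ * (t * r) * τ⁻¹ = τ * t * τ⁻¹ * (τ * r * τ⁻¹) by group, hτt', hτr,
            ← mul_assoc, h.mul_self_t, one_mul]
  · calc τ * s * τ⁻¹ * s⁻¹ * r * (τ * s * τ⁻¹ * s⁻¹)⁻¹
          = τ * (s * (τ⁻¹ * (s⁻¹ * r * s) * τ) * s⁻¹) * τ⁻¹ := by group
      _ = t * r := by rw [e2, e3, hs.1, hτr]

theorem conj_σ_r (h : DHyp n t r σ) : σ * r * σ⁻¹ = r * (σ ^ 2)⁻¹ := by
  have h1 : σ * r = r * σ⁻¹ := by
    have h2 : r * σ = σ⁻¹ * r := mul_inv_eq_iff_eq_mul.1 h.conj_σ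
    calc σ * r = r * (r * σ) * r := by rw [← mul_assoc r r σ, h.mul_self_r, one_mul]
      _ = r * σ⁻¹ := by rw [h2, mul_assoc, mul_assoc, h.mul_self_r, mul_one]
  rw [h1, pow_two]; group

/-- `σ ^ 2` centralises an invariant subgroup centralised by `r`. -/
theorem commute_σ_sq (h : DHyp n t r σ) {W : Subgroup G}
    (hinv : closure ({σ, r} : Set G) ≤ normalizer (W : Set G)) (hr : ∀ w ∈ W, Commute w r) {w : G}
    (hw : w ∈ W) : Commute (σ ^ 2) w := by
  have hσ : σ ∈ normalizer (W : Set G) := hinv h.sylow_mem_σ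
  have h1 : Commute w (σ * r * σ⁻¹) := by
    have hw' : σ⁻¹ * w * σ ∈ W := by
      have := (mem_normalizer_iff.1 (inv_mem hσ) w).1 hw
      simpa using this
    show w * (σ * r * σ⁻¹) = σ * r * σ⁻¹ * w
    calc w * (σ * r * σ⁻¹) = σ * (σ⁻¹ * w * σ * r) * σ⁻¹ := by group
      _ = σ * r * σ⁻¹ * w := by rw [(hr _ hw').eq]; group
  rw [h.conj_σ_r] at h1
  have h2 : Commute w (σ ^ 2)⁻¹ := by
    have := (hr w hw).inv_right.mul_right h1
    rwa [inv_mul_cancel_left] at this
  simpa using h2.inv_right.symm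

theorem conj_r_mul_σ (h : DHyp 3 t r σ) : r * σ * r * (r * σ)⁻¹ = t * r := by
  have h2 : σ ^ 2 = t := h.t_eq.symm
  rw [show r * σ * r * (r * σ)⁻¹ = r * (σ * r * σ⁻¹) * r⁻¹ by group, h.conj_σ_r, h2,
    Involution.inv_eq h.order_t, ← mul_assoc, h.mul_self_r, one_mul, Involution.inv_eq h.order_r]

end DHyp

namespace Ctx

/-- (2.1) for an invariant Sylow subgroup of `U` centralised by `r`, modulo the corner. -/
theorem exists_rot_full [IsSimpleGroup G] (c : Ctx n t r σ) (hS' : SideRot t (r * σ) σ⁻¹) {W : Subgroup G}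
    (hW : W ≤ coreW t r) (hWp : IsPGroup q W)
    (hWc : Nat.card W = q ^ (Nat.card (coreU t)).factorization q)
    (hinv : closure ({σ, r} : Set G) ≤ normalizer (W : Set G))
    (hcorner : q = 3 → n = 3 → ∀ (W : Subgroup G) (w : G), Corner t r σ W w →
      ∃ s, Rot t r s ∧ s ∈ centralizer (W : Set G)) :
    ∃ s, Rot t r s ∧ s ∈ centralizer (W : Set G) := by
  haveI := Fact.mk Nat.prime_two
  have h := c.hyp
  have hW' : Nat.card W = q ^ (Nat.card (coreW t r)).factorization q := by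
    refine le_antisymm ?_ ?_
    · obtain ⟨k, hk⟩ := IsPGroup.iff_card.1 hWp
      rw [hk]
      exact Nat.pow_le_pow_right (Fact.out : q.Prime).pos
        (((Fact.out : q.Prime).pow_dvd_iff_le_factorization Nat.card_pos.ne').1 (hk ▸ card_dvd_of_le hW))
    · rw [hWc]
      exact Nat.pow_le_pow_right (Fact.out : q.Prime).pos
        (((Fact.out : q.Prime).pow_dvd_iff_le_factorization Nat.card_pos.ne').1
          ((Nat.ordProj_dvd _ _).trans (card_dvd_of_le inf_le_left)))
  obtain ⟨s, hs, hsW⟩ := h.exists_rot_normalizing hW hWp hW'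
  have hrW : ∀ w ∈ W, Commute w r := fun w hw => (h.mem_coreW.1 (hW hw)).2.1
  have htW : ∀ w ∈ W, Commute w t := fun w hw => (h.mem_coreW.1 (hW hw)).1
  have hodd : ∀ w ∈ W, Odd (orderOf w) := fun w hw => h.odd_orderOf (mem_inf.1 (hW hw)).1
  have hfin : ∀ τ : G, Commute τ t → τ * r * τ⁻¹ = t * r →
      (∀ w ∈ W, τ * (s * (τ⁻¹ * (s⁻¹ * w * s) * τ) * s⁻¹) * τ⁻¹ = w) →
      ∃ s', Rot t r s' ∧ s' ∈ centralizer (W : Set G) := by
    intro τ h1 h2 h3
    refine ⟨τ * s * τ⁻¹ * s⁻¹, h.rot_of_swap hs h1 h2, mem_centralizer_iff.2 fun w hw => ?_⟩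
    have := h3 w hw
    nth_rw 1 [← this]
    group
  have hsw : ∀ w ∈ W, s⁻¹ * w * s ∈ W := fun w hw => by
    have := (mem_normalizer_iff.1 (inv_mem hsW) w).1 hw
    simpa using this
  have hfix : ∀ τ : G, Commute τ t → τ * r * τ⁻¹ = t * r → (∀ w ∈ W, Commute τ w) →
      ∃ s', Rot t r s' ∧ s' ∈ centralizer (W : Set G) := fun τ h1 h2 h3 => hfin τ h1 h2 fun w hw => by
    rw [show τ⁻¹ * (s⁻¹ * w * s) * τ = s⁻¹ * w * s by
      rw [mul_assoc, (h3 _ (hsw w hw)).symm.eq, inv_mul_cancel_left],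
      show s * (s⁻¹ * w * s) * s⁻¹ = w by group, (h3 w hw).eq, mul_inv_cancel_right]
  have hr1 := h.sylow_mem_r
  by_cases hn : n = 3
  swap
  · -- `σ ^ 2 ^ (n - 3)` works
    obtain ⟨a, rfl⟩ := h.exists_add
    have ha : a ≠ 0 := fun e => hn (by omega)
    set τ := σ ^ 2 ^ a with hτ
    have hτ2 : τ * τ = t := by
      rw [h.t_eq, hτ, ← pow_add, show a + 3 - 2 = a + 1 by omega, pow_succ, mul_two]
    refine hfix τ (h.comm_t_σ.symm.pow_left _) ?_ fun w hw => ?_
    · have h1 : r * τ * r⁻¹ = τ⁻¹ := by rw [hτ, ← conj_pow, h.conj_σ, inv_pow]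
      have h2 : r * τ = τ⁻¹ * r := mul_inv_eq_iff_eq_mul.1 h1
      have h3 : τ * r = r * τ⁻¹ := by
        calc τ * r = r * (r * τ) * r := by rw [← mul_assoc r r τ, h.mul_self_r, one_mul]
          _ = r * τ⁻¹ := by rw [h2, mul_assoc, mul_assoc, h.mul_self_r, mul_one]
      rw [h3, mul_assoc, ← mul_inv_rev, hτ2, Involution.inv_eq h.order_t, h.comm_t_r.eq]
    · rw [hτ, show 2 ^ a = 2 * 2 ^ (a - 1) by rw [← pow_succ', show a - 1 + 1 = a by omega], pow_mul]
      exact (h.commute_σ_sq hinv hrW hw).pow_left _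
  subst hn
  -- order eight: `τ = r * σ`
  have h' := h.swap
  set τ := r * σ with hτ
  have hτS : τ ∈ closure ({σ, r} : Set G) := mul_mem hr1 h.sylow_mem_σ
  have hτt : Commute τ t := (h.comm_t_r.mul_right h.comm_t_σ).symm
  have hτr : τ * r * τ⁻¹ = t * r := h.conj_r_mul_σ
  have hτW : τ ∈ normalizer (W : Set G) := hinv hτS
  have hττ : τ * τ = 1 := h.mul_σ_sq
  have hτi : τ⁻¹ = τ := inv_eq_of_mul_eq_one_right hττ
  have hconj : ∀ w, τ * (τ * w * τ⁻¹) * τ⁻¹ = w := fun w => by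
    rw [show τ * (τ * w * τ⁻¹) * τ⁻¹ = τ * τ * w * (τ * τ)⁻¹ by group, hττ]; simp
  have hτw : ∀ w ∈ W, τ * w * τ⁻¹ ∈ W := fun w hw => (mem_normalizer_iff.1 hτW w).1 hw
  by_cases hall : ∀ w ∈ W, Commute τ w
  · exact hfix τ hτt hτr hall
  set P := W ⊓ coreW t τ with hP
  have hmemP : ∀ w ∈ W, Commute w τ → w ∈ P := fun w hw hc =>
    ⟨hw, h'.mem_coreW.2 ⟨htW w hw, hc, hodd w hw⟩⟩
  have hPτ : ∀ w ∈ P, Commute w τ := fun w hw => (h'.mem_coreW.1 (mem_inf.1 hw).2).2.1
  have hinvd : ∀ w, τ * (w⁻¹ * (τ * w * τ⁻¹)) * τ⁻¹ = (w⁻¹ * (τ * w * τ⁻¹))⁻¹ := fun w => by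
    rw [show τ * (w⁻¹ * (τ * w * τ⁻¹)) * τ⁻¹ = (τ * w * τ⁻¹)⁻¹ * (τ * (τ * w * τ⁻¹) * τ⁻¹) by group, hconj]
    group
  by_cases hPbot : P = ⊥
  · -- `τ` inverts `W`
    have hinvW : ∀ w ∈ W, τ * w * τ⁻¹ = w⁻¹ := by
      let f : W → W := fun w => ⟨(w : G)⁻¹ * (τ * w * τ⁻¹), mul_mem (inv_mem w.2) (hτw _ w.2)⟩
      have hf : Function.Injective f := by
        intro a b e
        have e1 : (a : G)⁻¹ * (τ * a * τ⁻¹) = (b : G)⁻¹ * (τ * b * τ⁻¹) := congrArg Subtype.val e
        have hfixd : τ * ((b : G) * (a : G)⁻¹) * τ⁻¹ = (b : G) * (a : G)⁻¹ := by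
          rw [show τ * ((b : G) * (a : G)⁻¹) * τ⁻¹ =
            (b : G) * ((b : G)⁻¹ * (τ * b * τ⁻¹)) * (τ * a * τ⁻¹)⁻¹ by group, ← e1]
          group
        have hmem := hmemP _ (mul_mem b.2 (inv_mem a.2)) (mul_inv_eq_iff_eq_mul.1 hfixd).symm
        rw [hPbot, mem_bot] at hmem
        exact Subtype.ext (mul_inv_eq_one.1 hmem).symm
      intro w hw
      obtain ⟨v, hv⟩ := Finite.surjective_of_injective hf ⟨w, hw⟩
      have hv' : (v : G)⁻¹ * (τ * v * τ⁻¹) = w := congrArg Subtype.val hv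
      rw [← hv']
      exact hinvd v
    refine hfin τ hτt hτr fun w hw => ?_
    rw [show τ⁻¹ * (s⁻¹ * w * s) * τ = τ * (s⁻¹ * w * s) * τ⁻¹ by rw [hτi], hinvW _ (hsw w hw),
      show s * (s⁻¹ * w * s)⁻¹ * s⁻¹ = w⁻¹ by group,
      show τ * w⁻¹ * τ⁻¹ = (τ * w * τ⁻¹)⁻¹ by group, hinvW w hw, inv_inv]
  -- mixed: the Sylow subgroups of the other side are proper
  have hqb : q ∣ Nat.card (coreW t τ) := by
    obtain ⟨k, hk⟩ := IsPGroup.iff_card.1 (hWp.to_le (inf_le_left (b := coreW t τ)) : IsPGroup q P)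
    have hk0 : k ≠ 0 := fun e => hPbot (card_eq_one.1 (by rw [hk, e, pow_zero]))
    exact (dvd_pow_self q hk0).trans (hk ▸ card_dvd_of_le inf_le_right)
  have hV'W : fourV t τ ≤ normalizer (W : Set G) := GWKlein.fourV_le_iff.2 ⟨hinv (h.mem_t le_rfl), hτW⟩
  have hPcard : Nat.card P = q ^ (Nat.card (coreW t τ)).factorization q := by
    obtain ⟨k, hk⟩ := IsPGroup.iff_card.1 (hWp.to_le (inf_le_left (b := coreW t τ)) : IsPGroup q P)
    refine le_antisymm (hk ▸ Nat.pow_le_pow_right (Fact.out : q.Prime).pos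
      (((Fact.out : q.Prime).pow_dvd_iff_le_factorization Nat.card_pos.ne').1
        (hk ▸ card_dvd_of_le inf_le_right))) ?_
    obtain ⟨X, -, hXW, hXV, hXp, hXc⟩ := h'.exists_invariant_sylow (Q := ⊥) h'.isPGroup_fourV h'.odd_coreW
      (le_normalizer.trans h'.normalizer_fourV_le_normalizer_coreW) bot_le (IsPGroup.of_bot (p := q))
      (by rw [normalizer_eq_top (⊥ : Subgroup G)]; exact le_top)
    have hV'U := h'.fourV_le_sylow.trans h'.sylow_le_normalizer_coreU
    obtain ⟨Y, hXY, hYU, hYV, -, hYc⟩ := h'.exists_invariant_sylow h'.isPGroup_fourV h'.odd_coreU hV'U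
      (hXW.trans inf_le_left) hXp hXV
    obtain ⟨d, hd, hdY⟩ := Coprime.exists_mem_centralizer_conj_of_card hV'U
      (h'.coprime_card h'.isPGroup_fourV h'.odd_coreU) (Or.inl (Coprime.isSolvable_of_isPGroup h'.isPGroup_fourV))
      (hW.trans inf_le_left) hYU hV'W hYV hWc hYc
    obtain ⟨hdt, hdτ⟩ := commute_of_mem_centralizer_fourV hd.2
    rw [← hXc, ← Coprime.card_conj d X]
    refine card_le_of_le fun y hy => ?_
    rw [Coprime.mem_conj] at hy
    have hyW : y ∈ W := by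
      rw [← hdY, Coprime.mem_conj]
      exact hXY hy
    refine hmemP y hyW ?_
    have h1 : Commute (d⁻¹ * y * d) τ := (h'.mem_coreW.1 (hXW hy)).2.1
    have := (hdτ.mul_left h1).mul_left hdτ.inv_left
    rwa [show d * (d⁻¹ * y * d) * d⁻¹ = y by group] at this
  have hPlt : (Nat.card (coreW t τ)).factorization q < (Nat.card (coreU t)).factorization q := by
    by_contra hle
    have hPW : P = W := eq_of_le_of_card_ge inf_le_left
      (by rw [hPcard, hWc]; exact Nat.pow_le_pow_right (Fact.out : q.Prime).pos (not_lt.1 hle))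
    exact hall fun w hw => (hPτ w (hPW.symm ▸ hw)).symm
  obtain ⟨s₂, hs₂, hs₂P⟩ := h'.exists_rot_proper c.proper hS' inf_le_right
    (hWp.to_le (inf_le_left (b := coreW t τ))) hPcard hPlt
  -- centralisers of fixed elements
  have hSC : ∀ A : Set G, A ⊆ P → (∀ g ∈ closure ({σ, r} : Set G), ∀ a ∈ A, Commute a g) →
      closure ({σ, r} : Set G) ≤ centralizer A := fun A _ hA g hg =>
    mem_centralizer_iff.2 fun a ha => (hA g hg a ha).eq
  have hcomm : ∀ g ∈ closure ({σ, r} : Set G), ∀ a ∈ P, Commute a g := by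
    intro g hg a ha
    have hle : closure ({σ, r} : Set G) ≤ centralizer ({a} : Set G) := (closure_le _).2 (by
      rintro y (rfl | rfl)
      · refine mem_centralizer_singleton_iff.2 ?_
        have := (hrW a (mem_inf.1 ha).1).inv_right.mul_right (hPτ a ha)
        rw [hτ, inv_mul_cancel_left] at this
        exact this.symm.eq
      · exact mem_centralizer_singleton_iff.2 (hrW a (mem_inf.1 ha).1).symm.eq)
    exact (mem_centralizer_singleton_iff.1 (hle hg)).symm
  have key : ∀ A : Set G, A ⊆ P → (∃ a ∈ A, a ≠ 1) → ∀ x ∈ W, x ∈ centralizer A → τ * x * τ⁻¹ = x⁻¹ →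
      x ≠ 1 → MixedExc t r σ (centralizer A) ∧ q = 3 ∧ x ^ 3 = 1 ∧
        ∀ y ∈ W, y ∈ centralizer A → τ * y * τ⁻¹ = y⁻¹ → y ∈ zpowers x := by
    intro A hA hA1 x hxW hxX hxi hx1
    set X := centralizer A
    have hSX : closure ({σ, r} : Set G) ≤ X := hSC A hA fun g hg a ha => hcomm g hg a (hA ha)
    have hX : X ≠ ⊤ := fun e => by
      obtain ⟨a, ha, ha1⟩ := hA1
      have hc : a ∈ center G := mem_center_iff.2 fun g =>
        (mem_centralizer_iff.1 (e.symm ▸ mem_top g : g ∈ X) a ha).symm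
      rcases (inferInstance : (center G).Normal).eq_bot_or_eq_top with e' | e'
      · exact ha1 (mem_bot.1 (e' ▸ hc))
      · exact h.not_isSolvable (Group.isSolvable_of_comm fun u v => mem_center_iff.1 (e' ▸ mem_top v) u)
    have hcore : ∀ v ∈ W, v ∈ oddPart X → Commute v τ := by
      intro v hv hvX
      have hV'X : fourV t τ ≤ X := h'.fourV_le_sylow.trans (h.closure_swap.le.trans hSX)
      have := h'.central_of_rot (q := q) hS' hqb hV'X ⟨s₂, centralizer_le hA hs₂P, hs₂⟩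
        (hWp.to_le (inf_le_left (b := oddPart X))) inf_le_right
        (fun g hg => Coprime.mem_normalizer_of_forall fun y hy =>
          ⟨(mem_normalizer_iff.1 (hV'W hg) y).1 (mem_inf.1 hy).1,
            (mem_normalizer_iff.1 (GWKlein.le_normalizer_oddPart X (hV'X hg)) y).1 (mem_inf.1 hy).2⟩)
        (GWKlein.right_mem_fourV t τ)
      exact mem_centralizer_iff.1 this v ⟨hv, hvX⟩
    have hcore1 : ∀ v ∈ W, τ * v * τ⁻¹ = v⁻¹ → v ∈ oddPart X → v = 1 := fun v hv hi hvX =>
      eq_one_of_conj_inv (hodd v hv) hi (hcore v hv hvX)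
    have hel : ∀ y ∈ W, y ∈ X → τ * y * τ⁻¹ = y⁻¹ → MixedElt t r σ X y := fun y hy hyX hyi =>
      ⟨hyX, hodd y hy, htW y hy, hrW y hy, hyi⟩
    rcases h.mixed_cases c.proper hX hSX (hel x hxW hxX hxi) with h1 | h1
    · exact absurd (hcore1 x hxW hxi h1) hx1
    have hx3 : x ^ 3 = 1 := hcore1 _ (pow_mem hxW 3) (by rw [← conj_pow, hxi, inv_pow])
      (h1.cube x (hel x hxW hxX hxi))
    refine ⟨h1, ?_, hx3, fun y hy hyX hyi => ?_⟩
    · obtain ⟨k, hk⟩ := IsPGroup.iff_orderOf.1 hWp ⟨x, hxW⟩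
      rw [Subgroup.orderOf_mk, orderOf_eq_prime hx3 hx1] at hk
      have hk0 : k ≠ 0 := fun e => by rw [e, pow_zero] at hk; omega
      exact ((Nat.prime_dvd_prime_iff_eq Fact.out Nat.prime_three).1 (hk ▸ dvd_pow_self q hk0))
    · obtain ⟨k, hk⟩ := h1.unique x y (hel x hxW hxX hxi) (hel y hy hyX hyi)
        fun h2 => hx1 (hcore1 x hxW hxi h2)
      set p0 := y * x ^ k with hp0
      have hp0τ : τ * p0 * τ⁻¹ = p0 :=
        by rw [(hcore p0 (mul_mem hy (pow_mem hxW k)) hk).symm.eq, mul_inv_cancel_right]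
      have e1 : τ * p0 * τ⁻¹ = y⁻¹ * (x ^ k)⁻¹ := by
        rw [hp0, show τ * (y * x ^ k) * τ⁻¹ = τ * y * τ⁻¹ * (τ * x ^ k * τ⁻¹) by group, hyi, ← conj_pow, hxi,
          inv_pow]
      -- `x ^ k` carries `p0` to its inverse
      have e2 : x ^ k * p0 * (x ^ k)⁻¹ = p0⁻¹ := by
        have h2 : p0 = y⁻¹ * (x ^ k)⁻¹ := hp0τ.symm.trans e1
        calc x ^ k * p0 * (x ^ k)⁻¹ = x ^ k * y := by rw [hp0]; group
          _ = p0⁻¹ := by rw [h2]; group
      have hp01 : p0 = 1 := by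
        have e3 : x ^ k * (x ^ k * p0 * (x ^ k)⁻¹) * (x ^ k)⁻¹ = p0 := by
          rw [e2, show x ^ k * p0⁻¹ * (x ^ k)⁻¹ = (x ^ k * p0 * (x ^ k)⁻¹)⁻¹ by group, e2, inv_inv]
        have hc : Commute ((x ^ k) ^ 2) p0 := by
          show (x ^ k) ^ 2 * p0 = p0 * (x ^ k) ^ 2
          nth_rw 2 [← e3]
          rw [pow_two]; group
        obtain ⟨l, hl⟩ := hodd _ (pow_mem hxW k)
        have hc' : Commute (x ^ k) p0 := by
          have := hc.pow_left (l + 1)
          rwa [← pow_mul, show 2 * (l + 1) = orderOf (x ^ k) + 1 by omega, pow_add, pow_orderOf_eq_one,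
            one_mul, pow_one] at this
        rw [hc'.eq, mul_inv_cancel_right] at e2
        obtain ⟨m, hm⟩ := hodd p0 (mul_mem hy (pow_mem hxW k))
        have h3 : p0 * p0 = 1 := mul_eq_one_iff_eq_inv.2 e2
        have h4 := pow_orderOf_eq_one p0
        rw [hm, pow_succ, pow_mul, pow_two, h3, one_pow, one_mul] at h4
        exact h4
      rw [show y = (x ^ k)⁻¹ from mul_eq_one_iff_eq_inv.1 hp01]
      exact inv_mem (pow_mem (mem_zpowers x) k)
  -- a central inverted element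
  obtain ⟨w, hwW, hw1, hwi, hwc⟩ : ∃ w ∈ W, w ≠ 1 ∧ τ * w * τ⁻¹ = w⁻¹ ∧ ∀ v ∈ W, Commute v w := by
    by_contra hno
    push Not at hno
    have hZ : ∀ z ∈ W, (∀ v ∈ W, Commute v z) → Commute z τ := by
      intro z hz hzc
      by_contra hne
      obtain ⟨v, hv, hvd⟩ := hno (z⁻¹ * (τ * z * τ⁻¹)) (mul_mem (inv_mem hz) (hτw z hz))
        (fun e => hne (mul_inv_eq_iff_eq_mul.1 (inv_mul_eq_one.1 e).symm).symm) (hinvd z)
      refine hvd ((hzc v hv).inv_right.mul_right ?_)
      have h1 := (hzc _ (hτw v hv)).map (MulAut.conj τ).toMonoidHom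
      simp only [MulEquiv.coe_toMonoidHom, MulAut.conj_apply, hconj] at h1
      exact h1
    have hWne : W ≠ ⊥ := fun e => hPbot (eq_bot_iff.2 (inf_le_left.trans_eq e))
    haveI : Nontrivial W := (nontrivial_iff_ne_bot W).2 hWne
    obtain ⟨z, hzZ, hz1⟩ := Subgroup.bot_or_exists_ne_one (center W) |>.resolve_left
      (ne_of_gt hWp.bot_lt_center)
    have hzc : ∀ v ∈ W, Commute v (z : G) := fun v hv =>
      congrArg Subtype.val (mem_center_iff.1 hzZ ⟨v, hv⟩)
    have hzP : (z : G) ∈ P := hmemP _ z.2 (hZ _ z.2 hzc)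
    -- so all inverted elements lie in one group of order three
    push Not at hall
    obtain ⟨v, hv, hvτ⟩ := hall
    set x := v⁻¹ * (τ * v * τ⁻¹) with hx
    have hxW : x ∈ W := mul_mem (inv_mem hv) (hτw v hv)
    have hx1 : x ≠ 1 := fun e => hvτ (mul_inv_eq_iff_eq_mul.1 (inv_mul_eq_one.1 e).symm)
    obtain ⟨-, -, hx3, hI⟩ := key {(z : G)} (by simpa using hzP)
      ⟨z, rfl, fun e => hz1 (Subtype.ext e)⟩ x hxW
      (mem_centralizer_singleton_iff.2 (hzc x hxW).eq) (hinvd v) hx1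
    have hd : ∀ g ∈ W, g⁻¹ * (τ * g * τ⁻¹) ∈ zpowers x := fun g hg =>
      hI _ (mul_mem (inv_mem hg) (hτw g hg))
        (mem_centralizer_singleton_iff.2 (hzc _ (mul_mem (inv_mem hg) (hτw g hg))).eq) (hinvd g)
    -- `W` normalises it
    obtain ⟨g, hg, hgx⟩ := hno x hxW hx1 (hinvd v)
    refine hgx ?_
    have hxo : orderOf x = 3 := orderOf_eq_prime hx3 hx1
    have hxi' : τ * x * τ⁻¹ = x⁻¹ := hinvd v
    -- a conjugate of `x` is inverted
    have hconjx : g * x * g⁻¹ ∈ zpowers x := by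
      obtain ⟨i, hi⟩ := mem_zpowers_iff.1 (hd g hg)
      have e : τ * g * τ⁻¹ = g * x ^ i := by rw [hi]; group
      refine hI _ (mul_mem (mul_mem hg hxW) (inv_mem hg))
        (mem_centralizer_singleton_iff.2 (hzc _ (mul_mem (mul_mem hg hxW) (inv_mem hg))).eq) ?_
      calc τ * (g * x * g⁻¹) * τ⁻¹ = τ * g * τ⁻¹ * (τ * x * τ⁻¹) * (τ * g * τ⁻¹)⁻¹ := by group
        _ = (g * x * g⁻¹)⁻¹ := by rw [e, hxi']; group
    obtain ⟨i, hi⟩ := mem_zpowers_iff.1 hconjx
    rw [← zpow_mod_orderOf x i, hxo] at hi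
    rcases (by omega : i % ((3 : ℕ) : ℤ) = 0 ∨ i % ((3 : ℕ) : ℤ) = 1 ∨ i % ((3 : ℕ) : ℤ) = 2) with e | e | e <;>
      rw [e] at hi
    · exact absurd (conj_eq_one_iff.1 (show g * x * g⁻¹ = 1 by rw [← hi, zpow_zero])) hx1
    · rw [zpow_one] at hi
      exact (mul_inv_eq_iff_eq_mul.1 hi.symm)
    · -- an element of odd order does not invert `x`
      exfalso
      have e2 : g * x * g⁻¹ = x⁻¹ := by
        rw [← hi, eq_inv_iff_mul_eq_one, zpow_two, mul_assoc, ← pow_three]; exact hx3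
      have e3 : Commute (g ^ 2) x := by
        have : g * (g * x * g⁻¹) * g⁻¹ = x := by
          rw [e2, show g * x⁻¹ * g⁻¹ = (g * x * g⁻¹)⁻¹ by group, e2, inv_inv]
        show g ^ 2 * x = x * g ^ 2
        nth_rw 2 [← this]
        rw [pow_two]; group
      obtain ⟨l, hl⟩ := hodd g hg
      have e4 : Commute g x := by
        have := e3.pow_left (l + 1)
        rwa [← pow_mul, show 2 * (l + 1) = orderOf g + 1 by omega, pow_add, pow_orderOf_eq_one, one_mul,
          pow_one] at this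
      rw [e4.eq, mul_inv_cancel_right] at e2
      exact hx1 (by
        have : x ^ 2 = 1 := by rw [pow_two]; exact mul_eq_one_iff_eq_inv.2 e2
        have h5 := hx3
        rw [pow_succ, this, one_mul] at h5
        exact h5)
  -- the corner
  have hwA : ∀ A : Set G, A ⊆ P → w ∈ centralizer A := fun A hA =>
    mem_centralizer_iff.2 fun a ha => (hwc a (mem_inf.1 (hA ha)).1).eq
  obtain ⟨a, ha, ha1⟩ := Subgroup.bot_or_exists_ne_one P |>.resolve_left hPbot
  obtain ⟨hexc, hq3, hw3, -⟩ := key (P : Set G) subset_rfl ⟨a, ha, ha1⟩ w hwW (hwA _ subset_rfl) hwi hw1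
  subst hq3
  have hwo : orderOf w = 3 := orderOf_eq_prime hw3 hw1
  refine hcorner rfl rfl W w
    { le := hW
      isPGroup := hWp
      card := hWc
      inv := hinv
      fixed_ne := hPbot
      card_fixed := hPcard
      mem_w := hwW
      order_w := hwo
      central := fun v hv => mem_centralizer_singleton_iff.2 (hwc v hv).eq
      inv_w := hwi
      excP := hexc
      exc := fun b hb hb1 => (key {b} (Set.singleton_subset_iff.2 hb) ⟨b, rfl, hb1⟩ w hwW
        (hwA _ (Set.singleton_subset_iff.2 hb)) hwi hw1).1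
      inverted := fun b hb hb1 x hx hxb hxi =>
        (key {b} (Set.singleton_subset_iff.2 hb) ⟨b, rfl, hb1⟩ w hwW (hwA _ (Set.singleton_subset_iff.2 hb)) hwi hw1).2.2.2 x hx
          (mem_centralizer_singleton_iff.2 hxb.eq) hxi }

/-- (2.1) for all `q`-subgroups of `W`, modulo the corner. -/
theorem exists_rot_centralizing [IsSimpleGroup G] (c : Ctx n t r σ) (hS : SideRot t r σ)
    (hS' : SideRot t (r * σ) σ⁻¹) {L : Subgroup G} (hL : L ≤ coreW t r) (hLp : IsPGroup q L)
    (hcorner : q = 3 → n = 3 → ∀ (W : Subgroup G) (w : G), Corner t r σ W w →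
      ∃ s, Rot t r s ∧ s ∈ centralizer (W : Set G)) :
    ∃ s, Rot t r s ∧ s ∈ centralizer (L : Set G) := by
  haveI := Fact.mk Nat.prime_two
  have h := c.hyp
  obtain ⟨X, hLX, hXW, hXV, hXp, hXc⟩ := h.exists_invariant_sylow h.isPGroup_fourV h.odd_coreW
    (le_normalizer.trans h.normalizer_fourV_le_normalizer_coreW) hL hLp (h.fourV_le_normalizer_of_le_coreW hL)
  suffices ∃ s, Rot t r s ∧ s ∈ centralizer (X : Set G) from
    let ⟨s, hs, hsX⟩ := this; ⟨s, hs, centralizer_le hLX hsX⟩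
  by_cases hlt : (Nat.card (coreW t r)).factorization q < (Nat.card (coreU t)).factorization q
  · exact h.exists_rot_proper c.proper hS hXW hXp hXc hlt
  have hXc' : Nat.card X = q ^ (Nat.card (coreU t)).factorization q := by
    have e : (Nat.card (coreW t r)).factorization q = (Nat.card (coreU t)).factorization q :=
      le_antisymm (((Fact.out : q.Prime).pow_dvd_iff_le_factorization Nat.card_pos.ne').1
        ((Nat.ordProj_dvd _ _).trans (card_dvd_of_le inf_le_left))) (not_lt.1 hlt)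
    rw [hXc, e]
  obtain ⟨Q, -, hQU, hQinv, hQp, hQc⟩ := h.exists_invariant_sylow (Q := ⊥) h.isPGroup_sylow h.odd_coreU
    h.sylow_le_normalizer_coreU bot_le (IsPGroup.of_bot (p := q))
    (by rw [normalizer_eq_top (⊥ : Subgroup G)]; exact le_top)
  have hVU := h.fourV_le_sylow.trans h.sylow_le_normalizer_coreU
  obtain ⟨d, hd, hdX⟩ := Coprime.exists_mem_centralizer_conj_of_card hVU
    (h.coprime_card h.isPGroup_fourV h.odd_coreU) (Or.inl (Coprime.isSolvable_of_isPGroup h.isPGroup_fourV))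
    hQU (hXW.trans inf_le_left) (h.fourV_le_sylow.trans hQinv) hXV hQc hXc' 
  obtain ⟨hdt, hdr⟩ := commute_of_mem_centralizer_fourV hd.2
  have hdW : d ∈ coreW t r := h.mem_coreW.2 ⟨hdt, hdr, h.odd_orderOf hd.1⟩
  have hQW : Q ≤ coreW t r := fun y hy => by
    rw [← hdX, Coprime.mem_conj] at hy
    have := mul_mem (mul_mem hdW (hXW hy)) (inv_mem hdW)
    simpa [mul_assoc] using this
  obtain ⟨s, hs, hsQ⟩ := c.exists_rot_full hS' hQW hQp hQc hQinv hcorner
  refine ⟨d⁻¹ * s * d, ⟨?_, ?_⟩, mem_centralizer_iff.2 fun x hx => ?_⟩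
  · rw [show d⁻¹ * s * d * t * (d⁻¹ * s * d)⁻¹ = d⁻¹ * (s * (d * t * d⁻¹) * s⁻¹) * d by group,
      hdt.eq, mul_inv_cancel_right, hs.1, mul_assoc, ← hdr.eq, inv_mul_cancel_left]
  · rw [show d⁻¹ * s * d * r * (d⁻¹ * s * d)⁻¹ = d⁻¹ * (s * (d * r * d⁻¹) * s⁻¹) * d by group,
      hdr.eq, mul_inv_cancel_right, hs.2, mul_assoc, ← (hdt.mul_right hdr).eq, inv_mul_cancel_left]
  · have hx' : d * x * d⁻¹ ∈ Q := by
      rw [← hdX, Coprime.mem_conj]
      simpa [mul_assoc] using hx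
    have e := mem_centralizer_iff.1 hsQ _ hx'
    calc x * (d⁻¹ * s * d) = d⁻¹ * (d * x * d⁻¹ * s) * d := by group
      _ = d⁻¹ * s * d * x := by rw [e]; group

omit [Fact q.Prime] in
/-- (2.1) at the primes other than three. -/
theorem otherPrimes [IsSimpleGroup G] (c : Ctx n t r σ) (hS : SideRot t r σ) (hS' : SideRot t (r * σ) σ⁻¹) :
    OtherPrimes t r := fun l hl hl3 _ hL hLp =>
  haveI := Fact.mk hl
  c.exists_rot_centralizing hS hS' hL hLp fun e => absurd e hl3

omit [Fact q.Prime] in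
/-- (2.1), modulo the corner. -/
theorem primePowFused [IsSimpleGroup G] (c : Ctx n t r σ) (hS : SideRot t r σ) (hS' : SideRot t (r * σ) σ⁻¹)
    (hcorner : n = 3 → OtherPrimes t r → ∀ (W : Subgroup G) (w : G), Corner t r σ W w →
      ∃ s, Rot t r s ∧ s ∈ centralizer (W : Set G)) :
    PrimePowFused t r := by
  intro y hy hpp
  obtain ⟨l, k, hl, -, hk⟩ := hpp
  haveI := Fact.mk (Nat.prime_iff.2 hl)
  obtain ⟨s, hs, hsy⟩ := c.exists_rot_centralizing (q := l) hS hS' (zpowers_le.2 hy)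
    (IsPGroup.of_card (n := k) (by rw [Nat.card_zpowers, hk]))
    fun _ hn => hcorner hn (c.otherPrimes hS hS')
  exact ⟨s, hs, (mem_centralizer_iff.1 hsy y (mem_zpowers y)).symm⟩

end Ctx

end Cfsg.Agent.GWDihedral
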