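import Cfsg.Agent.Lib.GWDihedral.SocleFacts
import Cfsg.Agent.Lib.PSL2.SubfieldConj
import Cfsg.Agent.Lib.AutPSL.Count

/-!
# Gorenstein-Walter, dihedral Sylow subgroups of order eight: facts about `A7` and `PSL(2,q)` for (2.1)

* `Socle.alt_seven_fixed` : the odd centraliser of a four-group of `A7` is cyclic of order at most three
* `semi_field_one` : for `q ≡ ±3 (mod 8)` an automorphism of 2-power order has no field part
* `eq_conj_of_fixed_torus` : an involutory automorphism fixing an involution and an element of order at least three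
  of its centraliser is inner by that involution
* `eq_one_of_inverted_fixed` : an odd automorphism fixing a four-group and inverted by an involutory one is trivial
-/

set_option autoImplicit false
set_option linter.unusedSectionVars false
set_option linter.style.haveILetI false

namespace Cfsg.Agent.GWDihedral

open Equiv Equiv.Perm

namespace Socle

section Perm

variable {α : Type*} [Fintype α] [DecidableEq α]

theorem fin_three_cases : ∀ a b : Perm (Fin 3), a ^ 3 = 1 → b ^ 3 = 1 → a ≠ 1 → b = 1 ∨ b = a ∨ b = a ^ 2 := by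
  decide

/-- Two permutations of odd order moving only three given points. -/
theorem three_points (R : Finset α) (hR : R.card ≤ 3) {a b : Perm α} (ha : Odd (orderOf a))
    (hb : Odd (orderOf b)) (haR : a.support ⊆ R) (hbR : b.support ⊆ R) :
    a ^ 3 = 1 ∧ (a ≠ 1 → ∃ k : ℕ, b * a ^ k = 1) := by
  have cube : ∀ c : Perm α, Odd (orderOf c) → c.support ⊆ R → c ^ 3 = 1 := by
    intro c hc hcR
    have h0 := card_support_ne_one c
    have hle := (Finset.card_le_card hcR).trans hR
    rcases (show c.support.card = 0 ∨ c.support.card = 2 ∨ c.support.card = 3 by omega) with h | h | h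
    · rw [Finset.card_eq_zero, support_eq_empty_iff] at h
      rw [h, one_pow]
    · rw [(card_support_eq_two.1 h).orderOf] at hc
      exact absurd hc (by decide)
    · rw [← (card_support_eq_three_iff.1 h).orderOf]
      exact pow_orderOf_eq_one c
  refine ⟨cube a ha haR, fun ha1 => ?_⟩
  have hmem : ∀ c : Perm α, c.support ⊆ R → ∀ x, c x ∈ R ↔ x ∈ R := fun c hc x => by
    by_cases h : x ∈ c.support
    · exact iff_of_true (hc (apply_mem_support.2 h)) (hc h)
    · rw [notMem_support.1 h]
  have hc3 : R.card = 3 := by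
    have h0 := card_support_ne_one a
    have h1 : a.support.card ≠ 0 := fun e => ha1 (support_eq_empty_iff.1 (Finset.card_eq_zero.1 e))
    have h2 : a.support.card ≠ 2 := fun e => by
      rw [(card_support_eq_two.1 e).orderOf] at ha
      exact absurd ha (by decide)
    have := Finset.card_le_card haR
    omega
  let e : {x // x ∈ R} ≃ Fin 3 := Fintype.equivFinOfCardEq (by rw [Fintype.card_coe, hc3])
  set a' := e.permCongr (a.subtypePerm (hmem a haR))
  set b' := e.permCongr (b.subtypePerm (hmem b hbR))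
  have hcube : ∀ (c : Perm α) (hc : c.support ⊆ R), c ^ 3 = 1 →
      (e.permCongr (c.subtypePerm (hmem c hc))) ^ 3 = 1 := fun c hc h => by
    ext i
    have h' : (c ^ 3) (e.symm i : α) = (e.symm i : α) := by rw [h, Perm.one_apply]
    simp only [pow_succ, pow_zero, one_mul, Perm.mul_apply, Perm.one_apply] at h' ⊢
    simp only [Equiv.permCongr_apply, Equiv.symm_apply_apply, Perm.subtypePerm_apply]
    rw [show (⟨c (c (c (e.symm i : α))), _⟩ : {x // x ∈ R}) = e.symm i from Subtype.ext h',
      Equiv.apply_symm_apply]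
  have back : ∀ k : ℕ, b' * a' ^ k = 1 → b * a ^ k = 1 := by
    intro k hk
    refine Equiv.ext fun x => ?_
    by_cases hx : x ∈ R
    · have hpk : ∀ j : ℕ, ∀ y : {x // x ∈ R}, (a' ^ j) (e y) = e ((a.subtypePerm (hmem a haR) ^ j) y) := by
        intro j
        induction j with
        | zero => intro y; rfl
        | succ j ih =>
          intro y
          rw [pow_succ, pow_succ, Perm.mul_apply, Perm.mul_apply, show a' (e y) = e (a.subtypePerm (hmem a haR) y)
            by rw [Equiv.permCongr_apply, Equiv.symm_apply_apply], ih]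
      have := congrArg (fun f : Perm (Fin 3) => (e.symm (f (e ⟨x, hx⟩)) : α)) hk
      simp only [Perm.mul_apply, Perm.one_apply, hpk, Equiv.symm_apply_apply] at this
      rw [show b' (e ((a.subtypePerm (hmem a haR) ^ k) ⟨x, hx⟩)) =
        e (b.subtypePerm (hmem b hbR) ((a.subtypePerm (hmem a haR) ^ k) ⟨x, hx⟩)) by
        rw [Equiv.permCongr_apply, Equiv.symm_apply_apply], Equiv.symm_apply_apply, Perm.subtypePerm_apply,
        Perm.subtypePerm_pow] at this
      exact this
    · have hax : Function.IsFixedPt a x := notMem_support.1 fun h => hx (haR h)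
      rw [Perm.mul_apply, show (a ^ k) x = x from hax.perm_pow k, Perm.one_apply]
      exact notMem_support.1 fun h => hx (hbR h)
  have hne : a' ≠ 1 := fun h => ha1 (Equiv.ext fun x => by
    by_cases hx : x ∈ R
    · have := congrArg (fun f : Perm (Fin 3) => (e.symm (f (e ⟨x, hx⟩)) : α)) h
      simpa [a', Equiv.permCongr_apply] using this
    · exact notMem_support.1 fun h' => hx (haR h'))
  have h3 := hcube a haR (cube a ha haR)
  rcases fin_three_cases a' b' h3 (hcube b hbR (cube b hb hbR)) hne with h | h | h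
  · exact ⟨0, back 0 (by rw [h, one_mul, pow_zero])⟩
  · exact ⟨2, back 2 (by rw [h, ← pow_succ', h3])⟩
  · exact ⟨1, back 1 (by rw [h, ← pow_add, h3])⟩

/-- The elements of odd order centralising a four-group of `A7`. -/
theorem alt_seven_fixed {t u a b : alternatingGroup (Fin 7)} (ht : orderOf t = 2) (hu : orderOf u = 2)
    (ha : Odd (orderOf a)) (hat : Commute a t) (hau : Commute a u)
    (hb : Odd (orderOf b)) (hbt : Commute b t) (hbu : Commute b u) :
    a ^ 3 = 1 ∧ (a ≠ 1 → ∃ k : ℕ, b * a ^ k = 1) := by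
  set R : Finset (Fin 7) := Finset.univ.filter fun x => (t : Perm (Fin 7)) x = x ∧ (u : Perm (Fin 7)) x = x with hRdef
  -- an odd element commuting with an involution fixes the points it moves
  have key : ∀ c w : alternatingGroup (Fin 7), Odd (orderOf c) → orderOf w = 2 → Commute c w →
      ∀ x, (w : Perm (Fin 7)) x ≠ x → (c : Perm (Fin 7)) x = x := by
    intro c w hc hw hcw x hx
    have hco : Odd (orderOf (c : Perm (Fin 7))) := by rwa [Subgroup.orderOf_coe]
    have hcw' : Commute (c : Perm (Fin 7)) (w : Perm (Fin 7)) := congrArg Subtype.val hcw.eq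
    have hw2 : (w : Perm (Fin 7)) * w = 1 := by
      rw [← pow_two, ← orderOf_dvd_iff_pow_eq_one, Subgroup.orderOf_coe, hw]
    have h4 := (card_support_involution hw).2
    have h1 : (c : Perm (Fin 7)).support ∩ (w : Perm (Fin 7)).support = ∅ := eq_empty hco hw2 _
      (fun y => by
        simp only [Finset.mem_inter, apply_mem_iff_of_commute hcw' y,
          apply_mem_iff_of_commute (Commute.refl (c : Perm (Fin 7))) y])
      (fun y => by
        simp only [Finset.mem_inter, apply_mem_iff_of_commute (Commute.refl (w : Perm (Fin 7))) y,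
          apply_mem_iff_of_commute hcw'.symm y])
      (fun y hy => mem_support.1 (Finset.mem_inter.1 hy).1)
      (fun y hy => mem_support.1 (Finset.mem_inter.1 hy).2)
      ((Finset.card_le_card Finset.inter_subset_right).trans h4.le)
    by_contra h
    exact Finset.notMem_empty x (h1 ▸ Finset.mem_inter.2 ⟨mem_support.2 h, mem_support.2 hx⟩)
  have hsub : ∀ c : alternatingGroup (Fin 7), Odd (orderOf c) → Commute c t → Commute c u →
      (c : Perm (Fin 7)).support ⊆ R := by
    intro c hc hct hcu x hx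
    refine Finset.mem_filter.2 ⟨Finset.mem_univ _, ?_, ?_⟩ <;> by_contra h
    · exact mem_support.1 hx (key c t hc ht hct x h)
    · exact mem_support.1 hx (key c u hc hu hcu x h)
  have hR : R.card ≤ 3 := by
    have h4 := (card_support_involution ht).2
    have : R ⊆ (t : Perm (Fin 7)).supportᶜ := fun x hx =>
      Finset.mem_compl.2 (notMem_support.2 (Finset.mem_filter.1 hx).2.1)
    have := Finset.card_le_card this
    rw [Finset.card_compl, Fintype.card_fin, h4] at this
    omega
  obtain ⟨h1, h2⟩ := three_points R hR (a := (a : Perm (Fin 7))) (b := (b : Perm (Fin 7)))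
    (by rwa [Subgroup.orderOf_coe]) (by rwa [Subgroup.orderOf_coe]) (hsub a ha hat hau) (hsub b hb hbt hbu)
  refine ⟨Subtype.ext h1, fun ha1 => ?_⟩
  obtain ⟨k, hk⟩ := h2 fun e => ha1 (Subtype.ext e)
  exact ⟨k, Subtype.ext hk⟩

end Perm

end Socle

section PSL

open Cfsg.Agent.PSL2 Matrix

variable {F : Type} [Field F] [Finite F]

local notation "φ" => (ProjectiveSpecialLinearGroup.toPGL : PSL2 F →* PGL2 F)

/-- For `q ≡ ±3 (mod 8)` a field automorphism of 2-power order is trivial. -/
theorem field_one (hodd : Odd (Nat.card F)) (hq : Nat.card F % 8 = 3 ∨ Nat.card F % 8 = 5)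
    {σ : F ≃+* F} {k : ℕ} (h1 : σ ^ (2 ^ k) = 1) : σ = RingEquiv.refl F := by
  classical
  have := Fintype.ofFinite F
  obtain ⟨p, hp⟩ := CharP.exists F
  haveI : Fact p.Prime := ⟨CharP.char_is_prime F p⟩
  obtain ⟨f, hf, hcard⟩ := FiniteField.card F p
  obtain ⟨-, hA⟩ := AutPSL.fieldAut_facts (F := F) p f f.pos hcard
  rw [← Nat.card_eq_fintype_card] at hcard
  have hoddf : Odd (f : ℕ) := by
    by_contra hne
    obtain ⟨j, hj⟩ := Nat.not_odd_iff_even.1 hne
    have hpo : p % 2 = 1 := by
      by_contra h0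
      have : 2 ∣ Nat.card F := hcard ▸ dvd_pow (show 2 ∣ p by omega) f.pos.ne'
      rw [Nat.odd_iff] at hodd
      omega
    have : Nat.card F % 8 = 1 := by
      rw [hcard, hj, ← two_mul, pow_mul, Nat.pow_mod,
        show p ^ 2 % 8 = 1 by
          rw [Nat.pow_mod]
          have := Nat.mod_lt p (show 8 > 0 by norm_num)
          have : p % 8 % 2 = 1 := by omega
          interval_cases h : p % 8 <;> simp_all]
      simp
    omega
  have ho' : orderOf σ ∣ (f : ℕ) := hA ▸ orderOf_dvd_natCard σ
  have : orderOf σ = 1 := Nat.eq_one_of_dvd_coprimes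
    ((Nat.coprime_two_left.2 hoddf).pow_left k) (orderOf_dvd_of_pow_eq_one h1) ho'
  exact orderOf_eq_one_iff.1 this

/-- For `q ≡ ±3 (mod 8)` an involutory automorphism comes from `PGL(2,q)`. -/
theorem exists_outConj (hodd : Odd (Nat.card F)) (hq : Nat.card F % 8 = 3 ∨ Nat.card F % 8 = 5)
    {α : MulAut (PSL2 F)} (h2 : α * α = 1) : ∃ g, α = outConj g := by
  obtain ⟨g, σ, rfl⟩ := AutPSL.exists_semi_of_two α
  rw [AutPSL.semi_mul] at h2
  have hσ : σ = RingEquiv.refl F := field_one hodd hq (k := 1) (σ := σ) (by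
    rw [pow_one, pow_two]; exact (AutPSL.semi_eq_one_iff.1 h2).1)
  exact ⟨g, by rw [hσ]; rfl⟩

/-- An involutory automorphism fixing an involution `t` and an element of order at least three commuting
with it. -/
theorem eq_conj_of_fixed_torus (hodd : Odd (Nat.card F)) (hq : Nat.card F % 8 = 3 ∨ Nat.card F % 8 = 5)
    {α : MulAut (PSL2 F)} (hα : α * α = 1) {t a : PSL2 F} (ht : orderOf t = 2) (ha : 3 ≤ orderOf a)
    (hat : Commute a t) (hαt : α t = t) (hαa : α a = a) : α = 1 ∨ α = MulAut.conj t := by
  classical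
  have := Fintype.ofFinite F
  have h2 : (2 : F) ≠ 0 := two_ne_zero_iff_odd.2 hodd
  obtain ⟨g, rfl⟩ := exists_outConj hodd hq hα
  have hφ : Function.Injective φ := ProjectiveSpecialLinearGroup.toPGL_injective
  have hfix : ∀ x, outConj g x = x → ProjGenLinGroup.mk g * φ x = φ x * ProjGenLinGroup.mk g := fun x hx => by
    have h1 : φ (outConj g x) = φ x := congrArg φ hx
    rwa [toPGL_outConj, mul_inv_eq_iff_eq_mul] at h1
  obtain ⟨T, rfl, hT⟩ := exists_lift_involution h2 (Involution.ne_one ht) (Involution.mul_self ht)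
  obtain ⟨A, rfl⟩ := QuotientGroup.mk_surjective a
  have hAc : A ∉ Subgroup.center (SL2 F) := fun hc => by
    rw [(QuotientGroup.eq_one_iff A).2 hc, orderOf_one] at ha
    omega
  have hA0 : tr A ≠ 0 := fun e => by
    have h1 : (QuotientGroup.mk A : PSL2 F) * QuotientGroup.mk A = 1 := by
      rw [← QuotientGroup.mk_mul]
      exact mk_one_iff.2 (Or.inr (Subtype.ext (by
        rw [Matrix.SpecialLinearGroup.coe_mul, coe_sq_neg_one e]
        simp)))
    have := orderOf_dvd_of_pow_eq_one (show (QuotientGroup.mk A : PSL2 F) ^ 2 = 1 by rwa [pow_two])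
    have := Nat.le_of_dvd two_pos this
    omega
  have hgA : (g : Matrix (Fin 2) (Fin 2) F) * A.1 = A.1 * (g : Matrix (Fin 2) (Fin 2) F) := by
    rcases mk_commute_iff (hfix _ hαa) with e | e
    · exact e
    · exfalso
      have hu : (g : Matrix (Fin 2) (Fin 2) F) * ((g⁻¹ : GL (Fin 2) F) : Matrix (Fin 2) (Fin 2) F) = 1 :=
        Units.mul_inv _
      have hu' : ((g⁻¹ : GL (Fin 2) F) : Matrix (Fin 2) (Fin 2) F) * (g : Matrix (Fin 2) (Fin 2) F) = 1 :=
        Units.inv_mul _
      have h3 : A.1 = -(((g⁻¹ : GL (Fin 2) F) : Matrix (Fin 2) (Fin 2) F) *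
          (A.1 * (g : Matrix (Fin 2) (Fin 2) F))) := by
        rw [← Matrix.mul_neg, ← e, ← Matrix.mul_assoc, hu', Matrix.one_mul]
      have h4 : Matrix.trace A.1 = -Matrix.trace A.1 := by
        conv_lhs => rw [h3, Matrix.trace_neg, Matrix.trace_mul_comm, Matrix.mul_assoc, hu, Matrix.mul_one]
      have h5 : (2 : F) * Matrix.trace A.1 = 0 := by linear_combination h4
      exact hA0 (by rw [tr_eq_trace]; exact (mul_eq_zero.1 h5).resolve_left h2)
  have hTA : T.1 * A.1 = A.1 * T.1 := congrArg Subtype.val (commute_lift hat.symm.eq ha).eq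
  obtain ⟨c, d, hg⟩ := exists_lin_of_commute hAc hgA
  obtain ⟨c', d', hT'⟩ := exists_lin_of_commute hAc hTA
  -- the square of `g` is scalar
  have hg2 : ProjGenLinGroup.mk (g * g) = 1 := by
    obtain ⟨hσ, hc⟩ := AutPSL.semi_eq_one_iff.1 (show AutPSL.semi (g * g) (RingEquiv.refl F) = 1 by
      rw [← hα]
      show _ = AutPSL.semi g (RingEquiv.refl F) * AutPSL.semi g (RingEquiv.refl F)
      rw [AutPSL.semi_mul]
      congr 1)
    exact (QuotientGroup.eq_one_iff _).2 hc
  obtain ⟨r, hr⟩ := (ProjGenLinGroup.mk_eq_mk_iff).1 (hg2.trans (map_one _).symm)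
  have hr' := congrArg (fun g : GL (Fin 2) F => (g : Matrix (Fin 2) (Fin 2) F)) hr
  -- so `g` is a multiple of `1` or of `T`
  have hdc : d = 0 ∨ 2 * c + d * tr A = 0 := by
    have key : ∃ e : F, lin A c d * lin A c d = e • (1 : Matrix (Fin 2) (Fin 2) F) := by
      refine ⟨((r⁻¹ : Fˣ) : F), ?_⟩
      rw [← hg]
      have h6 : g * g = GeneralLinearGroup.scalar (Fin 2) r⁻¹ := by
        rw [map_inv]; exact eq_inv_of_mul_eq_one_left hr
      rw [← Units.val_mul, h6, GeneralLinearGroup.coe_scalar, Matrix.scalar_apply]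
      ext i j
      fin_cases i <;> fin_cases j <;> simp
    obtain ⟨e, he⟩ := key
    by_contra hh
    push Not at hh
    refine hAc ?_
    have h3 : (d * (2 * c + d * tr A)) • A.1 = (e - c ^ 2 + d ^ 2) • (1 : Matrix (Fin 2) (Fin 2) F) := by
      have h4 := coe_sq A
      simp only [lin, Matrix.add_mul, Matrix.mul_add, Matrix.smul_mul, Matrix.mul_smul, Matrix.one_mul,
        Matrix.mul_one, h4] at he
      linear_combination (norm := module) he
    have h5 : A.1 = ((d * (2 * c + d * tr A))⁻¹ * (e - c ^ 2 + d ^ 2)) • (1 : Matrix (Fin 2) (Fin 2) F) := by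
      rw [mul_smul, ← h3, smul_smul, inv_mul_cancel₀ (mul_ne_zero hh.1 hh.2), one_smul]
    rw [Subgroup.mem_center_iff]
    intro y
    refine Subtype.ext ?_
    rw [Matrix.SpecialLinearGroup.coe_mul, Matrix.SpecialLinearGroup.coe_mul, h5, Matrix.mul_smul,
      Matrix.smul_mul, Matrix.one_mul, Matrix.mul_one]
  have hd' : 2 * c' + d' * tr A = 0 := by
    have h3 : Matrix.trace T.1 = 0 := by rw [← tr_eq_trace, hT]
    rw [hT', lin, Matrix.trace_add, Matrix.trace_smul, Matrix.trace_smul, Matrix.trace_one, ← tr_eq_trace] at h3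
    simp only [Fintype.card_fin, Nat.cast_ofNat, smul_eq_mul] at h3
    linear_combination h3
  have hd'0 : d' ≠ 0 := fun e => by
    have hc' : c' = 0 := by
      rw [e] at hd'
      simpa [h2] using hd'
    have h3 := congrArg Matrix.det hT'
    rw [T.2, e, hc', det_lin] at h3
    simp at h3
  have hdet : (g : Matrix (Fin 2) (Fin 2) F).det ≠ 0 := by
    rw [← GeneralLinearGroup.val_det_apply]; exact Units.ne_zero _
  rcases hdc with rfl | hdc
  · left
    have hc0 : c ≠ 0 := fun e => hdet (by rw [hg, e, det_lin]; ring)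
    refine AutPSL.semi_eq_one_iff.2 ⟨rfl, ?_⟩
    rw [Subgroup.mem_center_iff]
    intro y
    refine Units.ext ?_
    rw [Units.val_mul, Units.val_mul, hg, lin]
    simp
  · right
    have hcd : c * d' = d * c' := mul_left_cancel₀ h2 (by linear_combination d' * hdc - d * hd')
    have hgT : (g : Matrix (Fin 2) (Fin 2) F) = (d / d') • T.1 := by
      rw [hg, hT', lin, lin, smul_add, smul_smul, smul_smul, div_mul_cancel₀ _ hd'0, div_mul_eq_mul_div, ← hcd,
        mul_div_cancel_right₀ _ hd'0]
    have hd0 : d / d' ≠ 0 := fun e => hdet (by rw [hgT, e, zero_smul, Matrix.det_zero])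
    refine MulEquiv.ext fun x => hφ ?_
    rw [toPGL_outConj, MulAut.conj_apply, map_mul, map_mul, map_inv]
    have : ProjGenLinGroup.mk g = φ (QuotientGroup.mk T) := by
      rw [ProjectiveSpecialLinearGroup.toPGL_mk, ProjGenLinGroup.mk_eq_mk_iff]
      refine ⟨Units.mk0 _ (inv_ne_zero hd0), Units.ext ?_⟩
      rw [Units.val_mul, GeneralLinearGroup.coe_scalar, Matrix.scalar_apply, Units.val_mk0]
      ext i j
      have hd1 : d ≠ 0 := (div_ne_zero_iff.1 hd0).1
      fin_cases i <;> fin_cases j <;> simp [hgT] <;> field_simp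
    rw [this]

/-- An odd automorphism fixing a four-group and inverted by an involutory automorphism is trivial. -/
theorem eq_one_of_inverted_fixed (hodd : Odd (Nat.card F)) (hq : Nat.card F % 8 = 3 ∨ Nat.card F % 8 = 5)
    {α β : MulAut (PSL2 F)} (hα : Odd (orderOf α)) (hβ : β * β = 1) (hinv : β * α * β = α⁻¹)
    {V : Subgroup (PSL2 F)} (hV : IsKleinFour V) (hfix : ∀ v ∈ V, α v = v) : α = 1 := by
  classical
  have := Fintype.ofFinite F
  have h2 : (2 : F) ≠ 0 := two_ne_zero_iff_odd.2 hodd
  obtain ⟨h, rfl⟩ := exists_outConj hodd hq hβ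
  obtain ⟨g, σ, rfl⟩ := AutPSL.exists_semi_of_two α
  have e : AutPSL.semi h (RingEquiv.refl F) * AutPSL.semi g σ * AutPSL.semi h (RingEquiv.refl F) *
      AutPSL.semi g σ = 1 := by
    rw [show AutPSL.semi h (RingEquiv.refl F) = outConj h from rfl, hinv, inv_mul_cancel]
  simp only [AutPSL.semi_mul] at e
  have hσ : σ = RingEquiv.refl F := field_one hodd hq (k := 1) (σ := σ) (by
    rw [pow_one, pow_two]
    refine Eq.trans ?_ (AutPSL.semi_eq_one_iff.1 e).1
    exact RingEquiv.ext fun x => by simp [RingAut.mul_apply])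
  subst hσ
  obtain ⟨v, hv, hvg⟩ : ProjGenLinGroup.mk g ∈ V.map φ := by
    refine mem_map_klein h2 hV fun v hv => ?_
    have h1 : φ (outConj g v) = φ v := congrArg φ (hfix v hv)
    rw [toPGL_outConj, mul_inv_eq_iff_eq_mul] at h1
    exact h1.symm
  have hα' : AutPSL.semi g (RingEquiv.refl F) = MulAut.conj v := MulEquiv.ext fun x =>
    ProjectiveSpecialLinearGroup.toPGL_injective (n := Fin 2) (R := F) (by
      show φ (outConj g x) = φ (MulAut.conj v x)
      rw [toPGL_outConj, MulAut.conj_apply, map_mul, map_mul, map_inv, hvg])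
  rw [hα'] at hα ⊢
  have hv2 : v * v = 1 := (klein_comm hV hv hv).1
  refine orderOf_eq_one_iff.1 (Nat.eq_one_of_dvd_coprimes (Nat.coprime_two_right.2 hα) dvd_rfl
    (orderOf_dvd_of_pow_eq_one ?_))
  rw [pow_two, ← map_mul, hv2, map_one]

end PSL

end Cfsg.Agent.GWDihedral
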