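import Cfsg.Agent.Lib.GWDihedral.RotTools
import Cfsg.Agent.Lib.GWDihedral.MixedAux

/-!
# Gorenstein-Walter, dihedral Sylow subgroups of order eight: an element centralised by `r`, inverted by `r σ`

* `DHyp.mixed_cases` : in a proper subgroup over the Sylow subgroup such an element of odd order of `C(t)` is in
  the core, or the subgroup is of type `A7` there
-/

set_option autoImplicit false
set_option linter.unusedSectionVars false
set_option linter.style.haveILetI false

namespace Cfsg.Agent.GWDihedral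

open Subgroup
open Cfsg.Agent.GWKlein (coreU coreW fourV oddPart)

universe u

variable {G : Type u} [Group G] [Finite G] {t r σ : G}

/-- `x` is an element of odd order of `X`, centralised by `t` and `r` and inverted by `r * σ`. -/
structure MixedElt (t r σ : G) (X : Subgroup G) (x : G) : Prop where
  mem : x ∈ X
  odd : Odd (orderOf x)
  comm_t : Commute x t
  comm_r : Commute x r
  inverts : r * σ * x * (r * σ)⁻¹ = x⁻¹

/-- The conclusion in the exceptional case: both four-groups are fused in `X`, and the elements above are of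
order three modulo the core, in one cyclic group. -/
structure MixedExc (t r σ : G) (X : Subgroup G) : Prop where
  not_solvable : ¬ Group.IsSolvable X
  fused : Fused t r X
  fused' : Fused t (r * σ) X
  cube : ∀ x, MixedElt t r σ X x → x ^ 3 ∈ oddPart X
  unique : ∀ x y, MixedElt t r σ X x → MixedElt t r σ X y → x ∉ oddPart X → ∃ k : ℕ, y * x ^ k ∈ oddPart X
  socle : ∃ L : Subgroup (X ⧸ Cfsg.oddCore X), L.Normal ∧ centralizer (L : Set (X ⧸ Cfsg.oddCore X)) = ⊥ ∧
    Nonempty (L ≃* alternatingGroup (Fin 7))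

/-- An element inverted by an involution is trivial if it commutes with it. -/
theorem eq_one_of_conj_inv {K : Type*} [Group K] {a w : K} (ha : Odd (orderOf a)) (hi : w * a * w⁻¹ = a⁻¹)
    (hc : Commute a w) : a = 1 :=
  eq_one_of_inverted_commute ha hi hc.symm

/-- Two commuting involutions generate a four-group. -/
theorem isKleinFour_fourV_of_commute {K : Type*} [Group K] {a b : K} (ha : orderOf a = 2) (hb : orderOf b = 2)
    (hne : a ≠ b) (hc : Commute a b) : IsKleinFour (fourV a b) := by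
  have haa := Involution.mul_self ha
  have hbb := Involution.mul_self hb
  have hmem : ∀ x ∈ fourV a b, x = 1 ∨ x = a ∨ x = b ∨ x = a * b := by
    intro x hx
    induction hx using closure_induction with
    | mem y hy => rcases hy with rfl | rfl <;> simp
    | one => simp
    | mul y z _ _ hy hz =>
      have e1 : b * a = a * b := hc.symm.eq
      have e2 : a * (a * b) = b := by rw [← mul_assoc, haa, one_mul]
      have e3 : b * (a * b) = a := by rw [← e1, ← mul_assoc, hbb, one_mul]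
      have e4 : a * b * a = b := by rw [mul_assoc, e1, e2]
      have e5 : a * b * b = a := by rw [mul_assoc, hbb, mul_one]
      have e6 : a * b * (a * b) = 1 := by rw [← mul_assoc, e4, hbb]
      rcases hy with rfl | rfl | rfl | rfl <;> rcases hz with rfl | rfl | rfl | rfl <;>
        simp only [one_mul, mul_one, haa, hbb, e1, e2, e3, e4, e5, e6, true_or, or_true]
    | inv y _ hy =>
      rcases hy with rfl | rfl | rfl | rfl <;> simp [Involution.inv_eq ha, Involution.inv_eq hb, hc.eq]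
  have e : ((fourV a b : Subgroup K) : Set K) = {1, a, b, a * b} := by
    ext x
    refine ⟨fun hx => hmem x hx, ?_⟩
    rintro (rfl | rfl | rfl | rfl)
    · exact one_mem _
    · exact GWKlein.left_mem_fourV _ _
    · exact GWKlein.right_mem_fourV _ _
    · exact mul_mem (GWKlein.left_mem_fourV _ _) (GWKlein.right_mem_fourV _ _)
  have ha1 : a ≠ 1 := fun h => by rw [h, orderOf_one] at ha; omega
  have hb1 : b ≠ 1 := fun h => by rw [h, orderOf_one] at hb; omega
  have hab : a * b ≠ 1 := fun h => hne (by rw [eq_inv_of_mul_eq_one_left h, Involution.inv_eq hb])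
  have hcard : Nat.card (fourV a b) = 4 := by
    rw [← SetLike.coe_sort_coe, e, Nat.card_coe_set_eq]
    have h1 : a * b ≠ a := fun e' => hb1 (mul_eq_left.1 e')
    have h2 : a * b ≠ b := fun e' => ha1 (mul_eq_right.1 e')
    rw [Set.ncard_insert_of_notMem, Set.ncard_insert_of_notMem, Set.ncard_pair (Ne.symm h2)]
    · simp [hne, h1.symm]
    · simp [ha1.symm, hb1.symm, hab.symm]
  refine ⟨hcard, ?_⟩
  have hd : Monoid.exponent (fourV a b) ∣ 2 := Monoid.exponent_dvd_of_forall_pow_eq_one fun x => Subtype.ext <| by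
    rcases hmem _ x.2 with e' | e' | e' | e' <;> simp [e', pow_two, haa, hbb]
    rw [mul_assoc, ← mul_assoc b, hc.symm.eq, mul_assoc a b b, hbb, mul_one, haa]
  rcases (Nat.dvd_prime Nat.prime_two).1 hd with he | he
  · haveI := Monoid.exp_eq_one_iff.1 he
    rw [Nat.card_unique] at hcard
    omega
  · exact he

namespace DHyp

theorem mixed_cases (h : DHyp 3 t r σ) (hP : ProperGWLike G) {X : Subgroup G} (hX : X ≠ ⊤)
    (hS : closure ({σ, r} : Set G) ≤ X) {x : G} (hx : MixedElt t r σ X x) :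
    x ∈ oddPart X ∨ MixedExc t r σ X := by
  haveI := Fact.mk Nat.prime_two
  by_cases hsol : Group.IsSolvable X
  · exact Or.inl (h.mem_oddPart_of_solvable hsol h.order_t (hS (h.sylow_mem_t)) hx.mem hx.odd hx.comm_t)
  obtain ⟨L, hLn, hC, hL'⟩ := hP X hX hsol
  have hL : Socle L := hL'
  haveI := hLn
  set π := QuotientGroup.mk' (Cfsg.oddCore X) with hπ
  have hrσ : r * σ ∈ closure ({σ, r} : Set G) := mul_mem h.sylow_mem_r h.sylow_mem_σ
  have htX : t ∈ X := hS h.sylow_mem_t
  have hrX : r ∈ X := hS h.sylow_mem_r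
  have hwX : r * σ ∈ X := hS hrσ
  set tb := π ⟨t, htX⟩ with htb
  set rb := π ⟨r, hrX⟩ with hrb
  set wb := π ⟨r * σ, hwX⟩ with hwb
  have hto : orderOf (⟨t, htX⟩ : X) = 2 := by rw [Subgroup.orderOf_mk, h.order_t]
  have hro : orderOf (⟨r, hrX⟩ : X) = 2 := by rw [Subgroup.orderOf_mk, h.order_r]
  have hwo : orderOf (⟨r * σ, hwX⟩ : X) = 2 := by rw [Subgroup.orderOf_mk, h.order_r_mul_σ]
  have hne : ∀ {a b : X}, orderOf a = 2 → orderOf b = 2 → Commute a b → a ≠ b → π a ≠ π b := by
    intro a b ha hb hc hab e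
    refine hab (inv_mul_eq_one.1 (Local.eq_one_of_bar (x := a⁻¹ * b) (k := 1) ?_ ?_))
    · rw [pow_one, hc.inv_left.mul_pow, inv_pow, Local.sq_eq_one ha, inv_one, one_mul, Local.sq_eq_one hb]
    · show π (a⁻¹ * b) = 1
      rw [map_mul, map_inv]; exact inv_mul_eq_one.2 e
  have ctr : Commute (⟨t, htX⟩ : X) ⟨r, hrX⟩ := Subtype.ext h.comm_t_r.eq
  have ctw : Commute (⟨t, htX⟩ : X) ⟨r * σ, hwX⟩ :=
    Subtype.ext ((h.comm_t_r.mul_right h.comm_t_σ).eq)
  have hnetr : (⟨t, htX⟩ : X) ≠ ⟨r, hrX⟩ := fun e => h.ne (congrArg Subtype.val e)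
  have hnetw : (⟨t, htX⟩ : X) ≠ ⟨r * σ, hwX⟩ := fun e => h.swap.ne (congrArg Subtype.val e)
  -- `t` is in the socle, with one of the reflections
  obtain ⟨htL, hrw⟩ : tb ∈ L ∧ (rb ∈ L ∨ wb ∈ L) := by
    rcases h.inSocle_fourV_or ⟨L, hLn, hC, hL'⟩ hS with hV | hV
    · exact ⟨Local.mem_of_inSocle hL hV (x := ⟨t, htX⟩) (GWKlein.left_mem_fourV _ _),
        Or.inl (Local.mem_of_inSocle hL hV (x := ⟨r, hrX⟩) (GWKlein.right_mem_fourV _ _))⟩
    · exact ⟨Local.mem_of_inSocle hL hV (x := ⟨t, htX⟩) (GWKlein.left_mem_fourV _ _),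
        Or.inr (Local.mem_of_inSocle hL hV (x := ⟨r * σ, hwX⟩) (GWKlein.right_mem_fourV _ _))⟩
  -- images of the elements in question
  have hbar : ∀ y (hy : MixedElt t r σ X y), Odd (orderOf (π ⟨y, hy.mem⟩)) ∧ Commute (π ⟨y, hy.mem⟩) tb ∧
      Commute (π ⟨y, hy.mem⟩) rb ∧ wb * π ⟨y, hy.mem⟩ * wb⁻¹ = (π ⟨y, hy.mem⟩)⁻¹ := by
    intro y hy
    refine ⟨hy.odd.of_dvd_nat ((orderOf_map_dvd _ _).trans (by rw [Subgroup.orderOf_mk])),
      (show Commute (⟨y, hy.mem⟩ : X) ⟨t, htX⟩ from Subtype.ext hy.comm_t.eq).map π,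
      (show Commute (⟨y, hy.mem⟩ : X) ⟨r, hrX⟩ from Subtype.ext hy.comm_r.eq).map π, ?_⟩
    rw [hwb, ← map_inv, ← map_mul, ← map_mul, ← map_inv]
    exact congrArg π (Subtype.ext hy.inverts)
  have htb2 : orderOf tb = 2 := Local.orderOf_bar hto
  have hrb2 : orderOf rb = 2 := Local.orderOf_bar hro
  have hwb2 : orderOf wb = 2 := Local.orderOf_bar hwo
  have hrw' : wb * rb * wb⁻¹ = tb * rb := by
    have e : r * σ * r * (r * σ)⁻¹ = t * r := by
      have h2 : σ * σ = t := by rw [h.t_eq]; show σ * σ = σ ^ 2; rw [pow_two]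
      have h3 : σ * r = r * σ⁻¹ := by
        rw [eq_mul_inv_iff_mul_eq, mul_assoc, mul_inv_eq_iff_eq_mul.1 h.conj_σ, mul_inv_cancel_left]
      rw [mul_assoc r σ r, h3, ← mul_assoc, h.mul_self_r, one_mul, _root_.mul_inv_rev, Involution.inv_eq h.order_r,
        ← mul_assoc, ← mul_inv_rev, h2, Involution.inv_eq h.order_t]
    rw [hwb, hrb, htb, ← map_inv, ← map_mul, ← map_mul, ← map_mul]
    exact congrArg π (Subtype.ext e)
  -- the socle in the quotient
  rcases hL with ⟨F, _, _, hFodd, hF3, ⟨e⟩⟩ | ⟨⟨e⟩⟩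
  · -- `PSL(2,q)`
    left
    obtain ⟨hbo, hbt, hbr, hbw⟩ := hbar x hx
    set xb := π ⟨x, hx.mem⟩ with hxb
    have hq : Odd (Nat.card F) := by rwa [Nat.card_eq_fintype_card]
    have hh2 : (2 : F) ≠ 0 := PSL2.two_ne_zero_iff_odd.2 hq
    suffices hx1 : xb = 1 from Local.bar_eq_one.1 hx1
    have hsq : ∀ {a : X ⧸ Cfsg.oddCore X}, wb ∈ L → wb * a * wb⁻¹ = a⁻¹ → Odd (orderOf a) → a ∈ L := by
      intro a hw hi ho
      have h1 : a ^ 2 ∈ L := by
        have : wb * (a * wb⁻¹ * a⁻¹) ∈ L := mul_mem hw (hLn.conj_mem _ (inv_mem hw) a)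
        rw [show wb * (a * wb⁻¹ * a⁻¹) = wb * a * wb⁻¹ * a⁻¹ by group, hi] at this
        rw [show a ^ 2 = (a⁻¹ * a⁻¹)⁻¹ by rw [pow_two, mul_inv_rev, inv_inv]]
        exact inv_mem this
      obtain ⟨k, hk⟩ := ho
      have h2 := pow_mem h1 (k + 1)
      rwa [← pow_mul, show 2 * (k + 1) = orderOf a + 1 by omega, pow_add, pow_orderOf_eq_one, one_mul,
        pow_one] at h2
    by_cases hboth : rb ∈ L ∧ wb ∈ L
    · have hxL := hsq hboth.2 hbw hbo
      set E := e (⟨xb, hxL⟩ : L)
      set T := e (⟨tb, htL⟩ : L)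
      set R := e (⟨rb, hboth.1⟩ : L)
      have hT : orderOf T = 2 := by rw [e.orderOf_eq, Subgroup.orderOf_mk, htb2]
      have hR : orderOf R = 2 := by rw [e.orderOf_eq, Subgroup.orderOf_mk, hrb2]
      have hTR : T ≠ R := fun h' => hne hto hro ctr hnetr (congrArg Subtype.val (e.injective h'))
      have hTRc : Commute T R :=
        (show Commute (⟨tb, htL⟩ : L) ⟨rb, hboth.1⟩ from Subtype.ext (ctr.map π).eq).map e.toMonoidHom
      set V := fourV T R
      have hV : IsKleinFour V := isKleinFour_fourV_of_commute hT hR hTR hTRc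
      obtain ⟨v, hv, hvE⟩ := PSL2.mem_map_klein hh2 hV (z := Matrix.ProjectiveSpecialLinearGroup.toPGL E) (by
        have hc : V ≤ centralizer ({E} : Set _) := GWKlein.fourV_le_iff.2
          ⟨mem_centralizer_singleton_iff.2
              (((show Commute (⟨tb, htL⟩ : L) ⟨xb, hxL⟩ from Subtype.ext hbt.symm.eq).map e.toMonoidHom).eq),
            mem_centralizer_singleton_iff.2
              (((show Commute (⟨rb, hboth.1⟩ : L) ⟨xb, hxL⟩ from Subtype.ext hbr.symm.eq).map e.toMonoidHom).eq)⟩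
        intro v hv
        rw [← map_mul, ← map_mul, mem_centralizer_singleton_iff.1 (hc hv)])
      have hvE' : v = E := Matrix.ProjectiveSpecialLinearGroup.toPGL_injective hvE
      have hsqv : v ^ 2 = 1 := by
        have := Monoid.pow_exponent_eq_one (⟨v, hv⟩ : V)
        rw [hV.exponent_two] at this
        exact congrArg Subtype.val this
      have ho : Odd (orderOf E) := by rwa [e.orderOf_eq, Subgroup.orderOf_mk]
      have : E = 1 := orderOf_eq_one_iff.1 (Nat.eq_one_of_dvd_coprimes (Nat.coprime_two_right.2 ho) dvd_rfl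
        (orderOf_dvd_of_pow_eq_one (hvE' ▸ hsqv)))
      exact congrArg Subtype.val (e.injective (this.trans (map_one e).symm))
    -- the socle has Klein four Sylow 2-subgroups
    have hS8 : ∀ T : Subgroup L, IsPGroup 2 T → Nat.card T ≤ 4 := by
      intro T hT
      by_contra hbig
      obtain ⟨Q, hQ⟩ := (hT.map L.subtype).exists_le_sylow
      obtain ⟨P, hP⟩ := h.sylow
      let P' : Sylow 2 (X ⧸ Cfsg.oddCore X) :=
        (P.subtype (hP ▸ hS)).mapSurjective (QuotientGroup.mk'_surjective _)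
      have hP'8 : Nat.card (P' : Subgroup (X ⧸ Cfsg.oddCore X)) ≤ 8 := by
        refine le_trans (Nat.le_of_dvd Nat.card_pos (card_map_dvd _ _)) (le_of_eq ?_)
        rw [show Nat.card ((P.subtype (hP ▸ hS) : Sylow 2 X) : Subgroup X) = Nat.card (P : Subgroup G) from
          Nat.card_congr (subgroupOfEquivOfLe (hP ▸ hS)).toEquiv, hP, h.card_sylow]
        norm_num
      have hQ8 : Nat.card (Q : Subgroup (X ⧸ Cfsg.oddCore X)) ≤ 8 :=
        le_of_eq_of_le (Nat.card_congr (Q.equiv P').toEquiv) hP'8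
      have hTQ : Nat.card T ≤ Nat.card (Q : Subgroup (X ⧸ Cfsg.oddCore X)) := by
        rw [← Subgroup.card_map_of_injective L.subtype_injective]
        exact card_le_of_le hQ
      obtain ⟨j, hj⟩ := IsPGroup.iff_card.1 hT
      obtain ⟨i, hi⟩ := IsPGroup.iff_card.1 Q.2
      have hTQ' : Nat.card T = Nat.card (Q : Subgroup (X ⧸ Cfsg.oddCore X)) := by
        have h1 : 2 < j := by
          by_contra h1
          exact hbig (hj ▸ le_trans (Nat.pow_le_pow_right two_pos (by omega : j ≤ 2)) (by norm_num))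
        have h2 : i ≤ 3 := by
          by_contra h2
          have : 2 ^ 4 ≤ Nat.card (Q : Subgroup (X ⧸ Cfsg.oddCore X)) := hi ▸ Nat.pow_le_pow_right two_pos (by omega)
          omega
        have h3 : j ≤ i := (Nat.pow_le_pow_iff_right one_lt_two).1 (hj ▸ hi ▸ hTQ)
        rw [hj, hi, show j = i by omega]
      have hQL : (Q : Subgroup (X ⧸ Cfsg.oddCore X)) ≤ L := by
        have := eq_of_le_of_card_ge hQ (by rw [Subgroup.card_map_of_injective L.subtype_injective, hTQ'])
        rw [← this]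
        exact map_subtype_le _
      have hinv : ∀ a : X ⧸ Cfsg.oddCore X, orderOf a = 2 → a ∈ L := fun a ha => by
        obtain ⟨Q', hQ'⟩ := (IsPGroup.of_card (n := 1) (p := 2) (G := zpowers a)
          (by rw [Nat.card_zpowers, ha, pow_one])).exists_le_sylow
        obtain ⟨g, rfl⟩ := MulAction.exists_smul_eq (X ⧸ Cfsg.oddCore X) Q Q'
        have h1 : a ∈ ((g • Q : Sylow 2 (X ⧸ Cfsg.oddCore X)) : Subgroup (X ⧸ Cfsg.oddCore X)) :=
          hQ' (mem_zpowers a)
        rw [Transfer.sylow_coe_smul] at h1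
        obtain ⟨b, hb, rfl⟩ := h1
        exact hLn.conj_mem _ (hQL hb) g
      exact hboth ⟨hinv rb hrb2, hinv wb hwb2⟩
    have hq8 : Nat.card F % 8 = 3 ∨ Nat.card F % 8 = 5 := PSL2.mod_eight_of_comm hq fun P => by
      obtain ⟨i, hi⟩ := IsPGroup.iff_card.1 P.2
      have h4 : Nat.card (P : Subgroup (PSL2.PSL2 F)) ≤ 4 := by
        have := hS8 ((P : Subgroup (PSL2.PSL2 F)).map e.symm.toMonoidHom) (P.2.map _)
        rwa [Subgroup.card_map_of_injective e.symm.injective] at this
      have hi2 : i ≤ 2 := by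
        rw [hi, show (4 : ℕ) = 2 ^ 2 by norm_num] at h4
        exact (Nat.pow_le_pow_iff_right one_lt_two).1 h4
      interval_cases i
      · haveI : IsCyclic (P : Subgroup (PSL2.PSL2 F)) :=
          @isCyclic_of_subsingleton _ _ (Nat.card_eq_one_iff_unique.1 (by rw [hi, pow_zero])).1
        exact IsCyclic.isMulCommutative
      · haveI : IsCyclic (P : Subgroup (PSL2.PSL2 F)) := isCyclic_of_prime_card (by rw [hi, pow_one])
        exact IsCyclic.isMulCommutative
      · exact IsPGroup.isMulCommutative_of_card_eq_prime_sq hi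
    -- conjugation on the socle
    let conjL : (X ⧸ Cfsg.oddCore X) →* MulAut (PSL2.PSL2 F) :=
      (MulAut.congr e).toMonoidHom.comp (MulAut.conjNormal : (X ⧸ Cfsg.oddCore X) →* MulAut L)
    have hinj : Function.Injective conjL := (injective_iff_map_eq_one conjL).2 fun g hg => by
      have h1 : (MulAut.conjNormal g : MulAut L) = 1 :=
        (MulAut.congr e).injective (hg.trans (map_one _).symm)
      have : g ∈ centralizer (L : Set (X ⧸ Cfsg.oddCore X)) := mem_centralizer_iff.2 fun l hl => by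
        have h2 := congrArg Subtype.val (DFunLike.congr_fun h1 ⟨l, hl⟩)
        simp only [MulAut.conjNormal_apply, MulAut.one_apply] at h2
        exact (mul_inv_eq_iff_eq_mul.1 h2).symm
      rwa [hC, mem_bot] at this
    have happ : ∀ g (l : L), g * (l : X ⧸ Cfsg.oddCore X) * g⁻¹ = l → conjL g (e l) = e l := fun g l hl => by
      show e ((MulAut.conjNormal g : MulAut L) (e.symm (e l))) = e l
      rw [e.symm_apply_apply]
      exact congrArg e (Subtype.ext (by rw [MulAut.conjNormal_apply, hl]))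
    have hconj : ∀ l : L, conjL l = MulAut.conj (e l) := fun l => MulEquiv.ext fun y => by
      show e ((MulAut.conjNormal (l : X ⧸ Cfsg.oddCore X) : MulAut L) (e.symm y)) = e l * y * (e l)⁻¹
      rw [show (MulAut.conjNormal (l : X ⧸ Cfsg.oddCore X) : MulAut L) (e.symm y) = l * e.symm y * l⁻¹ from
        Subtype.ext (by rw [MulAut.conjNormal_apply]; rfl), map_mul, map_mul, e.apply_symm_apply, map_inv]
    have hw2 : conjL wb * conjL wb = 1 := by rw [← map_mul, Involution.mul_self hwb2, map_one]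
    have hr2 : conjL rb * conjL rb = 1 := by rw [← map_mul, Involution.mul_self hrb2, map_one]
    have fixe : ∀ {g l : X ⧸ Cfsg.oddCore X} (hl : l ∈ L), Commute g l → conjL g (e ⟨l, hl⟩) = e ⟨l, hl⟩ :=
      fun hl hc => happ _ ⟨_, hl⟩ (by rw [hc.eq, mul_inv_cancel_right])
    rcases hrw with hrL | hwL
    · -- `r` in the socle: `x` is a field automorphism inverted by an element of `PGL(2,q)`
      refine hinj (Eq.trans ?_ (map_one conjL).symm)
      set T := e (⟨tb, htL⟩ : L)
      set R := e (⟨rb, hrL⟩ : L)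
      have hTo : orderOf T = 2 := by rw [e.orderOf_eq, Subgroup.orderOf_mk, htb2]
      have hRo : orderOf R = 2 := by rw [e.orderOf_eq, Subgroup.orderOf_mk, hrb2]
      have hTR : T ≠ R := fun h' => hne hto hro ctr hnetr (congrArg Subtype.val (e.injective h'))
      have hTRc : Commute T R :=
        (show Commute (⟨tb, htL⟩ : L) ⟨rb, hrL⟩ from Subtype.ext (ctr.map π).eq).map e.toMonoidHom
      refine eq_one_of_inverted_fixed hq hq8 (hbo.of_dvd_nat (orderOf_map_dvd conjL xb)) hw2 ?_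
        (isKleinFour_fourV_of_commute hTo hRo hTR hTRc) fun v hv => ?_
      · rw [← map_mul, ← map_mul, ← map_inv]
        refine congrArg conjL ?_
        rw [← hbw, Involution.inv_eq hwb2]
      · have hle : closure ({T, R} : Set (PSL2.PSL2 F)) ≤ (conjL xb).toMonoidHom.eqLocus (MonoidHom.id _) := by
          refine (closure_le _).2 ?_
          rintro y (rfl | rfl)
          · exact fixe htL hbt
          · exact fixe hrL hbr
        exact hle hv
    · -- `r` is an involutory automorphism fixing `t` and `x`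
      have hrL : rb ∉ L := fun h' => hboth ⟨h', hwL⟩
      by_contra hx1
      have hxL := hsq hwL hbw hbo
      have hxo : 3 ≤ orderOf (e (⟨xb, hxL⟩ : L)) := by
        rw [e.orderOf_eq, Subgroup.orderOf_mk]
        have h1 : orderOf xb ≠ 1 := fun h' => hx1 (orderOf_eq_one_iff.1 h')
        obtain ⟨k, hk⟩ := hbo
        omega
      have hTo : orderOf (e (⟨tb, htL⟩ : L)) = 2 := by rw [e.orderOf_eq, Subgroup.orderOf_mk, htb2]
      rcases eq_conj_of_fixed_torus hq hq8 hr2 hTo hxo
        ((show Commute (⟨xb, hxL⟩ : L) ⟨tb, htL⟩ from Subtype.ext hbt.eq).map e.toMonoidHom)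
        (fixe htL (ctr.map π).symm) (fixe hxL hbr.symm) with h' | h'
      · exact hrL ((hinj (h'.trans (map_one conjL).symm)).symm ▸ one_mem L)
      · rw [← hconj ⟨tb, htL⟩] at h'
        exact hrL ((hinj h').symm ▸ htL)
  · -- `A7`: all involutions lie in the socle
    right
    have hall : ∀ a : X ⧸ Cfsg.oddCore X, orderOf a = 2 → a ∈ L := by
      intro a ha
      haveI : Finite L := inferInstance
      obtain ⟨TL⟩ := (inferInstance : Nonempty (Sylow 2 L))
      have hcard : 8 ≤ Nat.card (TL : Subgroup L) := by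
        rw [TL.card_eq_multiplicity, Nat.card_congr e.toEquiv, nat_card_alternatingGroup, Nat.card_fin]
        rw [show Nat.factorial 7 / 2 = 2 ^ 3 * 315 by decide,
          Nat.factorization_mul (by norm_num) (by norm_num), Finsupp.add_apply,
          Nat.Prime.factorization_pow Nat.prime_two, Finsupp.single_eq_same,
          Nat.factorization_eq_zero_of_not_dvd (show ¬ 2 ∣ 315 by norm_num)]
        norm_num
      obtain ⟨Q, hQ⟩ := (TL.2.map L.subtype).exists_le_sylow
      obtain ⟨P, hP⟩ := h.sylow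
      let P' : Sylow 2 (X ⧸ Cfsg.oddCore X) :=
        (P.subtype (hP ▸ hS)).mapSurjective (QuotientGroup.mk'_surjective _)
      have hP'8 : Nat.card (P' : Subgroup (X ⧸ Cfsg.oddCore X)) ≤ 8 := by
        refine le_trans (Nat.le_of_dvd Nat.card_pos (card_map_dvd _ _)) (le_of_eq ?_)
        rw [show Nat.card ((P.subtype (hP ▸ hS) : Sylow 2 X) : Subgroup X) = Nat.card (P : Subgroup G) from
          Nat.card_congr (subgroupOfEquivOfLe (hP ▸ hS)).toEquiv, hP, h.card_sylow]
        norm_num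
      have hQ8 : Nat.card (Q : Subgroup (X ⧸ Cfsg.oddCore X)) ≤ 8 :=
        le_of_eq_of_le (Nat.card_congr (Q.equiv P').toEquiv) hP'8
      have hQL : (Q : Subgroup (X ⧸ Cfsg.oddCore X)) ≤ L := by
        have := eq_of_le_of_card_ge hQ (by rw [Subgroup.card_map_of_injective L.subtype_injective]; omega)
        rw [← this]
        exact map_subtype_le _
      obtain ⟨Q', hQ'⟩ := (IsPGroup.of_card (n := 1) (p := 2) (G := zpowers a)
        (by rw [Nat.card_zpowers, ha, pow_one])).exists_le_sylow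
      obtain ⟨g, rfl⟩ := MulAction.exists_smul_eq (X ⧸ Cfsg.oddCore X) Q Q'
      have h1 : a ∈ ((g • Q : Sylow 2 (X ⧸ Cfsg.oddCore X)) : Subgroup (X ⧸ Cfsg.oddCore X)) :=
        hQ' (mem_zpowers a)
      rw [Transfer.sylow_coe_smul] at h1
      obtain ⟨b, hb, rfl⟩ := h1
      exact hLn.conj_mem _ (hQL hb) g
    have hrL := hall rb hrb2
    have hwL := hall wb hwb2
    have hpb : ∀ (v : G) (hvX : v ∈ X), orderOf v = 2 → π ⟨v, hvX⟩ ∈ L := fun v hvX hv =>
      hall _ (Local.orderOf_bar (by rw [Subgroup.orderOf_mk, hv]))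
    have hFus : ∀ {r₁ σ₁ : G}, DHyp 3 t r₁ σ₁ → r₁ ∈ X → Fused t r₁ X := by
      intro r₁ σ₁ h₁ hr₁
      obtain ⟨g₁, hg₁, e₁⟩ := DHyp.isConj_of_bar hL' (x := ⟨t, htX⟩) (y := ⟨r₁, hr₁⟩) hto
        (by rw [Subgroup.orderOf_mk, h₁.order_r]) htL (hpb r₁ hr₁ h₁.order_r)
      obtain ⟨g₂, hg₂, e₂⟩ := DHyp.isConj_of_bar hL' (x := ⟨r₁, hr₁⟩) (y := ⟨t * r₁, mul_mem htX hr₁⟩)
        (by rw [Subgroup.orderOf_mk, h₁.order_r]) (by rw [Subgroup.orderOf_mk, h₁.order_t_mul_r])
        (hpb r₁ hr₁ h₁.order_r) (hpb _ _ h₁.order_t_mul_r)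
      exact h₁.fused_of_isConj (GWKlein.fourV_le_iff.2 ⟨htX, hr₁⟩) ⟨g₁, hg₁, e₁⟩ ⟨g₂, hg₂, e₂⟩
    set T := e (⟨tb, htL⟩ : L)
    set R := e (⟨rb, hrL⟩ : L)
    have hTo : orderOf T = 2 := by rw [e.orderOf_eq, Subgroup.orderOf_mk, htb2]
    have hRo : orderOf R = 2 := by rw [e.orderOf_eq, Subgroup.orderOf_mk, hrb2]
    have hin : ∀ y (hy : MixedElt t r σ X y), ∃ hyL : π ⟨y, hy.mem⟩ ∈ L, Odd (orderOf (e ⟨_, hyL⟩)) ∧
        Commute (e ⟨_, hyL⟩) T ∧ Commute (e ⟨_, hyL⟩) R := by
      intro y hy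
      obtain ⟨ho, hct, hcr, hcw⟩ := hbar y hy
      set yb := π ⟨y, hy.mem⟩
      have h1 : yb ^ 2 ∈ L := by
        have : wb * (yb * wb⁻¹ * yb⁻¹) ∈ L := mul_mem hwL (hLn.conj_mem _ (inv_mem hwL) yb)
        rw [show wb * (yb * wb⁻¹ * yb⁻¹) = wb * yb * wb⁻¹ * yb⁻¹ by group, hcw] at this
        rw [show yb ^ 2 = (yb⁻¹ * yb⁻¹)⁻¹ by rw [pow_two, mul_inv_rev, inv_inv]]
        exact inv_mem this
      have hyL : yb ∈ L := by
        obtain ⟨k, hk⟩ := ho
        have h2 := pow_mem h1 (k + 1)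
        rwa [← pow_mul, show 2 * (k + 1) = orderOf yb + 1 by omega, pow_add, pow_orderOf_eq_one, one_mul,
          pow_one] at h2
      refine ⟨hyL, by rwa [e.orderOf_eq, Subgroup.orderOf_mk], ?_, ?_⟩
      · exact (show Commute (⟨yb, hyL⟩ : L) ⟨tb, htL⟩ from Subtype.ext hct.eq).map e.toMonoidHom
      · exact (show Commute (⟨yb, hyL⟩ : L) ⟨rb, hrL⟩ from Subtype.ext hcr.eq).map e.toMonoidHom
    refine ⟨hsol, hFus h (hS h.sylow_mem_r), hFus h.swap hwX, fun y hy => ?_, fun y z hy hz hyO => ?_,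
      ⟨L, hLn, hC, ⟨e⟩⟩⟩
    · obtain ⟨hyL, ho, hct, hcr⟩ := hin y hy
      have h1 := (Socle.alt_seven_fixed hTo hRo ho hct hcr ho hct hcr).1
      rw [← map_pow] at h1
      have h2 := congrArg Subtype.val (e.injective (h1.trans (map_one e).symm))
      exact Local.bar_eq_one.1 (show π (⟨y, hy.mem⟩ ^ 3) = 1 by rw [map_pow]; exact h2)
    · obtain ⟨hyL, ho, hct, hcr⟩ := hin y hy
      obtain ⟨hzL, ho', hct', hcr'⟩ := hin z hz
      obtain ⟨k, hk⟩ := (Socle.alt_seven_fixed hTo hRo ho hct hcr ho' hct' hcr').2 fun h1 => hyO (by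
        exact Local.bar_eq_one.1 (congrArg Subtype.val (e.injective (h1.trans (map_one e).symm))))
      rw [← map_pow, ← map_mul] at hk
      have h2 := congrArg Subtype.val (e.injective (hk.trans (map_one e).symm))
      exact ⟨k, Local.bar_eq_one.1 (show π (⟨z, hz.mem⟩ * ⟨y, hy.mem⟩ ^ k) = 1 by
        rw [map_mul, map_pow]; exact h2)⟩

end DHyp

end Cfsg.Agent.GWDihedral
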