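import Cfsg.Agent.Lib.GWDihedral.CountPair
import Cfsg.Agent.Lib.GWDihedral.MainSteps
import Cfsg.Agent.Lib.GWDihedral.MaxSylow

/-!
# Gorenstein-Walter, dihedral Sylow 2-subgroups of order at least eight: no mixed pair in case B

* `noPair` : `NoPair G`, from COUNT with the class chosen by CHOICE
-/

set_option autoImplicit false

namespace Cfsg.Agent.GWDihedral

open Subgroup
open Cfsg.Agent.GWKlein (coreU coreW fourV)

universe u

variable {G : Type u} [Group G] [Finite G]

theorem noPair [IsSimpleGroup G] : NoPair G := by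
  intro n t r σ B p X y l h
  refine count_pair' B (maximal B) (sylowInG B) (sylowInG B.swap) (noNormalInW B) (noNormalInW B.swap)
    (sigmaFix B) (sigmaFix B.swap) (noCommuting B) (noCommuting B.swap) h fun hinv => ?_
  obtain ⟨T, -, -, -, -, -, hT, -, -⟩ := B.centShape y (h.mem_coreW B.ctx.hyp)
    (h.order_y ▸ h.prime.isPrimePow) h.ne_one_y
  have h1 := pair_choice B h hinv hT
  rw [Nat.card_congr (Equiv.subtypeEquivRight fun x => (hT x).symm), h.card_coreU_eq B.ctx.hyp hT, pow_two,
    ← mul_assoc, ← mul_assoc, mul_comm _ (Nat.card (coreW t r))]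
  exact Nat.mul_le_mul_right _ h1

end Cfsg.Agent.GWDihedral
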