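import Cfsg.Agent.Lib.GWDihedral.SocleFixed
import Cfsg.Agent.Lib.GWDihedral.CentShape
import Cfsg.Agent.Lib.GWDihedral.Growth
import Cfsg.Agent.Lib.Involution.KleinFour

/-!
# Gorenstein-Walter, dihedral Sylow subgroups: two sides (helper64)

`DHyp.mem_oddPart_of_two_sides`: two commuting `p`-elements modulo the core, inverted by `t`, one centralised and
one inverted by `r`, `t` but not `r` in a normal subgroup: one of them lies in the core. `twoSides_of_proper`: the same as `TwoSides`.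
-/

set_option autoImplicit false
set_option linter.unusedSectionVars false
set_option linter.style.haveILetI false

namespace Cfsg.Agent.GWDihedral

open Subgroup
open Cfsg.Agent.GWKlein (coreU coreW fourV oddPart)
open Cfsg.Agent.GWKlein.LocalL2 (bar bar_eq_one)

universe u

variable {G : Type u} [Group G] [Finite G] {n : ℕ} {t r σ : G}

/-- **Two sides.** -/
theorem DHyp.mem_oddPart_of_two_sides (h : DHyp n t r σ) (hind : ProperGWLike G) {H N : Subgroup G}
    (hne : H ≠ ⊤) (hNH : N ≤ H) (hn : H ≤ normalizer (N : Set G)) (htN : t ∈ N) (hrN : r ∉ N) (hrH : r ∈ H)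
    {y : G} (_hy : y ∈ N) (_hyo : orderOf y = 2) (_hyt : Commute y t) (_hyne : y ≠ t)
    {p : ℕ} [Fact p.Prime] (hp : p ≠ 2) {a b : G} (haH : a ∈ H) (hbH : b ∈ H) (hap : a ^ p = 1)
    (hbp : b ^ p = 1) (hab : a * b * a⁻¹ * b⁻¹ ∈ oddPart H) (har : Commute a r) (hat : t * a * t⁻¹ = a⁻¹)
    (hbt : t * b * t⁻¹ = b⁻¹) (hbr : r * b * r⁻¹ = b⁻¹) : a ∈ oddPart H ∨ b ∈ oddPart H := by
  have hpodd : Odd p := (Fact.out : p.Prime).odd_of_ne_two hp
  by_cases hs : Group.IsSolvable H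
  · exact Or.inl (mem_oddPart_of_solvable h hs h.order_r hrH haH
      (hpodd.of_dvd_nat (orderOf_dvd_of_pow_eq_one hap)) har)
  by_contra hcon
  push Not at hcon
  haveI : Fact (Nat.Prime 2) := ⟨Nat.prime_two⟩
  obtain ⟨L, hLn, hC, hL'⟩ := hind H hne hs
  have hL : Socle L := hL'
  haveI := hLn
  have htH : t ∈ H := hNH htN
  set tb := bar H ⟨t, htH⟩
  set rb := bar H ⟨r, hrH⟩
  set ab := bar H ⟨a, haH⟩
  set bb := bar H ⟨b, hbH⟩
  have hto : orderOf tb = 2 := Local.orderOf_bar (by rw [Subgroup.orderOf_mk, h.order_t])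
  have hro : orderOf rb = 2 := Local.orderOf_bar (by rw [Subgroup.orderOf_mk, h.order_r])
  have htt : tb * tb = 1 := by rw [← pow_two, Local.sq_eq_one hto]
  have hrr : rb * rb = 1 := by rw [← pow_two, Local.sq_eq_one hro]
  have htr : Commute tb rb := (show Commute (⟨t, htH⟩ : H) ⟨r, hrH⟩ from Subtype.ext h.comm_t_r.eq).map _
  have htrne : tb * rb ≠ 1 := fun e => h.t_mul_r_ne_one (congrArg Subtype.val
    (Local.eq_one_of_bar (x := ⟨t, htH⟩ * ⟨r, hrH⟩) (k := 1)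
      (Subtype.ext (by rw [pow_one]; exact Local.sq_eq_one h.order_t_mul_r)) (by rwa [← map_mul] at e)))
  -- `r` is not in the image of `N`, hence not in `L`
  set N₀ := N.subgroupOf H
  haveI hN₀ : N₀.Normal := Cores.subgroupOf_normal_of_le_normalizer hn
  set Nb := N₀.map (bar H)
  haveI : Nb.Normal := hN₀.map _ (Cent.bar_surjective H)
  have hnot : rb ∉ Nb := by
    rintro ⟨m, hm, hmr⟩
    refine hrN (mem_subgroupOf.1 ((QuotientGroup.eq_one_iff (N := N₀) ⟨r, hrH⟩).1 ?_))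
    have ho : m⁻¹ * ⟨r, hrH⟩ ∈ Cfsg.oddCore H := (QuotientGroup.eq_one_iff _).1
      (show bar H (m⁻¹ * ⟨r, hrH⟩) = 1 by rw [map_mul, map_inv, hmr, inv_mul_cancel])
    refine orderOf_eq_one_iff.1 (Nat.eq_one_of_dvd_coprimes
      ((Nat.prime_two.coprime_iff_not_dvd.2 (Local.not_two_dvd_core H))) ?_ ?_)
    · refine orderOf_dvd_of_pow_eq_one ?_
      rw [← QuotientGroup.mk_pow, show (⟨r, hrH⟩ : H) ^ 2 = 1 from Subtype.ext (Local.sq_eq_one h.order_r)]
      rfl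
    · have e : ((⟨r, hrH⟩ : H) : H ⧸ N₀) = QuotientGroup.mk' N₀ (m⁻¹ * ⟨r, hrH⟩) := by
        rw [map_mul, map_inv, QuotientGroup.mk'_apply, QuotientGroup.mk'_apply,
          (QuotientGroup.eq_one_iff m).2 hm, inv_one, one_mul]
      rw [e]
      exact (orderOf_map_dvd _ _).trans (orderOf_dvd_natCard _ ho)
  have htNb : tb ∈ Nb := ⟨_, mem_subgroupOf.2 htN, rfl⟩
  have hLN : L ≤ Nb := by
    haveI := hL.isSimpleGroup
    rcases (inferInstance : (Nb.subgroupOf L).Normal).eq_bot_or_eq_top with h0 | h0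
    · exfalso
      refine Involution.ne_one hto (mem_bot.1 (hC ▸ mem_centralizer_iff.2 fun l hl => ?_))
      have h1 : l * tb * l⁻¹ * tb⁻¹ ∈ L := by
        rw [show l * tb * l⁻¹ * tb⁻¹ = l * (tb * l⁻¹ * tb⁻¹) by group]
        exact mul_mem hl (hLn.conj_mem _ (inv_mem hl) tb)
      have h2 : l * tb * l⁻¹ * tb⁻¹ ∈ Nb := mul_mem (‹Nb.Normal›.conj_mem tb htNb l) (inv_mem htNb)
      have h3 : (⟨_, h1⟩ : L) ∈ Nb.subgroupOf L := mem_subgroupOf.2 h2
      rw [h0, mem_bot] at h3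
      exact mul_inv_eq_iff_eq_mul.1 (mul_inv_eq_one.1 (congrArg Subtype.val h3))
    · exact subgroupOf_eq_top.1 h0
  have hrL : rb ∉ L := fun e => hnot (hLN e)
  have htrL : tb * rb ∉ L := fun e => hnot (by simpa using mul_mem (inv_mem htNb) (hLN e))
  -- a central involution of a Sylow subgroup over `⟨t, r⟩` gives `t ∈ L`
  have htL : tb ∈ L := by
    obtain ⟨S, hS⟩ := (Local.isPGroup_fourV (G := H ⧸ Cfsg.oddCore H) hto hro htr).exists_le_sylow
    haveI : (L.subgroupOf (S : Subgroup (H ⧸ Cfsg.oddCore H))).Normal := inferInstance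
    -- an involution of `L` in `S`
    obtain ⟨l, hl⟩ := hL.exists_involution
    obtain ⟨g, hg⟩ := Involution.exists_conj_mem_sylow S (t := (l : H ⧸ Cfsg.oddCore H))
      (by rw [Subgroup.orderOf_coe, hl])
    set M := L.subgroupOf (S : Subgroup (H ⧸ Cfsg.oddCore H))
    have hgL : g * (l : H ⧸ Cfsg.oddCore H) * g⁻¹ ∈ L := hLn.conj_mem _ l.2 g
    haveI : Nontrivial M := by
      refine (nontrivial_iff_ne_bot M).2 fun e => ?_
      have h3 : (⟨_, hg⟩ : (S : Subgroup (H ⧸ Cfsg.oddCore H))) ∈ M := mem_subgroupOf.2 hgL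
      rw [e, mem_bot] at h3
      have h4 := congrArg Subtype.val h3
      rw [show ((1 : (S : Subgroup (H ⧸ Cfsg.oddCore H))) : H ⧸ Cfsg.oddCore H) = 1 from rfl,
        conj_eq_one_iff] at h4
      exact Involution.ne_one hl (Subtype.ext h4)
    obtain ⟨z, hzM, hzc, hzo⟩ := PGroup.exists_central_order_p S.isPGroup' (N := M)
      ((nontrivial_iff_ne_bot M).1 ‹_›)
    have hz1 : z ≠ 1 := Involution.ne_one hzo
    obtain ⟨k, hk⟩ := S.isPGroup' z
    have hzt : Commute (z : H ⧸ Cfsg.oddCore H) tb :=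
      (congrArg Subtype.val (mem_center_iff.1 hzc ⟨tb, hS (GWKlein.left_mem_fourV _ _)⟩)).symm
    have hzr : Commute (z : H ⧸ Cfsg.oddCore H) rb :=
      (congrArg Subtype.val (mem_center_iff.1 hzc ⟨rb, hS (GWKlein.right_mem_fourV _ _)⟩)).symm
    have hzL : (z : H ⧸ Cfsg.oddCore H) ∈ L := mem_subgroupOf.1 hzM
    rcases Cent.hmax h htH hrH hzt hzr ⟨k, congrArg Subtype.val hk⟩ with e | e | e | e
    · exact absurd (Subtype.ext e) hz1
    · rw [e] at hzL; exact hzL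
    · rw [e] at hzL; exact absurd hzL hrL
    · rw [e] at hzL; exact absurd hzL htrL
  -- `a`, `b` map into `L`
  have inL : ∀ (x : G) (hx : x ∈ H), x ^ p = 1 → t * x * t⁻¹ = x⁻¹ → bar H ⟨x, hx⟩ ∈ L := by
    intro x hx hxp hxt
    have h1 : bar H ⟨x, hx⟩ * bar H ⟨x, hx⟩ ∈ L := by
      have h2 : bar H ⟨x, hx⟩ * tb * (bar H ⟨x, hx⟩)⁻¹ * tb⁻¹ ∈ L :=
        mul_mem (hLn.conj_mem tb htL _) (inv_mem htL)
      have h3 : tb * (bar H ⟨x, hx⟩) * tb⁻¹ = (bar H ⟨x, hx⟩)⁻¹ := by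
        rw [← map_inv, ← map_inv, ← map_mul, ← map_mul]; exact congrArg _ (Subtype.ext hxt)
      rwa [show bar H ⟨x, hx⟩ * tb * (bar H ⟨x, hx⟩)⁻¹ * tb⁻¹ =
        bar H ⟨x, hx⟩ * (tb * bar H ⟨x, hx⟩ * tb⁻¹)⁻¹ by group, h3, inv_inv] at h2
    obtain ⟨j, hj⟩ := hpodd
    have e : bar H ⟨x, hx⟩ = (bar H ⟨x, hx⟩ * bar H ⟨x, hx⟩) ^ (j + 1) := by
      rw [← pow_two, ← pow_mul, show 2 * (j + 1) = p + 1 by omega, pow_succ, ← map_pow,
        show (⟨x, hx⟩ : H) ^ p = 1 from Subtype.ext hxp, map_one, one_mul]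
    exact e ▸ pow_mem h1 _
  have haL : ab ∈ L := inL a haH hap hat
  have hbL : bb ∈ L := inL b hbH hbp hbt
  -- conjugation by `r` on `L`
  let φ : L ≃* L := (MulAut.conjNormal rb : MulAut L)
  have hφ : ∀ x : L, ((φ x : L) : H ⧸ Cfsg.oddCore H) = rb * x * rb⁻¹ := fun x => MulAut.conjNormal_apply rb x
  obtain ⟨w, hw2, hwne, hwt, hwφ⟩ := hL.exists_fixed (t := ⟨tb, htL⟩) (a := ⟨ab, haL⟩) (b := ⟨bb, hbL⟩)
    (by rw [Subgroup.orderOf_mk, hto]) hp (fun e => hcon.1 (bar_eq_one.1 (congrArg Subtype.val e)))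
    (fun e => hcon.2 (bar_eq_one.1 (congrArg Subtype.val e)))
    (Subtype.ext (by
      show ab ^ p = 1
      rw [← map_pow, show (⟨a, haH⟩ : H) ^ p = 1 from Subtype.ext hap, map_one]))
    (Subtype.ext (by
      show bb ^ p = 1
      rw [← map_pow, show (⟨b, hbH⟩ : H) ^ p = 1 from Subtype.ext hbp, map_one]))
    (Subtype.ext (mul_inv_eq_iff_eq_mul.1 (mul_inv_eq_one.1 (by
      show ab * bb * ab⁻¹ * bb⁻¹ = 1
      rw [← map_inv, ← map_inv, ← map_mul, ← map_mul, ← map_mul]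
      exact bar_eq_one.2 hab))))
    (Subtype.ext (by
      show tb * ab * tb⁻¹ = ab⁻¹
      rw [← map_inv, ← map_inv, ← map_mul, ← map_mul]; exact congrArg _ (Subtype.ext hat)))
    φ
    (fun x => Subtype.ext (by
      rw [hφ, hφ, show rb * (rb * (x : H ⧸ Cfsg.oddCore H) * rb⁻¹) * rb⁻¹ = rb * rb * x * (rb * rb)⁻¹ by group,
        hrr, one_mul, inv_one, mul_one]))
    (Subtype.ext (by rw [hφ]; exact mul_inv_eq_iff_eq_mul.2 htr.symm.eq))
    (Subtype.ext (by
      rw [hφ]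
      exact mul_inv_eq_iff_eq_mul.2
        ((show Commute (⟨a, haH⟩ : H) ⟨r, hrH⟩ from Subtype.ext har.eq).map (bar H)).symm.eq))
    (Subtype.ext (by
      rw [hφ]
      show rb * bb * rb⁻¹ = bb⁻¹
      rw [← map_inv, ← map_inv, ← map_mul, ← map_mul]; exact congrArg _ (Subtype.ext hbr)))
  have hwr : Commute (w : H ⧸ Cfsg.oddCore H) rb := by
    have e := congrArg Subtype.val hwφ
    rw [hφ] at e
    exact (mul_inv_eq_iff_eq_mul.1 e).symm
  have hw2' : orderOf (w : H ⧸ Cfsg.oddCore H) = 2 := by rw [Subgroup.orderOf_coe, hw2]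
  rcases Cent.hmax h htH hrH (show Commute (w : H ⧸ Cfsg.oddCore H) tb from congrArg Subtype.val hwt.eq) hwr
    ⟨1, by rw [pow_one]; exact Local.sq_eq_one hw2'⟩ with e | e | e | e
  · exact Involution.ne_one hw2' e
  · exact hwne (Subtype.ext e)
  · have h' := w.2; rw [e] at h'; exact hrL h'
  · have h' := w.2; rw [e] at h'; exact htrL h'

/-- The hypothesis of `Growth`, from the induction hypothesis. -/
theorem twoSides_of_proper (hind : ProperGWLike G) {p : ℕ} [Fact p.Prime] (hp : p ≠ 2) : TwoSides p G :=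
  fun _ _ _ _ h _ _ hne hNH hn htN hrN hrH _ hy hyo hyt hyne _ _ haH hbH hap hbp hab har hat hbt hbr =>
    h.mem_oddPart_of_two_sides hind hne hNH hn htN hrN hrH hy hyo hyt hyne hp haH hbH hap hbp hab har hat hbt hbr

end Cfsg.Agent.GWDihedral
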