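import Cfsg.Agent.Lib.GWDihedral.SidesExc
import Cfsg.Agent.Lib.GWDihedral.RotTools
import Cfsg.Agent.Lib.GWDihedral.TwoSides

/-!
# Gorenstein-Walter, dihedral Sylow subgroups of order at least eight: groups invariant under a rotation

Section (1.1) of `notes/gw_dihedral_eight.md`: `sideRot`.

* `DHyp.inSocle_of_rot` : a rotated four-group lies in every normal subgroup of even order
* `DHyp.commutator_mem_of_rot` : rotated invariant `p`-groups are centralised by `t` modulo the core
* `exists_fullSide_of_rot` : by growth, such a moved group gives a full side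
-/

set_option autoImplicit false
set_option linter.unusedSectionVars false

namespace Cfsg.Agent.GWDihedral

open Subgroup
open Cfsg.Agent.GWKlein (coreU coreW fourV oddPart)

universe u

variable {G : Type u} [Group G] [Finite G] {n : ℕ} {t r σ s : G}

/-- An involution commuting with the four-group lies in it. -/
theorem DHyp.mem_fourV_of_involution (h : DHyp n t r σ) {z : G} (hz : z * z = 1) (hzt : Commute z t)
    (hzr : Commute z r) : z ∈ fourV t r := by
  obtain ⟨w, hw, v, hv, rfl⟩ := h.exists_mul_of_commute hzt hzr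
  have hc : Commute w v := (mem_centralizer_iff.1 (h.coreW_le_centralizer hw) v hv).symm
  have hvv : v * v = 1 := by
    rcases h.mem_fourV_iff.1 hv with rfl | rfl | rfl | rfl
    · exact one_mul 1
    · exact h.mul_self_t
    · exact h.mul_self_r
    · exact Involution.mul_self h.order_t_mul_r
  have hw2 : w * w = 1 := by
    rw [← hz, show w * v * (w * v) = w * (v * w) * v by group, ← hc.eq,
      show w * (w * v) * v = w * w * (v * v) by group, hvv, mul_one]
  have hwo : orderOf w = 1 := Nat.eq_one_of_dvd_coprimes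
    (Nat.coprime_two_left.2 (h.mem_coreW.1 hw).2.2)
    (orderOf_dvd_of_pow_eq_one (by rw [pow_two, hw2])) dvd_rfl
  rw [orderOf_eq_one_iff.1 hwo, one_mul]
  exact hv

/-- A rotated four-group lies in every normal subgroup of even order. -/
theorem DHyp.inSocle_of_rot (h : DHyp n t r σ) {H : Subgroup G} (hV : fourV t r ≤ H) (hs : Rot t r s)
    (hsH : s ∈ H) : InSocle (fourV t r) H := by
  haveI := Fact.mk Nat.prime_two
  refine ⟨hV, fun N hN hNe => ?_⟩
  haveI := hN
  obtain ⟨T, hT⟩ := (h.isPGroup_fourV.of_equiv (subgroupOfEquivOfLe hV).symm).exists_le_sylow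
  have htH : t ∈ H := hV (GWKlein.left_mem_fourV t r)
  have hrH : r ∈ H := hV (GWKlein.right_mem_fourV t r)
  -- an involution of `N` in the Sylow subgroup
  obtain ⟨⟨a, haN⟩, ha⟩ := exists_prime_orderOf_dvd_card' (G := N) 2 (even_iff_two_dvd.1 hNe)
  rw [Subgroup.orderOf_mk] at ha
  obtain ⟨T₁, hT₁⟩ := (IsPGroup.of_card (n := 1) (by rw [Nat.card_zpowers, ha, pow_one]) :
    IsPGroup 2 (zpowers a)).exists_le_sylow
  obtain ⟨g, hg⟩ := MulAction.exists_smul_eq H T₁ T
  have haT : g * a * g⁻¹ ∈ (T : Subgroup H) := by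
    rw [← hg, Transfer.sylow_coe_smul]
    exact ⟨a, hT₁ (mem_zpowers a), rfl⟩
  have hne : N.subgroupOf (T : Subgroup H) ≠ ⊥ := fun e => by
    have h1 : (⟨g * a * g⁻¹, haT⟩ : (T : Subgroup H)) ∈ N.subgroupOf (T : Subgroup H) :=
      mem_subgroupOf.2 (hN.conj_mem a haN g)
    rw [e, mem_bot] at h1
    exact Involution.ne_one ha (conj_eq_one_iff.1 (congrArg Subtype.val h1))
  obtain ⟨⟨⟨z, hzH⟩, hzT⟩, hzN, hzc, hzo⟩ := PGroup.exists_central_order_p T.2 hne
  rw [Subgroup.orderOf_mk, Subgroup.orderOf_mk] at hzo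
  have hzcomm : ∀ v ∈ fourV t r, Commute z v := fun v hv => by
    have h1 := mem_center_iff.1 hzc ⟨⟨v, hV hv⟩, hT (mem_subgroupOf.2 hv)⟩
    exact (congrArg (fun x : (T : Subgroup H) => ((x : H) : G)) h1).symm
  have hzV := h.mem_fourV_of_involution (Involution.mul_self hzo) (hzcomm t (GWKlein.left_mem_fourV t r))
    (hzcomm r (GWKlein.right_mem_fourV t r))
  -- the rotation spreads it
  have hzN' : z ∈ N.map H.subtype := ⟨⟨z, hzH⟩, mem_subgroupOf.1 hzN, rfl⟩
  have hrot : ∀ x ∈ N.map H.subtype, s * x * s⁻¹ ∈ N.map H.subtype := by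
    rintro _ ⟨x, hx, rfl⟩
    exact ⟨⟨s, hsH⟩ * x * (⟨s, hsH⟩ : H)⁻¹, hN.conj_mem x hx _, rfl⟩
  have htr : s * (t * r) * s⁻¹ = t := hs.conj_mul h.comm_t_r h.mul_self_r
  have hall : t ∈ N.map H.subtype ∧ r ∈ N.map H.subtype := by
    rcases h.mem_fourV_iff.1 hzV with e | e | e | e <;> rw [e] at hzN'
    · exact absurd e (Involution.ne_one hzo)
    · exact ⟨hzN', hs.1 ▸ hrot t hzN'⟩
    · have h2 : t * r ∈ N.map H.subtype := hs.2 ▸ hrot r hzN'
      exact ⟨htr ▸ hrot _ h2, hzN'⟩
    · have h2 : t ∈ N.map H.subtype := htr ▸ hrot _ hzN'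
      exact ⟨h2, hs.1 ▸ hrot t h2⟩
  intro x hx
  obtain ⟨y, hy, hyx⟩ := GWKlein.fourV_le_iff.2 hall (mem_subgroupOf.1 hx)
  exact Subtype.ext hyx ▸ hy

variable {p : ℕ} [Fact p.Prime]

/-- A `p`-group invariant under a rotated four-group is centralised by `t` modulo the core. -/
theorem DHyp.commutator_mem_of_rot (h : DHyp n t r σ) (hind : ProperGWLike G) (hp : p ≠ 2) {H : Subgroup G}
    (hne : H ≠ ⊤) (hV : fourV t r ≤ H) (hs : Rot t r s) (hsH : s ∈ H) {X : Subgroup G} (hX : IsPGroup p X)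
    (hXH : X ≤ H) (hVX : fourV t r ≤ normalizer (X : Set G)) (hsX : s ∈ normalizer (X : Set G)) :
    ∀ x ∈ X, x * t * x⁻¹ * t⁻¹ ∈ oddPart H := by
  have hodd := odd_card_of_isPGroup hp hX
  have htH : t ∈ H := hV (GWKlein.left_mem_fourV t r)
  have hrH : r ∈ H := hV (GWKlein.right_mem_fourV t r)
  by_cases hsol : Group.IsSolvable H
  · haveI : IsMulCommutative (fourV t r) := by
      haveI := h.isKleinFour
      exact ⟨⟨fun a b => mul_comm_of_exponent_two IsKleinFour.exponent_two a b⟩⟩
    have hnc : ¬ IsCyclic (fourV t r) := fun hc => by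
      haveI := h.isKleinFour
      exact IsKleinFour.not_isCyclic hc
    have key : ∀ v ∈ fourV t r, orderOf v = 2 → X ⊓ centralizer ({v} : Set G) ≤ oddPart H :=
      fun v hv hvo x hx => mem_oddPart_of_solvable h hsol hvo (hV hv) (hXH hx.1)
        (hodd.of_dvd_nat (orderOf_dvd_natCard _ hx.1)) (mem_centralizer_singleton_iff.1 hx.2)
    have hle : X ≤ oddPart H := Coprime.le_of_noncyclic hnc hVX (h.coprime_card h.isPGroup_fourV hodd)
      fun v hv hv1 => by
        rcases h.mem_fourV_iff.1 hv with rfl | rfl | rfl | rfl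
        · exact absurd rfl hv1
        · exact key _ hv h.order_t
        · exact key _ hv h.order_r
        · exact key _ hv h.order_t_mul_r
    intro x hx
    rw [show x * t * x⁻¹ * t⁻¹ = x * (t * x⁻¹ * t⁻¹) by group]
    exact mul_mem (hle hx) ((mem_normalizer_iff.1 (GWKlein.le_normalizer_oddPart H htH) _).1 (inv_mem (hle hx)))
  · obtain ⟨v, hv, hfix⟩ := exists_fixing (hind H hne hsol) h.order_t h.order_r h.ne h.comm_t_r
      (h.inSocle_of_rot hV hs hsH) (Fact.out : p.Prime) hp hX hXH (hVX (GWKlein.left_mem_fourV t r))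
      (hVX (GWKlein.right_mem_fourV t r))
    -- the rotation moves the fixed involution along
    have step : ∀ w w' : G, s * w * s⁻¹ = w' → (∀ x ∈ X, x * w * x⁻¹ * w⁻¹ ∈ oddPart H) →
        ∀ x ∈ X, x * w' * x⁻¹ * w'⁻¹ ∈ oddPart H := by
      intro w w' he hw x hx
      have hx' : s⁻¹ * x * s ∈ X := by
        have := (mem_normalizer_iff.1 (inv_mem hsX) x).1 hx
        rwa [inv_inv] at this
      have h1 := (mem_normalizer_iff.1 (GWKlein.le_normalizer_oddPart H hsH) _).1 (hw _ hx')
      rwa [show s * (s⁻¹ * x * s * w * (s⁻¹ * x * s)⁻¹ * w⁻¹) * s⁻¹ = x * w' * x⁻¹ * w'⁻¹ by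
        rw [← he]; group] at h1
    have htr : s * (t * r) * s⁻¹ = t := hs.conj_mul h.comm_t_r h.mul_self_r
    rcases hv with rfl | rfl | rfl
    · exact hfix
    · exact step _ _ htr (step _ _ hs.2 hfix)
    · exact step _ _ htr hfix

/-- A rotated invariant `p`-group moved by `t` has a moved part in the core. -/
theorem DHyp.coreMoved_of_rot [IsSimpleGroup G] (h : DHyp n t r σ) (hind : ProperGWLike G) (hp : p ≠ 2)
    {D X : Subgroup G} (hD : IsPGroup p D) (hne : D ≠ ⊥) (hVD : fourV t r ≤ normalizer (D : Set G))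
    (hs : Rot t r s) (hsD : s ∈ normalizer (D : Set G)) (hX : IsPGroup p X)
    (hXD : X ≤ normalizer (D : Set G)) (hVX : fourV t r ≤ normalizer (X : Set G))
    (hsX : s ∈ normalizer (X : Set G)) (hXt : ¬ X ≤ centralizer ({t} : Set G)) : CoreMoved p t r D :=
  ⟨X ⊓ oddPart (normalizer (D : Set G)), hX.to_le inf_le_left,
    (le_inf hVX (hVD.trans (GWKlein.le_normalizer_oddPart _))).trans inf_normalizer_le_normalizer_inf,
    inf_le_right, not_inf_le_centralizer h hp hX (hVX (GWKlein.left_mem_fourV t r))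
      (h.commutator_mem_of_rot hind hp (h.normalizer_ne_top hp hD hne) hVD hs hsD hX hXD hVX hsX) hXt⟩

omit [Finite G] [Fact p.Prime] in
/-- With a rotation, a group centralised by `t` is centralised by the four-group. -/
theorem fourV_le_centralizer_of_rot (hs : Rot t r s) {X : Subgroup G} (hsX : s ∈ normalizer (X : Set G))
    (hXt : X ≤ centralizer ({t} : Set G)) : fourV t r ≤ centralizer (X : Set G) := by
  refine GWKlein.fourV_le_iff.2 ⟨mem_centralizer_iff.2 fun x hx => (mem_centralizer_t.1 (hXt hx)).eq,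
    mem_centralizer_iff.2 fun x hx => ?_⟩
  have hx' : s⁻¹ * x * s ∈ X := by
    have := (mem_normalizer_iff.1 (inv_mem hsX) x).1 hx
    rwa [inv_inv] at this
  have h1 := (mem_centralizer_t.1 (hXt hx')).map (MulAut.conj s).toMonoidHom
  simp only [MulEquiv.coe_toMonoidHom, MulAut.conj_apply, hs.1] at h1
  rw [show s * (s⁻¹ * x * s) * s⁻¹ = x by group] at h1
  exact h1.eq

/-- Growth from a moved rotated group with a non-trivial part centralised by the four-group. -/
theorem exists_fullSide_of_rot_meets [IsSimpleGroup G] (h : DHyp n t r σ) (hind : ProperGWLike G) (hp : p ≠ 2)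
    {X : Subgroup G} (hX : IsPGroup p X) (hVX : fourV t r ≤ normalizer (X : Set G)) (hs : Rot t r s)
    (hsX : s ∈ normalizer (X : Set G)) (hXt : ¬ X ≤ centralizer ({t} : Set G))
    (hmeets : X ⊓ centralizer (fourV t r : Set G) ≠ ⊥) : ∃ R, FullSide p t r σ R := by
  haveI := Fact.mk Nat.prime_two
  obtain ⟨k, hk⟩ : ∃ k, k = Nat.card (coreW t r) - Nat.card (X ⊓ centralizer (fourV t r : Set G) : Subgroup G) :=
    ⟨_, rfl⟩
  induction k using Nat.strong_induction_on generalizing X s with
  | _ k ih =>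
  set D := X ⊓ centralizer (fourV t r : Set G)
  have hD : IsPGroup p D := hX.to_le inf_le_left
  have hDW : D ≤ coreW t r := fun x hx =>
    h.mem_coreW_of_odd hx.2 ((odd_card_of_isPGroup hp hX).of_dvd_nat (orderOf_dvd_natCard _ hx.1))
  have hVD' : fourV t r ≤ centralizer (D : Set G) := fun v hv => mem_centralizer_iff.2 fun d hd =>
    (mem_centralizer_iff.1 hd.2 v hv).symm
  have hVD : fourV t r ≤ normalizer (D : Set G) := hVD'.trans (centralizer_le_normalizer _)
  -- a rotation normalises the centraliser of the four-group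
  have hCV : ∀ {g : G}, Rot t r g → ∀ x ∈ centralizer (fourV t r : Set G),
      g * x * g⁻¹ ∈ centralizer (fourV t r : Set G) := fun {g} hg x hx => by
    obtain ⟨hxt, hxr⟩ := GWKlein.mem_centralizer_fourV.1 hx
    have h1 := hxt.map (MulAut.conj g).toMonoidHom
    have h2 := (hxt.mul_right hxr).map (MulAut.conj g).toMonoidHom
    simp only [MulEquiv.coe_toMonoidHom, MulAut.conj_apply, hg.1, hg.conj_mul h.comm_t_r h.mul_self_r] at h1 h2
    exact GWKlein.mem_centralizer_fourV.2 ⟨h2, h1⟩
  have hsD : s ∈ normalizer (D : Set G) := Coprime.mem_normalizer_of_forall fun x hx =>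
    ⟨(mem_normalizer_iff.1 hsX x).1 hx.1, hCV hs x hx.2⟩
  set H := normalizer (D : Set G)
  -- the moved part normalising `D`
  set N := X ⊓ H
  have hDX : D < X := lt_of_le_of_ne inf_le_left fun e => hXt (e ▸ fun x hx =>
    mem_centralizer_t.2 (GWKlein.mem_centralizer_fourV.1 hx.2).1)
  have hsN : s ∈ normalizer (N : Set G) :=
    inf_normalizer_le_normalizer_inf (H := X) (K := H) ⟨hsX, le_normalizer hsD⟩
  have hNt : ¬ N ≤ centralizer ({t} : Set G) := fun hle => (GWKlein.lt_inf_normalizer hX hDX).not_ge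
    (le_inf inf_le_left fun x hx => mem_centralizer_iff.2 fun v hv =>
      (mem_centralizer_iff.1 (fourV_le_centralizer_of_rot hs hsN hle hv) x hx).symm)
  have hVN : fourV t r ≤ normalizer (N : Set G) :=
    (le_inf hVX (hVD.trans le_normalizer)).trans inf_normalizer_le_normalizer_inf
  have hm : CoreMoved p t r D := h.coreMoved_of_rot hind hp hD hmeets hVD hs hsD (hX.to_le inf_le_left)
    inf_le_right hVN hsN hNt
  by_cases hbig : p ^ (Nat.card (coreW t r)).factorization p ≤ Nat.card D
  · exact exists_fullSide_of_growth h hp (twoSides_of_proper hind hp) hD hmeets (hDW.trans inf_le_left) hVD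
      (Or.inl hbig) hm
  -- a larger part centralised by the four-group
  obtain ⟨Q, hQ, hQV, hQO, hQt⟩ := hm
  obtain ⟨P, hDP, hPW, -, hP, hPc⟩ := h.exists_invariant_sylow h.isPGroup_fourV h.odd_coreW
    ((h.coreW_le_centralizer.trans le_rfl |> le_centralizer_iff.1).trans (centralizer_le_normalizer _))
    hDW hD hVD
  have hlt : D < P := lt_of_le_of_ne hDP fun e => hbig (by rw [← hPc, e])
  set K := coreW t r ⊓ H
  set O := oddPart H
  have hKn : K ≤ normalizer (O : Set G) := inf_le_right.trans (GWKlein.le_normalizer_oddPart _)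
  have hY : Odd (Nat.card (O ⊔ K : Subgroup G)) :=
    odd_card_sup hKn (GWKlein.odd_card_oddPart _) (h.odd_coreW.of_dvd_nat (card_dvd_of_le inf_le_left))
  have hVY : fourV t r ≤ normalizer ((O ⊔ K : Subgroup G) : Set G) :=
    (le_inf (hVD.trans (GWKlein.le_normalizer_oddPart _))
      ((le_centralizer_iff.1 (inf_le_left.trans h.coreW_le_centralizer)).trans
        (centralizer_le_normalizer _))).trans (GWKlein.normalizer_inf_le_sup _ _)
  have hsK : s ∈ normalizer (K : Set G) := Coprime.mem_normalizer_of_forall fun x hx =>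
    ⟨h.mem_coreW_of_odd (hCV hs x (h.coreW_le_centralizer hx.1)) (by
      rw [show orderOf (s * x * s⁻¹) = orderOf x from (MulAut.conj s).orderOf_eq x]
      exact (h.mem_coreW.1 hx.1).2.2), (mem_normalizer_iff.1 (le_normalizer hsD) x).1 hx.2⟩
  have hsY : s ∈ normalizer ((O ⊔ K : Subgroup G) : Set G) :=
    GWKlein.normalizer_inf_le_sup _ _ ⟨GWKlein.le_normalizer_oddPart _ hsD, hsK⟩
  set P' := P ⊓ H
  have hP'K : P' ≤ K := inf_le_inf_right _ hPW
  obtain ⟨X', s', -, hs', hs'X, hP'X, hX'Y, hX'V, hX', hX'c⟩ := h.exists_invariant_rot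
    (H := H ⊓ normalizer ((O ⊔ K : Subgroup G) : Set G)) hY
    (le_inf (sup_le (GWKlein.oddPart_le H) inf_le_right) le_normalizer) inf_le_right (le_inf hVD hVY)
    ⟨s, ⟨hsD, hsY⟩, hs⟩ (hP'K.trans le_sup_right) (hP.to_le inf_le_left)
    ((le_centralizer_iff.1 ((hP'K.trans inf_le_left).trans h.coreW_le_centralizer)).trans
      (centralizer_le_normalizer _))
  have hX't : ¬ X' ≤ centralizer ({t} : Set G) := fun hle => hQt
    (h.le_centralizer_of_sylow hY hVY hX'Y hX'V hX'c hle (hQO.trans le_sup_left) hQ hQV)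
  have hlt' : D < X' ⊓ centralizer (fourV t r : Set G) :=
    (GWKlein.lt_inf_normalizer hP hlt).trans_le
      (le_inf hP'X ((hP'K.trans inf_le_left).trans h.coreW_le_centralizer))
  refine ih _ ?_ hX' hX'V hs' hs'X hX't (fun e => hmeets (le_bot_iff.1 (e ▸ hlt'.le))) rfl
  have h1 : Nat.card D < Nat.card (X' ⊓ centralizer (fourV t r : Set G) : Subgroup G) :=
    lt_of_not_ge fun hge => hlt'.ne (eq_of_le_of_card_ge hlt'.le hge)
  have h2 : Nat.card (X' ⊓ centralizer (fourV t r : Set G) : Subgroup G) ≤ Nat.card (coreW t r) :=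
    card_le_of_le fun x hx =>
      h.mem_coreW_of_odd hx.2 ((odd_card_of_isPGroup hp hX').of_dvd_nat (orderOf_dvd_natCard _ hx.1))
  omega

/-- A rotated invariant `p`-group moved by `t` gives a full side. -/
theorem exists_fullSide_of_rot [IsSimpleGroup G] (h : DHyp n t r σ) (hind : ProperGWLike G) (hp : p ≠ 2)
    {Q : Subgroup G} (hQ : IsPGroup p Q) (hVQ : fourV t r ≤ normalizer (Q : Set G)) (hs : Rot t r s)
    (hsQ : s ∈ normalizer (Q : Set G)) (hQt : ¬ Q ≤ centralizer ({t} : Set G)) :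
    ∃ R, FullSide p t r σ R := by
  by_cases hmeets : Q ⊓ centralizer (fourV t r : Set G) ≠ ⊥
  · exact exists_fullSide_of_rot_meets h hind hp hQ hVQ hs hsQ hQt hmeets
  push Not at hmeets
  have hQ1 : Q ≠ ⊥ := fun e => hQt (e ▸ bot_le)
  haveI : Nontrivial Q := (nontrivial_iff_ne_bot Q).2 hQ1
  -- the centre of `Q`
  set Z := (center Q).map Q.subtype
  have hZQ : Z ≤ Q := map_subtype_le _
  have hZ : IsPGroup p Z := hQ.to_le hZQ
  have hZc : ∀ z ∈ Z, ∀ x ∈ Q, Commute x z := by
    rintro _ ⟨z, hz, rfl⟩ x hx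
    exact congrArg Subtype.val (mem_center_iff.1 hz ⟨x, hx⟩)
  have hQZ : Q ≤ centralizer (Z : Set G) := fun x hx =>
    mem_centralizer_iff.2 fun z hz => (hZc z hz x hx).symm.eq
  have hZn : normalizer (Q : Set G) ≤ normalizer (Z : Set G) := Cores.normalizer_le_normalizer_map _
  have hsZ : s ∈ normalizer (Z : Set G) := hZn hsQ
  have hVZ : fourV t r ≤ normalizer (Z : Set G) := hVQ.trans hZn
  have hZ1 : Z ≠ ⊥ := fun e => (nontrivial_iff_ne_bot _).1 hQ.center_nontrivial
    ((map_eq_bot_iff_of_injective _ Q.subtype_injective).1 e)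
  have hp1 := (Fact.out : p.Prime)
  have hodd := odd_card_of_isPGroup hp hZ
  have htr : s * (t * r) * s⁻¹ = t := hs.conj_mul h.comm_t_r h.mul_self_r
  have hconjZ : ∀ {z : G}, z ∈ Z → s * z * s⁻¹ ∈ Z := fun {z} hz => (mem_normalizer_iff.1 hsZ z).1 hz
  have hfix : ∀ z ∈ Z, Commute z t → Commute z r → z = 1 := fun z hz h1 h2 =>
    mem_bot.1 (hmeets ▸ (⟨hZQ hz, GWKlein.mem_centralizer_fourV.2 ⟨h1, h2⟩⟩ :
      z ∈ Q ⊓ centralizer (fourV t r : Set G)))
  -- an element fixed by `r`
  obtain ⟨x, hx, hxr, hx1⟩ : ∃ x ∈ Z, Commute x r ∧ x ≠ 1 := by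
    by_contra hno
    push Not at hno
    have hnot : ∀ z ∈ Z, Commute z t → z = 1 := fun z hz hzt => by
      have h1 := hzt.map (MulAut.conj s).toMonoidHom
      simp only [MulEquiv.coe_toMonoidHom, MulAut.conj_apply, hs.1] at h1
      exact conj_eq_one_iff.1 (hno _ (hconjZ hz) h1)
    haveI : IsMulCommutative (fourV t r) := by
      haveI := h.isKleinFour
      exact ⟨⟨fun a b => mul_comm_of_exponent_two IsKleinFour.exponent_two a b⟩⟩
    refine hZ1 (le_bot_iff.1 (Coprime.le_of_noncyclic (fun hc => by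
      haveI := h.isKleinFour
      exact IsKleinFour.not_isCyclic hc) hVZ (h.coprime_card h.isPGroup_fourV hodd) fun v hv hv1 => ?_))
    rcases h.mem_fourV_iff.1 hv with rfl | rfl | rfl | rfl
    · exact absurd rfl hv1
    · exact fun z hz => mem_bot.2 (hnot z hz.1 (mem_centralizer_singleton_iff.1 hz.2))
    · exact fun z hz => mem_bot.2 (hno z hz.1 (mem_centralizer_singleton_iff.1 hz.2))
    · intro z hz
      have h0 : Commute z (t * r) := mem_centralizer_singleton_iff.1 hz.2
      have h1 := h0.map (MulAut.conj s).toMonoidHom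
      simp only [MulEquiv.coe_toMonoidHom, MulAut.conj_apply, htr] at h1
      exact mem_bot.2 (conj_eq_one_iff.1 (hnot _ (hconjZ hz.1) h1))
  obtain ⟨j, hj⟩ := IsPGroup.iff_orderOf.1 hZ ⟨x, hx⟩
  rw [Subgroup.orderOf_mk] at hj
  have hj0 : j ≠ 0 := by rintro rfl; exact hx1 (orderOf_eq_one_iff.1 (by rw [hj, pow_zero]))
  set a := x ^ (orderOf x / p)
  have haZ : a ∈ Z := pow_mem hx _
  have hao : orderOf a = p :=
    orderOf_pow_orderOf_div (orderOf_pos x).ne' (by rw [hj]; exact dvd_pow_self p hj0)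
  have har : Commute a r := hxr.pow_left _
  have ha1 : a ≠ 1 := fun e => hp1.ne_one (by rw [← hao, e, orderOf_one])
  have htN : ∀ {z : G}, z ∈ Z → t * z * t⁻¹ ∈ Z := fun {z} hz =>
    (mem_normalizer_iff.1 (hVZ (GWKlein.left_mem_fourV t r)) z).1 hz
  have hat : t * a * t⁻¹ = a⁻¹ := by
    have hca : Commute (t * a * t⁻¹) a := hZc a haZ _ (hZQ (htN haZ))
    refine (eq_inv_of_mul_eq_one_left (hfix _ (mul_mem (htN haZ) haZ) ?_
      (((h.comm_t_r.mul_left har).mul_left h.comm_t_r.inv_left).mul_left har)))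
    have e : t * (t * a * t⁻¹ * a) * t⁻¹ = t * a * t⁻¹ * a := by
      rw [show t * (t * a * t⁻¹ * a) * t⁻¹ = t * t * a * (t * t)⁻¹ * (t * a * t⁻¹) by group, h.mul_self_t,
        one_mul, inv_one, mul_one, hca.eq]
    exact (mul_inv_eq_iff_eq_mul.1 e).symm
  -- its two conjugates
  set g := s * a * s⁻¹
  have hgZ : g ∈ Z := hconjZ haZ
  have hgr : r * g * r⁻¹ = g⁻¹ := by
    rw [← hs.1, show s * t * s⁻¹ * (s * a * s⁻¹) * (s * t * s⁻¹)⁻¹ = s * (t * a * t⁻¹) * s⁻¹ by group, hat]
    simp only [g]; group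
  have hgtr : Commute g (t * r) := by
    have h1 := har.map (MulAut.conj s).toMonoidHom
    simpa only [MulEquiv.coe_toMonoidHom, MulAut.conj_apply, hs.2] using h1
  have hgt : t * g * t⁻¹ = g⁻¹ := by
    calc t * g * t⁻¹ = t * r * (r⁻¹ * g * r) * (t * r)⁻¹ := by group
      _ = g⁻¹ := by
        rw [Involution.inv_eq h.order_r]
        rw [Involution.inv_eq h.order_r] at hgr
        rw [hgr, hgtr.inv_left.symm.eq, mul_inv_cancel_right]
  -- the part fixed by `t`
  set D := Z ⊓ centralizer ({t} : Set G)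
  have hd : s⁻¹ * a * s ∈ D := ⟨by
    have := (mem_normalizer_iff.1 (inv_mem hsZ) a).1 haZ
    rwa [inv_inv] at this, mem_centralizer_t.2 (hs.commute_t har)⟩
  have hr : ¬ D ≤ centralizer ({r} : Set G) := fun hle => ha1 (by
    have h1 := hfix _ hd.1 (mem_centralizer_t.1 hd.2) (mem_centralizer_singleton_iff.1 (hle hd))
    rw [show a = s * (s⁻¹ * a * s) * s⁻¹ by group, h1, mul_one, mul_inv_cancel])
  have hne : D ≠ ⊥ := fun e => hr (e ▸ bot_le)
  have hD : IsPGroup p D := hZ.to_le inf_le_left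
  have hDU : D ≤ coreU t := h.mem_coreU_of_pgroup hp hZ
  have hVD : fourV t r ≤ normalizer (D : Set G) :=
    (le_inf hVZ (h.fourV_le_centralizer_t.trans le_normalizer)).trans inf_normalizer_le_normalizer_inf
  set H := normalizer (D : Set G)
  have hQD : Q ≤ centralizer (D : Set G) := fun y hy => mem_centralizer_iff.2 fun d hd' => (hZc d hd'.1 y hy).symm.eq
  have htD : t ∈ centralizer (D : Set G) :=
    mem_centralizer_iff.2 fun d hd' => (mem_centralizer_t.1 hd'.2).eq
  have hm : CoreMoved p t r D := by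
    by_cases hy : ∃ y ∈ centralizer (D : Set G), orderOf y = 2 ∧ Commute y t ∧ y ≠ t
    · obtain ⟨y, hyK, hyo, hyt, hyne⟩ := hy
      have hgo : orderOf g = p := ((MulAut.conj s).orderOf_eq a).trans hao
      have hrD : r ∉ centralizer (D : Set G) := fun hrD => hr fun d hd' =>
        mem_centralizer_singleton_iff.2 (mem_centralizer_iff.1 hrD d hd')
      have moved : ∀ b : G, orderOf b = p → t * b * t⁻¹ = b⁻¹ → (r * b * r⁻¹ = b ∨ r * b * r⁻¹ = b⁻¹) →
          b ∈ oddPart H → CoreMoved p t r D := fun b hbo hbt hbr hbO => by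
        refine ⟨zpowers b, IsPGroup.of_card (n := 1) (by rw [Nat.card_zpowers, hbo, pow_one]),
          GWKlein.fourV_le_iff.2 ⟨?_, ?_⟩, zpowers_le.2 hbO, fun hle => ?_⟩
        · refine Coprime.mem_normalizer_of_forall fun w hw => ?_
          obtain ⟨i, rfl⟩ := mem_zpowers_iff.1 hw
          rw [← conj_zpow, hbt, inv_zpow]
          exact inv_mem hw
        · refine Coprime.mem_normalizer_of_forall fun w hw => ?_
          obtain ⟨i, rfl⟩ := mem_zpowers_iff.1 hw
          rw [← conj_zpow]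
          rcases hbr with e | e <;> rw [e]
          · exact hw
          · rw [inv_zpow]; exact inv_mem hw
        · exact not_commute_of_inverted (hbo ▸ hp1.odd_of_ne_two hp)
            (fun e => hp1.ne_one (by rw [← hbo, e, orderOf_one])) hbt (mem_centralizer_t.1 (hle (mem_zpowers b)))
      rcases twoSides_of_proper hind hp n t r σ h H (centralizer (D : Set G))
        (h.normalizer_ne_top hp hD hne) (centralizer_le_normalizer _)
        (PLocal.normalizer_le_normalizer_centralizer D) htD hrD (hVD (GWKlein.right_mem_fourV t r))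
        y hyK hyo hyt hyne a g (centralizer_le_normalizer _ (hQD (hZQ haZ)))
        (centralizer_le_normalizer _ (hQD (hZQ hgZ))) (hao ▸ pow_orderOf_eq_one a)
        (hgo ▸ pow_orderOf_eq_one g)
        (by rw [(hZc g hgZ a (hZQ haZ)).eq, mul_inv_cancel_right, mul_inv_cancel]; exact one_mem _)
        har hat hgt hgr with e | e
      · exact moved a hao hat (Or.inl (by rw [← har.eq, mul_inv_cancel_right])) e
      · exact moved g hgo hgt (Or.inr hgr) e
    · push Not at hy
      exact ⟨Q ⊓ oddPart H, hQ.to_le inf_le_left,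
        (le_inf hVQ (hVD.trans (GWKlein.le_normalizer_oddPart _))).trans inf_normalizer_le_normalizer_inf,
        inf_le_right, not_inf_le_centralizer h hp hQ (hVQ (GWKlein.left_mem_fourV t r))
          (fun w hw => h.commutator_mem_oddPart (centralizer_le_normalizer _)
            (PLocal.normalizer_le_normalizer_centralizer D) htD hy (centralizer_le_normalizer _ (hQD hw))) hQt⟩
  exact exists_fullSide_of_growth h hp (twoSides_of_proper hind hp) hD hne hDU hVD (Or.inr hr) hm

/-- **(1.1)**: a rotated invariant group is centralised by the four-group, or its prime is exceptional. -/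
theorem sideRot [IsSimpleGroup G] (h : DHyp n t r σ) (hind : ProperGWLike G) : SideRot t r σ := by
  intro q hq hq2 Q hQ hVQ hF
  haveI := Fact.mk hq
  obtain ⟨s, hsQ, hs⟩ := hF
  by_cases hQt : Q ≤ centralizer ({t} : Set G)
  · exact Or.inl (fourV_le_centralizer_of_rot hs hsQ hQt)
  · obtain ⟨R, hR⟩ := exists_fullSide_of_rot h hind hq2 hQ hVQ hs hsQ hQt
    exact Or.inr (sideExc h hind q hq hq2 R hR.toSide)

end Cfsg.Agent.GWDihedral
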