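import Cfsg.Agent.Lib.GWDihedral.MainSteps
import Cfsg.Agent.Lib.GWDihedral.SidesRot
import Cfsg.Agent.Lib.GWDihedral.CornerII
import Cfsg.Agent.Lib.GWDihedral.CaseAEnd
import Cfsg.Agent.Lib.GWDihedral.Reduce
import Cfsg.Agent.Lib.GWDihedral.NoPair
import Cfsg.Agent.Lib.GWDihedral.CornerI

/-!
# Gorenstein-Walter, dihedral Sylow subgroups: the steps that are done, wired

* `dihedralGW_of_open` : the theorem from the exclusion of the extraspecial configuration
-/

set_option autoImplicit false
set_option linter.unusedSectionVars false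

namespace Cfsg.Agent.GWDihedral

open Subgroup
open Cfsg.Agent.GWKlein (coreU coreW fourV)

universe u

/-- Corner I of (2.1) in every setting. -/
def CornerIAll (G : Type u) [Group G] : Prop :=
  ∀ (t r σ : G), Ctx 3 t r σ → SideRot t r σ → SideRot t (r * σ) σ⁻¹ →
    ∀ (W : Subgroup G) (w : G), Corner t r σ W w → ¬ W ≤ (W ⊓ coreW t (r * σ)) ⊔ zpowers w →
      ∃ s, Rot t r s ∧ s ∈ centralizer (W : Set G)

variable {G : Type u} [Group G] [Finite G] [IsSimpleGroup G]

theorem sideRotAll : SideRotAll G := fun _ _ _ _ c => sideRot c.hyp c.proper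

theorem cornerAll_of_cornerI (h : CornerIAll G) : CornerAll G := fun t r σ c hS hS' ho W w hC => by
  by_cases hII : W ≤ (W ⊓ coreW t (r * σ)) ⊔ zpowers w
  · exact cornerII c hS hS' ho hC hII
  · exact h t r σ c hS hS' W w hC hII

theorem cornerIAll : CornerIAll G := fun _ _ _ c hS hS' _ _ hC hI => cornerI c hS hS' hC hI

theorem caseAEnd : CaseAEnd G := fun _ _ _ _ c hS _ _ _ _ _ _ _ ha hb => Or.inr (a7_of_caseA c hS hb ha)

/-- The theorem from the open steps. -/
theorem dihedralGW_of_open
    (hX : ∀ (G : Type u) [Group G] [Finite G] [IsSimpleGroup G], NoExtraspecial G) :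
    GWReduce.DihedralGW.{u} :=
  dihedralGW_of_ctx fun G _ _ _ _ _ _ _ c =>
    conclusion_of_steps sideRotAll (cornerAll_of_cornerI cornerIAll) caseAEnd noPair (hX G) c

end Cfsg.Agent.GWDihedral
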