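import Cfsg.Agent.Lib.Blocks.Dihedral.Vectors

/-!
# Gorenstein-Walter, dihedral Sylow subgroups of order at least eight: the three characters

Integer vectors with the scalar products of the coefficients at the rotations, orthogonal to a
positive degree vector and to the quotients `T ^ 2 / d`: the first vector has three entries, at which
the central value `w` (equal to `T` where non-zero) is twice the entry once and equal to the entry twice.

* `rot_pattern`
-/

set_option autoImplicit false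

namespace Cfsg.Agent.GWDihedral

open Finset
open Cfsg.Agent.DihedralDefect (sum_alt support_pair pm_of_three sq_of_three two_units eq_of_mul_one)

variable {ι : Type*} [Fintype ι]

theorem one_of_three {e₁ e₂ e₃ x y z : ℤ} (h1 : e₁ = 1 ∨ e₁ = -1) (h2 : e₂ = 1 ∨ e₂ = -1)
    (h3 : e₃ = 1 ∨ e₃ = -1) (hx : x = -1 ∨ x = 0 ∨ x = 1) (hy : y = -1 ∨ y = 0 ∨ y = 1)
    (hz : z = -1 ∨ z = 0 ∨ z = 1) (hs : x * x + y * y + z * z ≤ 2)
    (h : e₁ * x + e₂ * y + e₃ * z = 1) :
    (x = e₁ ∧ y = 0 ∧ z = 0) ∨ (x = 0 ∧ y = e₂ ∧ z = 0) ∨ (x = 0 ∧ y = 0 ∧ z = e₃) := by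
  rcases h1 with rfl | rfl <;> rcases h2 with rfl | rfl <;> rcases h3 with rfl | rfl <;>
    rcases hx with rfl | rfl | rfl <;> rcases hy with rfl | rfl | rfl <;>
    rcases hz with rfl | rfl | rfl <;> omega

/-- The shape of the first vector and the central values there. -/
theorem rot_pattern (h : ℕ) (hev : Even h) (h2 : 2 ≤ h) (v : ℕ → ι → ℤ) (w T d : ι → ℤ)
    (hd : ∀ i, 0 < d i)
    (hwv : ∀ i, w i = v 0 i + v h i + 2 * ∑ j ∈ Ico 2 h, (-1 : ℤ) ^ j * v j i)
    (hgram : ∀ j k, j ≤ h → j ≠ 1 → k ≤ h → k ≠ 1 →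
      ∑ i, v j i * v k i = 1 + if j = k then (if j = 0 ∨ j = h then 2 else 1) else 0)
    (hdeg : ∀ j, j ≤ h → j ≠ 1 → ∑ i, v j i * d i = 0)
    (hT : ∀ i, w i ≠ 0 → T i = w i)
    (hquad : ∀ j, 2 ≤ j → j < h → ∑ i, (v j i : ℚ) * (T i : ℚ) ^ 2 / (d i : ℚ) = 0) :
    ∃ a b c : ι, a ≠ b ∧ a ≠ c ∧ b ≠ c ∧ (∀ i, i ≠ a → i ≠ b → i ≠ c → v 0 i = 0) ∧
      (v 0 a = 1 ∨ v 0 a = -1) ∧ (v 0 b = 1 ∨ v 0 b = -1) ∧ (v 0 c = 1 ∨ v 0 c = -1) ∧
      w a = 2 * v 0 a ∧ w b = v 0 b ∧ w c = v 0 c := by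
  classical
  have g00 : ∑ i, v 0 i * v 0 i = ((3 : ℕ) : ℤ) := by
    rw [hgram 0 0 (by omega) (by omega) (by omega) (by omega), if_pos rfl, if_pos (Or.inl rfl)]
    norm_num
  have ghh : ∑ i, v h i * v h i = ((3 : ℕ) : ℤ) := by
    rw [hgram h h le_rfl (by omega) le_rfl (by omega), if_pos rfl, if_pos (Or.inr rfl)]
    norm_num
  have g0h : ∑ i, v 0 i * v h i = 1 := by
    rw [hgram 0 h (by omega) (by omega) le_rfl (by omega), if_neg (by omega), add_zero]
  have gjj : ∀ j, 2 ≤ j → j < h → ∑ i, v j i * v j i = 2 := fun j a b => by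
    rw [hgram j j b.le (by omega) b.le (by omega), if_pos rfl, if_neg (by omega)]
    norm_num
  have gjk : ∀ j k, 2 ≤ j → j < h → 2 ≤ k → k < h → j ≠ k → ∑ i, v j i * v k i = 1 :=
    fun j k a b c d hne => by
      rw [hgram j k b.le (by omega) d.le (by omega), if_neg hne, add_zero]
  have g0j : ∀ j, 2 ≤ j → j < h → ∑ i, v 0 i * v j i = 1 := fun j a b => by
    rw [hgram 0 j (by omega) (by omega) b.le (by omega), if_neg (by omega), add_zero]
  have ghj : ∀ j, 2 ≤ j → j < h → ∑ i, v h i * v j i = 1 := fun j a b => by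
    rw [hgram h j le_rfl (by omega) b.le (by omega), if_neg (by omega), add_zero]
  have e0 := SecondMain.abs_le_one_of_sum_sq (n := 3) le_rfl (by simpa using g00)
  have eh := SecondMain.abs_le_one_of_sum_sq (n := 3) le_rfl (by simpa using ghh)
  have ej : ∀ j, 2 ≤ j → j < h → ∀ i, v j i = -1 ∨ v j i = 0 ∨ v j i = 1 := fun j a b =>
    SecondMain.abs_le_one_of_sum_sq (n := 2) (by norm_num) (gjj j a b)
  -- no index where the first two vectors have opposite signs
  have hnn : ∀ c, 0 ≤ v 0 c * v h c := by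
    intro c
    by_contra hneg
    have hsum : ∑ i, (v 0 i - v h i) * (v 0 i - v h i) = 4 := by
      rw [sum_congr rfl fun i _ => show (v 0 i - v h i) * (v 0 i - v h i) =
        v 0 i * v 0 i + v h i * v h i - 2 * (v 0 i * v h i) by ring, sum_sub_distrib, sum_add_distrib,
        g00, ghh, ← mul_sum, g0h]
      norm_num
    have hc4 : (v 0 c - v h c) * (v 0 c - v h c) = 4 := by
      rcases e0 c with a | a | a <;> rcases eh c with b | b | b <;> rw [a, b] at hneg ⊢ <;> omega
    rw [← add_sum_erase _ _ (mem_univ c), hc4] at hsum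
    have hrest : ∀ i, i ≠ c → v 0 i - v h i = 0 := fun i hi => mul_self_eq_zero.1
      ((sum_eq_zero_iff_of_nonneg fun i _ => mul_self_nonneg (v 0 i - v h i)).1 (by linarith) i
        (mem_erase.2 ⟨hi, mem_univ _⟩))
    have h1 : ∑ i, (v 0 i - v h i) * d i = 0 := by
      rw [sum_congr rfl fun i _ => sub_mul _ _ _, sum_sub_distrib, hdeg 0 (by omega) (by omega),
        hdeg h le_rfl (by omega), sub_self]
    rw [sum_eq_single c (fun i _ hi => by rw [hrest i hi, zero_mul])
      (fun hc => absurd (mem_univ c) hc), mul_eq_zero] at h1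
    rcases h1 with h1 | h1
    · rw [h1] at hc4; norm_num at hc4
    · exact absurd h1 (hd c).ne'
  -- exactly one common index
  obtain ⟨a, ha⟩ : ∃ a, v 0 a * v h a ≠ 0 := by
    by_contra! hall
    rw [sum_eq_zero fun i _ => hall i] at g0h
    norm_num at g0h
  obtain ⟨ha1, hdisj⟩ : v 0 a * v h a = 1 ∧ ∀ i, i ≠ a → v 0 i * v h i = 0 := by
    rw [← add_sum_erase _ _ (mem_univ a)] at g0h
    have h1 := hnn a
    have h3 : 0 ≤ ∑ x ∈ univ.erase a, v 0 x * v h x := sum_nonneg fun i _ => hnn i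
    refine ⟨by omega, fun i hi => ?_⟩
    exact (sum_eq_zero_iff_of_nonneg fun i _ => hnn i).1 (by omega) i (mem_erase.2 ⟨hi, mem_univ _⟩)
  have ha0 : v 0 a ≠ 0 := left_ne_zero_of_mul ha
  have hah : v h a = v 0 a := eq_of_mul_one (e0 a) (eh a) ha1
  set S0 := univ.filter fun i => v 0 i ≠ 0 with hS0
  obtain ⟨b, c, hbc, hA⟩ := card_eq_two.1 (show (S0.erase a).card = 2 by
    rw [card_erase_of_mem (show a ∈ S0 from mem_filter.2 ⟨mem_univ _, ha0⟩),
      SecondMain.card_support_of_sum_sq le_rfl g00])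
  have hm : ∀ i, i = b ∨ i = c ↔ i ≠ a ∧ v 0 i ≠ 0 := fun i => by
    have := Finset.ext_iff.1 hA i
    simp [hS0] at this
    exact this.symm
  obtain ⟨hba, hb0⟩ := (hm b).1 (Or.inl rfl)
  obtain ⟨hca, hc0⟩ := (hm c).1 (Or.inr rfl)
  have hv0 : ∀ i, i ≠ a → i ≠ b → i ≠ c → v 0 i = 0 := fun i x y z => by
    by_contra hne
    rcases (hm i).2 ⟨x, hne⟩ with e | e <;> contradiction
  have hbh : v h b = 0 := (mul_eq_zero.1 (hdisj b hba)).resolve_left hb0
  have hch : v h c = 0 := (mul_eq_zero.1 (hdisj c hca)).resolve_left hc0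
  have ua := pm_of_three (e0 a) ha0
  have ub := pm_of_three (e0 b) hb0
  have uc := pm_of_three (e0 c) hc0
  have sa := sq_of_three (e0 a) ha0
  have sb := sq_of_three (e0 b) hb0
  have sc := sq_of_three (e0 c) hc0
  -- each middle vector against the first one
  have hmid : ∀ j, 2 ≤ j → j < h →
      (v j a = v 0 a ∧ v j b = 0 ∧ v j c = 0) ∨ (v j a = 0 ∧ v j b = v 0 b ∧ v j c = 0) ∨
        (v j a = 0 ∧ v j b = 0 ∧ v j c = v 0 c) := by
    intro j hj hjh
    refine one_of_three ua ub uc (ej j hj hjh a) (ej j hj hjh b) (ej j hj hjh c) ?_ ?_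
    · rw [← gjj j hj hjh]
      have := sum_le_sum_of_subset_of_nonneg (subset_univ ({a, b, c} : Finset ι))
        (f := fun i => v j i * v j i) fun i _ _ => mul_self_nonneg _
      rw [sum_insert (by simp [Ne.symm hba, Ne.symm hca]), sum_pair hbc] at this
      linarith
    · rw [← g0j j hj hjh, SecondMain.sum_mul_eq_of_support (v j) (S := {a, b, c}) fun i hi => by
        simp only [mem_insert, mem_singleton, not_or] at hi
        exact hv0 i hi.1 hi.2.1 hi.2.2]
      rw [sum_insert (by simp [Ne.symm hba, Ne.symm hca]), sum_pair hbc]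
      ring
  -- the second index of a middle vector
  have hsupp : ∀ j, 2 ≤ j → j < h → ∀ x, v j x ≠ 0 →
      ∃ y, y ≠ x ∧ v j y ≠ 0 ∧ ∀ i, i ≠ x → i ≠ y → v j i = 0 := by
    intro j hj hjh x hx
    obtain ⟨y, hy⟩ := card_eq_one.1 (show ((univ.filter fun i => v j i ≠ 0).erase x).card = 1 by
      rw [card_erase_of_mem (mem_filter.2 ⟨mem_univ x, hx⟩ : x ∈ univ.filter fun i => v j i ≠ 0),
        SecondMain.card_support_of_sum_sq (n := 2) (by norm_num) (by simpa using gjj j hj hjh)])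
    have hmem : y ∈ (univ.filter fun i => v j i ≠ 0).erase x := by simp [hy]
    exact ⟨y, ne_of_mem_erase hmem, (mem_filter.1 (mem_of_mem_erase hmem)).2,
      support_pair (gjj j hj hjh) (Ne.symm (ne_of_mem_erase hmem)) hx
        (mem_filter.1 (mem_of_mem_erase hmem)).2⟩
  -- a middle vector vanishing at `a` has the value of the last one at its index outside `b, c`
  have hpart : ∀ j, 2 ≤ j → j < h → v j a = 0 →
      ∃ x y, (x = b ∨ x = c) ∧ y ≠ a ∧ y ≠ b ∧ y ≠ c ∧ v j x = v 0 x ∧ v j y = v h y ∧ v h y ≠ 0 ∧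
        ∀ i, i ≠ x → i ≠ y → v j i = 0 := by
    intro j hj hjh hja
    have key : ∀ x x', (x = b ∧ x' = c ∨ x = c ∧ x' = b) → v j x = v 0 x → v j x' = 0 →
        ∃ y, y ≠ a ∧ y ≠ b ∧ y ≠ c ∧ v j y = v h y ∧ v h y ≠ 0 ∧ ∀ i, i ≠ x → i ≠ y → v j i = 0 := by
      intro x x' hxx hx hx'
      have hx0 : v j x ≠ 0 := by rcases hxx with ⟨rfl, -⟩ | ⟨rfl, -⟩ <;> rw [hx] <;> assumption
      obtain ⟨y, hyx, hy, hr⟩ := hsupp j hj hjh x hx0
      have hya : y ≠ a := fun e => hy (e ▸ hja)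
      have hyx' : y ≠ x' := fun e => hy (e ▸ hx')
      have hh := ghj j hj hjh
      rw [sum_eq_single y (fun i _ hi => by
        by_cases hix : i = x
        · rw [hix, show v h x = 0 by rcases hxx with ⟨rfl, -⟩ | ⟨rfl, -⟩ <;> assumption, zero_mul]
        · rw [hr i hix hi, mul_zero]) (fun e => absurd (mem_univ y) e)] at hh
      refine ⟨y, hya, ?_, ?_, eq_of_mul_one (eh y) (ej j hj hjh y) hh, left_ne_zero_of_mul_eq_one hh, hr⟩ <;>
        rcases hxx with ⟨rfl, rfl⟩ | ⟨rfl, rfl⟩ <;> assumption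
    rcases hmid j hj hjh with ⟨e, -, -⟩ | ⟨-, e1, e2⟩ | ⟨-, e1, e2⟩
    · exact absurd (e.symm.trans hja) ha0
    · obtain ⟨y, q1, q2, q3, q4, q5, q6⟩ := key b c (Or.inl ⟨rfl, rfl⟩) e1 e2
      exact ⟨b, y, Or.inl rfl, q1, q2, q3, e1, q4, q5, q6⟩
    · obtain ⟨y, q1, q2, q3, q4, q5, q6⟩ := key c b (Or.inr ⟨rfl, rfl⟩) e2 e1
      exact ⟨c, y, Or.inr rfl, q1, q2, q3, e2, q4, q5, q6⟩
  have halt := sum_alt hev h2
  have hconst : ∀ i z, (∀ j, 2 ≤ j → j < h → v j i = z) → w i = v 0 i + v h i := fun i z hz => by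
    rw [hwv, sum_congr rfl fun j hj => by rw [hz j (mem_Ico.1 hj).1 (mem_Ico.1 hj).2], ← sum_mul, halt]
    ring
  refine ⟨a, b, c, hba.symm, hca.symm, hbc, hv0, ua, ub, uc, ?_⟩
  have fin : ∀ i z, w i = z → z ≠ 0 → w i = z := fun _ _ e _ => e
  by_cases hall : ∀ j, 2 ≤ j → j < h → v j a ≠ 0
  · -- all middle vectors meet `a`
    have hall' : ∀ j, 2 ≤ j → j < h → v j a = v 0 a ∧ v j b = 0 ∧ v j c = 0 := fun j hj hjh => by
      rcases hmid j hj hjh with e | ⟨e, -⟩ | ⟨e, -⟩
      exacts [e, absurd e (hall j hj hjh), absurd e (hall j hj hjh)]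
    refine ⟨fin a _ ?_ (mul_ne_zero two_ne_zero ha0), fin b _ ?_ hb0, fin c _ ?_ hc0⟩
    · rw [hconst a _ fun j hj hjh => (hall' j hj hjh).1, hah]; ring
    · rw [hconst b _ fun j hj hjh => (hall' j hj hjh).2.1, hbh, add_zero]
    · rw [hconst c _ fun j hj hjh => (hall' j hj hjh).2.2, hch, add_zero]
  push Not at hall
  obtain ⟨k, hk, hkh, hka⟩ := hall
  -- no middle vector meets `a`
  have hnone : ∀ j, 2 ≤ j → j < h → v j a = 0 := by
    intro j hj hjh
    by_contra hja
    obtain ⟨x, y, hx, hya, hyb, hyc, hkx, hky, hhy, hr⟩ := hpart k hk hkh hka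
    obtain ⟨F, hFa, hF, hrF⟩ := hsupp j hj hjh a hja
    obtain ⟨ja, jb, jc⟩ := (hmid j hj hjh).resolve_right (by rintro (⟨e, -⟩ | ⟨e, -⟩) <;> exact hja e)
    have hjk : j ≠ k := fun e => hja (e ▸ hka)
    have hg := gjk j k hj hjh hk hkh hjk
    have hh := ghj j hj hjh
    rw [SecondMain.sum_mul_eq_of_support (v k) (S := {a, F}) (fun i hi => by
      simp only [mem_insert, mem_singleton, not_or] at hi
      exact hrF i hi.1 hi.2), sum_pair (Ne.symm hFa), hka, mul_zero, zero_add] at hg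
    have hkF : v k F ≠ 0 := fun e => by rw [e, mul_zero] at hg; norm_num at hg
    have hFx : F ≠ x := fun e => by
      rcases hx with hx | hx <;> rw [hx] at e <;> rw [e] at hF <;> contradiction
    have hFy : F = y := by by_contra e; exact hkF (hr F hFx e)
    subst hFy
    rw [sum_congr rfl fun i _ => mul_comm (v h i) (v j i),
      SecondMain.sum_mul_eq_of_support (v h) (S := {a, F}) (fun i hi => by
      simp only [mem_insert, mem_singleton, not_or] at hi
      exact hrF i hi.1 hi.2), sum_pair (Ne.symm hFa), ja, hah] at hh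
    exact two_units ua ua (pm_of_three (ej j hj hjh F) hF) (pm_of_three (eh F) hhy) hh
  refine ⟨fin a _ (by rw [hconst a _ hnone, hah]; ring) (mul_ne_zero two_ne_zero ha0), ?_⟩
  have h1 : ∀ j, 2 ≤ j → j < h → v 0 b * v j b + v 0 c * v j c = 1 := by
    intro j hj hjh
    rcases hmid j hj hjh with ⟨e, -⟩ | ⟨-, p, q⟩ | ⟨-, p, q⟩
    · exact absurd (e.symm.trans (hnone j hj hjh)) ha0
    · rw [p, q, sb, mul_zero, add_zero]
    · rw [p, q, sc, mul_zero, zero_add]
  set α := ∑ j ∈ Ico 2 h, (-1 : ℤ) ^ j * (v 0 b * v j b) with hα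
  set β := ∑ j ∈ Ico 2 h, (-1 : ℤ) ^ j * (v 0 c * v j c) with hβ
  have hαβ : α + β = 0 := by
    rw [hα, hβ, ← sum_add_distrib, ← halt]
    exact sum_congr rfl fun j hj => by
      rw [← mul_add, h1 j (mem_Ico.1 hj).1 (mem_Ico.1 hj).2, mul_one]
  have hwb : v 0 b * w b = 1 + 2 * α := by
    rw [hwv, hbh, hα, add_zero, mul_add, sb, mul_left_comm, mul_sum]
    congr 2
    exact sum_congr rfl fun j _ => by ring
  have hwc : v 0 c * w c = 1 + 2 * β := by
    rw [hwv, hch, hβ, add_zero, mul_add, sc, mul_left_comm, mul_sum]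
    congr 2
    exact sum_congr rfl fun j _ => by ring
  have hα0 : α = 0 := by
    by_cases hB : ∀ j, 2 ≤ j → j < h → v j b ≠ 0
    · rw [hα, ← halt]
      refine sum_congr rfl fun j hj => ?_
      obtain ⟨p, q⟩ := mem_Ico.1 hj
      rcases hmid j p q with ⟨-, e, -⟩ | ⟨-, e, -⟩ | ⟨-, e, -⟩
      · exact absurd e (hB j p q)
      · rw [e, sb, mul_one]
      · exact absurd e (hB j p q)
    by_cases hC : ∀ j, 2 ≤ j → j < h → v j b = 0
    · rw [hα]
      exact sum_eq_zero fun j hj => by rw [hC j (mem_Ico.1 hj).1 (mem_Ico.1 hj).2, mul_zero, mul_zero]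
    push Not at hB hC
    obtain ⟨kc, hkc, hkch, hkcb⟩ := hB
    obtain ⟨kb, hkb, hkbh, hkbb⟩ := hC
    obtain ⟨x, y, hx, hya, hyb, hyc, hbx, hby, hhy, hr⟩ := hpart kb hkb hkbh (hnone kb hkb hkbh)
    have hxb : x = b := by
      by_contra e
      exact hkbb (hr b (Ne.symm e) (Ne.symm hyb))
    subst hxb
    obtain ⟨x', y', hx', hya', hyb', hyc', hcx, hcy, hhy', hr'⟩ :=
      hpart kc hkc hkch (hnone kc hkc hkch)
    have hxc : x' = c := by
      rcases hx' with e | e
      · subst e; exact absurd (hcx.symm.trans hkcb) hb0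
      · exact e
    subst hxc
    -- the indices outside agree
    have hshare : ∀ j k u u' z z', 2 ≤ j → j < h → 2 ≤ k → k < h → j ≠ k → u ≠ u' → u ≠ z' → z ≠ u' →
        u ≠ z → (∀ i, i ≠ u → i ≠ z → v j i = 0) → (∀ i, i ≠ u' → i ≠ z' → v k i = 0) → z = z' := by
      intro j k u u' z z' p1 p2 p3 p4 hne q1 q2 q3 q4 r1 r2
      by_contra hzz
      have := gjk j k p1 p2 p3 p4 hne
      rw [SecondMain.sum_mul_eq_of_support (v k) (S := {u, z}) (fun i hi => by
        simp only [mem_insert, mem_singleton, not_or] at hi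
        exact r1 i hi.1 hi.2), sum_pair q4, r2 u q1 q2, r2 z q3 hzz] at this
      norm_num at this
    have hne : kb ≠ kc := fun e => hkbb (e ▸ hkcb)
    have hyy : y = y' := hshare kb kc x x' y y' hkb hkbh hkc hkch hne hbc
      (Ne.symm hyb') hyc (Ne.symm hyb) hr hr'
    subst hyy
    have hconst' : ∀ j, 2 ≤ j → j < h → v j y = v h y := by
      intro j hj hjh
      obtain ⟨u, z, hu, hza, hzb, hzc, -, hjz, -, hru⟩ := hpart j hj hjh (hnone j hj hjh)
      rcases hu with rfl | rfl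
      · by_cases e : j = kc
        · exact e ▸ hcy
        rw [← hshare j kc u x' z y hj hjh hkc hkch e hbc (Ne.symm hyb) hzc (Ne.symm hzb) hru hr']
        exact hjz
      · by_cases e : j = kb
        · exact e ▸ hby
        rw [← hshare j kb u x z y hj hjh hkb hkbh e (Ne.symm hbc) (Ne.symm hyc) hzb (Ne.symm hzc) hru hr]
        exact hjz
    have hwy : w y = v h y := by
      rw [hconst y _ hconst', hv0 y hya hyb hyc, zero_add]
    have hTy := hT y (hwy ▸ hhy)
    rw [hwy] at hTy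
    have hwodd : w x ≠ 0 := fun e => by rw [e, mul_zero] at hwb; omega
    have hTb := hT x hwodd
    have hd0 : d x = d y ∧ v 0 x = - v h y := by
      have := hdeg kb hkbh.le (by omega)
      rw [SecondMain.sum_mul_eq_of_support d (S := {x, y}) (fun i hi => by
        simp only [mem_insert, mem_singleton, not_or] at hi
        exact hr i hi.1 hi.2), sum_pair (Ne.symm hyb), hbx, hby] at this
      have dx := hd x
      have dy := hd y
      rcases ub with e1 | e1 <;> rcases pm_of_three (eh y) hhy with e2 | e2 <;>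
        rw [e1, e2] at this ⊢ <;> omega
    have hq := hquad kb hkb hkbh
    rw [sum_subset_zero_on_sdiff (subset_univ ({x, y} : Finset ι))
      (g := fun i => (v kb i : ℚ) * (T i : ℚ) ^ 2 / (d i : ℚ)) (f := fun i => (v kb i : ℚ) * (T i : ℚ) ^ 2 / (d i : ℚ)) (fun i hi => by
        simp only [mem_sdiff, mem_univ, true_and, mem_insert, mem_singleton, not_or] at hi
        rw [hr i hi.1 hi.2]; simp) (fun i _ => rfl) |>.symm, sum_pair (Ne.symm hyb), hbx, hby, hTy,
      hd0.1, hd0.2] at hq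
    have hdy : (d y : ℚ) ≠ 0 := by exact_mod_cast (hd y).ne'
    have hyy : (v h y : ℚ) ^ 2 = 1 := by exact_mod_cast (by rw [pow_two]; exact sq_of_three (eh y) hhy : v h y ^ 2 = 1)
    have hsq : w x ^ 2 = 1 := by
      have hh0 : (v h y : ℚ) ≠ 0 := by exact_mod_cast hhy
      have : (T x : ℚ) ^ 2 = (v h y : ℚ) ^ 2 := by
        push_cast at hq
        field_simp at hq
        have h3 : (v h y : ℚ) * ((v h y : ℚ) ^ 2 - (T x : ℚ) ^ 2) = 0 := by linear_combination hq
        have := (mul_eq_zero.1 h3).resolve_left hh0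
        linarith
      rw [hyy, hTb] at this
      exact_mod_cast this
    have hTy2 : v h y ^ 2 = 1 := by exact_mod_cast hyy
    have hwc' : w x' ≠ 0 := fun e => by rw [e, mul_zero] at hwc; omega
    -- the same at the other index
    have hd0' : d x' = d y ∧ v 0 x' = - v h y := by
      have := hdeg kc hkch.le (by omega)
      rw [SecondMain.sum_mul_eq_of_support d (S := {x', y}) (fun i hi => by
        simp only [mem_insert, mem_singleton, not_or] at hi
        exact hr' i hi.1 hi.2), sum_pair (Ne.symm hyc), hcx, hcy] at this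
      have dx := hd x'
      have dy := hd y
      rcases uc with e1 | e1 <;> rcases pm_of_three (eh y) hhy with e2 | e2 <;>
        rw [e1, e2] at this ⊢ <;> omega
    have hq' := hquad kc hkc hkch
    rw [sum_subset_zero_on_sdiff (subset_univ ({x', y} : Finset ι))
      (g := fun i => (v kc i : ℚ) * (T i : ℚ) ^ 2 / (d i : ℚ)) (f := fun i => (v kc i : ℚ) * (T i : ℚ) ^ 2 / (d i : ℚ)) (fun i hi => by
        simp only [mem_sdiff, mem_univ, true_and, mem_insert, mem_singleton, not_or] at hi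
        rw [hr' i hi.1 hi.2]; simp) (fun i _ => rfl) |>.symm, sum_pair (Ne.symm hyc), hcx, hcy, hTy,
      hd0'.1, hd0'.2] at hq'
    have hsq' : w x' ^ 2 = 1 := by
      have hh0 : (v h y : ℚ) ≠ 0 := by exact_mod_cast hhy
      have : (T x' : ℚ) ^ 2 = (v h y : ℚ) ^ 2 := by
        push_cast at hq'
        field_simp at hq'
        have h3 : (v h y : ℚ) * ((v h y : ℚ) ^ 2 - (T x' : ℚ) ^ 2) = 0 := by linear_combination hq'
        have := (mul_eq_zero.1 h3).resolve_left hh0
        linarith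
      rw [hyy, hT x' hwc'] at this
      exact_mod_cast this
    have p1 : (v 0 x * w x) ^ 2 = 1 := by rw [mul_pow, hsq, mul_one, pow_two, sb]
    have p2 : (v 0 x' * w x') ^ 2 = 1 := by rw [mul_pow, hsq', mul_one, pow_two, sc]
    rw [hwb, sq_eq_one_iff] at p1
    rw [hwc, sq_eq_one_iff] at p2
    omega
  have hβ0 : β = 0 := by omega
  rw [hα0] at hwb
  rw [hβ0] at hwc
  refine ⟨fin b _ ?_ hb0, fin c _ ?_ hc0⟩
  · linear_combination (v 0 b) * hwb - (w b) * sb
  · linear_combination (v 0 c) * hwc - (w c) * sc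

end Cfsg.Agent.GWDihedral
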