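import Cfsg.Agent.Lib.GWDihedral.Setup

/-!
# Gorenstein-Walter, dihedral Sylow subgroups of order at least eight: signalizers at the two sides

Vocabulary of section 1 of `notes/gw_dihedral_eight.md`.

* `InSocle V H` : `V` lies in every normal subgroup of even order of `H`
* `Side`, `FullSide` : invariant `p`-groups outside `C(t)` meeting `U` (in a Sylow subgroup of `U`)
* `NoFusedOvergroup` : no proper overgroup of `C(t)` fuses both four-groups (the RATIO fact)
-/

set_option autoImplicit false

namespace Cfsg.Agent.GWDihedral

open Subgroup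
open Cfsg.Agent.GWKlein (coreU coreW fourV)

variable {G : Type*} [Group G]

/-- `V` is contained in `H` and in each of its normal subgroups of even order. -/
def InSocle (V H : Subgroup G) : Prop :=
  V ≤ H ∧ ∀ N : Subgroup H, N.Normal → Even (Nat.card N) → V.subgroupOf H ≤ N

/-- An `⟨σ, r⟩`-invariant `p`-group not centralised by `t` and meeting `U` non-trivially. -/
structure Side (p : ℕ) (t r σ : G) (R : Subgroup G) : Prop where
  isPGroup : IsPGroup p R
  inv : closure ({σ, r} : Set G) ≤ normalizer (R : Set G)
  moved : ¬ R ≤ centralizer ({t} : Set G)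
  meets : R ⊓ coreU t ≠ ⊥

/-- A side meeting `U` in a Sylow subgroup. -/
structure FullSide (p : ℕ) (t r σ : G) (R : Subgroup G) : Prop extends Side p t r σ R where
  card : Nat.card (R ⊓ coreU t : Subgroup G) = p ^ (Nat.card (coreU t)).factorization p

/-- No proper overgroup of `C(t)` has `t` conjugate to both `r` and `r * σ`. -/
def NoFusedOvergroup (t r σ : G) : Prop :=
  ∀ M : Subgroup G, M ≠ ⊤ → centralizer ({t} : Set G) ≤ M →
    (∃ a ∈ M, a * t * a⁻¹ = r) → (∃ b ∈ M, b * t * b⁻¹ = r * σ) → False

end Cfsg.Agent.GWDihedral
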