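import Cfsg.Agent.Lib.GWDihedral.SidesFunctor
import Cfsg.Agent.Lib.GWDihedral.Constrained

/-!
# Gorenstein-Walter, dihedral Sylow subgroups of order at least eight: a full side makes `p` good

* `FullSide.false_of_bad` : a bad centraliser on the first class is impossible
* `FullSide.pGood` : all `p`-locals are `p`-constrained with solvable core
-/

set_option autoImplicit false
set_option linter.unusedSectionVars false

namespace Cfsg.Agent.GWDihedral

open Subgroup
open Cfsg.Agent.GWKlein (coreU coreW fourV oddPart)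

universe u

variable {G : Type u} [Group G] [Finite G] {n : ℕ} {t r σ : G} {p : ℕ} [Fact p.Prime]

/-- The invariant Sylow subgroup of a full side receives the invariant `p`-subgroups of `U`, up to `C(V)`. -/
theorem FullSide.exists_conj_le {R : Subgroup G} (hR : FullSide p t r σ R) (h : DHyp n t r σ) {Y : Subgroup G}
    (hY : IsPGroup p Y) (hYU : Y ≤ coreU t) (hYV : fourV t r ≤ normalizer (Y : Set G)) :
    ∃ c, Commute c t ∧ Commute c r ∧ ∀ y ∈ Y, c * y * c⁻¹ ∈ R ⊓ coreU t := by
  haveI := Fact.mk Nat.prime_two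
  have hVU : fourV t r ≤ normalizer (coreU t : Set G) := h.fourV_le_sylow.trans h.sylow_le_normalizer_coreU
  obtain ⟨X, hYX, hXU, hXV, -, hXc⟩ := h.exists_invariant_sylow h.isPGroup_fourV h.odd_coreU hVU hYU hY hYV
  obtain ⟨c, hc, hcX⟩ := Coprime.exists_mem_centralizer_conj_of_card hVU
    (h.coprime_card h.isPGroup_fourV h.odd_coreU) (Or.inl (Coprime.isSolvable_of_isPGroup h.isPGroup_fourV))
    (Q := R ⊓ coreU t) inf_le_right hXU
    ((le_inf (h.fourV_le_sylow.trans hR.inv) hVU).trans inf_normalizer_le_normalizer_inf) hXV hR.card hXc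
  refine ⟨c, (mem_centralizer_iff.1 hc.2 t (GWKlein.left_mem_fourV t r)).symm,
    (mem_centralizer_iff.1 hc.2 r (GWKlein.right_mem_fourV t r)).symm, fun y hy => ?_⟩
  rw [← hcX, Coprime.mem_conj]
  have e : c⁻¹ * (c * y * c⁻¹) * c = y := by group
  rw [e]
  exact hYX hy

/-- No bad centraliser on the first class. -/
theorem FullSide.false_of_bad {R : Subgroup G} (hR : FullSide p t r σ R) (h : DHyp n t r σ) (hp : p ≠ 2) {y : G}
    (hy : y ∈ coreW t r) (hyo : orderOf y = p) (hV : InSocle (fourV t r) (centralizer ({y} : Set G)))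
    (hH : IsGWLike (centralizer ({y} : Set G) : Subgroup G))
    (hcore : ∀ X : Subgroup G, IsPGroup p X → fourV t r ≤ normalizer (X : Set G) →
      X ≤ oddPart (centralizer ({y} : Set G)) → X ≤ centralizer (fourV t r : Set G)) : False := by
  have hY : IsPGroup p (zpowers y) := IsPGroup.of_card (n := 1) (by rw [Nat.card_zpowers, hyo, pow_one])
  have hYV : fourV t r ≤ normalizer (zpowers y : Set G) := by
    refine (le_centralizer_iff.1 ?_).trans (centralizer_le_normalizer _)
    exact zpowers_le.2 (h.coreW_le_centralizer hy)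
  obtain ⟨c, hct, hcr, hcY⟩ := hR.exists_conj_le h hY (zpowers_le.2 hy.1) hYV
  -- move the side to `y`
  set R' := R.map (MulAut.conj c⁻¹).toMonoidHom
  have hR' : FullSide p t (c⁻¹ * r * c⁻¹⁻¹) (c⁻¹ * σ * c⁻¹⁻¹) R' := hR.conj hct.inv_left
  have h' := h.conj hct.inv_left
  have er : c⁻¹ * r * c⁻¹⁻¹ = r := by rw [inv_inv, hcr.inv_left.eq, inv_mul_cancel_right]
  rw [er] at hR' h'
  have hyR : y ∈ R' := ⟨c * y * c⁻¹, (hcY y (mem_zpowers y)).1, by simp [mul_assoc]⟩
  have hVR : fourV t r ≤ normalizer (R' : Set G) := h'.fourV_le_sylow.trans hR'.inv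
  -- one involution centralises `C_R(y)`
  set X := R' ⊓ centralizer ({y} : Set G)
  have hVC : fourV t r ≤ centralizer ({y} : Set G) := hV.1
  have hVX : fourV t r ≤ normalizer (X : Set G) :=
    (le_inf hVR (hVC.trans le_normalizer)).trans inf_normalizer_le_normalizer_inf
  obtain ⟨v, hv, hvX⟩ := exists_fixing hH h.order_t h.order_r h.ne h.comm_t_r hV Fact.out hp
    (hR'.isPGroup.to_le (inf_le_left : X ≤ R')) inf_le_right (hVX (GWKlein.left_mem_fourV t r))
    (hVX (GWKlein.right_mem_fourV t r))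
  have hvV : v ∈ fourV t r := by
    rcases hv with rfl | rfl | rfl
    · exact GWKlein.left_mem_fourV _ _
    · exact GWKlein.right_mem_fourV _ _
    · exact mul_mem (GWKlein.left_mem_fourV _ _) (GWKlein.right_mem_fourV _ _)
  have hvo : orderOf v = 2 := by
    rcases hv with rfl | rfl | rfl
    · exact h.order_t
    · exact h.order_r
    · exact h.order_t_mul_r
  have hXv : ∀ x ∈ X, Commute x v := fun x hx => by
    have hxv : x * v * x⁻¹ * v⁻¹ ∈ X := by
      rw [show x * v * x⁻¹ * v⁻¹ = x * (v * x⁻¹ * v⁻¹) by group]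
      exact mul_mem hx ((mem_normalizer_iff.1 (hVX hvV) _).1 (inv_mem hx))
    refine commute_of_commutator_commute hvo
      ((odd_card_of_isPGroup hp (hR'.isPGroup.to_le (inf_le_left : X ≤ R'))).of_dvd_nat
        (orderOf_dvd_natCard _ hxv)) ?_
    have hX0 : X ⊓ oddPart (centralizer ({y} : Set G)) ≤ centralizer (fourV t r : Set G) :=
      hcore _ ((hR'.isPGroup.to_le (inf_le_left : X ≤ R')).to_le inf_le_left)
        ((le_inf hVX (hVC.trans (GWKlein.le_normalizer_oddPart _))).trans inf_normalizer_le_normalizer_inf)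
        inf_le_right
    exact (mem_centralizer_iff.1 (hX0 ⟨hxv, hvX x hx⟩) v hvV).symm
  have hvR := Components.mem_centralizer_of_mem_centralizer (l := v) hY hR'.isPGroup
    ((zpowers_le.2 hyR).trans le_normalizer)
    (by rw [hvo]; exact (Nat.coprime_primes Nat.prime_two Fact.out).2 (Ne.symm hp))
    (hVR hvV)
    ((le_centralizer_iff.1 (zpowers_le.2 (h.coreW_le_centralizer hy))) hvV)
    fun x hx hxy => ((hXv x ⟨hx, mem_centralizer_singleton_iff.2
      (mem_centralizer_iff.1 hxy y (mem_zpowers y)).symm⟩).symm).eq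
  -- a reflection centralising the side takes `t` along
  have hRv : ∀ x ∈ R', Commute x v := fun x hx => mem_centralizer_iff.1 hvR x hx
  obtain ⟨ρ, hρ, hρt, hρr⟩ := h'.exists_quarter
  have hρR : ρ ∈ normalizer (R' : Set G) := hR'.inv (zpowers_le.2 h'.sylow_mem_σ hρ)
  refine hR'.moved fun x hx => mem_centralizer_t.2 ?_
  have hconj : ∀ z ∈ R', ρ⁻¹ * z * ρ ∈ R' := fun z hz => by
    have := (mem_normalizer_iff.1 (inv_mem hρR) z).1 hz
    rwa [inv_inv] at this
  have hρρ : ∀ z w : G, Commute (ρ⁻¹ * z * ρ) w → Commute z (ρ * w * ρ⁻¹) := fun z w hzw => by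
    have := hzw.map (MulAut.conj ρ).toMonoidHom
    simpa [mul_assoc] using this
  have hρtr : ρ * (t * r) * ρ⁻¹ = r := by
    rw [show ρ * (t * r) * ρ⁻¹ = ρ * t * ρ⁻¹ * (ρ * r * ρ⁻¹) by group, hρr, hρt.eq, mul_inv_cancel_right,
      ← mul_assoc, h.mul_self_t, one_mul]
  rcases hv with rfl | rfl | rfl
  · exact hRv x hx
  · have h1 := hρρ x v (hRv _ (hconj x hx))
    rw [hρr] at h1
    have h2 := h1.mul_right (hRv x hx)
    rwa [mul_assoc, h.mul_self_r, mul_one] at h2
  · have h1 := hρρ x (t * r) (hRv _ (hconj x hx))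
    rw [hρtr] at h1
    have h2 := (hRv x hx).mul_right h1
    rwa [mul_assoc, h.mul_self_r, mul_one] at h2

/-- A full side makes `p` good. -/
theorem FullSide.pGood [IsSimpleGroup G] {R : Subgroup G} (hR : FullSide p t r σ R) (h : DHyp n t r σ)
    (hind : ProperGWLike G) (hp : p ≠ 2) : GWKlein.PGood G p := by
  by_contra hbad
  obtain ⟨r', y, hr', hy, hyo, hV, hH, hcore⟩ := h.exists_bad_of_not_pGood hind hp hbad
  rcases hr' with rfl | rfl
  · exact hR.false_of_bad h hp hy hyo hV hH hcore
  · exact (hR.swap h).false_of_bad h.swap hp hy hyo hV hH hcore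

end Cfsg.Agent.GWDihedral
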