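import Cfsg.Agent.Lib.GWDihedral.SocleFacts
import Cfsg.Agent.Lib.GWKlein.General.L2Facts
import Cfsg.Agent.Lib.AltAut.Odd
import Cfsg.Agent.S2119

/-!
# Gorenstein-Walter, dihedral Sylow subgroups: a fixed involution (helper64)

`Socle.exists_fixed`: an involutory automorphism of `PSL(2,q)` or `A7` fixing an involution `t` and an element of
odd prime order inverted by `t`, and inverting a second one commuting with the first, fixes an involution `≠ t`
of the centraliser of `t`.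
-/

set_option autoImplicit false
set_option linter.unusedSectionVars false
set_option linter.style.haveILetI false

namespace Cfsg.Agent.GWDihedral

open Subgroup

universe v

section PSL

open Cfsg.Agent.PSL2

variable {F : Type} [Field F]

/-- The condition singling out one involution at `t`. -/
def Third {M : Type*} [Group M] (t a w : M) : Prop :=
  orderOf w = 2 ∧ w ≠ t ∧ Commute w t ∧ (a * w) * (a * w) * (a * w) = 1

theorem Third.map {M N : Type*} [Group M] [Group N] (e : M ≃* N) {t a w : M} (h : Third t a w) :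
    Third (e t) (e a) (e w) :=
  ⟨by rw [e.orderOf_eq, h.1], e.injective.ne h.2.1, h.2.2.1.map e.toMonoidHom,
    by rw [← map_mul, ← map_mul, ← map_mul, h.2.2.2, map_one]⟩

/-- Uniqueness in normal form. -/
theorem third_unique_diag [Finite F] (h2 : (2 : F) ≠ 0) {ι : F} (hι : ι * ι = -1) {D A : SL2 F}
    (hD : (D : Matrix (Fin 2) (Fin 2) F) = !![ι, 0; 0, -ι]) (hA2 : tr A = 2) (hA1 : A ≠ 1)
    (hDA : D * A = A⁻¹ * D) :
    ∃ w : PSL2 F, Third (QuotientGroup.mk D) (QuotientGroup.mk A) w ∧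
      ∀ w', Third (QuotientGroup.mk D) (QuotientGroup.mk A) w' → w' = w := by
  have hι0 : ι ≠ 0 := fun e => by rw [e, mul_zero] at hι; exact one_ne_zero (neg_eq_zero.1 hι.symm)
  have hsum : A.1 0 0 + A.1 1 1 = 2 := hA2
  have hA00 : A.1 0 0 = 1 := by
    have e := congrFun (congrFun (congrArg (fun g : SL2 F => (g : Matrix (Fin 2) (Fin 2) F)) hDA) 0) 0
    simp [hD, Matrix.SpecialLinearGroup.coe_inv, Matrix.adjugate_fin_two, Matrix.mul_apply, Fin.sum_univ_two] at e
    have h' : (2 * ι) * (A.1 0 0 - 1) = 0 := by linear_combination e + ι * hsum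
    exact sub_eq_zero.1 ((mul_eq_zero.1 h').resolve_left (mul_ne_zero h2 hι0))
  have hA11 : A.1 1 1 = 1 := by linear_combination hsum - hA00
  have hvw : A.1 0 1 * A.1 1 0 = 0 := by
    have hd := det_eq A
    rw [hA00, hA11] at hd
    linear_combination -hd
  -- the involutions of the centraliser
  have hcases : ∀ w : PSL2 F, orderOf w = 2 → w ≠ QuotientGroup.mk D → Commute w (QuotientGroup.mk D) →
      ∃ (W : SL2 F) (l m : F), (QuotientGroup.mk W : PSL2 F) = w ∧
        (W : Matrix (Fin 2) (Fin 2) F) = !![0, l; m, 0] ∧ l * m = -1 := by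
    intro w hw hne hc
    have hw1 : w ≠ 1 := fun e => by rw [e, orderOf_one] at hw; omega
    obtain ⟨W, rfl, hW⟩ := exists_lift_involution h2 hw1
      (by rw [← pow_two]; exact orderOf_dvd_iff_pow_eq_one.1 hw.dvd)
    have hW0 : W.1 0 0 + W.1 1 1 = 0 := hW
    have hW' : W.1 1 1 = -W.1 0 0 := by linear_combination hW0
    have hd := det_eq W
    have hcc := hc.eq
    rw [← QuotientGroup.mk_mul, ← QuotientGroup.mk_mul, mk_eq_mk_iff] at hcc
    rcases hcc with e | e
    · exfalso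
      have e01 := congrFun (congrFun (congrArg (fun g : SL2 F => (g : Matrix (Fin 2) (Fin 2) F)) e) 0) 1
      have e10 := congrFun (congrFun (congrArg (fun g : SL2 F => (g : Matrix (Fin 2) (Fin 2) F)) e) 1) 0
      simp [hD, Matrix.mul_apply, Fin.sum_univ_two] at e01 e10
      have h01 : W.1 0 1 = 0 := by
        have h' : (2 * ι) * W.1 0 1 = 0 := by linear_combination -e01
        exact (mul_eq_zero.1 h').resolve_left (mul_ne_zero h2 hι0)
      have h10 : W.1 1 0 = 0 := by
        have h' : (2 * ι) * W.1 1 0 = 0 := by linear_combination e10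
        exact (mul_eq_zero.1 h').resolve_left (mul_ne_zero h2 hι0)
      have hx : W.1 0 0 = ι ∨ W.1 0 0 = -ι := mul_self_eq_mul_self_iff.1 (by
        rw [hW', h01, h10] at hd; linear_combination -hd - hι)
      refine hne (mk_eq_mk_iff.2 ?_)
      rcases hx with hx | hx
      · exact Or.inl (Subtype.ext (by ext i j; fin_cases i <;> fin_cases j <;> simp [hD, h01, h10, hW', hx]))
      · exact Or.inr (Subtype.ext (by ext i j; fin_cases i <;> fin_cases j <;> simp [hD, h01, h10, hW', hx]))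
    · have e00 := congrFun (congrFun (congrArg (fun g : SL2 F => (g : Matrix (Fin 2) (Fin 2) F)) e) 0) 0
      simp [hD, Matrix.mul_apply, Fin.sum_univ_two, Matrix.vecMul, dotProduct] at e00
      have hx : W.1 0 0 = 0 := by
        have h' : (2 * ι) * W.1 0 0 = 0 := by linear_combination e00
        exact (mul_eq_zero.1 h').resolve_left (mul_ne_zero h2 hι0)
      refine ⟨W, W.1 0 1, W.1 1 0, rfl, ?_, ?_⟩
      · ext i j; fin_cases i <;> fin_cases j <;> simp [hW', hx]
      · rw [hW', hx] at hd; linear_combination -hd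
  -- the candidate
  obtain ⟨l₀, m₀, hlm₀, hs⟩ : ∃ l₀ m₀ : F, l₀ * m₀ = -1 ∧ A.1 0 1 * m₀ + A.1 1 0 * l₀ = -1 := by
    by_cases hv : A.1 0 1 = 0
    · have hw : A.1 1 0 ≠ 0 := fun hw => hA1 (Subtype.ext (by
        ext i j; fin_cases i <;> fin_cases j <;> simp [hv, hw, hA00, hA11]))
      exact ⟨-(A.1 1 0)⁻¹, A.1 1 0, by rw [neg_mul, inv_mul_cancel₀ hw],
        by rw [hv, zero_mul, zero_add, mul_neg, mul_inv_cancel₀ hw]⟩
    · have hw : A.1 1 0 = 0 := (mul_eq_zero.1 hvw).resolve_left hv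
      exact ⟨A.1 0 1, -(A.1 0 1)⁻¹, by rw [mul_neg, mul_inv_cancel₀ hv],
        by rw [hw, zero_mul, add_zero, mul_neg, mul_inv_cancel₀ hv]⟩
  let W₀ : SL2 F := ⟨!![0, l₀; m₀, 0], by rw [Matrix.det_fin_two_of]; linear_combination -hlm₀⟩
  have hW₀ : (W₀ : Matrix (Fin 2) (Fin 2) F) = !![0, l₀; m₀, 0] := rfl
  have hAW : ∀ (W : SL2 F) (l m : F), (W : Matrix (Fin 2) (Fin 2) F) = !![0, l; m, 0] →
      ((A * W : SL2 F) : Matrix (Fin 2) (Fin 2) F) = !![A.1 0 1 * m, l; m, A.1 1 0 * l] := by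
    intro W l m e
    ext i j; fin_cases i <;> fin_cases j <;>
      simp [e, Matrix.mul_apply, Fin.sum_univ_two, hA00, hA11]
  refine ⟨QuotientGroup.mk W₀, ⟨orderOf_eq_prime ?_ ?_, ?_, ?_, ?_⟩, fun w' hw' => ?_⟩
  · rw [pow_two, ← QuotientGroup.mk_mul, mk_eq_one_iff]
    refine Or.inr (Subtype.ext ?_)
    ext i j; fin_cases i <;> fin_cases j <;> simp [hW₀, hlm₀, mul_comm m₀]
  · intro e
    rw [mk_eq_one_iff] at e
    rcases e with e | e <;>
      simpa [hW₀] using congrFun (congrFun (congrArg (fun g : SL2 F => (g : Matrix (Fin 2) (Fin 2) F)) e) 0) 0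
  · intro e
    rw [mk_eq_mk_iff] at e
    rcases e with e | e <;>
      simpa [hW₀, hD, hι0, hι0.symm] using
        congrFun (congrFun (congrArg (fun g : SL2 F => (g : Matrix (Fin 2) (Fin 2) F)) e) 0) 0
  · show QuotientGroup.mk W₀ * QuotientGroup.mk D = QuotientGroup.mk D * QuotientGroup.mk W₀
    rw [← QuotientGroup.mk_mul, ← QuotientGroup.mk_mul, mk_eq_mk_iff]
    refine Or.inr (Subtype.ext ?_)
    ext i j; fin_cases i <;> fin_cases j <;> simp [hW₀, hD, mul_comm]
  · rw [← QuotientGroup.mk_mul, ← QuotientGroup.mk_mul, ← QuotientGroup.mk_mul, mk_eq_one_iff]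
    refine Or.inl (Subtype.ext ?_)
    rw [Matrix.SpecialLinearGroup.coe_mul, Matrix.SpecialLinearGroup.coe_mul, hAW W₀ l₀ m₀ hW₀,
      Matrix.SpecialLinearGroup.coe_one]
    generalize A.1 0 1 = v at hs hvw
    generalize A.1 1 0 = w at hs hvw
    ext i j; fin_cases i <;> fin_cases j <;> simp <;> grind
  · obtain ⟨hwo, hwne, hwc, hw3⟩ := hw'
    obtain ⟨W, l, m, rfl, hW, hlm⟩ := hcases w' hwo hwne hwc
    have hm0 : m ≠ 0 := fun e => by rw [e, mul_zero] at hlm; exact one_ne_zero (neg_eq_zero.1 hlm.symm)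
    have hl0 : l ≠ 0 := fun e => by rw [e, zero_mul] at hlm; exact one_ne_zero (neg_eq_zero.1 hlm.symm)
    rw [← QuotientGroup.mk_mul, ← QuotientGroup.mk_mul, ← QuotientGroup.mk_mul, mk_eq_one_iff] at hw3
    have h10 : ((A * W * (A * W) * (A * W) : SL2 F) : Matrix (Fin 2) (Fin 2) F) 1 0 = 0 := by
      rcases hw3 with e | e <;> rw [e] <;> simp
    rw [Matrix.SpecialLinearGroup.coe_mul, Matrix.SpecialLinearGroup.coe_mul, hAW W l m hW] at h10
    simp at h10
    have hs2 : (A.1 0 1 * m + A.1 1 0 * l) * (A.1 0 1 * m + A.1 1 0 * l) = 1 := by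
      apply mul_left_cancel₀ hm0
      linear_combination h10 - m * hlm + m * m * l * hvw
    have key : ∀ ε : F, A.1 0 1 * m + A.1 1 0 * l = ε → (ε = 1 ∨ ε = -1) →
        (l = -ε * l₀ ∧ m = -ε * m₀) := by
      intro ε he hε
      rcases mul_eq_zero.1 hvw with hv | hw
      · rw [hv] at he hs
        have hw : A.1 1 0 ≠ 0 := fun e => by rw [e] at hs; simp at hs
        have hl : l = -ε * l₀ := by
          apply mul_left_cancel₀ hw
          linear_combination he + ε * hs
        refine ⟨hl, mul_left_cancel₀ hl0 ?_⟩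
        rcases hε with rfl | rfl <;> rw [hlm, hl] <;> linear_combination -hlm₀
      · rw [hw] at he hs
        have hv : A.1 0 1 ≠ 0 := fun e => by rw [e] at hs; simp at hs
        have hm : m = -ε * m₀ := by
          apply mul_left_cancel₀ hv
          linear_combination he + ε * hs
        refine ⟨mul_right_cancel₀ hm0 ?_, hm⟩
        rcases hε with rfl | rfl <;> rw [hlm, hm] <;> linear_combination -hlm₀
    rcases mul_self_eq_one_iff.1 hs2 with e | e
    · obtain ⟨h1, h2'⟩ := key _ e (Or.inl rfl)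
      refine mk_eq_mk_iff.2 (Or.inr (Subtype.ext ?_))
      ext i j; fin_cases i <;> fin_cases j <;> simp [hW, hW₀, h1, h2']
    · obtain ⟨h1, h2'⟩ := key _ e (Or.inr rfl)
      refine mk_eq_mk_iff.2 (Or.inl (Subtype.ext ?_))
      ext i j; fin_cases i <;> fin_cases j <;> simp [hW, hW₀, h1, h2']

theorem exists_fixed_psl [Finite F] (hodd : Odd (Nat.card F)) {t a b : PSL2 F} (ht : orderOf t = 2) {p : ℕ}
    [Fact p.Prime] (hp2 : p ≠ 2) (ha1 : a ≠ 1) (hb1 : b ≠ 1) (hap : a ^ p = 1) (hbp : b ^ p = 1)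
    (hab : Commute a b) (hat : t * a * t⁻¹ = a⁻¹) (φ : PSL2 F ≃* PSL2 F) (hφt : φ t = t) (hφa : φ a = a)
    (hφb : φ b = b⁻¹) : ∃ w, orderOf w = 2 ∧ w ≠ t ∧ Commute w t ∧ φ w = w := by
  have h2 : (2 : F) ≠ 0 := two_ne_zero_iff_odd.2 hodd
  have hp := (Fact.out : p.Prime)
  have hao : orderOf a = p := orderOf_eq_prime hap ha1
  -- `p` is the characteristic
  obtain ⟨ch, hch⟩ := CharP.exists F
  haveI : Fact ch.Prime := ⟨CharP.char_is_prime F ch⟩
  have hpc : p = ch := by
    by_contra hne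
    have hx : ¬ orderOf a ∣ ch := fun hd =>
      hne ((Nat.prime_dvd_prime_iff_eq hp Fact.out).1 (hao ▸ hd))
    obtain ⟨y, hay, htor⟩ := exists_torus_gen ch hx
    have h3 : 3 ≤ orderOf a := by
      rw [hao]; have := hp.two_le; omega
    have hby := mem_zpowers_of_commute_torus htor hay h3 hab.symm
    obtain ⟨j, hj⟩ := GWKlein.L2.mem_zpowers_of_pow_eq_one hby hay (by rw [hao, hbp])
    simp only at hj
    have hfix : φ b = b := by rw [← hj, map_zpow, hφa]
    rw [hfix] at hφb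
    refine hb1 (orderOf_eq_one_iff.1 (Nat.eq_one_of_dvd_coprimes
      ((Nat.coprime_primes Nat.prime_two hp).2 hp2.symm) ?_ (orderOf_dvd_of_pow_eq_one hbp)))
    exact orderOf_dvd_of_pow_eq_one (by rw [pow_two]; nth_rewrite 1 [hφb]; exact inv_mul_cancel b)
  subst hpc
  -- lifts
  have ht1 : t ≠ 1 := fun e => by rw [e, orderOf_one] at ht; omega
  obtain ⟨T, hTt, hT⟩ := exists_lift_involution h2 ht1
    (by rw [← pow_two]; exact orderOf_dvd_iff_pow_eq_one.1 ht.dvd)
  obtain ⟨A, hAa, hA⟩ : ∃ A : SL2 F, (QuotientGroup.mk A : PSL2 F) = a ∧ tr A = 2 := by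
    obtain ⟨A, rfl⟩ := QuotientGroup.mk_surjective a
    by_cases h4 : tr A ^ 2 = 4
    · rcases mul_self_eq_mul_self_iff.1 (show tr A * tr A = 2 * 2 by linear_combination h4) with e | e
      · exact ⟨A, rfl, e⟩
      · exact ⟨-A, mk_eq_mk_iff.2 (Or.inr rfl), by rw [tr_neg, e, neg_neg]⟩
    · exact absurd hap (mk_pow_char_ne_one p h4)
  have hTA : T * A = A⁻¹ * T := by
    rw [← hTt, ← hAa, ← QuotientGroup.mk_inv, ← QuotientGroup.mk_inv, ← QuotientGroup.mk_mul,
      ← QuotientGroup.mk_mul, mk_eq_mk_iff] at hat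
    rcases hat with e | e
    · exact mul_inv_eq_iff_eq_mul.1 e
    · exfalso
      have := congrArg tr e
      rw [tr_conj, tr_neg, tr_inv, hA] at this
      exact h2 ((mul_eq_zero.1 (show (2 : F) * 2 = 0 by linear_combination this)).elim id id)
  have hA1 : A ≠ 1 := fun e => ha1 (by rw [← hAa, e]; rfl)
  obtain ⟨ι, hι⟩ : ∃ ι : F, ι * ι = -1 := by
    have e := congrFun (congrFun (congrArg (fun g : SL2 F => (g : Matrix (Fin 2) (Fin 2) F)) hTA) 0) 0
    simp [Matrix.SpecialLinearGroup.coe_inv, Matrix.adjugate_fin_two, Matrix.mul_apply, Fin.sum_univ_two] at e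
    have hT0 : T.1 0 0 + T.1 1 1 = 0 := hT
    have hTs : T.1 1 1 = -T.1 0 0 := by linear_combination hT0
    have hA0 : A.1 0 0 + A.1 1 1 = 2 := hA
    have hAs : A.1 1 1 = 2 - A.1 0 0 := by linear_combination hA0
    have hdT := det_eq T
    have hdA := det_eq A
    rw [hTs] at hdT
    rw [hAs] at hdA e
    by_cases hw : A.1 1 0 = 0
    · have hu : A.1 0 0 = 1 := by
        rw [hw] at hdA
        exact sub_eq_zero.1 (mul_self_eq_zero.1 (by linear_combination -hdA))
      have hv : A.1 0 1 ≠ 0 := fun hv => hA1 (Subtype.ext (by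
        ext i j; fin_cases i <;> fin_cases j <;> simp [hu, hv, hw, hAs]; norm_num))
      have hz : T.1 1 0 = 0 := by
        rw [hu, hw] at e
        exact (mul_eq_zero.1 (show A.1 0 1 * T.1 1 0 = 0 by linear_combination e)).resolve_left hv
      exact ⟨T.1 0 0, by rw [hz] at hdT; linear_combination -hdT⟩
    · refine ⟨((A.1 0 0 - 1) * T.1 1 0 - T.1 0 0 * A.1 1 0) / A.1 1 0, ?_⟩
      field_simp
      generalize A.1 0 0 = u at *
      generalize A.1 0 1 = v at *
      generalize A.1 1 0 = w at *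
      generalize T.1 0 0 = x at *
      generalize T.1 0 1 = y at *
      generalize T.1 1 0 = z at *
      grind
  let D : SL2 F := ⟨!![ι, 0; 0, -ι], by rw [Matrix.det_fin_two_of]; linear_combination -hι⟩
  obtain ⟨s, hs⟩ := trZero_conj h2 hT (show tr D = 0 by simp [tr, D])
  obtain ⟨w₀, hw₀, huniq⟩ := third_unique_diag h2 hι (D := D) (A := s * A * s⁻¹) rfl (by rw [tr_conj, hA])
    (fun e => hA1 (conj_eq_one_iff.1 e)) (by
      rw [← hs, show s * T * s⁻¹ * (s * A * s⁻¹) = s * (T * A) * s⁻¹ by group, hTA]; group)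
  let e : PSL2 F ≃* PSL2 F := MulAut.conj (QuotientGroup.mk s)
  have het : e t = QuotientGroup.mk D := by rw [← hs, ← hTt]; rfl
  have hea : e a = QuotientGroup.mk (s * A * s⁻¹) := by rw [← hAa]; rfl
  have hT0 : Third t a (e.symm w₀) := by
    have := hw₀.map e.symm
    rwa [← het, ← hea, e.symm_apply_apply, e.symm_apply_apply] at this
  refine ⟨e.symm w₀, hT0.1, hT0.2.1, hT0.2.2.1, ?_⟩
  have h1 := hT0.map φ
  rw [hφt, hφa] at h1
  have h3 := h1.map e
  rw [het, hea] at h3
  exact e.injective ((huniq _ h3).trans (e.apply_symm_apply w₀).symm)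

end PSL

section Alt

open Equiv

set_option maxRecDepth 20000 in
private theorem seven_fixed :
    ∀ s : Perm (Fin 7), s * s = 1 → s * (swap 0 1 * swap 2 3) = swap 0 1 * swap 2 3 * s →
      ∃ w ∈ [swap (0 : Fin 7) 1 * swap 4 5, swap (0 : Fin 7) 1 * swap 4 6, swap (0 : Fin 7) 1 * swap 5 6,
        swap (2 : Fin 7) 3 * swap 4 5, swap (2 : Fin 7) 3 * swap 4 6, swap (2 : Fin 7) 3 * swap 5 6,
        swap (0 : Fin 7) 2 * swap 1 3, swap (0 : Fin 7) 3 * swap 1 2],
        s * w = w * s ∧ w * w = 1 ∧ w ≠ 1 ∧ w ≠ swap 0 1 * swap 2 3 ∧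
          w * (swap 0 1 * swap 2 3) = swap 0 1 * swap 2 3 * w ∧ Perm.sign w = 1 := by
  decide +kernel

theorem exists_fixed_alt {t : alternatingGroup (Fin 7)} (ht : orderOf t = 2)
    (φ : alternatingGroup (Fin 7) ≃* alternatingGroup (Fin 7)) (hφ : ∀ x, φ (φ x) = x) (hφt : φ t = t) :
    ∃ w, orderOf w = 2 ∧ w ≠ t ∧ Commute w t ∧ φ w = w := by
  obtain ⟨σ, hσφ⟩ := AltAut.exists_conjNormal_of_threeCycle (by omega) φ
    (fun x hx => AltAut.threeCycle_of_ne_six (by omega) φ x hx)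
  have hσ : σ * σ = 1 := S2119.conjNormal_injective (n := 7) (by omega) (by
    rw [map_mul, map_one, hσφ]; exact MulEquiv.ext hφ)
  have hσt : σ * (t : Perm (Fin 7)) = t * σ := by
    have := congrArg Subtype.val hφt
    rwa [← hσφ, MulAut.conjNormal_apply, mul_inv_eq_iff_eq_mul] at this
  have h0 : Perm.sign (swap (0 : Fin 7) 1 * swap 2 3) = 1 := by decide
  have hc0 : (swap (0 : Fin 7) 1 * swap 2 3).cycleType = {2, 2} := by decide +kernel
  obtain ⟨τ, hτ⟩ := isConj_iff.1 (Perm.isConj_iff_cycleType_eq.2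
    ((Socle.card_support_involution ht).1.trans hc0.symm))
  have hτt : ∀ x, τ * x * τ⁻¹ = MulAut.conj τ x := fun _ => rfl
  obtain ⟨w, -, hsw, hww, hw1, hwt, hwc, hwsg⟩ := seven_fixed (τ * σ * τ⁻¹)
    (by rw [show τ * σ * τ⁻¹ * (τ * σ * τ⁻¹) = τ * (σ * σ) * τ⁻¹ by group, hσ, mul_one, mul_inv_cancel])
    (by rw [← hτ, hτt, hτt, ← map_mul, ← map_mul, hσt])
  obtain ⟨w', hw'⟩ : ∃ w' : alternatingGroup (Fin 7), τ * (w' : Perm (Fin 7)) * τ⁻¹ = w :=
    ⟨⟨τ⁻¹ * w * τ, by
      rw [Perm.mem_alternatingGroup, map_mul, map_mul, Perm.sign_inv, hwsg, mul_one, Int.units_mul_self]⟩,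
      by show τ * (τ⁻¹ * w * τ) * τ⁻¹ = w; group⟩
  refine ⟨w', orderOf_eq_prime (Subtype.ext ?_) (fun e => hw1 ?_), fun e => hwt ?_, Subtype.ext ?_, ?_⟩
  · refine (MulAut.conj τ).injective ?_
    rw [Subgroup.coe_pow, map_pow, ← hτt, hw', pow_two, hww, Subgroup.coe_one, map_one]
  · rw [← hw', e]; simp
  · rw [← hw', e, hτ]
  · refine (MulAut.conj τ).injective ?_
    rw [Subgroup.coe_mul, Subgroup.coe_mul, map_mul, map_mul, ← hτt, ← hτt, hw', hτ]
    exact hwc
  · rw [← hσφ]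
    refine Subtype.ext ?_
    rw [MulAut.conjNormal_apply, mul_inv_eq_iff_eq_mul]
    refine (MulAut.conj τ).injective ?_
    rw [map_mul (MulAut.conj τ) σ, map_mul (MulAut.conj τ) (w' : Perm (Fin 7)), ← hτt σ, ← hτt (w' : Perm (Fin 7)), hw']
    exact hsw

end Alt

/-- **An involution fixed by the automorphism.** -/
theorem Socle.exists_fixed {L : Type v} [Group L] (hL : Socle L) {t a b : L} (ht : orderOf t = 2) {p : ℕ}
    [Fact p.Prime] (hp2 : p ≠ 2) (ha1 : a ≠ 1) (hb1 : b ≠ 1) (hap : a ^ p = 1) (hbp : b ^ p = 1)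
    (hab : Commute a b) (hat : t * a * t⁻¹ = a⁻¹) (φ : L ≃* L) (hφ : ∀ x, φ (φ x) = x) (hφt : φ t = t)
    (hφa : φ a = a) (hφb : φ b = b⁻¹) : ∃ w, orderOf w = 2 ∧ w ≠ t ∧ Commute w t ∧ φ w = w := by
  rcases hL with ⟨F, _, _, hodd, -, ⟨e⟩⟩ | ⟨⟨e⟩⟩
  · obtain ⟨w, h1, h2, h3, h4⟩ := exists_fixed_psl (F := F) (by rwa [Nat.card_eq_fintype_card]) (t := e t)
      (a := e a) (b := e b) (by rw [e.orderOf_eq, ht]) hp2 (fun h => ha1 (e.injective (h.trans (map_one e).symm)))
      (fun h => hb1 (e.injective (h.trans (map_one e).symm))) (by rw [← map_pow, hap, map_one])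
      (by rw [← map_pow, hbp, map_one]) (hab.map e.toMonoidHom) (by rw [← map_inv, ← map_mul, ← map_mul, hat, map_inv])
      ((e.symm.trans φ).trans e) (by simp [hφt]) (by simp [hφa]) (by simp [hφb])
    refine ⟨e.symm w, by rw [e.symm.orderOf_eq, h1], fun h => h2 (e.symm.injective (by simp [h])), ?_,
      e.injective ?_⟩
    · have := h3.map e.symm.toMonoidHom
      simpa using this
    · simpa using h4
  · obtain ⟨w, h1, h2, h3, h4⟩ := exists_fixed_alt (t := e t) (by rw [e.orderOf_eq, ht])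
      ((e.symm.trans φ).trans e) (fun x => by simp [hφ]) (by simp [hφt])
    refine ⟨e.symm w, by rw [e.symm.orderOf_eq, h1], fun h => h2 (e.symm.injective (by simp [h])), ?_,
      e.injective ?_⟩
    · have := h3.map e.symm.toMonoidHom
      simpa using this
    · simpa using h4

end Cfsg.Agent.GWDihedral
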