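import Cfsg.Agent.Lib.GWDihedral.Steps

/-!
# Gorenstein-Walter, dihedral Sylow 2-subgroups of order at least eight: interfaces of case B

Section 5 of `notes/gw_dihedral_eight.md`: no proper overgroup of `C(t)` is fused, and `a b > 1`.

* `CaseB` : the hypotheses produced by sections 1-4
* `SigmaFix` (C), `NoCommuting` (K), `NoNormalInW` (N)
* `MixedPair` : a normal elementary subgroup of order `p ^ 2` with one line centralised and one inverted by `r`
* `MixedExtraspecial` : the remaining case
* `SylowInG` (SYLOW)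
-/

set_option autoImplicit false

namespace Cfsg.Agent.GWDihedral

open Subgroup
open Cfsg.Agent.GWKlein (coreU coreW fourV oddPart)

universe u

variable {G : Type u} [Group G]

/-- The hypotheses of section 5. -/
structure CaseB (n : ℕ) (t r σ : G) : Prop where
  ctx : Ctx n t r σ
  sideExc : SideExc t r σ
  sideRot : SideRot t r σ
  sideRot' : SideRot t (r * σ) σ⁻¹
  fused : PrimePowFused t r
  fused' : PrimePowFused t (r * σ)
  oneClass : OneClass t
  centShape : CentShape t r σ
  centShape' : CentShape t (r * σ) σ⁻¹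
  noTheta : NoTheta t r σ
  noOver : NoFusedOver t r
  noOver' : NoFusedOver t (r * σ)
  nontrivial : coreW t r ≠ ⊥ ∨ coreW t (r * σ) ≠ ⊥

/-- (C): `σ ^ 2` centralises `C_U(y)` for a prime power element `y` of `W` whose cyclic group `σ` normalises. -/
def SigmaFix (t r σ : G) : Prop :=
  ∀ y ∈ coreW t r, IsPrimePow (orderOf y) → σ * y * σ⁻¹ ∈ zpowers y →
    ∀ x ∈ coreU t, Commute x y → Commute (σ ^ 2) x

/-- (K): if `σ ^ 2` centralises `U`, no prime power element of `W` commutes with all elements of `U`
inverted by `r`. -/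
def NoCommuting (t r σ : G) : Prop :=
  (∀ x ∈ coreU t, Commute (σ ^ 2) x) → ∀ y ∈ coreW t r, IsPrimePow (orderOf y) →
    ∃ x ∈ coreU t, r * x * r⁻¹ = x⁻¹ ∧ ¬ Commute x y

/-- (N): no non-trivial elementary abelian subgroup normal in `C(t)` lies in `W`. -/
def NoNormalInW (t r : G) : Prop :=
  ∀ (p : ℕ) (X : Subgroup G), p.Prime → Cfsg.IsElementaryAbelian p X → X ≤ coreW t r →
    centralizer ({t} : Set G) ≤ normalizer (X : Set G) → X = ⊥

/-- `X` is normal in `C(t)`, elementary of order `p ^ 2`, and `r` fixes `y` and inverts `l`. -/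
structure MixedPair (p : ℕ) (t r y l : G) (X : Subgroup G) : Prop where
  prime : p.Prime
  ne_two : p ≠ 2
  elementary : Cfsg.IsElementaryAbelian p X
  card : Nat.card X = p ^ 2
  le : X ≤ coreU t
  normal : centralizer ({t} : Set G) ≤ normalizer (X : Set G)
  mem_y : y ∈ X
  mem_l : l ∈ X
  order_y : orderOf y = p
  order_l : orderOf l = p
  fix_y : Commute r y
  inv_l : r * l * r⁻¹ = l⁻¹

/-- The remaining case: a normal extraspecial subgroup of order `p ^ 3` and exponent `p`, with centre `⟨z⟩`,
on which `r` fixes `y` and inverts `x` and `z`. -/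
structure MixedExtraspecial (p : ℕ) (t r y x z : G) (D : Subgroup G) : Prop where
  prime : p.Prime
  ne_two : p ≠ 2
  card : Nat.card D = p ^ 3
  exponent : ∀ d ∈ D, d ^ p = 1
  le : D ≤ coreU t
  normal : centralizer ({t} : Set G) ≤ normalizer (D : Set G)
  mem_y : y ∈ D
  mem_x : x ∈ D
  commutator : y * x * y⁻¹ * x⁻¹ = z
  ne_one : z ≠ 1
  fix_y : Commute r y
  inv_x : r * x * r⁻¹ = x⁻¹
  inv_z : r * z * r⁻¹ = z⁻¹

/-- (SYLOW): a non-cyclic Sylow subgroup of `U` centralised by no reflection is one of `G`. -/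
def SylowInG (t r σ : G) : Prop :=
  ∀ (p : ℕ) (P : Subgroup G), p.Prime → p ≠ 2 → P ≤ coreU t → IsPGroup p P → ¬ IsCyclic P →
    Nat.card P = p ^ (Nat.card (coreU t)).factorization p →
    closure ({σ, r} : Set G) ≤ normalizer (P : Set G) →
    ¬ r ∈ centralizer (P : Set G) → ¬ r * σ ∈ centralizer (P : Set G) →
    (Nat.card G).factorization p = (Nat.card (coreU t)).factorization p

end Cfsg.Agent.GWDihedral
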