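import Cfsg.Agent.Lib.GWDihedral.ThetaSetup
import Cfsg.Agent.Lib.GWKlein.ModTwo
import Cfsg.Agent.Lib.SecondMain.Columns

/-!
# Gorenstein-Walter, dihedral Sylow subgroups of order at least eight: the section at `t`

Let `θ` be a linear character of `C = C(t)`, constant on the classes of `G` meeting the odd core of `C`.
If an irreducible character `χ` of `G` has a non-zero component at `θ` on `tU`, its block is induced
only by characters of `C` over `θ`, so by Brauer's second main theorem it is a multiple of `θ` there.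

* `apply_mul_of_sum_ne_zero` : an irreducible character over an invariant linear character
* `apply_t_mul` : `χ (t x) = χ t * θ x` on the odd core
-/

set_option autoImplicit false
set_option linter.style.haveILetI false

open scoped ComplexConjugate

namespace Cfsg.Agent.GWDihedral

open Cfsg Cfsg.Agent.Blocks Cfsg.Agent.SecondMain

/-- An irreducible character with a non-zero component at an invariant linear character of a normal
subgroup restricts to a multiple of it. -/
theorem apply_mul_of_sum_ne_zero {H : Type*} [Group H] [Fintype H] (N : Subgroup H) [N.Normal] [Fintype N]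
    (l : H →* ℂ) (η : IrrCharacter H)
    (hK : ∑ x : N, (η : H → ℂ) x * conj (l x) ≠ 0) :
    ∀ v ∈ N, ∀ y : H, (η : H → ℂ) (v * y) = l v * (η : H → ℂ) y := by
  classical
  intro v hv y
  have hlc : ∀ x : H, conj (l x) = l x⁻¹ := fun x =>
    (Char.IsCharacter.apply_inv (Char.isCharacter_of_hom l) x).symm
  set f : H → ℂ := fun x => if x ∈ N then conj (l x) else 0 with hf
  have hfc : IsClassFunction H f := fun x g => by
    have hl : l (g * x * g⁻¹) = l x := by
      rw [map_mul, map_mul, mul_right_comm, ← map_mul, mul_inv_cancel, map_one, one_mul]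
    have hN : g * x * g⁻¹ ∈ N ↔ x ∈ N := ⟨fun hh => by
      have := (inferInstance : N.Normal).conj_mem _ hh g⁻¹
      rwa [show g⁻¹ * (g * x * g⁻¹) * g⁻¹⁻¹ = x by group] at this,
      fun hh => (inferInstance : N.Normal).conj_mem _ hh g⟩
    simp only [hf, hl, hN]
  have hsum : ∀ z : H, ∑ x, f x * (η : H → ℂ) (x * z) = ∑ x : N, conj (l x) * (η : H → ℂ) ((x : H) * z) := by
    intro z
    rw [← Finset.sum_subtype (Finset.univ.filter fun x : H => x ∈ N) (fun x => by simp)
      fun x : H => conj (l x) * (η : H → ℂ) (x * z), Finset.sum_filter]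
    exact Finset.sum_congr rfl fun x _ => by simp only [hf]; split_ifs <;> simp
  have h0 : (η : H → ℂ) 1 ≠ 0 := Char.IsIrrCharacter.apply_one_ne_zero η.2
  set K := ∑ x, f x * (η : H → ℂ) x
  have hK0 : K ≠ 0 := by
    have := hsum 1
    simp only [mul_one] at this
    rw [show K = ∑ x : N, conj (l x) * (η : H → ℂ) x from this]
    simpa only [mul_comm] using hK
  have e1 := GWKlein.sum_mul_irr η.2 hfc (v * y)
  have e2 := GWKlein.sum_mul_irr η.2 hfc y
  rw [hsum] at e1 e2
  have e3 : ∑ x : N, conj (l x) * (η : H → ℂ) ((x : H) * (v * y)) =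
      l v * ∑ x : N, conj (l x) * (η : H → ℂ) ((x : H) * y) := by
    rw [Finset.mul_sum]
    refine Fintype.sum_equiv (Equiv.mulRight (⟨v, hv⟩ : N)) _ _ fun x => ?_
    simp only [Equiv.coe_mulRight, Subgroup.coe_mul, hlc, mul_inv_rev, map_mul]
    have e : l v * l v⁻¹ = 1 := by rw [← map_mul, mul_inv_cancel, map_one]
    rw [mul_assoc (x : H)]
    linear_combination (-(l (x : H)⁻¹ * (η : H → ℂ) ((x : H) * (v * y)))) * e
  rw [e3, e2, ← mul_assoc, mul_comm (l v), mul_assoc] at e1
  exact (mul_left_cancel₀ (div_ne_zero hK0 h0) e1).symm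

variable {G : Type*} [Group G] [Finite G] {P : Sylow 2 G} {a : ℕ} {σ τ : G}
  {π : Subgroup.centralizer ({midRot a σ} : Set G) →* (P : Subgroup G)}

/-- A linear character of `C(t)`, trivial on `P` and constant on the classes of `G` in the odd core. -/
structure Stable (π : Subgroup.centralizer ({midRot a σ} : Set G) →* (P : Subgroup G))
    (θ : Subgroup.centralizer ({midRot a σ} : Set G) →* ℂ) : Prop where
  trivial : ∀ c : Subgroup.centralizer ({midRot a σ} : Set G), (c : G) ∈ (P : Subgroup G) → θ c = 1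
  stable : ∀ x y : Subgroup.centralizer ({midRot a σ} : Set G), π x = 1 → π y = 1 →
    IsConj (x : G) (y : G) → θ x = θ y

theorem Retr.not_two_dvd (hπ : Retr P (midRot a σ) π) {g : Subgroup.centralizer ({midRot a σ} : Set G)}
    (hg : π g = 1) : ¬ 2 ∣ orderOf g := by
  rw [← even_iff_two_dvd, Nat.not_even_iff_odd]
  exact hπ.odd_of_ker g hg

theorem Retr.apply_eq_one_of_odd {g : Subgroup.centralizer ({midRot a σ} : Set G)}
    (hg : Odd (orderOf (g : G))) : π g = 1 := by
  rw [Subgroup.orderOf_coe] at hg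
  obtain ⟨k, hk⟩ := IsPGroup.iff_orderOf.mp P.2 (π g)
  have hk' : Odd (orderOf (π g)) := hg.of_dvd_nat (orderOf_map_dvd π g)
  rcases Nat.eq_zero_or_pos k with rfl | hk0
  · rwa [pow_zero, orderOf_eq_one_iff] at hk
  · exact absurd hk' (by rw [hk, Nat.not_odd_iff_even, Nat.even_pow]; exact ⟨even_two, hk0.ne'⟩)

/-- Brauer's second main theorem at `t`. -/
theorem apply_t_mul {M : Ideal AlgInt} (hM : IsPModular 2 M) (h : DihHyp P a σ τ)
    (hπ : Retr P (midRot a σ) π) [Fintype π.ker]
    (θ : Subgroup.centralizer ({midRot a σ} : Set G) →* ℂ) (hθ : Stable π θ) (χ : IrrCharacter G)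
    (hA : ∑ x : π.ker, (χ : G → ℂ) (midRot a σ * ((x : Subgroup.centralizer ({midRot a σ} : Set G)) : G)) *
      conj (θ x) ≠ 0)
    (x : Subgroup.centralizer ({midRot a σ} : Set G)) (hx : π x = 1) :
    (χ : G → ℂ) (midRot a σ * (x : G)) = (χ : G → ℂ) (midRot a σ) * θ x := by
  classical
  have := Fact.mk Nat.prime_two
  have := Fintype.ofFinite (Subgroup.centralizer ({midRot a σ} : Set G))
  have := Fintype.ofFinite G
  have := Fintype.ofFinite (IrrCharacter (Subgroup.centralizer ({midRot a σ} : Set G)))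
  have hH : ∀ g, g ∈ (Subgroup.centralizer ({midRot a σ} : Set G)) ↔ Commute (midRot a σ) g := fun g => SecondMain.commute_iff_mem_centralizer_singleton
  have htk : ∃ k, orderOf (midRot a σ) = 2 ^ k := ⟨1, by rw [pow_one]; exact h.data.orderOf_midRot⟩
  set B := blockOf M (χ : G → ℂ)
  have hB : IsPBlock M B := ⟨χ, rfl⟩
  have hχB : χ ∈ B := mem_blockOf_self hM χ
  -- the components at `θ`
  set K : IrrCharacter (Subgroup.centralizer ({midRot a σ} : Set G)) → ℂ := fun η => ∑ y : π.ker, (η : (Subgroup.centralizer ({midRot a σ} : Set G)) → ℂ) y * conj (θ y)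
  -- the class function carried by `θ`
  set z : G → ℂ := fun g => if hg : ∃ y : (Subgroup.centralizer ({midRot a σ} : Set G)), π y = 1 ∧ IsConj g (y : G) then conj (θ hg.choose) else 0 with hz
  have hzc : IsClassFunction G z := fun g c => by
    have hconj : IsConj g (c * g * c⁻¹) := isConj_iff.mpr ⟨c, rfl⟩
    by_cases hg : ∃ y : (Subgroup.centralizer ({midRot a σ} : Set G)), π y = 1 ∧ IsConj g (y : G)
    · have hg' : ∃ y : (Subgroup.centralizer ({midRot a σ} : Set G)), π y = 1 ∧ IsConj (c * g * c⁻¹) (y : G) :=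
        ⟨hg.choose, hg.choose_spec.1, hconj.symm.trans hg.choose_spec.2⟩
      simp only [hz, dif_pos hg, dif_pos hg']
      rw [hθ.stable _ _ hg'.choose_spec.1 hg.choose_spec.1
        ((hg'.choose_spec.2.symm.trans hconj.symm).trans hg.choose_spec.2)]
    · have hg' : ¬ ∃ y : (Subgroup.centralizer ({midRot a σ} : Set G)), π y = 1 ∧ IsConj (c * g * c⁻¹) (y : G) := fun ⟨y, h1, h2⟩ =>
        hg ⟨y, h1, hconj.trans h2⟩
      simp only [hz, dif_neg hg, dif_neg hg']
  have hzR : ∀ g, MemLocalRing M (z g) := fun g => by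
    simp only [hz]
    split_ifs with hg
    · refine memR_of_isIntegral hM ?_
      rw [← Char.IsCharacter.apply_inv (Char.isCharacter_of_hom θ)]
      exact Char.IsCharacter.isIntegral (Char.isCharacter_of_hom θ) _
    · exact memR_zero hM
  have homega : ∀ η : IrrCharacter (Subgroup.centralizer ({midRot a σ} : Set G)),
      omega (η : (Subgroup.centralizer ({midRot a σ} : Set G)) → ℂ) (fun k : (Subgroup.centralizer ({midRot a σ} : Set G)) => z (k : G)) = K η / (η : (Subgroup.centralizer ({midRot a σ} : Set G)) → ℂ) 1 := by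
    intro η
    rw [omega_eq_sum]
    congr 1
    rw [← Finset.sum_filter_of_ne (s := (Finset.univ : Finset (Subgroup.centralizer ({midRot a σ} : Set G)))) (p := fun k => π k = 1) fun k _ hk => ?_,
      Finset.sum_subtype (Finset.univ.filter fun k : (Subgroup.centralizer ({midRot a σ} : Set G)) => π k = 1) (p := fun k => k ∈ π.ker)
        (fun k => by simp [MonoidHom.mem_ker])]
    · refine Finset.sum_congr rfl fun k _ => ?_
      have hk : π (k : (Subgroup.centralizer ({midRot a σ} : Set G))) = 1 := k.2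
      have hg : ∃ y : (Subgroup.centralizer ({midRot a σ} : Set G)), π y = 1 ∧ IsConj ((k : (Subgroup.centralizer ({midRot a σ} : Set G))) : G) (y : G) := ⟨k, hk, IsConj.refl _⟩
      simp only [hz, dif_pos hg]
      rw [hθ.stable _ _ hg.choose_spec.1 hk hg.choose_spec.2.symm, mul_comm]
    · by_contra hk1
      refine left_ne_zero_of_mul hk ?_
      simp only [hz]
      rw [dif_neg]
      rintro ⟨y, hy, hky⟩
      refine hk1 (Retr.apply_eq_one_of_odd ?_)
      obtain ⟨c, hc⟩ := isConj_iff.mp hky
      rw [← SecondMain.orderOf_conj c (k : G), hc, Subgroup.orderOf_coe]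
      exact hπ.odd_of_ker y hy
  -- a block inducing `B` has a component at `θ`
  have hsplit : ∀ s : (Subgroup.centralizer ({midRot a σ} : Set G)), ¬ 2 ∣ orderOf s → (χ : G → ℂ) ((midRot a σ) * (s : G)) =
      ∑ᶠ η ∈ ⋃₀ inducedSet M (Subgroup.centralizer ({midRot a σ} : Set G)) B, classInner (fun c : (Subgroup.centralizer ({midRot a σ} : Set G)) => (χ : G → ℂ) ((midRot a σ) * (c : G))) (η : (Subgroup.centralizer ({midRot a σ} : Set G)) → ℂ) * (η : (Subgroup.centralizer ({midRot a σ} : Set G)) → ℂ) s := by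
    intro s hs
    rw [← sum_induced_shift_of_mem hM htk hH hB hχB hs]
    simp only [blockPart_apply]
    exact finsum_blocks_eq hM (fun b hb => hb.1) _
  have hmem : ∀ η ∈ ⋃₀ inducedSet M (Subgroup.centralizer ({midRot a σ} : Set G)) B,
      MemLocalIdeal M (omega (η : (Subgroup.centralizer ({midRot a σ} : Set G)) → ℂ) (fun k : (Subgroup.centralizer ({midRot a σ} : Set G)) => z (k : G)) - omega (χ : G → ℂ) z) := by
    rintro η ⟨b, hb, hη⟩
    exact omega_restrict_congr hM hb hη hχB hzc hzR
  obtain ⟨η₀, hη₀, hK₀⟩ : ∃ η ∈ ⋃₀ inducedSet M (Subgroup.centralizer ({midRot a σ} : Set G)) B, K η ≠ 0 := by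
    by_contra! hall
    refine hA ?_
    rw [Finset.sum_congr rfl fun y _ => by rw [hsplit y (hπ.not_two_dvd y.2), finsum_mem_eq_toFinset_sum,
      Finset.sum_mul], Finset.sum_comm]
    refine Finset.sum_eq_zero fun η hη => ?_
    simp only [mul_assoc, ← Finset.mul_sum]
    exact mul_eq_zero_of_right _ (hall η (Set.mem_toFinset.mp hη))
  have hcl : ∀ η : IrrCharacter (Subgroup.centralizer ({midRot a σ} : Set G)), K η ≠ 0 → ∀ y : (Subgroup.centralizer ({midRot a σ} : Set G)), π y = 1 → (η : (Subgroup.centralizer ({midRot a σ} : Set G)) → ℂ) y = θ y * (η : (Subgroup.centralizer ({midRot a σ} : Set G)) → ℂ) 1 := by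
    intro η hη y hy
    simpa using apply_mul_of_sum_ne_zero π.ker θ η hη y hy 1
  have hne : ∀ η ∈ ⋃₀ inducedSet M (Subgroup.centralizer ({midRot a σ} : Set G)) B, K η ≠ 0 := by
    intro η hη hK
    have h1 : MemLocalIdeal M (omega (η : (Subgroup.centralizer ({midRot a σ} : Set G)) → ℂ) (fun k : (Subgroup.centralizer ({midRot a σ} : Set G)) => z (k : G)) -
        omega (η₀ : (Subgroup.centralizer ({midRot a σ} : Set G)) → ℂ) (fun k : (Subgroup.centralizer ({midRot a σ} : Set G)) => z (k : G))) :=
      memI_sub_trans hM (hmem η hη) (memI_sub_comm (hmem η₀ hη₀))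
    rw [homega, homega, hK, zero_div, zero_sub] at h1
    have hu : K η₀ / (η₀ : (Subgroup.centralizer ({midRot a σ} : Set G)) → ℂ) 1 = (Nat.card π.ker : ℂ) := by
      rw [div_eq_iff (Char.IsIrrCharacter.apply_one_ne_zero η₀.2)]
      show ∑ y : π.ker, (η₀ : (Subgroup.centralizer ({midRot a σ} : Set G)) → ℂ) y * conj (θ y) = _
      rw [Finset.sum_congr rfl (g := fun _ => (η₀ : (Subgroup.centralizer ({midRot a σ} : Set G)) → ℂ) 1) fun y _ => by
        rw [hcl η₀ hK₀ y y.2, ← Char.IsCharacter.apply_inv (Char.isCharacter_of_hom θ), mul_right_comm,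
          ← map_mul, mul_inv_cancel, map_one, one_mul], Finset.sum_const, Finset.card_univ,
        ← Nat.card_eq_fintype_card, nsmul_eq_mul]
    have h2 := memI_neg h1
    rw [neg_neg, hu, memI_natCast hM] at h2
    exact Nat.not_even_iff_odd.2 hπ.odd_ker (even_iff_two_dvd.2 h2)
  have hval : ∀ y : (Subgroup.centralizer ({midRot a σ} : Set G)), π y = 1 → (χ : G → ℂ) ((midRot a σ) * (y : G)) = θ y *
      ∑ᶠ η ∈ ⋃₀ inducedSet M (Subgroup.centralizer ({midRot a σ} : Set G)) B,
        classInner (fun c : (Subgroup.centralizer ({midRot a σ} : Set G)) => (χ : G → ℂ) ((midRot a σ) * (c : G))) (η : (Subgroup.centralizer ({midRot a σ} : Set G)) → ℂ) * (η : (Subgroup.centralizer ({midRot a σ} : Set G)) → ℂ) 1 := by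
    intro y hy
    rw [hsplit y (hπ.not_two_dvd hy), finsum_mem_eq_toFinset_sum, finsum_mem_eq_toFinset_sum, Finset.mul_sum]
    refine Finset.sum_congr rfl fun η hη => ?_
    rw [hcl η (hne η (Set.mem_toFinset.mp hη)) y hy]
    ring
  have h1 := hval 1 (map_one π)
  rw [Subgroup.coe_one, mul_one, map_one, one_mul] at h1
  rw [hval x hx, ← h1, mul_comm]

end Cfsg.Agent.GWDihedral
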