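import Cfsg.Agent.Lib.GWDihedral.ThetaBlock
import Cfsg.Agent.Lib.SecondMain.DihedralBlock
import Cfsg.Agent.Lib.Blocks.Dihedral.Coeff

/-!
# Gorenstein-Walter, dihedral Sylow subgroups of order at least eight: the components at the rotations

* `rotVal` : the component at `θ` of a character on the coset of the odd core over an element of `P`
* `rotVal_col`, `rotVal_degree` : the column orthogonality
* `exists_int_rotVal` : the coefficients in the roots of unity are integers
* `exists_theta_coeff` : the coefficient vectors and their scalar products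
-/

set_option autoImplicit false
set_option linter.style.haveILetI false

open scoped ComplexConjugate

namespace Cfsg.Agent.GWDihedral

open Cfsg Finset
open scoped Classical
open Cfsg.Agent.SecondMain (midRot)

variable {G : Type*} [Group G] [Finite G] {P : Sylow 2 G} {a : ℕ} {σ τ : G}

/-- The centraliser of the central involution. -/
abbrev cT (a : ℕ) (σ : G) : Subgroup G := Subgroup.centralizer ({midRot a σ} : Set G)

variable {π : cT a σ →* (P : Subgroup G)} {θ : cT a σ →* ℂ}

/-- The component at `θ` on the coset over `s`. -/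
noncomputable def rotVal [Fintype (cT a σ)] (π : cT a σ →* (P : Subgroup G)) (θ : cT a σ →* ℂ)
    (χ : G → ℂ) (s : (P : Subgroup G)) : ℂ :=
  (Nat.card π.ker : ℂ)⁻¹ * ∑ c ∈ univ.filter (fun c : cT a σ => π c = s), χ (c : G) * conj (θ c)

/-- A power of the rotation, in `P`. -/
def rot (h : DihHyp P a σ τ) (x : ℕ) : (P : Subgroup G) := ⟨σ, h.mem_rot⟩ ^ x

omit [Finite G] in
theorem coe_rot (h : DihHyp P a σ τ) (x : ℕ) : ((rot h x : (P : Subgroup G)) : G) = σ ^ x := rfl

omit [Finite G] in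
theorem rot_mem (h : DihHyp P a σ τ) (x : ℕ) : ((rot h x : (P : Subgroup G)) : G) ∈ Subgroup.zpowers σ :=
  pow_mem (Subgroup.mem_zpowers σ) x

theorem rot_ne_one (h : DihHyp P a σ τ) {x : ℕ} (h0 : 0 < x) (hx : x < 2 ^ (a + 2)) : rot h x ≠ 1 :=
  fun e => h.data.pow_ne_one h0 hx (congrArg Subtype.val e)

theorem conj_rot_eq (h : DihHyp P a σ τ) {x : ℕ} {w : (P : Subgroup G)} :
    ((w : G) ∈ Subgroup.zpowers σ → w * rot h x * w⁻¹ = rot h x) ∧
      ((w : G) ∉ Subgroup.zpowers σ → w * rot h x * w⁻¹ = (rot h x)⁻¹) := by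
  refine ⟨fun hw => Subtype.ext ?_, fun hw => Subtype.ext (h.data.conj_inv w.2 hw (rot_mem h x))⟩
  obtain ⟨k, hk⟩ := Subgroup.mem_zpowers_iff.mp hw
  simp only [Subgroup.coe_mul, Subgroup.coe_inv, coe_rot, ← hk]
  group

theorem column_eq_card [Fintype G] [Fintype (IrrCharacter G)] (c d : G) :
    ∑ χ : IrrCharacter G, (χ : G → ℂ) c * conj ((χ : G → ℂ) d) =
      ((univ.filter fun g : G => g * c * g⁻¹ = d).card : ℂ) := by
  classical
  rw [Char.column_orth]
  split_ifs with hc
  · obtain ⟨g₀, hg₀⟩ := isConj_iff.1 hc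
    congr 1
    rw [← Fintype.card_subtype, ← Nat.card_eq_fintype_card]
    refine Nat.card_congr ⟨fun z => ⟨g₀ * z, ?_⟩, fun g => ⟨g₀⁻¹ * g, ?_⟩, fun z => ?_, fun g => ?_⟩
    · have := Subgroup.mem_centralizer_singleton_iff.1 z.2
      rw [← hg₀, show g₀ * (z : G) * c * (g₀ * (z : G))⁻¹ = g₀ * ((z : G) * c) * (z : G)⁻¹ * g₀⁻¹ by group,
        this]
      group
    · rw [Subgroup.mem_centralizer_singleton_iff]
      calc g₀⁻¹ * (g : G) * c = g₀⁻¹ * ((g : G) * c * (g : G)⁻¹) * g := by group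
        _ = g₀⁻¹ * (g₀ * c * g₀⁻¹) * g := by rw [g.2, hg₀]
        _ = c * (g₀⁻¹ * g) := by group
    · exact Subtype.ext (inv_mul_cancel_left g₀ (z : G))
    · exact Subtype.ext (mul_inv_cancel_left g₀ (g : G))
  · rw [Finset.filter_false_of_mem fun g _ e => hc (isConj_iff.2 ⟨g, e⟩)]
    simp

section

variable [Fintype (cT a σ)]

theorem Retr.card_fiber (hπ : Retr P (midRot a σ) π) (w : (P : Subgroup G)) :
    (univ.filter fun c : cT a σ => π c = w).card = Nat.card π.ker := by
  classical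
  obtain ⟨c₀, hc₀⟩ := hπ.surjective w
  rw [← Fintype.card_subtype, ← Nat.card_eq_fintype_card]
  refine (Nat.card_congr (α := π.ker) (β := {c : cT a σ // π c = w})
    { toFun := fun u => ⟨c₀ * u, by rw [map_mul, show π (u : cT a σ) = 1 from u.2, mul_one, hc₀]⟩
      invFun := fun c => ⟨c₀⁻¹ * c, by rw [MonoidHom.mem_ker, map_mul, map_inv, c.2, hc₀, inv_mul_cancel]⟩
      left_inv := fun u => Subtype.ext (inv_mul_cancel_left _ _)
      right_inv := fun c => Subtype.ext (mul_inv_cancel_left _ _) }).symm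

variable [Fintype G] [Fintype (IrrCharacter G)]

/-- The columns at two non-trivial rotations. -/
theorem rotVal_col (hπ : Retr P (midRot a σ) π) (h : DihHyp P a σ τ) [Fintype (P : Subgroup G)]
    {s s' : (P : Subgroup G)} (hs : (s : G) ∈ Subgroup.zpowers σ) (hs1 : s ≠ 1)
    (hs' : (s' : G) ∈ Subgroup.zpowers σ) (hs1' : s' ≠ 1) :
    ∑ χ : IrrCharacter G, rotVal π θ (χ : G → ℂ) s * conj (rotVal π θ (χ : G → ℂ) s') =
      ((univ.filter fun w : (P : Subgroup G) => w * s * w⁻¹ = s').card : ℂ) := by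
  classical
  set u := Nat.card π.ker with hu
  have hu0 : (u : ℂ) ≠ 0 := Nat.cast_ne_zero.2 Nat.card_pos.ne'
  set W := (univ.filter fun w : (P : Subgroup G) => w * s * w⁻¹ = s')
  have key : ∀ c : cT a σ, π c = s →
      ∑ d ∈ univ.filter (fun d : cT a σ => π d = s'),
        θ d * ((univ.filter fun g : G => g * (c : G) * g⁻¹ = d).card : ℂ) = (u : ℂ) * W.card * θ c := by
    intro c hc
    have e : ∀ d : cT a σ, θ d * ((univ.filter fun g : G => g * (c : G) * g⁻¹ = d).card : ℂ) =
        ∑ g : G, if g * (c : G) * g⁻¹ = d then θ d else 0 := fun d => by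
      rw [← Finset.sum_filter, Finset.sum_const, nsmul_eq_mul, mul_comm]
    simp only [e]
    rw [Finset.sum_comm, ← Finset.sum_filter_of_ne (s := (univ : Finset G)) (p := (· ∈ cT a σ))
      fun g _ hg => ?_, Finset.sum_subtype (univ.filter fun g : G => g ∈ cT a σ) (p := (· ∈ cT a σ))
      (fun g => by simp)]
    · rw [Finset.sum_congr rfl (g := fun g : cT a σ => if π g ∈ W then θ c else 0) fun g _ => ?_,
        ← Finset.sum_filter, Finset.sum_const, nsmul_eq_mul]
      · congr 1
        rw [← Finset.sum_card_fiberwise_eq_card_filter, Finset.sum_congr rfl fun w _ => hπ.card_fiber w,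
          Finset.sum_const, smul_eq_mul]
        push_cast; ring
      · have hval : θ (g * c * g⁻¹) = θ c := by
          rw [map_mul, map_mul, mul_right_comm, ← map_mul, mul_inv_cancel, map_one, one_mul]
        have hmap : π (g * c * g⁻¹) = π g * s * (π g)⁻¹ := by simp [hc]
        by_cases hW : π g ∈ W
        · rw [if_pos hW, Finset.sum_eq_single (g * c * g⁻¹)]
          · rw [if_pos (by simp), hval]
          · intro d _ hne
            exact if_neg fun e => hne (Subtype.ext (by simpa using e.symm))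
          · intro hh
            exact absurd (mem_filter.2 ⟨mem_univ (g * c * g⁻¹), hmap.trans (mem_filter.1 hW).2⟩) hh
        · rw [if_neg hW]
          refine Finset.sum_eq_zero fun d hd => if_neg fun e => hW (mem_filter.2 ⟨mem_univ _, ?_⟩)
          rw [← hmap, ← (mem_filter.1 hd).2]
          exact congrArg π (Subtype.ext (by simpa using e))
    · obtain ⟨d, hd, hne⟩ := Finset.exists_ne_zero_of_sum_ne_zero hg
      have e : g * (c : G) * g⁻¹ = d := by by_contra e; exact hne (if_neg e)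
      exact hπ.mem_centralizer_of_conj h (c := c) (d := d) (by rw [hc]; exact hs) (by rw [hc]; exact hs1)
        (by rw [(mem_filter.1 hd).2]; exact hs') (by rw [(mem_filter.1 hd).2]; exact hs1') e
  refine mul_left_cancel₀ (mul_ne_zero hu0 hu0) ?_
  rw [Finset.mul_sum]
  have e : ∀ χ : IrrCharacter G, (u : ℂ) * u * (rotVal π θ (χ : G → ℂ) s * conj (rotVal π θ (χ : G → ℂ) s')) =
      ∑ c ∈ univ.filter (fun c : cT a σ => π c = s), ∑ d ∈ univ.filter (fun d : cT a σ => π d = s'),
        conj (θ c) * θ d * ((χ : G → ℂ) c * conj ((χ : G → ℂ) d)) := by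
    intro χ
    have hu' : (u : ℂ) * (u : ℂ)⁻¹ = 1 := mul_inv_cancel₀ hu0
    simp only [rotVal, ← hu, map_mul, map_inv₀, Complex.conj_natCast, map_sum, Complex.conj_conj]
    calc _ = ((u : ℂ) * (u : ℂ)⁻¹) * ((u : ℂ) * (u : ℂ)⁻¹) *
          ((∑ c ∈ univ.filter (fun c : cT a σ => π c = s), (χ : G → ℂ) c * conj (θ c)) *
            ∑ d ∈ univ.filter (fun d : cT a σ => π d = s'), conj ((χ : G → ℂ) d) * θ d) := by ring
      _ = _ := by
        rw [hu', one_mul, one_mul, Finset.sum_mul_sum]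
        exact Finset.sum_congr rfl fun c _ => Finset.sum_congr rfl fun d _ => by ring
  simp only [e]
  rw [Finset.sum_comm, Finset.sum_congr rfl (g := fun _ => (u : ℂ) * W.card) fun c hc => ?_,
    Finset.sum_const, hπ.card_fiber, nsmul_eq_mul, ← hu]
  · ring
  rw [Finset.sum_comm, Finset.sum_congr rfl (g := fun d : cT a σ => conj (θ c) *
    (θ d * ((univ.filter fun g : G => g * (c : G) * g⁻¹ = d).card : ℂ))) fun d _ => by
      rw [← Finset.mul_sum, column_eq_card]; ring, ← Finset.mul_sum, key c (mem_filter.1 hc).2]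
  rw [show conj (θ c) * ((u : ℂ) * W.card * θ c) = (u : ℂ) * W.card * (θ c * conj (θ c)) by ring,
    ← Char.IsCharacter.apply_inv (Char.isCharacter_of_hom θ), ← map_mul, mul_inv_cancel, map_one, mul_one]

/-- Orthogonality to the degrees. -/
theorem rotVal_degree {s : (P : Subgroup G)} (hs1 : s ≠ 1) :
    ∑ χ : IrrCharacter G, rotVal π θ (χ : G → ℂ) s * (χ : G → ℂ) 1 = 0 := by
  classical
  simp only [rotVal, Finset.mul_sum, Finset.sum_mul]
  rw [Finset.sum_comm]
  refine Finset.sum_eq_zero fun c hc => ?_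
  rw [Finset.sum_congr rfl (g := fun χ : IrrCharacter G => (Nat.card π.ker : ℂ)⁻¹ * conj (θ c) *
    ((χ : G → ℂ) c * conj ((χ : G → ℂ) 1))) fun χ _ => by
      rw [Char.IsCharacter.conj_apply_one (Char.IsIrrCharacter.isCharacter χ.2)]; ring, ← Finset.mul_sum,
    Char.column_orth, if_neg, mul_zero]
  intro he
  have : c = 1 := Subtype.ext (isConj_one_left.1 he)
  exact hs1 (by rw [← (mem_filter.1 hc).2, this, map_one])

omit [Fintype G] [Fintype (IrrCharacter G)] in
theorem conj_rotVal {χ : G → ℂ} (hχ : IsCharacter G χ) (s : (P : Subgroup G)) :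
    conj (rotVal π θ χ s) = rotVal π θ χ s⁻¹ := by
  simp only [rotVal, map_mul, map_inv₀, Complex.conj_natCast, map_sum, Complex.conj_conj]
  congr 1
  refine Finset.sum_equiv (Equiv.inv _) (fun c => by simp [inv_eq_iff_eq_inv]) fun c _ => ?_
  simp only [Equiv.inv_apply, Subgroup.coe_inv, Char.IsCharacter.apply_inv hχ,
    Char.IsCharacter.apply_inv (Char.isCharacter_of_hom θ), Complex.conj_conj]

omit [Fintype G] [Fintype (IrrCharacter G)] in
theorem rotVal_conj (hπ : Retr P (midRot a σ) π) {χ : G → ℂ} (hχ : IsClassFunction G χ)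
    (w s : (P : Subgroup G)) : rotVal π θ χ (w * s * w⁻¹) = rotVal π θ χ s := by
  obtain ⟨g, hg⟩ := hπ.surjective w
  simp only [rotVal]
  congr 1
  refine (Finset.sum_equiv (MulAut.conj g).toEquiv (fun c => ?_) fun c _ => ?_).symm
  · simp [hg]
  · show χ c * conj (θ c) = χ ((g * c * g⁻¹ : cT a σ) : G) * conj (θ (g * c * g⁻¹))
    rw [show θ (g * c * g⁻¹) = θ c by
      rw [map_mul, map_mul, mul_right_comm, ← map_mul, mul_inv_cancel, map_one, one_mul]]
    simp only [Subgroup.coe_mul, Subgroup.coe_inv, hχ (c : G) (g : G)]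

end

variable [Fintype (cT a σ)]

/-- The coefficients in the roots of unity are integers. -/
theorem exists_int_rotVal (hπ : Retr P (midRot a σ) π) (h : DihHyp P a σ τ) {ζ : ℂ}
    (hζ : IsPrimitiveRoot ζ (2 ^ (a + 2))) {χ : G → ℂ} (hχ : IsCharacter G χ) (j : ℕ) :
    ∃ k : ℤ, (k : ℂ) * (2 ^ (a + 2) : ℕ) =
      ∑ x ∈ range (2 ^ (a + 2)), rotVal π θ χ (rot h x) * ζ ^ (j * x) := by
  classical
  set m := 2 ^ (a + 2) with hm
  have hm0 : m ≠ 0 := by positivity
  set ρ : (P : Subgroup G) := rot h 1 with hρ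
  have hρo : orderOf ρ = m := by
    rw [hρ, ← Subgroup.orderOf_coe, coe_rot, pow_one, h.order_rot, hm]
  have hpow : ∀ x, rot h x = ρ ^ x := fun x => by rw [hρ, rot, rot, pow_one]
  let Z := Subgroup.zpowers ρ
  let H : Subgroup (cT a σ) := Z.comap π
  -- the linear character of `H`
  let g : Z := ⟨ρ, Subgroup.mem_zpowers ρ⟩
  have hg : ∀ x : Z, x ∈ Subgroup.zpowers g := fun x => by
    obtain ⟨k, hk⟩ := Subgroup.mem_zpowers_iff.mp x.2
    exact Subgroup.mem_zpowers_iff.mpr ⟨k, Subtype.ext hk⟩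
  let z : ℂˣ := Units.mk0 ζ (hζ.ne_zero hm0)
  have hz : orderOf ((z ^ j)⁻¹) ∣ orderOf g := by
    rw [orderOf_inv, ← Subgroup.orderOf_coe]
    show orderOf (z ^ j) ∣ orderOf ρ
    refine (orderOf_pow_dvd j).trans ?_
    rw [hρo]
    exact orderOf_dvd_of_pow_eq_one (Units.ext (by simpa [z] using hζ.pow_eq_one))
  let μ : Z →* ℂˣ := monoidHomOfForallMemZpowers hg hz
  have hμ : ∀ x : ℕ, μ (g ^ x) = (z ^ j)⁻¹ ^ x := fun x => by
    rw [map_pow, monoidHomOfForallMemZpowers_apply_gen]
  let πH : H →* Z := (π.comp H.subtype).codRestrict Z fun y => y.2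
  let lam : H →* ℂ := (θ.comp H.subtype) * (((Units.coeHom ℂ).comp μ).comp πH)
  have := Fintype.ofFinite H
  obtain ⟨N, hN⟩ := Char.IsCharacter.classInner_nat
    (Char.IsCharacter.comp_hom hχ ((cT a σ).subtype.comp H.subtype)) (Char.isCharacter_of_hom lam)
  refine ⟨N, ?_⟩
  have hcz : conj ζ = ζ⁻¹ := (Complex.inv_eq_conj (hζ.norm'_eq_one hm0)).symm
  have hsum : ∑ y : H, χ ((y : cT a σ) : G) * conj (lam y) =
      (Nat.card π.ker : ℂ) * ∑ x ∈ range m, rotVal π θ χ (rot h x) * ζ ^ (j * x) := by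
    rw [Finset.mul_sum, ← Finset.sum_fiberwise_of_maps_to (g := fun y : H => π (y : cT a σ))
      (t := (range m).image fun x => rot h x) (fun y _ => ?_), Finset.sum_image fun x hx x' hx' e => ?_]
    · refine Finset.sum_congr rfl fun x hx => ?_
      rw [rotVal, ← mul_assoc, ← mul_assoc, mul_inv_cancel₀ (Nat.cast_ne_zero.2 Nat.card_pos.ne'),
        one_mul, Finset.sum_mul]
      refine Finset.sum_bij (fun y _ => (y : cT a σ)) (fun y hy => ?_) (fun y _ y' _ e => Subtype.ext e)
        (fun c hc => ?_) fun y hy => ?_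
      · simpa using (mem_filter.1 hy).2
      · have hc' := (mem_filter.1 hc).2
        refine ⟨⟨c, show π c ∈ Z from hc'.symm ▸ (hpow x).symm ▸ pow_mem (Subgroup.mem_zpowers ρ) x⟩,
          mem_filter.2 ⟨mem_univ _, hc'⟩, rfl⟩
      · have hy' : πH y = g ^ x := Subtype.ext (((mem_filter.1 hy).2).trans (hpow x))
        show χ ((y : cT a σ) : G) * conj (lam y) = χ ((y : cT a σ) : G) * conj (θ (y : cT a σ)) * ζ ^ (j * x)
        have hl : lam y = θ (y : cT a σ) * (((z ^ j)⁻¹ ^ x : ℂˣ) : ℂ) := by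
          show θ (y : cT a σ) * ((μ (πH y) : ℂˣ) : ℂ) = _
          rw [hy', hμ]
        rw [hl, map_mul, Units.val_pow_eq_pow_val, Units.val_inv_eq_inv_val, Units.val_pow_eq_pow_val,
          Units.val_mk0, map_pow, map_inv₀, map_pow, hcz]
        simp only [inv_pow, inv_inv, ← pow_mul]
        ring
    · rw [hpow, hpow] at e
      exact pow_injOn_Iio_orderOf (Set.mem_Iio.2 (hρo ▸ mem_range.1 hx)) (Set.mem_Iio.2 (hρo ▸ mem_range.1 hx')) e
    · obtain ⟨k, hk⟩ := (Submonoid.mem_powers_iff _ _).mp ((mem_powers_iff_mem_zpowers (x := ρ)).mpr y.2)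
      refine mem_image.2 ⟨k % m, mem_range.2 (Nat.mod_lt _ (Nat.pos_of_ne_zero hm0)), ?_⟩
      rw [hpow, ← hρo, pow_mod_orderOf, hk]
  have hH : (Nat.card H : ℂ) = (Nat.card π.ker : ℂ) * m := by
    have h1 := Subgroup.card_eq_card_quotient_mul_card_subgroup πH.ker
    have hs : Function.Surjective πH := fun x => by
      obtain ⟨c, hc⟩ := hπ.surjective x
      exact ⟨⟨c, show π c ∈ Z from hc ▸ x.2⟩, Subtype.ext hc⟩
    rw [Nat.card_congr (QuotientGroup.quotientKerEquivOfSurjective πH hs).toEquiv, Nat.card_zpowers, hρo,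
      show Nat.card πH.ker = Nat.card π.ker from Nat.card_congr
        { toFun := fun y => ⟨((y : H) : cT a σ), congrArg Subtype.val (y.2 : πH y = 1)⟩
          invFun := fun c => ⟨⟨c, show π c ∈ Z by rw [show π (c : cT a σ) = 1 from c.2]; exact one_mem Z⟩,
            Subtype.ext (c.2 : π (c : cT a σ) = 1)⟩
          left_inv := fun _ => rfl
          right_inv := fun _ => rfl }] at h1
    rw [h1]; push_cast; ring
  have e : classInner (fun y : H => χ ((y : cT a σ) : G)) lam = (N : ℂ) := hN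
  have e' := Char.card_mul_classInner (fun y : H => χ ((y : cT a σ) : G)) lam
  rw [e, hH, hsum, mul_assoc] at e'
  rw [← mul_left_cancel₀ (Nat.cast_ne_zero.2 Nat.card_pos.ne') e']
  push_cast
  ring

section Coeff

variable [Fintype (IrrCharacter G)]

/-- The coefficient vectors at the rotations and their scalar products. -/
theorem exists_theta_coeff (hπ : Retr P (midRot a σ) π) (h : DihHyp P a σ τ) {ζ : ℂ}
    (hζ : IsPrimitiveRoot ζ (2 ^ (a + 2))) :
    ∃ Φ : IrrCharacter G → ℕ → ℤ,
      (∀ (χ : IrrCharacter G) (j : ℕ), (Φ χ j : ℂ) * (2 ^ (a + 2) : ℕ) =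
        ∑ x ∈ range (2 ^ (a + 2)), rotVal π θ (χ : G → ℂ) (rot h x) * (ζ ^ (j * x) - ζ ^ x)) ∧
      (∀ χ : IrrCharacter G, rotVal π θ (χ : G → ℂ) (rot h (2 ^ (a + 1))) =
        ((Φ χ 0 + Φ χ (2 ^ (a + 1)) + 2 * ∑ j ∈ Ico 2 (2 ^ (a + 1)), (-1 : ℤ) ^ j * Φ χ j : ℤ) : ℂ)) ∧
      (∀ j k, j ≤ 2 ^ (a + 1) → j ≠ 1 → k ≤ 2 ^ (a + 1) → k ≠ 1 →
        ∑ χ : IrrCharacter G, Φ χ j * Φ χ k
          = 1 + if j = k then (if j = 0 ∨ j = 2 ^ (a + 1) then 2 else 1) else 0) ∧
      ∀ j, ∑ χ : IrrCharacter G, (Φ χ j : ℂ) * (χ : G → ℂ) 1 = 0 := by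
  classical
  have := Fintype.ofFinite G
  have := Fintype.ofFinite (P : Subgroup G)
  set m := 2 ^ (a + 2) with hm
  set hh := 2 ^ (a + 1) with hhh
  have hm2 : m = 2 * hh := by rw [hm, hhh]; ring
  have h2 : 2 ≤ hh := le_self_pow₀ one_le_two (by omega)
  have hm0 : m ≠ 0 := by omega
  have hmC : (m : ℂ) ≠ 0 := Nat.cast_ne_zero.mpr hm0
  have hcζ : conj ζ = ζ⁻¹ := (Complex.inv_eq_conj (hζ.norm'_eq_one hm0)).symm
  choose N hN using fun χ : IrrCharacter G =>
    exists_int_rotVal (θ := θ) hπ h hζ (Char.IsIrrCharacter.isCharacter χ.2)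
  let f : ℕ → ℕ → ℂ := fun j x => ζ ^ (j * x) - ζ ^ x
  set A : IrrCharacter G → ℕ → ℂ := fun χ x => rotVal π θ (χ : G → ℂ) (rot h x) with hA
  have hf : ∀ χ j, ((N χ j - N χ 1 : ℤ) : ℂ) * m = ∑ x ∈ range m, A χ x * f j x := fun χ j => by
    rw [Int.cast_sub, sub_mul, hN, hN, ← sum_sub_distrib]
    exact sum_congr rfl fun x _ => by simp only [f, hA, one_mul, mul_sub]
  have hf0 : ∀ j, f j 0 = 0 := fun j => by simp [f]
  -- the values are real
  obtain ⟨w, hw, hwR⟩ := h.data.exists_refl
  have hsymm : ∀ χ : IrrCharacter G, ∀ x, rotVal π θ (χ : G → ℂ) (rot h x)⁻¹ = A χ x := fun χ x => by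
    rw [← (conj_rot_eq h (x := x) (w := ⟨w, hw⟩)).2 hwR,
      rotVal_conj hπ (Char.IsIrrCharacter.isClassFunction χ.2)]
  have hreal : ∀ χ x, conj (A χ x) = A χ x := fun χ x => by
    simp only [hA]
    rw [conj_rotVal (Char.IsIrrCharacter.isCharacter χ.2), hsymm]
  have hinv : ∀ x, x ≤ m → rot h (m - x) = (rot h x)⁻¹ := fun x hx => by
    refine Subtype.ext ?_
    rw [Subgroup.coe_inv, coe_rot, coe_rot]
    exact h.data.pow_sub_eq_inv hx
  have hAs : ∀ χ x, x ≤ m → A χ (m - x) = A χ x := fun χ x hx => by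
    simp only [hA]; rw [hinv x hx, hsymm]
  have hNs : ∀ χ j, j ≤ m → N χ (m - j) = N χ j := fun χ j hj => by
    refine Int.cast_injective (α := ℂ) (mul_right_cancel₀ hmC ?_)
    have h1 := congrArg conj (hN χ j)
    simp only [map_sum, map_mul, map_intCast, map_natCast, map_pow, hcζ] at h1
    rw [hN χ (m - j), h1]
    refine sum_congr rfl fun x _ => ?_
    rw [show conj (rotVal π θ (χ : G → ℂ) (rot h x)) = rotVal π θ (χ : G → ℂ) (rot h x) from hreal χ x]
    congr 1
    rw [inv_pow]
    refine eq_inv_of_mul_eq_one_left ?_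
    rw [← pow_add, ← add_mul, Nat.sub_add_cancel hj, pow_mul, hζ.pow_eq_one, one_pow]
  have hconj : ∀ χ j, ((N χ j - N χ 1 : ℤ) : ℂ) * m = ∑ x ∈ range m, A χ x * conj (f j x) := fun χ j => by
    have := congrArg conj (hf χ j)
    simpa [map_sum, map_mul, hreal] using this
  refine ⟨fun χ j => N χ j - N χ 1, fun χ j => hf χ j, fun χ => ?_, fun j k hj hj1 hk hk1 => ?_, fun j => ?_⟩
  · -- the inversion at the middle
    have hζh : ζ ^ hh = -1 := by
      have h1 : ζ ^ hh * ζ ^ hh = 1 := by rw [← pow_add, ← two_mul, ← hm2, hζ.pow_eq_one]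
      exact (mul_self_eq_one_iff.mp h1).resolve_left (hζ.pow_ne_one_of_pos_of_lt (by omega) (by omega))
    have hall : ∑ j ∈ range m, ((N χ j - N χ 1 : ℤ) : ℂ) * (-1) ^ j = A χ hh := by
      refine mul_left_cancel₀ hmC ?_
      rw [mul_sum, sum_congr rfl fun j _ => show (m : ℂ) * (((N χ j - N χ 1 : ℤ) : ℂ) * (-1) ^ j)
        = ∑ x ∈ range m, A χ x * ((ζ ^ (x + hh)) ^ j - ζ ^ x * (ζ ^ hh) ^ j) by
          rw [← mul_assoc, mul_comm (m : ℂ), hf, sum_mul]
          refine sum_congr rfl fun x _ => ?_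
          simp only [f, ← hζh, ← pow_mul]
          rw [show (x + hh) * j = j * x + hh * j by ring, pow_add]
          ring]
      rw [sum_comm]
      simp only [← mul_sum, sum_sub_distrib]
      have hg : ∀ e, ∑ j ∈ range m, (ζ ^ e) ^ j = if m ∣ e then (m : ℂ) else 0 := fun e => by
        rw [CycloTrace.geom_sum_of_pow_eq_one (by rw [← pow_mul, mul_comm, pow_mul, hζ.pow_eq_one, one_pow])]
        simp only [hζ.pow_eq_one_iff_dvd]
      simp only [hg]
      have hl' : ¬ m ∣ hh := fun x => absurd (Nat.le_of_dvd (by omega) x) (by omega)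
      rw [sum_eq_single hh]
      · rw [if_pos (by rw [← two_mul, ← hm2]), if_neg hl', mul_zero, sub_zero, mul_comm]
      · intro x hx hne
        rw [if_neg, if_neg hl', mul_zero, sub_zero, mul_zero]
        rintro ⟨c, hc⟩
        have := mem_range.mp hx
        rcases c with _ | _ | c
        · omega
        · omega
        · nlinarith
      · exact fun x => absurd (mem_range.mpr (by omega)) x
    show A χ hh = _
    rw [← hall, hm2, DihedralDefect.sum_range_symm h2
      (fun j => ((N χ j - N χ 1 : ℤ) : ℂ) * (-1) ^ j) (fun j hj => ?_) (by simp)]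
    · have hev : (-1 : ℂ) ^ hh = 1 := Even.neg_one_pow ⟨2 ^ a, by rw [hhh]; ring⟩
      simp only [pow_zero, mul_one, hev]
      push_cast
      congr 2
      exact sum_congr rfl fun j _ => by ring
    · simp only [← hm2] at hj ⊢
      rw [hNs χ j hj]
      congr 1
      rcases Nat.even_or_odd j with e | e
      · rw [e.neg_one_pow, Even.neg_one_pow (by obtain ⟨k, hk⟩ := e; exact ⟨hh - k, by omega⟩)]
      · rw [e.neg_one_pow, Odd.neg_one_pow (by obtain ⟨k, hk⟩ := e; exact ⟨hh - k - 1, by omega⟩)]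
  · refine Int.cast_injective (α := ℂ) (mul_left_cancel₀ (pow_ne_zero 2 hmC) ?_)
    push_cast
    rw [mul_sum, sum_congr rfl fun χ _ => show (m : ℂ) ^ 2 * (((N χ j : ℂ) - (N χ 1 : ℂ)) * ((N χ k : ℂ) - (N χ 1 : ℂ)))
      = ∑ x ∈ range m, ∑ y ∈ range m, (f j x * conj (f k y)) * (A χ x * conj (A χ y)) by
        rw [show (m : ℂ) ^ 2 * (((N χ j : ℂ) - (N χ 1 : ℂ)) * ((N χ k : ℂ) - (N χ 1 : ℂ)))
          = (((N χ j - N χ 1 : ℤ) : ℂ) * m) * (((N χ k - N χ 1 : ℤ) : ℂ) * m) by push_cast; ring, hf, hconj,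
          sum_mul_sum]
        refine sum_congr rfl fun x _ => sum_congr rfl fun y _ => ?_
        rw [hreal χ y]
        ring]
    rw [sum_comm, sum_congr rfl fun x _ => sum_comm]
    simp only [← mul_sum]
    rw [sum_congr rfl fun x hx => show _ = (m : ℂ) * (f j x * (f k x + conj (f k x))) from ?_,
      ← mul_sum, SecondMain.sum_diff_mul_diff hm2 h2 hζ hj hj1 hk hk1]
    · push_cast
      split_ifs <;> push_cast <;> ring
    by_cases hx0 : x = 0
    · subst hx0
      simp [hf0]
    have hxm := mem_range.mp hx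
    rw [sum_congr rfl fun y hy => show _ = (m : ℂ) * (f j x * ((if x = y then conj (f k y) else 0)
        + if y = m - x then conj (f k y) else 0)) from ?_]
    · rw [← mul_sum, ← mul_sum, sum_add_distrib, sum_ite_eq, sum_ite_eq', if_pos hx,
        if_pos (mem_range.mpr (by omega))]
      have e : conj (f k (m - x)) = f k x := by
        have hh1 : ∀ e, conj (ζ ^ (e * (m - x))) = ζ ^ (e * x) := fun e => by
          rw [map_pow, hcζ, inv_pow]
          refine (eq_inv_of_mul_eq_one_left ?_).symm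
          rw [← pow_add, ← mul_add, Nat.add_sub_cancel' hxm.le, mul_comm, pow_mul, hζ.pow_eq_one, one_pow]
        have := hh1 1
        rw [one_mul, one_mul] at this
        simp only [f, map_sub, hh1, this]
      rw [e]
      ring
    by_cases hy0 : y = 0
    · subst hy0
      simp [hf0]
    have hym := mem_range.mp hy
    have hs1 := rot_ne_one h (Nat.pos_of_ne_zero hx0) hxm
    have hs1' := rot_ne_one h (Nat.pos_of_ne_zero hy0) hym
    simp only [hA]
    rw [rotVal_col hπ h (rot_mem h x) hs1 (rot_mem h y) hs1']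
    have hrot_inj : ∀ i i', i < m → i' < m → rot h i = rot h i' → i = i' := fun i i' hi hi' e =>
      h.data.pow_inj hi hi' (congrArg Subtype.val e)
    have hcount : ((univ.filter fun w : (P : Subgroup G) => w * rot h x * w⁻¹ = rot h y).card : ℂ) =
        (m : ℂ) * ((if x = y then 1 else 0) + if y = m - x then 1 else 0) := by
      have hR : (univ.filter fun w : (P : Subgroup G) => (w : G) ∈ Subgroup.zpowers σ).card = m := by
        rw [← Fintype.card_subtype, ← Nat.card_eq_fintype_card, hm, ← h.order_rot, ← Nat.card_zpowers]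
        exact Nat.card_congr
          { toFun := fun w => ⟨w.1, w.2⟩
            invFun := fun c => ⟨⟨c, h.data.zpowers_le c.2⟩, c.2⟩
            left_inv := fun _ => rfl
            right_inv := fun _ => rfl }
      have hR' : (univ.filter fun w : (P : Subgroup G) => (w : G) ∉ Subgroup.zpowers σ).card = m := by
        have h1 := Finset.card_filter_add_card_filter_not (s := (univ : Finset (P : Subgroup G)))
          (fun w => (w : G) ∈ Subgroup.zpowers σ)
        rw [hR, card_univ, ← Nat.card_eq_fintype_card, h.data.card_P, ← hm] at h1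
        omega
      by_cases e1 : x = y
      · subst e1
        by_cases e2 : x = m - x
        · rw [if_pos rfl, if_pos e2, filter_true_of_mem fun w _ => ?_, card_univ, ← Nat.card_eq_fintype_card,
            h.data.card_P, ← hm]
          · push_cast; ring
          by_cases hw' : (w : G) ∈ Subgroup.zpowers σ
          · exact (conj_rot_eq h).1 hw'
          · rw [(conj_rot_eq h).2 hw', ← hinv x hxm.le, ← e2]
        · rw [if_pos rfl, if_neg e2, add_zero, mul_one, ← hR]
          congr 2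
          refine filter_congr fun w _ => ⟨fun e => ?_, fun hw' => (conj_rot_eq h).1 hw'⟩
          by_contra hw'
          rw [(conj_rot_eq h).2 hw', ← hinv x hxm.le] at e
          exact e2 (hrot_inj _ _ hxm (by omega) e.symm)
      · by_cases e2 : y = m - x
        · rw [if_neg e1, if_pos e2, zero_add, mul_one, ← hR']
          congr 2
          refine filter_congr fun w _ => ⟨fun e hw' => ?_, fun hw' => ?_⟩
          · rw [(conj_rot_eq h).1 hw'] at e
            exact e1 (hrot_inj _ _ hxm hym e)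
          · rw [(conj_rot_eq h).2 hw', ← hinv x hxm.le, e2]
        · rw [if_neg e1, if_neg e2, filter_false_of_mem fun w _ e => ?_]
          · simp
          by_cases hw' : (w : G) ∈ Subgroup.zpowers σ
          · rw [(conj_rot_eq h).1 hw'] at e
            exact e1 (hrot_inj _ _ hxm hym e)
          · rw [(conj_rot_eq h).2 hw', ← hinv x hxm.le] at e
            exact e2 (hrot_inj _ _ (by omega) hym e).symm
    rw [hcount]
    split_ifs <;> ring
  · refine mul_left_cancel₀ hmC ?_
    rw [mul_zero, mul_sum, sum_congr rfl fun χ _ => show (m : ℂ) * (((N χ j - N χ 1 : ℤ) : ℂ) * (χ : G → ℂ) 1)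
        = ∑ x ∈ range m, f j x * (A χ x * (χ : G → ℂ) 1) by
          rw [← mul_assoc, mul_comm (m : ℂ), hf, sum_mul]
          exact sum_congr rfl fun x _ => by ring, sum_comm]
    refine sum_eq_zero fun x hx => ?_
    rw [← mul_sum]
    by_cases hx0 : x = 0
    · rw [hx0, hf0, zero_mul]
    simp only [hA]
    rw [rotVal_degree (rot_ne_one h (Nat.pos_of_ne_zero hx0) (mem_range.mp hx)), mul_zero]

end Coeff

end Cfsg.Agent.GWDihedral
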