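import Cfsg.Agent.Lib.GWDihedral.ThetaCoeff
import Cfsg.Agent.Lib.ClassCount.CharSum

/-!
# Gorenstein-Walter, dihedral Sylow subgroups of order at least eight: counting at the rotations

* `invCount` : the involutions of `C(t)` over a reflection
* `theta_involution`, `isConj_mid_of_refl` : such an involution is killed by `θ` and fused to `t`
* `fibre_sum` : the weighted pairs of conjugates of `t` over a rotation
* `quad_zero`, `quad_middle` : the two equations for the coefficient vectors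
-/

set_option autoImplicit false
set_option linter.style.haveILetI false

open scoped ComplexConjugate

namespace Cfsg.Agent.GWDihedral

open Cfsg Finset
open scoped Classical
open Cfsg.Agent.SecondMain (midRot)

variable {G : Type*} [Group G] [Finite G] {P : Sylow 2 G} {a : ℕ} {σ τ : G}
  {π : cT a σ →* (P : Subgroup G)} {θ : cT a σ →* ℂ}

/-- The reflection, in `P`. -/
def refl (h : DihHyp P a σ τ) : (P : Subgroup G) := ⟨τ, h.mem_refl⟩

theorem isConj_refl_cases (h : DihHyp P a σ τ) (k : ℕ) :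
    (Even k → IsConj (refl h) (refl h * rot h k)) ∧
      (Odd k → IsConj (refl h * rot h 1) (refl h * rot h k)) := by
  have key : ∀ (i b : ℕ), refl h * rot h (b + 2 * i) = (rot h i)⁻¹ * (refl h * rot h b) * rot h i := by
    intro i b
    refine Subtype.ext ?_
    show τ * σ ^ (b + 2 * i) = (σ ^ i)⁻¹ * (τ * σ ^ b) * σ ^ i
    rw [← zpow_natCast σ i, ← zpow_natCast σ b, ← zpow_natCast σ (b + 2 * i), ← zpow_neg, ← mul_assoc,
      h.flip, mul_assoc τ, ← zpow_add, mul_assoc, ← zpow_add]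
    congr 2
    push_cast
    ring
  refine ⟨fun hk => ?_, fun hk => ?_⟩ <;> obtain ⟨i, rfl⟩ := hk
  · refine isConj_iff.mpr ⟨(rot h i)⁻¹, ?_⟩
    rw [show i + i = 0 + 2 * i by ring, key i 0, inv_inv,
      show rot h 0 = 1 from pow_zero _, mul_one]
  · refine isConj_iff.mpr ⟨(rot h i)⁻¹, ?_⟩
    rw [show 2 * i + 1 = 1 + 2 * i by ring, key i 1, inv_inv]

theorem exists_refl_index (h : DihHyp P a σ τ) {w : (P : Subgroup G)}
    (hw : (w : G) ∉ Subgroup.zpowers σ) : ∃ k < 2 ^ (a + 2), w = refl h * rot h k := by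
  obtain ⟨k, e | e⟩ := h.cases_mem w.2
  · exact absurd (e ▸ zpow_mem (Subgroup.mem_zpowers σ) k) hw
  refine ⟨(k % (2 ^ (a + 2) : ℕ)).toNat, ?_, Subtype.ext ?_⟩
  · have h1 := Int.emod_lt_of_pos k (show (0 : ℤ) < (2 ^ (a + 2) : ℕ) by positivity)
    have h2 := Int.emod_nonneg k (show ((2 ^ (a + 2) : ℕ) : ℤ) ≠ 0 by positivity)
    omega
  · show (w : G) = τ * σ ^ _
    rw [e, ← zpow_natCast, Int.toNat_of_nonneg (Int.emod_nonneg k (by positivity)), ← h.order_rot,
      zpow_mod_orderOf]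

theorem refl_mul_rot_notMem (h : DihHyp P a σ τ) (k : ℕ) :
    ((refl h * rot h k : (P : Subgroup G)) : G) ∉ Subgroup.zpowers σ := fun e =>
  h.refl_notMem ((Subgroup.mul_mem_cancel_right _ (rot_mem h k)).mp e)

/-- A conjugate of a reflection is a reflection. -/
theorem conj_notMem (h : DihHyp P a σ τ) {w v : (P : Subgroup G)} (hw : (w : G) ∉ Subgroup.zpowers σ) :
    ((v * w * v⁻¹ : (P : Subgroup G)) : G) ∉ Subgroup.zpowers σ := by
  intro hR
  refine hw ?_
  have e : (w : G) = (v : G)⁻¹ * ((v * w * v⁻¹ : (P : Subgroup G)) : G) * v := by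
    simp only [Subgroup.coe_mul, Subgroup.coe_inv]; group
  rw [e]
  by_cases hv : (v : G) ∈ Subgroup.zpowers σ
  · exact mul_mem (mul_mem (inv_mem hv) hR) hv
  · have := h.data.conj_inv (inv_mem v.2) (fun e => hv (by simpa using inv_mem e)) hR
    rw [inv_inv] at this
    rw [this]; exact inv_mem hR

theorem refl_index_inj (h : DihHyp P a σ τ) {i j : ℕ} (hi : i < 2 ^ (a + 2)) (hj : j < 2 ^ (a + 2))
    (e : refl h * rot h i = refl h * rot h j) : i = j :=
  h.data.pow_inj hi hj (congrArg Subtype.val (mul_left_cancel e))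

theorem isConj_one_or_refl (h : DihHyp P a σ τ) {w : (P : Subgroup G)}
    (hw : (w : G) ∉ Subgroup.zpowers σ) :
    IsConj (refl h) w ∨ IsConj (refl h * rot h 1) w := by
  obtain ⟨k, -, rfl⟩ := exists_refl_index h hw
  rcases Nat.even_or_odd k with hk | hk
  · exact Or.inl ((isConj_refl_cases h k).1 hk)
  · exact Or.inr ((isConj_refl_cases h k).2 hk)

theorem fused_refl (h : DihHyp P a σ τ) :
    IsConj (midRot a σ) τ ∧ IsConj (midRot a σ) (((refl h * rot h 1 : (P : Subgroup G)) : G)) := by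
  refine ⟨h.fused.1, h.fused.2.trans (isConj_iff.mpr ⟨σ⁻¹, ?_⟩)⟩
  show σ⁻¹ * (σ * τ) * σ⁻¹⁻¹ = τ * σ ^ 1
  rw [inv_inv, inv_mul_cancel_left, pow_one]

theorem Retr.apply_coe (hπ : Retr P (midRot a σ) π) (w : (P : Subgroup G)) :
    π ⟨w, hπ.le w.2⟩ = w := hπ.apply_mem ⟨w, hπ.le w.2⟩ w.2

/-- An involution of `C(t)` and a conjugate of it in `P`. -/
theorem Retr.exists_conj_eq (hπ : Retr P (midRot a σ) π) {g : cT a σ} (hg : g * g = 1) :
    ∃ c : cT a σ, c * g * c⁻¹ = ⟨(π c * π g * (π c)⁻¹ : (P : Subgroup G)), hπ.le (SetLike.coe_mem _)⟩ := by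
  obtain ⟨k, -, hk⟩ := (Nat.dvd_prime_pow Nat.prime_two).mp
    (show orderOf g ∣ 2 ^ 1 by rw [pow_one]; exact orderOf_dvd_of_pow_eq_one (by rw [sq]; exact hg))
  obtain ⟨c, hc⟩ := hπ.exists_conj_mem_P (g := g) hk
  refine ⟨c, Subtype.ext ?_⟩
  have e := congrArg Subtype.val (hπ.apply_mem (c * g * c⁻¹) hc)
  rw [map_mul, map_mul, map_inv] at e
  exact e.symm

theorem theta_involution (hπ : Retr P (midRot a σ) π) (hθ : Stable π θ) {g : cT a σ} (hg : g * g = 1) :
    θ g = 1 := by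
  obtain ⟨c, hc⟩ := hπ.exists_conj_eq hg
  have e : θ (c * g * c⁻¹) = θ g := by
    rw [map_mul, map_mul, mul_right_comm, ← map_mul, mul_inv_cancel, map_one, one_mul]
  rw [← e, hc]
  exact hθ.trivial _ (π c * π g * (π c)⁻¹).2

theorem isConj_mid_of_refl (hπ : Retr P (midRot a σ) π) (h : DihHyp P a σ τ) {g : cT a σ}
    (hg : g * g = 1) (hR : (π g : G) ∉ Subgroup.zpowers σ) : IsConj (midRot a σ) (g : G) := by
  obtain ⟨c, hc⟩ := hπ.exists_conj_eq hg
  have hgc : IsConj (g : G) ((π c * π g * (π c)⁻¹ : (P : Subgroup G)) : G) :=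
    isConj_iff.mpr ⟨c, by simpa using congrArg Subtype.val hc⟩
  refine IsConj.trans ?_ hgc.symm
  rcases isConj_one_or_refl h (conj_notMem h (v := π c) hR) with e | e <;> obtain ⟨v, hv⟩ := isConj_iff.mp e
  · exact (fused_refl h).1.trans (isConj_iff.mpr ⟨v, by simpa [refl] using congrArg Subtype.val hv⟩)
  · exact (fused_refl h).2.trans (isConj_iff.mpr ⟨v, by simpa using congrArg Subtype.val hv⟩)

variable [Fintype (cT a σ)]

/-- The number of involutions of `C(t)` over the reflection `τ σ ^ k`. -/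
noncomputable def invCount (π : cT a σ →* (P : Subgroup G)) (h : DihHyp P a σ τ) (k : ℕ) : ℕ :=
  (univ.filter fun g : cT a σ => g * g = 1 ∧ π g = refl h * rot h k).card

theorem invCount_add_two (hπ : Retr P (midRot a σ) π) (h : DihHyp P a σ τ) (k : ℕ) :
    invCount π h (k + 2) = invCount π h k := by
  set c : cT a σ := ⟨(rot h 1 : (P : Subgroup G)), hπ.le (rot h 1).2⟩ with hc
  have e : ∀ g : cT a σ, π (c * g * c⁻¹) = rot h 1 * π g * (rot h 1)⁻¹ := fun g => by
    rw [map_mul, map_mul, map_inv, hc, hπ.apply_coe]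
  have e2 : rot h 1 * (refl h * rot h (k + 2)) * (rot h 1)⁻¹ = refl h * rot h k := by
    refine Subtype.ext ?_
    show σ ^ 1 * (τ * σ ^ (k + 2)) * (σ ^ 1)⁻¹ = τ * σ ^ k
    rw [pow_one, ← zpow_natCast σ k, ← zpow_natCast σ (k + 2)]
    nth_rewrite 1 [← zpow_one σ]
    nth_rewrite 3 [← zpow_one σ]
    rw [← mul_assoc, h.flip, mul_assoc τ, ← zpow_add, mul_assoc, ← zpow_neg, ← zpow_add]
    congr 2
    push_cast
    ring
  refine Finset.card_equiv (MulAut.conj c).toEquiv fun g => ?_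
  have hgg : c * g * c⁻¹ * (c * g * c⁻¹) = 1 ↔ g * g = 1 := by
    rw [show c * g * c⁻¹ * (c * g * c⁻¹) = c * (g * g) * c⁻¹ by group, conj_eq_one_iff]
  simp only [mem_filter, mem_univ, true_and]
  show _ ↔ c * g * c⁻¹ * (c * g * c⁻¹) = 1 ∧ π (c * g * c⁻¹) = _
  rw [hgg, e, ← e2]
  exact and_congr_right fun _ => ⟨fun hh => by rw [hh], fun hh => mul_left_cancel (mul_right_cancel hh)⟩

theorem invCount_parity (hπ : Retr P (midRot a σ) π) (h : DihHyp P a σ τ) (k : ℕ) :
    invCount π h k = invCount π h (k % 2) := by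
  induction k using Nat.strong_induction_on with
  | _ k ih =>
    rcases lt_or_ge k 2 with hk | hk
    · rw [Nat.mod_eq_of_lt hk]
    · obtain ⟨i, rfl⟩ : ∃ i, k = i + 2 := ⟨k - 2, by omega⟩
      rw [invCount_add_two hπ h, ih i (by omega), Nat.add_mod_right]

/-- The classes of the two reflections in `C(t)`. -/
theorem card_class_refl (hπ : Retr P (midRot a σ) π) (h : DihHyp P a σ τ) (b : ℕ) (hb : b < 2) :
    (Nat.card {x : cT a σ // IsConj (⟨(refl h * rot h b : (P : Subgroup G)), hπ.le (SetLike.coe_mem _)⟩ : cT a σ) x}) =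
      2 ^ (a + 1) * invCount π h b := by
  set w : cT a σ := ⟨(refl h * rot h b : (P : Subgroup G)), hπ.le (SetLike.coe_mem _)⟩
  have hπw : π w = refl h * rot h b := hπ.apply_coe _
  have hm : 2 ^ (a + 2) = 2 * 2 ^ (a + 1) := by ring
  have hww : w * w = 1 := Subtype.ext (h.data.sq_eq_one (refl h * rot h b).2 (refl_mul_rot_notMem h b))
  have hPconj : ∀ k, k < 2 ^ (a + 2) → (IsConj (refl h * rot h b) (refl h * rot h k) ↔ k % 2 = b) := by
    intro k hk
    constructor
    · intro hc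
      obtain ⟨v, hv⟩ := isConj_iff.mp hc
      have hv' := congrArg Subtype.val hv
      simp only [Subgroup.coe_mul, Subgroup.coe_inv, coe_rot] at hv'
      change (v : G) * (τ * σ ^ b) * (v : G)⁻¹ = τ * σ ^ k at hv'
      have hkey : ∃ e : ℤ, σ ^ ((k : ℤ) - b) = σ ^ (2 * e) ∨ σ ^ ((k : ℤ) + b) = σ ^ (2 * e) := by
        obtain ⟨i, hi | hi⟩ := h.cases_mem v.2
        · refine ⟨-i, Or.inl ?_⟩
          rw [hi, ← zpow_natCast σ b, ← zpow_natCast σ k, ← mul_assoc, h.flip, mul_assoc τ, ← zpow_add,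
            mul_assoc, ← zpow_neg, ← zpow_add] at hv'
          rw [zpow_sub, ← mul_left_cancel hv', ← zpow_neg, ← zpow_add]
          congr 1; ring
        · refine ⟨i, Or.inr ?_⟩
          rw [hi, ← zpow_natCast σ b, ← zpow_natCast σ k, mul_inv_rev, ← zpow_neg,
            inv_eq_of_mul_eq_one_right h.refl_mul_self] at hv'
          rw [show τ * σ ^ i * (τ * σ ^ (b : ℤ)) * (σ ^ (-i) * τ) = τ * (σ ^ i * τ) * σ ^ ((b : ℤ) - i) * τ by
            rw [sub_eq_add_neg, zpow_add]; group, h.flip, ← mul_assoc τ τ, h.refl_mul_self, one_mul,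
            ← zpow_add, h.flip] at hv'
          rw [zpow_add, ← mul_left_cancel hv', ← zpow_add]
          congr 1; ring
      obtain ⟨e, he⟩ := hkey
      have hdvd : (2 : ℤ) ∣ (2 ^ (a + 2) : ℕ) := ⟨(2 ^ (a + 1) : ℕ), by rw [hm]; push_cast; ring⟩
      rcases he with he | he <;> rw [zpow_eq_zpow_iff_modEq, h.order_rot, Int.modEq_iff_dvd] at he <;>
        have h3 := hdvd.trans he <;> omega
    · intro hkb
      rcases Nat.even_or_odd k with hev | hod
      · obtain rfl : b = 0 := by rw [← hkb, Nat.even_iff.mp hev]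
        rw [show rot h 0 = 1 from pow_zero _, mul_one]
        exact (isConj_refl_cases h k).1 hev
      · obtain rfl : b = 1 := by rw [← hkb, Nat.odd_iff.mp hod]
        exact (isConj_refl_cases h k).2 hod
  have hset : univ.filter (fun x : cT a σ => IsConj w x) =
      ((range (2 ^ (a + 2))).filter fun k => k % 2 = b).biUnion
        fun k => univ.filter fun g : cT a σ => g * g = 1 ∧ π g = refl h * rot h k := by
    ext x
    simp only [mem_filter, mem_univ, true_and, mem_biUnion, mem_range]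
    constructor
    · intro hx
      have hx' : IsConj (refl h * rot h b) (π x) := hπw ▸ MonoidHom.map_isConj π hx
      obtain ⟨c, rfl⟩ := isConj_iff.mp hx
      obtain ⟨v, hv⟩ := isConj_iff.mp hx'
      obtain ⟨k, hk, hk'⟩ := exists_refl_index h (w := π (c * w * c⁻¹))
        (by rw [← hv]; exact conj_notMem h (refl_mul_rot_notMem h b))
      refine ⟨k, ⟨hk, (hPconj k hk).mp (hk' ▸ hx')⟩, ?_, hk'⟩
      rw [show c * w * c⁻¹ * (c * w * c⁻¹) = c * (w * w) * c⁻¹ by group, hww, mul_one, mul_inv_cancel]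
    · rintro ⟨k, ⟨hk, hkb⟩, hxx, hx⟩
      obtain ⟨c, hc⟩ := hπ.exists_conj_eq hxx
      have h1 : IsConj (refl h * rot h b) (π c * π x * (π c)⁻¹) := by
        rw [hx]; exact ((hPconj k hk).mpr hkb).trans (isConj_iff.mpr ⟨_, rfl⟩)
      obtain ⟨v, hv⟩ := isConj_iff.mp h1
      refine IsConj.trans ?_ (isConj_iff.mpr ⟨c, hc⟩).symm
      exact isConj_iff.mpr ⟨⟨v, hπ.le v.2⟩, Subtype.ext (congrArg Subtype.val hv :)⟩
  rw [Nat.card_eq_fintype_card, Fintype.card_subtype, hset, card_biUnion fun i hi j hj hij => ?_]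
  · rw [sum_congr rfl (g := fun _ => invCount π h b) fun k hk => ?_, sum_const, smul_eq_mul]
    · congr 1
      have h1 : (range (2 ^ (a + 2))).filter (fun k => k % 2 = b) = (range (2 ^ (a + 1))).image fun i => 2 * i + b := by
        ext k
        simp only [mem_filter, mem_range, mem_image]
        constructor
        · rintro ⟨h3, h4⟩; exact ⟨k / 2, by omega, by omega⟩
        · rintro ⟨i, h3, rfl⟩; omega
      rw [h1, card_image_of_injective _ fun i j e => by simp at e; omega, card_range]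
    · show invCount π h k = _
      rw [invCount_parity hπ h, (mem_filter.mp hk).2]
  · refine disjoint_left.mpr fun g hgi hgj => hij ?_
    exact refl_index_inj h (mem_range.mp (mem_filter.mp hi).1) (mem_range.mp (mem_filter.mp hj).1)
      ((mem_filter.mp hgi).2.2.symm.trans (mem_filter.mp hgj).2.2)

variable [Fintype G]

/-- The weighted pairs over a rotation. -/
theorem fibre_sum (hπ : Retr P (midRot a σ) π) (h : DihHyp P a σ τ) (hθ : Stable π θ)
    {s : (P : Subgroup G)} (hs : (s : G) ∈ Subgroup.zpowers σ) (hs1 : s ≠ 1) :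
    ∑ c ∈ univ.filter (fun c : cT a σ => π c = s),
        conj (θ c) * (ClassCount.fibreCount (midRot a σ) (midRot a σ) ((c : G))⁻¹ : ℂ) =
      (((univ.filter fun g : cT a σ => g * g = 1 ∧ (π g : G) ∉ Subgroup.zpowers σ) ×ˢ
        (univ.filter fun g : cT a σ => g * g = 1 ∧ (π g : G) ∉ Subgroup.zpowers σ)).filter
          fun p => π p.1 * π p.2 = s⁻¹).card := by
  set I := univ.filter fun g : cT a σ => g * g = 1 ∧ (π g : G) ∉ Subgroup.zpowers σ with hI
  set T := ((univ : Finset (cT a σ × G)).filter fun q =>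
    π q.1 = s ∧ IsConj (midRot a σ) q.2 ∧ IsConj (midRot a σ) (q.2⁻¹ * (q.1 : G)⁻¹)) with hT
  have hI2 : ∀ x : G, IsConj (midRot a σ) x → x * x = 1 ∧ x⁻¹ = x ∧ x ≠ 1 := fun x hx => by
    obtain ⟨c, rfl⟩ := isConj_iff.mp hx
    have ho : orderOf (c * midRot a σ * c⁻¹) = 2 := by rw [SecondMain.orderOf_conj, h.data.orderOf_midRot]
    have h2 : (c * midRot a σ * c⁻¹) * (c * midRot a σ * c⁻¹) = 1 := by rw [← sq, ← ho, pow_orderOf_eq_one]
    exact ⟨h2, inv_eq_of_mul_eq_one_right h2, fun e => by rw [e, orderOf_one] at ho; omega⟩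
  have hmem : ∀ q ∈ T, ∃ p ∈ (I ×ˢ I).filter (fun p => π p.1 * π p.2 = s⁻¹),
      (p.1 : G) = q.2 ∧ q.1 = (p.1 * p.2)⁻¹ := by
    rintro ⟨c, g⟩ hq
    obtain ⟨hc, hg, hk⟩ := (mem_filter.mp hq).2
    dsimp only at hc hg hk ⊢
    obtain ⟨hgg, hgi, hg1⟩ := hI2 g hg
    obtain ⟨hkk, hki, hk1⟩ := hI2 _ hk
    have hinv : g * (c : G)⁻¹ * g⁻¹ = c := by
      rw [hgi] at hkk ⊢
      rw [mul_eq_one_iff_eq_inv] at hkk
      rw [mul_inv_rev, inv_inv, hgi] at hkk
      rw [mul_assoc, ← mul_assoc, hkk, mul_assoc, hgg, mul_one]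
    have hc' : π c⁻¹ = s⁻¹ := by rw [map_inv, hc]
    have hgC : g ∈ cT a σ := hπ.mem_centralizer_of_conj h (c := c⁻¹) (d := c)
      (by rw [hc', Subgroup.coe_inv]; exact inv_mem hs) (by rw [hc', ne_eq, inv_eq_one]; exact hs1)
      (by rw [hc]; exact hs) (by rw [hc]; exact hs1) (by rw [Subgroup.coe_inv]; exact hinv)
    obtain ⟨g', rfl⟩ : ∃ g' : cT a σ, (g' : G) = g := ⟨⟨g, hgC⟩, rfl⟩
    set k : cT a σ := g'⁻¹ * c⁻¹ with hk'
    have hgk : π g' * π k = s⁻¹ := by
      rw [← map_mul, hk', mul_inv_cancel_left, hc']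
    have hgg' : g' * g' = 1 := Subtype.ext hgg
    have hkk' : k * k = 1 := Subtype.ext hkk
    have hg1' : g' ≠ 1 := fun e => hg1 (by rw [e]; rfl)
    have hk1' : k ≠ 1 := fun e => hk1 (congrArg Subtype.val e)
    have hgR : (π g' : G) ∉ Subgroup.zpowers σ := by
      intro hR
      have hkR : (π k : G) ∈ Subgroup.zpowers σ := by
        rw [show π k = (π g')⁻¹ * s⁻¹ by rw [← hgk, inv_mul_cancel_left], Subgroup.coe_mul, Subgroup.coe_inv,
          Subgroup.coe_inv]
        exact mul_mem (inv_mem hR) (inv_mem hs)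
      have e1 := ((hπ.involution_trichotomy h hgg').resolve_left hg1').resolve_right (fun e => e hR)
      have e2 := ((hπ.involution_trichotomy h hkk').resolve_left hk1').resolve_right (fun e => e hkR)
      refine hs1 ?_
      rw [← inv_eq_one, ← hgk, show g' = k from Subtype.ext (e1.trans e2.symm), ← map_mul, hkk', map_one]
    have hkR : (π k : G) ∉ Subgroup.zpowers σ := by
      intro hR
      refine hgR ?_
      rw [show π g' = s⁻¹ * (π k)⁻¹ by rw [← hgk, mul_inv_cancel_right], Subgroup.coe_mul, Subgroup.coe_inv,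
        Subgroup.coe_inv]
      exact mul_mem (inv_mem hs) (inv_mem hR)
    refine ⟨(g', k), mem_filter.mpr ⟨mem_product.mpr ⟨?_, ?_⟩, hgk⟩, rfl, ?_⟩
    · exact mem_filter.mpr ⟨mem_univ _, hgg', hgR⟩
    · exact mem_filter.mpr ⟨mem_univ _, hkk', hkR⟩
    · show c = (g' * (g'⁻¹ * c⁻¹))⁻¹
      rw [mul_inv_cancel_left, inv_inv]
  have hsum : ∑ c ∈ univ.filter (fun c : cT a σ => π c = s),
      conj (θ c) * (ClassCount.fibreCount (midRot a σ) (midRot a σ) ((c : G))⁻¹ : ℂ) = ∑ q ∈ T, conj (θ q.1) := by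
    rw [hT, Finset.sum_filter, Finset.sum_filter, ← univ_product_univ, Finset.sum_product]
    refine sum_congr rfl fun c _ => ?_
    by_cases hc : π c = s
    · simp only [hc, true_and, if_true]
      rw [← Finset.sum_filter, Finset.sum_const, nsmul_eq_mul, ClassCount.fibreCount, Nat.card_eq_fintype_card,
        Fintype.card_subtype, mul_comm]
    · simp [hc]
  rw [hsum, Finset.sum_congr rfl (g := fun _ => (1 : ℂ)) fun q hq => ?_, Finset.sum_const, nsmul_one]
  · congr 1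
    symm
    refine Finset.card_bij (fun p _ => ((p.1 * p.2)⁻¹, (p.1 : G))) (fun p hp => ?_) (fun p _ p' _ e => ?_)
      (fun q hq => ?_)
    · obtain ⟨hpI, hps⟩ := mem_filter.mp hp
      obtain ⟨h1, h2⟩ := mem_product.mp hpI
      refine mem_filter.mpr ⟨mem_univ _, ?_, isConj_mid_of_refl hπ h (mem_filter.mp h1).2.1 (mem_filter.mp h1).2.2, ?_⟩
      · show π (p.1 * p.2)⁻¹ = s
        rw [map_inv, map_mul, hps, inv_inv]
      · show IsConj (midRot a σ) ((p.1 : G)⁻¹ * (((p.1 * p.2)⁻¹ : cT a σ) : G)⁻¹)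
        rw [Subgroup.coe_inv, inv_inv, Subgroup.coe_mul, inv_mul_cancel_left]
        exact isConj_mid_of_refl hπ h (mem_filter.mp h2).2.1 (mem_filter.mp h2).2.2
    · simp only [Prod.mk.injEq, inv_inj] at e
      obtain ⟨e1, e2⟩ := e
      have e3 : p.1 = p'.1 := Subtype.ext e2
      rw [e3] at e1
      exact Prod.ext e3 (mul_left_cancel e1)
    · obtain ⟨p, hp, h1, h2⟩ := hmem q hq
      exact ⟨p, hp, Prod.ext h2.symm h1⟩
  · obtain ⟨p, hp, -, hq1⟩ := hmem q hq
    obtain ⟨hpI, -⟩ := mem_filter.mp hp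
    obtain ⟨h1, h2⟩ := mem_product.mp hpI
    have t1 := theta_involution hπ hθ (mem_filter.mp h1).2.1
    have t2 := theta_involution hπ hθ (mem_filter.mp h2).2.1
    rw [hq1, ← Char.IsCharacter.apply_inv (Char.isCharacter_of_hom θ), inv_inv, map_mul, t1, t2, one_mul]

variable [Fintype (IrrCharacter G)]

/-- The two counting equations for the coefficient vectors at the rotations. -/
theorem quad_coeff (hπ : Retr P (midRot a σ) π) (h : DihHyp P a σ τ) (hθ : Stable π θ) {ζ : ℂ}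
    (hζ : IsPrimitiveRoot ζ (2 ^ (a + 2))) {φ : IrrCharacter G → ℤ} {j : ℕ} (hj : j < 2 ^ (a + 1)) (hj1 : j ≠ 1)
    (hφ : ∀ χ : IrrCharacter G, (φ χ : ℂ) * (2 ^ (a + 2) : ℕ) =
      ∑ x ∈ range (2 ^ (a + 2)), rotVal π θ (χ : G → ℂ) (rot h x) * (ζ ^ (j * x) - ζ ^ x)) :
    (Nat.card π.ker : ℂ) * (Nat.card {g : G // IsConj (midRot a σ) g} : ℂ) ^ 2 *
        ∑ χ : IrrCharacter G, (φ χ : ℂ) * (χ : G → ℂ) (midRot a σ) ^ 2 / (χ : G → ℂ) 1 =
      if j = 0 then (Nat.card G : ℂ) * (2 ^ (a + 2) : ℕ) *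
        (((invCount π h 0 : ℂ) + invCount π h 1) / 2) ^ 2 else 0 := by
  set m := 2 ^ (a + 2) with hm
  have hm0 : m ≠ 0 := by positivity
  have hmC : (m : ℂ) ≠ 0 := Nat.cast_ne_zero.mpr hm0
  have hm2 : m = 2 * 2 ^ (a + 1) := by rw [hm]; ring
  set K := Nat.card {g : G // IsConj (midRot a σ) g}
  set u := Nat.card π.ker
  have hu0 : (u : ℂ) ≠ 0 := Nat.cast_ne_zero.2 Nat.card_pos.ne'
  set I := univ.filter fun g : cT a σ => g * g = 1 ∧ (π g : G) ∉ Subgroup.zpowers σ with hI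
  set α : ℂ := ((invCount π h 0 : ℂ) + invCount π h 1) / 2 with hα
  set β : ℂ := ((invCount π h 0 : ℂ) - invCount π h 1) / 2 with hβ
  have hn : ∀ k, (invCount π h k : ℂ) = α + β * (-1) ^ k := fun k => by
    rw [invCount_parity hπ h, hα, hβ]
    rcases Nat.mod_two_eq_zero_or_one k with e | e
    · rw [e, (Nat.even_iff.mpr e).neg_one_pow]; ring
    · rw [e, (Nat.odd_iff.mpr e).neg_one_pow]; ring
  -- the sums of signs
  have hgeom : ∀ z : ℂ, z ^ m = 1 → z ≠ 1 → ∑ x ∈ range m, z ^ x = 0 := fun z hz hz1 => by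
    rw [CycloTrace.geom_sum_of_pow_eq_one hz, if_neg hz1]
  have hm1 : ((-1 : ℂ)) ^ m = 1 := Even.neg_one_pow ⟨2 ^ (a + 1), by rw [hm2]; ring⟩
  have halt : ∑ x ∈ range m, (-1 : ℂ) ^ x = 0 := hgeom _ hm1 (by norm_num)
  -- the number of pairs
  have hN : ∀ x, x < m → (((I ×ˢ I).filter fun p => π p.1 * π p.2 = (rot h x)⁻¹).card : ℂ) =
      (m : ℂ) * (α ^ 2 + β ^ 2 * (-1) ^ x) := by
    intro x hx
    have hI' : ∀ g ∈ I, ∃ k < m, π g = refl h * rot h k := fun g hg =>
      exists_refl_index h (mem_filter.mp hg).2.2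
    have hfib : ∀ k, k < m → (I.filter fun g => π g = refl h * rot h k).card = invCount π h k := fun k hk => by
      rw [invCount, hI, filter_filter]
      exact congrArg _ (filter_congr fun g _ => ⟨fun e => ⟨e.1.1, e.2⟩,
        fun e => ⟨⟨e.1, e.2 ▸ refl_mul_rot_notMem h k⟩, e.2⟩⟩)
    have hcard : ((I ×ˢ I).filter fun p => π p.1 * π p.2 = (rot h x)⁻¹).card =
        ∑ k ∈ range m, invCount π h k * invCount π h (k + (m - x)) := by
      rw [card_filter, sum_product, ← Finset.sum_fiberwise_of_maps_to (g := fun g => π g)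
        (t := (range m).image fun k => refl h * rot h k) (fun g hg => by
          obtain ⟨k, hk, e⟩ := hI' g hg
          exact mem_image.mpr ⟨k, mem_range.mpr hk, e.symm⟩),
        Finset.sum_image fun i hi j hj e => refl_index_inj h (mem_range.mp hi) (mem_range.mp hj) e]
      refine sum_congr rfl fun k hk => ?_
      rw [← hfib k (mem_range.mp hk), sum_congr rfl (g := fun _ => invCount π h (k + (m - x))) fun g hg => ?_,
        sum_const, smul_eq_mul]
      rw [← card_filter, invCount, hI, filter_filter]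
      refine congrArg _ (filter_congr fun g' _ => ?_)
      rw [(mem_filter.mp hg).2]
      have e1 : refl h * rot h k * (refl h * rot h k) = 1 :=
        Subtype.ext (h.data.sq_eq_one (refl h * rot h k).2 (refl_mul_rot_notMem h k))
      have e2 : refl h * rot h (k + (m - x)) = refl h * rot h k * (rot h x)⁻¹ := by
        refine Subtype.ext ?_
        show τ * σ ^ (k + (m - x)) = τ * σ ^ k * (σ ^ x)⁻¹
        rw [pow_add, h.data.pow_sub_eq_inv hx.le, mul_assoc]
      rw [e2]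
      constructor
      · rintro ⟨⟨p1, -⟩, p3⟩
        refine ⟨p1, ?_⟩
        rw [← mul_left_cancel_iff (a := refl h * rot h k), p3, ← mul_assoc (refl h * rot h k), e1, one_mul]
      · rintro ⟨p1, p3⟩
        refine ⟨⟨p1, ?_⟩, ?_⟩
        · rw [p3, ← e2]; exact refl_mul_rot_notMem h _
        · rw [p3, ← mul_assoc (refl h * rot h k), e1, one_mul]
    rw [hcard]
    push_cast
    have hpx : (-1 : ℂ) ^ (m - x) = (-1) ^ x := by
      have h1 : (-1 : ℂ) ^ (m - x) * (-1) ^ x = 1 := by rw [← pow_add, Nat.sub_add_cancel hx.le, hm1]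
      have h2 : (-1 : ℂ) ^ x * (-1) ^ x = 1 := by rw [← mul_pow]; norm_num
      linear_combination (-1 : ℂ) ^ x * h1 - (-1 : ℂ) ^ (m - x) * h2
    rw [sum_congr rfl (g := fun k => (α ^ 2 + β ^ 2 * (-1) ^ x) + α * β * (1 + (-1) ^ x) * (-1) ^ k) fun k _ => ?_,
      sum_add_distrib, ← mul_sum, halt, sum_const, card_range, nsmul_eq_mul]
    · ring
    rw [hn, hn, pow_add, hpx]
    have h2 : (-1 : ℂ) ^ k * (-1) ^ k = 1 := by rw [← mul_pow]; norm_num
    linear_combination β ^ 2 * (-1 : ℂ) ^ x * h2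
  -- the equation at one rotation
  have heq : ∀ x, 0 < x → x < m → (u : ℂ) * (K : ℂ) ^ 2 *
      ∑ χ : IrrCharacter G, rotVal π θ (χ : G → ℂ) (rot h x) * ((χ : G → ℂ) (midRot a σ) ^ 2 / (χ : G → ℂ) 1) =
        (Nat.card G : ℂ) * ((m : ℂ) * (α ^ 2 + β ^ 2 * (-1) ^ x)) := by
    intro x hx0 hx
    rw [← hN x hx, ← fibre_sum hπ h hθ (rot_mem h x) (rot_ne_one h hx0 hx), Finset.mul_sum, Finset.mul_sum]
    simp only [rotVal, Finset.mul_sum, Finset.sum_mul]
    rw [Finset.sum_comm]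
    refine Finset.sum_congr rfl fun c _ => ?_
    rw [mul_left_comm, ClassCount.card_mul_fibreCount, Finset.mul_sum]
    refine Finset.sum_congr rfl fun χ _ => ?_
    have h0 : (χ : G → ℂ) 1 ≠ 0 := Char.IsIrrCharacter.apply_one_ne_zero χ.2
    have hu1 : (u : ℂ) * (u : ℂ)⁻¹ = 1 := mul_inv_cancel₀ hu0
    rw [inv_inv, ClassCount.omega]
    change (u : ℂ) * (K : ℂ) ^ 2 * ((u : ℂ)⁻¹ * ((χ : G → ℂ) c * conj (θ c)) *
      ((χ : G → ℂ) (midRot a σ) ^ 2 / (χ : G → ℂ) 1)) = conj (θ c) * ((χ : G → ℂ) 1 *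
        ((K : ℂ) * (χ : G → ℂ) (midRot a σ) / (χ : G → ℂ) 1) *
        ((K : ℂ) * (χ : G → ℂ) (midRot a σ) / (χ : G → ℂ) 1) * (χ : G → ℂ) c)
    field_simp
  refine mul_left_cancel₀ hmC ?_
  rw [← mul_assoc, mul_comm (m : ℂ), mul_assoc, Finset.mul_sum, Finset.sum_congr rfl fun χ _ =>
    show (m : ℂ) * ((φ χ : ℂ) * (χ : G → ℂ) (midRot a σ) ^ 2 / (χ : G → ℂ) 1) =
      ∑ x ∈ range m, (ζ ^ (j * x) - ζ ^ x) *
        (rotVal π θ (χ : G → ℂ) (rot h x) * ((χ : G → ℂ) (midRot a σ) ^ 2 / (χ : G → ℂ) 1)) by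
      rw [mul_div_assoc, ← mul_assoc, mul_comm (m : ℂ), hφ, Finset.sum_mul]
      exact Finset.sum_congr rfl fun x _ => by ring, Finset.sum_comm, Finset.mul_sum]
  rw [Finset.sum_congr rfl (g := fun x => (Nat.card G : ℂ) * m *
    ((α ^ 2 * (ζ ^ j) ^ x + β ^ 2 * (-(ζ ^ j)) ^ x) - (α ^ 2 * ζ ^ x + β ^ 2 * (-ζ) ^ x))) fun x hx => ?_]
  · have hz1 : ζ ≠ 1 := by
      intro e; exact hζ.pow_ne_one_of_pos_of_lt one_ne_zero (by omega) (by rw [pow_one, e])
    have hζh : ζ ^ 2 ^ (a + 1) = -1 := by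
      have h1 : ζ ^ 2 ^ (a + 1) * ζ ^ 2 ^ (a + 1) = 1 := by rw [← pow_add, ← two_mul, ← hm2, hζ.pow_eq_one]
      exact (mul_self_eq_one_iff.mp h1).resolve_left (hζ.pow_ne_one_of_pos_of_lt (by positivity) (by omega))
    have hne : ∀ i, i < 2 ^ (a + 1) → -(ζ ^ i) ≠ 1 := fun i hi e => by
      have : ζ ^ i = ζ ^ 2 ^ (a + 1) := by rw [hζh]; linear_combination -e
      exact absurd (hζ.pow_inj (by omega) (by omega) this) hi.ne
    have hneg : ∀ z : ℂ, z ^ m = 1 → (-z) ^ m = 1 := fun z hz => by rw [neg_pow, hm1, hz, one_mul]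
    have hpm : ∀ i, (ζ ^ i) ^ m = 1 := fun i => by rw [← pow_mul, mul_comm, pow_mul, hζ.pow_eq_one, one_pow]
    simp only [mul_sub, Finset.sum_sub_distrib, mul_add, Finset.sum_add_distrib, ← Finset.mul_sum]
    rw [hgeom ζ hζ.pow_eq_one hz1,
      hgeom (-ζ) (hneg ζ hζ.pow_eq_one) (by simpa using hne 1 (Nat.one_lt_two_pow (by omega))),
      hgeom (-(ζ ^ j)) (hneg _ (hpm j)) (hne j hj)]
    split_ifs with hj0
    · rw [hj0, sum_congr rfl fun x _ => by rw [pow_zero, one_pow], sum_const, card_range, nsmul_one]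
      ring
    · rw [hgeom _ (hpm j) (hζ.pow_ne_one_of_pos_of_lt hj0 (by omega))]
      ring
  · by_cases hx0 : x = 0
    · subst hx0
      simp
    rw [← Finset.mul_sum, mul_left_comm, heq x (Nat.pos_of_ne_zero hx0) (mem_range.mp hx), neg_pow,
      neg_pow ζ x, ← pow_mul]
    ring

end Cfsg.Agent.GWDihedral
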