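import Cfsg.Agent.Lib.GWDihedral.ThetaCount
import Cfsg.Agent.Lib.GWDihedral.RotPattern
import Cfsg.Agent.Lib.GWDihedral.DegreeArith
import Cfsg.Agent.Lib.GWSeven.SectionFormula
import Cfsg.Agent.Lib.GWKlein.DegreeBound
import Cfsg.Agent.Lib.GWKlein.SmallCharCoef
import Cfsg.Agent.Lib.Blocks.Induced

/-!
# Gorenstein-Walter, dihedral Sylow subgroups of order at least eight: linear characters of `O(C(t))`

Let `G` have dihedral Sylow 2-subgroups of order at least eight and one class of involutions. A non-trivial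
linear character of `C(t)`, trivial on the Sylow subgroup and constant on the classes of `G` in the odd
core, gives a character of degree at most six; in a simple group the odd core is then abelian.

* `exists_small_theta_char`
* `commute_of_theta`
-/

set_option autoImplicit false
set_option linter.style.haveILetI false

open scoped ComplexConjugate

namespace Cfsg.Agent.GWDihedral

open Cfsg Finset
open scoped Classical
open Cfsg.Agent.SecondMain (midRot)

variable {G : Type*} [Group G] [Finite G] {P : Sylow 2 G} {a : ℕ} {σ τ : G}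
  {π : cT a σ →* (P : Subgroup G)} {θ : cT a σ →* ℂ}

theorem rotVal_mid [Fintype (cT a σ)] [Fintype π.ker] (hπ : Retr P (midRot a σ) π) (h : DihHyp P a σ τ)
    (hθ : Stable π θ) (χ : G → ℂ) :
    rotVal π θ χ (rot h (2 ^ (a + 1))) =
      (Nat.card π.ker : ℂ)⁻¹ * ∑ x : π.ker, χ (midRot a σ * ((x : cT a σ) : G)) * conj (θ x) := by
  set t' : cT a σ := ⟨midRot a σ, hπ.le (h.data.zpowers_le h.data.midRot_mem)⟩ with ht
  have hπt : π t' = rot h (2 ^ (a + 1)) := hπ.apply_mem t' _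
  have hθt : θ t' = 1 := hθ.trivial t' (h.data.zpowers_le h.data.midRot_mem)
  rw [rotVal]
  congr 1
  symm
  refine Finset.sum_bij (fun x _ => t' * (x : cT a σ)) (fun x _ => ?_) (fun x _ y _ e => ?_) (fun c hc => ?_)
    fun x _ => ?_
  · simp only [mem_filter, mem_univ, true_and, map_mul, show π (x : cT a σ) = 1 from x.2, mul_one, hπt]
  · exact Subtype.ext (mul_left_cancel e)
  · refine ⟨⟨t'⁻¹ * c, ?_⟩, mem_univ _, mul_inv_cancel_left _ _⟩
    show π (t'⁻¹ * c) = 1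
    rw [map_mul, map_inv, hπt, (mem_filter.mp hc).2, inv_mul_cancel]
  · rw [map_mul θ, hθt, one_mul]
    rfl

theorem sum_conj_eq_zero [Fintype π.ker] (hπ : Retr P (midRot a σ) π) (hθ : Stable π θ) (hθ1 : θ ≠ 1) :
    ∑ x : π.ker, conj (θ x) = 0 := by
  have hne : θ.comp π.ker.subtype ≠ 1 := by
    intro e
    refine hθ1 (MonoidHom.ext fun c => ?_)
    set w : cT a σ := ⟨π c, hπ.le (π c).2⟩ with hw
    have hker : c * w⁻¹ ∈ π.ker := by
      rw [MonoidHom.mem_ker, map_mul, map_inv, hw, hπ.apply_coe, mul_inv_cancel]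
    have h1 : θ (c * w⁻¹) = 1 := DFunLike.congr_fun e ⟨_, hker⟩
    calc θ c = θ (c * w⁻¹ * w) := by rw [inv_mul_cancel_right]
      _ = 1 := by rw [map_mul, h1, hθ.trivial w (π c).2, mul_one]
  rw [← map_sum, show ∑ x : π.ker, θ x = ∑ x : π.ker, (θ.comp π.ker.subtype) x from rfl,
    sum_hom_units_eq_zero _ hne, map_zero]

/-- A character of degree at most six which is a multiple of `θ` on the section at `t`. -/
theorem exists_small_theta_char (h : DihHyp P a σ τ) (hπ : Retr P (midRot a σ) π) (hθ : Stable π θ)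
    (hθ1 : θ ≠ 1) :
    ∃ (χ : IrrCharacter G) (d : ℕ) (T : ℤ), (χ : G → ℂ) ≠ 1 ∧ (χ : G → ℂ) 1 = d ∧ d ≤ 6 ∧ T ≠ 0 ∧
      ∀ x : cT a σ, π x = 1 → (χ : G → ℂ) (midRot a σ * (x : G)) = (T : ℂ) * θ x := by
  have := Fact.mk Nat.prime_two
  have := Fintype.ofFinite G
  have := Fintype.ofFinite (cT a σ)
  have := Fintype.ofFinite π.ker
  have := Fintype.ofFinite (IrrCharacter G)
  obtain ⟨M, hM⟩ := Blocks.exists_isPModular Nat.prime_two
  obtain ⟨ζ, hζ⟩ : ∃ ζ : ℂ, IsPrimitiveRoot ζ (2 ^ (a + 2)) :=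
    ⟨_, Complex.isPrimitiveRoot_exp (2 ^ (a + 2)) (pow_ne_zero _ two_ne_zero)⟩
  obtain ⟨Φ, hΦ, hΦh, hgram, hdeg⟩ := exists_theta_coeff (θ := θ) hπ h hζ
  choose d hd0 hd hdd using fun χ : IrrCharacter G => ClassCount.exists_degree_eq χ
  choose T hT using fun χ : IrrCharacter G =>
    SecondMain.exists_int_involution h.data.orderOf_midRot χ
  set hh := 2 ^ (a + 1) with hhh
  have h2 : 2 ≤ hh := le_self_pow₀ one_le_two (by omega)
  set w : IrrCharacter G → ℤ := fun χ => Φ χ 0 + Φ χ hh + 2 * ∑ j ∈ Ico 2 hh, (-1 : ℤ) ^ j * Φ χ j with hw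
  have hwA : ∀ χ : IrrCharacter G, w χ ≠ 0 →
      (∀ x : cT a σ, π x = 1 → (χ : G → ℂ) (midRot a σ * (x : G)) = (χ : G → ℂ) (midRot a σ) * θ x) ∧
        T χ = w χ := by
    intro χ hχ
    have hv := (rotVal_mid hπ h hθ (χ : G → ℂ)).symm.trans (hΦh χ)
    have hne : ∑ x : π.ker, (χ : G → ℂ) (midRot a σ * ((x : cT a σ) : G)) * conj (θ x) ≠ 0 := by
      intro e
      rw [e, mul_zero] at hv
      exact hχ (by exact_mod_cast hv.symm)
    have hall := apply_t_mul hM h hπ θ hθ χ hne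
    refine ⟨hall, ?_⟩
    rw [Finset.sum_congr rfl (g := fun _ => (χ : G → ℂ) (midRot a σ)) fun x _ => by
      rw [hall x x.2, ← Char.IsCharacter.apply_inv (Char.isCharacter_of_hom θ), mul_assoc, ← map_mul,
        mul_inv_cancel, map_one, mul_one], Finset.sum_const, Finset.card_univ, ← Nat.card_eq_fintype_card,
      nsmul_eq_mul, ← mul_assoc, inv_mul_cancel₀ (Nat.cast_ne_zero.2 Nat.card_pos.ne'), one_mul, hT] at hv
    exact_mod_cast hv
  have hu0 : (Nat.card π.ker : ℂ) ≠ 0 := Nat.cast_ne_zero.2 Nat.card_pos.ne'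
  have hK0 : (Nat.card {g : G // IsConj (midRot a σ) g} : ℂ) ≠ 0 := by
    rw [ClassCount.card_class_eq_index]; exact Nat.cast_ne_zero.2 Subgroup.index_ne_zero_of_finite
  have hsum : ∀ j, ∑ χ : IrrCharacter G, (Φ χ j : ℂ) * (χ : G → ℂ) (midRot a σ) ^ 2 / (χ : G → ℂ) 1 =
      ((∑ χ : IrrCharacter G, (Φ χ j : ℚ) * (T χ : ℚ) ^ 2 / (d χ : ℤ) : ℚ) : ℂ) := fun j => by
    push_cast
    exact Finset.sum_congr rfl fun χ _ => by rw [hd, hT]
  obtain ⟨A, B, C, hAB, hAC, hBC, hv0, hA1, hB1, hC1, hwa, hwb, hwc⟩ :=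
    rot_pattern hh ⟨2 ^ a, by rw [hhh]; ring⟩ h2 (fun j χ => Φ χ j) w T (fun χ => (d χ : ℤ))
      (fun χ => Int.natCast_pos.2 (hd0 χ)) (fun χ => rfl) hgram
      (fun j _ _ => by
        refine Int.cast_injective (α := ℂ) ?_
        push_cast
        rw [← hdeg j]
        exact Finset.sum_congr rfl fun χ _ => by rw [hd])
      (fun χ hχ => (hwA χ hχ).2)
      (fun j hj hjh => by
        have hq := quad_coeff hπ h hθ hζ (φ := fun χ => Φ χ j) hjh (by omega) fun χ => hΦ χ j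
        rw [if_neg (by omega), mul_eq_zero, hsum] at hq
        rcases hq with hq | hq
        · exact absurd hq (mul_ne_zero hu0 (pow_ne_zero 2 hK0))
        · exact Rat.cast_injective (α := ℂ) (by rw [hq]; simp))
  have hwAn : w A ≠ 0 := by rw [hwa]; omega
  have hwBn : w B ≠ 0 := by rw [hwb]; omega
  have hwCn : w C ≠ 0 := by rw [hwc]; omega
  have hTA : T A = 2 * Φ A 0 := (hwA A hwAn).2.trans hwa
  have hTB : T B = Φ B 0 := (hwA B hwBn).2.trans hwb
  have hTC : T C = Φ C 0 := (hwA C hwCn).2.trans hwc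
  -- the order formula
  obtain ⟨x₁, x₂, x₃, δ, δ₂, δ₃, hx₁, -, -, hδ, -, -, -, ⟨hP, hdvd⟩, hform, -⟩ :=
    GWSeven.degree_equations M hM a P σ τ h.mem_rot h.mem_refl h.order_rot h.order_refl h.rel h.gen h.fused
  set X : ℤ := δ * x₁ with hX
  set cc := Nat.card (cT a σ) with hcc
  set c1 := Nat.card (Subgroup.centralizer ({σ ^ 2 ^ (a + 1), τ} : Set G))
  set c2 := Nat.card (Subgroup.centralizer ({σ ^ 2 ^ (a + 1), σ * τ} : Set G))
  have hform' : (Nat.card G : ℚ) * ((X : ℚ) - 1) ^ 2 =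
      2 * X * (X + 1) * (cc : ℚ) ^ 3 * (1 / (c1 : ℚ) + 1 / (c2 : ℚ)) ^ 2 := by
    rw [hX, show cc = Nat.card (Subgroup.centralizer ({σ ^ 2 ^ (a + 1)} : Set G)) from rfl]
    push_cast
    rcases hδ with r | r <;> rw [r] at hform ⊢ <;> push_cast at hform ⊢ <;> linear_combination hform
  have hcl : ∀ v : cT a σ, ∀ s : G, (v : G) = s →
      Nat.card {x : cT a σ // IsConj v x} * Nat.card (Subgroup.centralizer ({σ ^ 2 ^ (a + 1), s} : Set G)) = cc := by
    rintro v - rfl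
    have e : Nat.card (Subgroup.centralizer ({v} : Set (cT a σ))) =
        Nat.card (Subgroup.centralizer ({σ ^ 2 ^ (a + 1), (v : G)} : Set G)) := by
      have hiff : ∀ g : G, g ∈ Subgroup.centralizer ({σ ^ 2 ^ (a + 1), (v : G)} : Set G) ↔
          g ∈ cT a σ ∧ Commute (v : G) g := by
        intro g
        simp [Subgroup.mem_centralizer_iff, cT, Commute, SemiconjBy, midRot]
      refine Nat.card_congr
        { toFun := fun g => ⟨((g : cT a σ) : G), (hiff _).mpr ⟨g.1.2,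
            congrArg Subtype.val (SecondMain.commute_iff_mem_centralizer_singleton.mp g.2).eq⟩⟩
          invFun := fun g => ⟨⟨g.1, ((hiff _).mp g.2).1⟩,
            SecondMain.commute_iff_mem_centralizer_singleton.mpr (Subtype.ext ((hiff _).mp g.2).2.eq)⟩
          left_inv := fun g => rfl
          right_inv := fun g => rfl }
    rw [← e, hcc]
    exact Char.card_conjugates_mul_card_centralizer v
  have hn0 : hh * invCount π h 0 * c1 = cc := by
    have hc := card_class_refl hπ h 0 (by norm_num)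
    rw [← hc]
    exact hcl _ τ (by show τ * σ ^ 0 = τ; rw [pow_zero, mul_one])
  have hn1 : hh * invCount π h 1 * c2 = cc := by
    have hc := card_class_refl hπ h 1 (by norm_num)
    rw [← hc]
    set v : cT a σ := ⟨(refl h * rot h 1 : (P : Subgroup G)), hπ.le (SetLike.coe_mem _)⟩
    set v' : cT a σ := ⟨σ * τ, hπ.le (mul_mem h.mem_rot h.mem_refl)⟩
    have hvv : IsConj v v' := by
      refine isConj_iff.mpr ⟨⟨σ, hπ.le h.mem_rot⟩, Subtype.ext ?_⟩
      show σ * (τ * σ ^ 1) * σ⁻¹ = σ * τ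
      rw [pow_one, ← mul_assoc, mul_inv_cancel_right]
    rw [show Nat.card {x : cT a σ // IsConj v x} = Nat.card {x : cT a σ // IsConj v' x} from
      Nat.card_congr (Equiv.subtypeEquivRight fun x => ⟨fun e => hvv.symm.trans e, fun e => hvv.trans e⟩)]
    exact hcl v' _ rfl
  set R : ℚ := ∑ χ : IrrCharacter G, (Φ χ 0 : ℚ) * (T χ : ℚ) ^ 2 / (d χ : ℤ) with hR
  have hRf : (Nat.card G : ℚ) * R = 2 * (cc : ℚ) ^ 3 * (1 / (c1 : ℚ) + 1 / (c2 : ℚ)) ^ 2 := by
    have hq := quad_coeff hπ h hθ hζ (φ := fun χ => Φ χ 0) (j := 0) (by positivity) (by omega) fun χ => hΦ χ 0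
    rw [if_pos rfl, hsum, ← hR] at hq
    have hq' : (Nat.card π.ker : ℚ) * (Nat.card {g : G // IsConj (midRot a σ) g} : ℚ) ^ 2 * R =
        (Nat.card G : ℚ) * (2 ^ (a + 2) : ℕ) * (((invCount π h 0 : ℚ) + invCount π h 1) / 2) ^ 2 := by
      refine Rat.cast_injective (α := ℂ) ?_
      push_cast at hq ⊢
      exact hq
    have hKc : (Nat.card {g : G // IsConj (midRot a σ) g} : ℚ) * cc = Nat.card G := by
      rw [hcc]; exact_mod_cast ClassCount.card_class_mul_card_centralizer (midRot a σ)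
    have hCu : (cc : ℚ) = (Nat.card π.ker : ℚ) * (2 * (2 * hh)) := by
      rw [hcc, hπ.card_eq, h.data.card_P, hhh]; push_cast; ring
    have e0 : (invCount π h 0 : ℚ) = (cc : ℚ) / (hh * c1) := by
      rw [eq_div_iff (mul_ne_zero (by positivity) (Nat.cast_ne_zero.2 Nat.card_pos.ne'))]
      rw [← hn0]; push_cast; ring
    have e1 : (invCount π h 1 : ℚ) = (cc : ℚ) / (hh * c2) := by
      rw [eq_div_iff (mul_ne_zero (by positivity) (Nat.cast_ne_zero.2 Nat.card_pos.ne'))]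
      rw [← hn1]; push_cast; ring
    have hm : ((2 ^ (a + 2) : ℕ) : ℚ) = 2 * hh := by rw [hhh]; push_cast; ring
    rw [e0, e1, hm] at hq'
    have hG : (Nat.card G : ℚ) ≠ 0 := Nat.cast_ne_zero.2 Nat.card_pos.ne'
    refine mul_left_cancel₀ (mul_ne_zero hG (show (hh : ℚ) ≠ 0 by positivity)) ?_
    have hc1 : (c1 : ℚ) ≠ 0 := Nat.cast_ne_zero.2 Nat.card_pos.ne'
    have hc2 : (c2 : ℚ) ≠ 0 := Nat.cast_ne_zero.2 Nat.card_pos.ne'
    have hh0 : (hh : ℚ) ≠ 0 := by positivity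
    generalize (Nat.card {g : G // IsConj (midRot a σ) g} : ℚ) = K at hq' hKc
    rw [← hKc]
    rw [← hKc] at hq'
    field_simp at hq' ⊢
    linear_combination (K ^ 2 * cc * R * (c1 : ℚ) ^ 2 * c2 ^ 2) * hCu + (2 * (cc : ℚ)) * hq'
  have hX1 : X ≠ 1 := by
    intro e
    rw [e] at hform'
    push_cast at hform'
    have hpos : (0 : ℚ) < 4 * (cc : ℚ) ^ 3 * (1 / (c1 : ℚ) + 1 / (c2 : ℚ)) ^ 2 := by
      have : (0 : ℚ) < cc := Nat.cast_pos.2 Nat.card_pos
      have : (0 : ℚ) < c1 := Nat.cast_pos.2 Nat.card_pos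
      have : (0 : ℚ) < c2 := Nat.cast_pos.2 Nat.card_pos
      positivity
    linarith
  have h8 : (8 : ℤ) ∣ X - 1 := by
    have h1 : (8 : ℤ) ∣ (Nat.card P : ℤ) := ⟨2 ^ a, by rw [hP]; push_cast; ring⟩
    rw [hX, show δ * (x₁ : ℤ) - 1 = δ * ((x₁ : ℤ) - δ) by rcases hδ with r | r <;> rw [r] <;> ring]
    exact (h1.trans hdvd).mul_left _
  have hRX : R = ((X : ℚ) - 1) ^ 2 / ((X : ℚ) * ((X : ℚ) + 1)) := by
    have hG : (Nat.card G : ℚ) ≠ 0 := Nat.cast_ne_zero.2 Nat.card_pos.ne'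
    have hX0 : (X : ℚ) * ((X : ℚ) + 1) ≠ 0 := by
      obtain ⟨k, hk⟩ := h8
      exact mul_ne_zero (by exact_mod_cast (show X ≠ 0 by omega)) (by exact_mod_cast (show X + 1 ≠ 0 by omega))
    rw [eq_div_iff hX0]
    refine mul_left_cancel₀ hG ?_
    linear_combination ((X : ℚ) * (X + 1)) * hRf - hform'
  -- the degrees
  have hsupp : ∀ f : IrrCharacter G → ℚ, (∀ χ, Φ χ 0 = 0 → f χ = 0) → ∑ χ, f χ = f A + f B + f C := by
    intro f hf
    rw [← Finset.sum_subset (Finset.subset_univ ({A, B, C} : Finset (IrrCharacter G))) fun χ _ hχ => hf χ ?_]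
    · rw [sum_insert (by simp [hAB, hAC]), sum_pair hBC]; ring
    · simp only [mem_insert, mem_singleton, not_or] at hχ
      exact hv0 χ hχ.1 hχ.2.1 hχ.2.2
  have hdeg0 : Φ A 0 * (d A : ℤ) + Φ B 0 * (d B : ℤ) + Φ C 0 * (d C : ℤ) = 0 := by
    refine Int.cast_injective (α := ℚ) ?_
    push_cast
    rw [← hsupp (fun χ => (Φ χ 0 : ℚ) * (d χ : ℚ)) fun χ e => by simp [e]]
    refine Rat.cast_injective (α := ℂ) ?_
    push_cast
    rw [← hdeg 0]
    exact Finset.sum_congr rfl fun χ _ => by rw [hd]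
  have hinv : ∀ χ, (Φ χ 0 = 1 ∨ Φ χ 0 = -1) →
      1 / ((Φ χ 0 * (d χ : ℤ) : ℤ) : ℚ) = (Φ χ 0 : ℚ) / (d χ : ℤ) := fun χ e => by
    rcases e with e | e <;> rw [e] <;> push_cast <;> ring
  have hR3 : R = 1 / ((Φ B 0 * (d B : ℤ) : ℤ) : ℚ) + 1 / ((Φ C 0 * (d C : ℤ) : ℤ) : ℚ) +
      4 / ((Φ A 0 * (d A : ℤ) : ℤ) : ℚ) := by
    rw [hR, hsupp _ fun χ e => by simp [e], hTA, hTB, hTC, hinv B hB1, hinv C hC1,
      div_eq_mul_one_div (4 : ℚ), hinv A hA1]
    rcases hA1 with e1 | e1 <;> rcases hB1 with e2 | e2 <;> rcases hC1 with e3 | e3 <;>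
      rw [e1, e2, e3] <;> push_cast <;> ring
  have hne : ∀ χ, (Φ χ 0 = 1 ∨ Φ χ 0 = -1) → Φ χ 0 * (d χ : ℤ) ≠ 0 := fun χ e => by
    have := hd0 χ
    rcases e with e | e <;> rw [e] <;> omega
  have habs : ∀ χ, (Φ χ 0 = 1 ∨ Φ χ 0 = -1) → |Φ χ 0 * (d χ : ℤ)| ≤ 6 → d χ ≤ 6 := fun χ e hle => by
    rcases e with e | e <;> rw [e] at hle <;>
      simp only [one_mul, neg_mul, abs_neg, Nat.abs_cast] at hle <;> omega
  have fin : ∀ χ, d χ ≤ 6 → T χ ≠ 0 → w χ ≠ 0 →
      ∃ (χ : IrrCharacter G) (d : ℕ) (T : ℤ), (χ : G → ℂ) ≠ 1 ∧ (χ : G → ℂ) 1 = d ∧ d ≤ 6 ∧ T ≠ 0 ∧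
        ∀ x : cT a σ, π x = 1 → (χ : G → ℂ) (midRot a σ * (x : G)) = (T : ℂ) * θ x := by
    intro χ hχd hχT hχw
    refine ⟨χ, d χ, T χ, fun e => hχw ?_, hd χ, hχd, hχT, fun x hx => by rw [← hT, (hwA χ hχw).1 x hx]⟩
    have hv := (rotVal_mid hπ h hθ (χ : G → ℂ)).symm.trans (hΦh χ)
    simp only [e, Pi.one_apply, one_mul, sum_conj_eq_zero hπ hθ hθ1, mul_zero] at hv
    exact_mod_cast hv.symm
  rcases exists_le_six (hne B hB1) (hne C hC1) (hne A hA1) (by linarith)
    (hR3 ▸ hRX ▸ ratio_lower h8 hX1) with hle | hle | hle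
  · exact fin B (habs B hB1 hle) (by rw [hTB]; omega) hwBn
  · exact fin C (habs C hC1 hle) (by rw [hTC]; omega) hwCn
  · exact fin A (habs A hA1 hle) (by rw [hTA]; omega) hwAn

omit [Finite G] in
/-- The multiplicities of a character on `U × ⟨t⟩`. -/
theorem exists_mult_pair {U : Type*} [Group U] [Fintype U] (f : U →* G) {t : G} (ht : t * t = 1)
    (hc : ∀ x, Commute (f x) t) {χ : G → ℂ} (hχ : IsCharacter G χ) {φ : U → ℂ} (hφ : IsCharacter U φ) :
    ∃ p q : ℕ, classInner (fun x => χ (f x)) φ = (p : ℂ) + q ∧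
      classInner (fun x => χ (t * f x)) φ = (p : ℂ) - q := by
  have hc' : ∀ (x : U) (e : ℤˣ), Commute (f x) (GWKlein.signHom t ht e) := by
    intro x e
    rcases Int.units_eq_one_or e with rfl | rfl
    · simp
    · simpa [GWKlein.signHom] using hc x
  let sg : ℤˣ →* ℂ := ((Int.castRingHom ℂ : ℤ →+* ℂ) : ℤ →* ℂ).comp (Units.coeHom ℤ)
  have hχ' := Char.IsCharacter.comp_hom hχ (MonoidHom.noncommCoprod f (GWKlein.signHom t ht) hc')
  obtain ⟨p, hp⟩ := Char.IsCharacter.classInner_nat hχ'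
    (Char.IsCharacter.comp_hom hφ (MonoidHom.fst U ℤˣ))
  obtain ⟨q, hq⟩ := Char.IsCharacter.classInner_nat hχ'
    (Char.IsCharacter.prodMul hφ (Char.isCharacter_of_hom sg))
  refine ⟨p, q, ?_, ?_⟩
  all_goals
    rw [← hp, ← hq]
    simp only [classInner, Fintype.sum_prod_type, Nat.card_prod]
    rw [show (Finset.univ : Finset ℤˣ) = {1, -1} from rfl]
    simp only [Finset.sum_pair (show (1 : ℤˣ) ≠ -1 by decide), Finset.sum_add_distrib, mul_add]
    rw [show Nat.card ℤˣ = 2 by simp [Nat.card_eq_fintype_card]]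
    simp [sg, GWKlein.signHom, MonoidHom.noncommCoprod_apply, Finset.mul_sum]
    simp only [fun x => (hc x).symm.eq, ← Finset.sum_add_distrib, ← Finset.sum_neg_distrib]
    exact Finset.sum_congr rfl fun x _ => by ring

/-- In a simple group the odd core is abelian once such a linear character exists. -/
theorem commute_of_theta [IsSimpleGroup G] (h : DihHyp P a σ τ) (hπ : Retr P (midRot a σ) π)
    (hθ : Stable π θ) (hθ1 : θ ≠ 1) (x y : cT a σ) (hx : π x = 1) (hy : π y = 1) :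
    Commute x y := by
  have := Fintype.ofFinite G
  have := Fintype.ofFinite π.ker
  have := Fintype.ofFinite (IrrCharacter π.ker)
  obtain ⟨χ, d, T, hχ1, hd, hd6, hT0, hTall⟩ := exists_small_theta_char h hπ hθ hθ1
  set f : π.ker →* G := (cT a σ).subtype.comp π.ker.subtype with hf
  have ht : midRot a σ * midRot a σ = 1 := by rw [← sq, ← h.data.orderOf_midRot, pow_orderOf_eq_one]
  have hc : ∀ x, Commute (f x) (midRot a σ) := fun x =>
    (SecondMain.commute_iff_mem_centralizer_singleton.mp (x : cT a σ).2).symm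
  have hχc := Char.IsIrrCharacter.isCharacter χ.2
  obtain ⟨m, hm, hm'⟩ := Char.IsCharacter.decompose (Char.IsCharacter.comp_hom hχc f)
  have hdec : ∀ z, (χ : G → ℂ) (f z) = ∑ φ : IrrCharacter π.ker, (m φ : ℂ) * (φ : π.ker → ℂ) z := fun z => by
    have e := congrFun hm z
    simpa using e
  choose k hk0 hk hkd using fun φ : IrrCharacter π.ker => ClassCount.exists_degree_eq φ
  have hdk : d = ∑ φ : IrrCharacter π.ker, m φ * k φ := by
    have e := hdec 1
    rw [map_one, hd] at e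
    simp only [hk] at e
    exact_mod_cast e
  let l : π.ker →* ℂ := θ.comp π.ker.subtype
  have hli := Char.isIrrCharacter_of_hom l
  have hTl : (fun z : π.ker => (χ : G → ℂ) (midRot a σ * f z)) = (T : ℂ) • (l : π.ker → ℂ) :=
    funext fun z => hTall z z.2
  -- the multiplicity of `θ`
  have hml : 0 < m ⟨l, hli⟩ := by
    obtain ⟨p, q, e1, e2⟩ := exists_mult_pair f ht hc hχc (Char.isCharacter_of_hom l)
    rw [hTl, Char.classInner_smul_left, Char.classInner_irr_self hli, mul_one] at e2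
    have e3 : (m ⟨l, hli⟩ : ℂ) = (p : ℂ) + q := (hm' ⟨l, hli⟩).symm.trans e1
    have e4 : m ⟨l, hli⟩ = p + q := by exact_mod_cast e3
    have e5 : T = (p : ℤ) - q := by exact_mod_cast e2
    omega
  -- every constituent is linear
  have hlin : ∀ φ : IrrCharacter π.ker, m φ ≠ 0 → k φ = 1 := by
    intro φ hφ
    by_contra hk1
    have hne : (⟨l, hli⟩ : IrrCharacter π.ker) ≠ φ := by
      intro e
      refine hk1 ?_
      have : (k φ : ℂ) = 1 := by rw [← hk φ, ← e]; exact map_one l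
      exact_mod_cast this
    have hodd : Odd (k φ) := hπ.odd_ker.of_dvd_nat (hkd φ ▸ ClassCount.degree_dvd_card φ)
    obtain ⟨p, q, e1, e2⟩ := exists_mult_pair f ht hc hχc (Char.IsIrrCharacter.isCharacter φ.2)
    rw [hTl, Char.classInner_smul_left, Char.classInner_irr_of_ne hli φ.2 (fun e => hne (Subtype.ext e)),
      mul_zero] at e2
    have e3 : (m φ : ℂ) = (p : ℂ) + q := (hm' φ).symm.trans e1
    have e4 : m φ = p + q := by exact_mod_cast e3
    have e5 : p = q := by exact_mod_cast sub_eq_zero.1 e2.symm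
    have h3 : 3 ≤ k φ := by
      obtain ⟨i, hi⟩ := hodd
      omega
    have hle := Finset.sum_le_sum_of_subset_of_nonneg (Finset.subset_univ ({⟨l, hli⟩, φ} : Finset (IrrCharacter π.ker)))
      (f := fun φ => m φ * k φ) fun _ _ _ => Nat.zero_le _
    rw [Finset.sum_pair hne, ← hdk] at hle
    have := Nat.mul_le_mul (show 2 ≤ m φ by omega) h3
    have := Nat.mul_le_mul hml (hk0 ⟨l, hli⟩)
    omega
  -- the commutator is in the kernel
  set z : π.ker := ⟨x, hx⟩ * ⟨y, hy⟩ * (⟨x, hx⟩ : π.ker)⁻¹ * (⟨y, hy⟩ : π.ker)⁻¹ with hz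
  have hχz : (χ : G → ℂ) (f z) = (χ : G → ℂ) 1 := by
    rw [hdec, ← map_one f, hdec]
    refine Finset.sum_congr rfl fun φ _ => ?_
    by_cases hφ : m φ = 0
    · simp [hφ]
    obtain ⟨g, hg⟩ := Char.exists_hom_of_degree_one (Char.IsIrrCharacter.isCharacter φ.2)
      (by rw [hk, hlin φ hφ, Nat.cast_one])
    congr 1
    rw [← hg, map_one, hz, map_mul, map_mul, map_mul, mul_right_comm (g _) (g _) (g _), ← map_mul,
      mul_inv_cancel, map_one, one_mul, ← map_mul, mul_inv_cancel, map_one]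
  have h1 := GWKlein.eq_one_of_char_eq_degree χ.2 hχ1 hχz
  have h2 : z = 1 := Subtype.ext (Subtype.ext h1)
  rw [hz, mul_inv_eq_one, mul_inv_eq_iff_eq_mul] at h2
  exact congrArg Subtype.val h2

end Cfsg.Agent.GWDihedral
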