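import Cfsg.Agent.S4482
import Cfsg.Agent.Lib.Orth.Dihedral
import Cfsg.Agent.Lib.SecondMain.DihedralSylow

/-!
# Gorenstein-Walter, dihedral Sylow subgroups of order at least eight: the retraction of `C(t)`

* `DihHyp` : a dihedral Sylow 2-subgroup `⟨σ, τ⟩` with all its involutions fused
* `exists_retraction` : `C(t) → P`, with kernel of odd order
* `mem_zpowers_of_rot` : an element over a non-trivial rotation has `t` among its powers
* `mem_centralizer_of_conj` : conjugation between two such elements happens in `C(t)`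
* `involution_trichotomy`, `exists_conj_mem_P` : the involutions of `C(t)`
-/

set_option autoImplicit false

namespace Cfsg.Agent.GWDihedral

open Cfsg Subgroup
open Cfsg.Agent.SecondMain (DihedralData midRot)

variable {G : Type*} [Group G]

/-- A dihedral Sylow 2-subgroup with rotation `σ` and reflection `τ`, all involutions fused. -/
structure DihHyp (P : Sylow 2 G) (a : ℕ) (σ τ : G) : Prop where
  mem_rot : σ ∈ (P : Subgroup G)
  mem_refl : τ ∈ (P : Subgroup G)
  order_rot : orderOf σ = 2 ^ (a + 2)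
  order_refl : orderOf τ = 2
  rel : τ * σ * τ⁻¹ = σ⁻¹
  gen : Subgroup.closure ({σ, τ} : Set G) = (P : Subgroup G)
  fused : IsConj (σ ^ 2 ^ (a + 1)) τ ∧ IsConj (σ ^ 2 ^ (a + 1)) (σ * τ)

namespace DihHyp

variable {P : Sylow 2 G} {a : ℕ} {σ τ : G}

theorem refl_mul_self (h : DihHyp P a σ τ) : τ * τ = 1 := by
  rw [← sq, ← h.order_refl, pow_orderOf_eq_one]

theorem flip (h : DihHyp P a σ τ) (k : ℤ) : σ ^ k * τ = τ * σ ^ (-k) := by
  have hτi : τ⁻¹ = τ := inv_eq_of_mul_eq_one_right h.refl_mul_self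
  have e := conj_zpow (a := τ) (b := σ) (i := k)
  rw [h.rel, inv_zpow', hτi] at e
  rw [e, ← mul_assoc, ← mul_assoc, h.refl_mul_self, one_mul]

theorem cases_mem (h : DihHyp P a σ τ) {p : G} (hp : p ∈ (P : Subgroup G)) :
    ∃ k : ℤ, p = σ ^ k ∨ p = τ * σ ^ k := by
  have hτi : τ⁻¹ = τ := inv_eq_of_mul_eq_one_right h.refl_mul_self
  rw [← h.gen] at hp
  induction hp using Subgroup.closure_induction with
  | mem x hx =>
    rcases hx with rfl | rfl
    · exact ⟨1, Or.inl (zpow_one _).symm⟩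
    · exact ⟨0, Or.inr (by rw [zpow_zero, mul_one])⟩
  | one => exact ⟨0, Or.inl (zpow_zero _).symm⟩
  | mul x y _ _ hx hy =>
    obtain ⟨i, rfl | rfl⟩ := hx <;> obtain ⟨j, rfl | rfl⟩ := hy
    · exact ⟨i + j, Or.inl (zpow_add _ _ _).symm⟩
    · exact ⟨-i + j, Or.inr (by rw [← mul_assoc, h.flip, mul_assoc, ← zpow_add])⟩
    · exact ⟨i + j, Or.inr (by rw [mul_assoc, ← zpow_add])⟩
    · exact ⟨-i + j, Or.inl (by rw [mul_assoc, ← mul_assoc (σ ^ i), h.flip, mul_assoc τ, ← zpow_add,
        ← mul_assoc, h.refl_mul_self, one_mul])⟩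
  | inv x _ hx =>
    obtain ⟨i, rfl | rfl⟩ := hx
    · exact ⟨-i, Or.inl (zpow_neg _ _).symm⟩
    · exact ⟨i, Or.inr (by rw [mul_inv_rev, hτi, ← zpow_neg, h.flip, neg_neg])⟩

variable [Finite G]

theorem refl_notMem (h : DihHyp P a σ τ) : τ ∉ zpowers σ := by
  intro hm
  obtain ⟨k, hk⟩ := mem_zpowers_iff.mp hm
  have hc : Commute τ σ := hk ▸ (Commute.refl σ).zpow_left k
  have e := h.rel
  rw [hc.eq, mul_inv_cancel_right, ← mul_eq_one_iff_eq_inv, ← pow_two, ← orderOf_dvd_iff_pow_eq_one,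
    h.order_rot] at e
  have := Nat.le_of_dvd two_pos e
  have h4 : 2 ^ 2 ≤ 2 ^ (a + 2) := Nat.pow_le_pow_right two_pos (by omega)
  omega

theorem data (h : DihHyp P a σ τ) : DihedralData P a σ := by
  refine ⟨?_, h.mem_rot, h.order_rot⟩
  have : NeZero (2 ^ (a + 2)) := ⟨by positivity⟩
  refine Orth.equiv_dihedral (zpowers (⟨σ, h.mem_rot⟩ : P))
    (by rw [Nat.card_zpowers, Subgroup.orderOf_mk, h.order_rot]) ⟨τ, h.mem_refl⟩
    (Subtype.ext h.refl_mul_self) ?_ ?_ ?_
  · intro hm
    obtain ⟨k, hk⟩ := mem_zpowers_iff.mp hm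
    exact h.refl_notMem (mem_zpowers_iff.mpr ⟨k, congrArg Subtype.val hk⟩)
  · rintro ⟨c, hcP⟩ hc
    obtain ⟨k, hk⟩ := mem_zpowers_iff.mp hc
    have hk' : σ ^ k = c := congrArg Subtype.val hk
    subst hk'
    refine Subtype.ext ?_
    show τ * σ ^ k * τ = (σ ^ k)⁻¹
    rw [mul_assoc, h.flip, ← mul_assoc, h.refl_mul_self, one_mul, zpow_neg]
  · rintro ⟨g, hg⟩
    obtain ⟨k, rfl | rfl⟩ := h.cases_mem hg
    · exact Or.inl ⟨k, Subtype.ext rfl⟩
    · refine Or.inr ⟨k, Subtype.ext ?_⟩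
      show σ ^ k = τ * (τ * σ ^ k)
      rw [← mul_assoc, h.refl_mul_self, one_mul]

end DihHyp

/-- A retraction of `C(t)` onto `P` with kernel of odd order. -/
structure Retr (P : Sylow 2 G) (t : G) (π : centralizer ({t} : Set G) →* (P : Subgroup G)) : Prop where
  le : (P : Subgroup G) ≤ centralizer ({t} : Set G)
  apply_mem : ∀ p : centralizer ({t} : Set G), ∀ hp : (p : G) ∈ (P : Subgroup G), π p = ⟨p, hp⟩
  odd_of_ker : ∀ g : centralizer ({t} : Set G), π g = 1 → Odd (orderOf g)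

variable [Finite G] {P : Sylow 2 G} {a : ℕ} {σ τ : G}

theorem exists_retraction (h : DihHyp P a σ τ) :
    ∃ π : centralizer ({midRot a σ} : Set G) →* (P : Subgroup G), Retr P (midRot a σ) π := by
  have := Fact.mk Nat.prime_two
  set C := centralizer ({midRot a σ} : Set G)
  have hPC : (P : Subgroup G) ≤ C := fun g hg =>
    SecondMain.commute_iff_mem_centralizer_singleton.mpr (h.data.commute_midRot hg)
  have hcompl : HasNormalPComplement 2 C := h.data.complement_mid.1
  let Q : Sylow 2 C := P.subtype hPC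
  have hK := (Transfer.isComplement'_pResidual_iff Q).mpr
    (Transfer.hasNormalPComplement_iff_coprime.mp hcompl)
  let e := Subgroup.IsComplement'.QuotientMulEquiv hK.symm
  let f : (Q : Subgroup C) →* (P : Subgroup G) := (Subgroup.subgroupOfEquivOfLe hPC).toMonoidHom
  have hf : Function.Injective f := (Subgroup.subgroupOfEquivOfLe hPC).injective
  refine ⟨(f.comp e.toMonoidHom).comp (QuotientGroup.mk' _), hPC, fun p hp => ?_, fun g hg => ?_⟩
  · have he : e (QuotientGroup.mk' _ p) = ⟨p, hp⟩ := (e.eq_symm_apply).mp rfl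
    simp only [MonoidHom.coe_comp, MulEquiv.coe_toMonoidHom, Function.comp_apply, he]
    rfl
  · simp only [MonoidHom.coe_comp, MulEquiv.coe_toMonoidHom, Function.comp_apply, map_eq_one_iff f hf,
      map_eq_one_iff _ (MulEquiv.injective _), QuotientGroup.mk'_apply, QuotientGroup.eq_one_iff] at hg
    rw [Transfer.mem_pResidual_iff hcompl, Nat.coprime_comm, Nat.prime_two.coprime_iff_not_dvd] at hg
    rwa [← Nat.not_even_iff_odd, even_iff_two_dvd]

section Retr

variable {π : centralizer ({midRot a σ} : Set G) →* (P : Subgroup G)}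

theorem Retr.surjective (hπ : Retr P (midRot a σ) π) : Function.Surjective π := fun p =>
  ⟨⟨p, hπ.le p.2⟩, (hπ.apply_mem _ p.2).trans (Subtype.ext rfl)⟩

theorem Retr.odd_ker (hπ : Retr P (midRot a σ) π) : Odd (Nat.card π.ker) := by
  rw [← Nat.not_even_iff_odd, even_iff_two_dvd]
  intro h2
  have := Fact.mk Nat.prime_two
  obtain ⟨g, hg⟩ := exists_prime_orderOf_dvd_card' 2 h2
  have := hπ.odd_of_ker g g.2
  rw [Subgroup.orderOf_coe, hg] at this
  exact absurd this (by decide)

theorem Retr.card_eq (hπ : Retr P (midRot a σ) π) :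
    Nat.card (centralizer ({midRot a σ} : Set G)) = Nat.card π.ker * Nat.card (P : Subgroup G) := by
  rw [Subgroup.card_eq_card_quotient_mul_card_subgroup π.ker,
    Nat.card_congr (QuotientGroup.quotientKerEquivOfSurjective π hπ.surjective).toEquiv, mul_comm]

/-- An element of `C(t)` over a non-trivial rotation has `t` among its powers. -/
theorem Retr.mem_zpowers_of_rot (hπ : Retr P (midRot a σ) π) (h : DihHyp P a σ τ)
    {c : centralizer ({midRot a σ} : Set G)} (hc : (π c : G) ∈ zpowers σ) (hc1 : π c ≠ 1) :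
    midRot a σ ∈ zpowers (c : G) := by
  have hne : ¬ Odd (orderOf c) := by
    intro hodd
    refine hc1 ?_
    have h1 : orderOf (π c) ∣ orderOf c := orderOf_map_dvd π c
    obtain ⟨k, hk⟩ := IsPGroup.iff_orderOf.mp P.2 (π c)
    rcases Nat.eq_zero_or_pos k with rfl | hk0
    · rwa [pow_zero, orderOf_eq_one_iff] at hk
    · exact absurd (hodd.of_dvd_nat h1) (by
        rw [hk, Nat.not_odd_iff_even, Nat.even_pow]; exact ⟨even_two, hk0.ne'⟩)
  rw [Nat.not_odd_iff_even, even_iff_two_dvd] at hne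
  set z := c ^ (orderOf c / 2)
  have hz : orderOf z = 2 := orderOf_pow_orderOf_div (orderOf_pos c).ne' hne
  have hzz : z * z = 1 := by rw [← sq, ← hz, pow_orderOf_eq_one]
  have hz1 : π z ≠ 1 := fun e => absurd (hπ.odd_of_ker z e) (by rw [hz]; decide)
  have hzR : (π z : G) ∈ zpowers σ := by
    rw [map_pow, Subgroup.coe_pow]; exact pow_mem hc _
  have hzJ : (π z : G) = midRot a σ := (h.data.eq_one_or_mid hzR
    (by rw [← Subgroup.coe_mul, ← map_mul, hzz, map_one]; rfl)).resolve_left fun e => hz1 (Subtype.ext e)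
  let j : centralizer ({midRot a σ} : Set G) := ⟨midRot a σ, hπ.le (h.data.zpowers_le h.data.midRot_mem)⟩
  have hJJ : midRot a σ * midRot a σ = 1 := by rw [← sq, ← h.data.orderOf_midRot, pow_orderOf_eq_one]
  have hjj : j * j = 1 := Subtype.ext hJJ
  have hker : π (j * z) = 1 := by
    rw [map_mul, hπ.apply_mem j (h.data.zpowers_le h.data.midRot_mem)]
    exact Subtype.ext (by show midRot a σ * (π z : G) = 1; rw [hzJ, hJJ])
  have hjc : Commute j z := Subtype.ext (mem_centralizer_singleton_iff.mp z.2).symm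
  have hjz : j * z = 1 := by
    by_contra hne'
    have : orderOf (j * z) = 2 := orderOf_eq_prime (by rw [hjc.mul_pow, sq, sq, hjj, hzz, one_mul]) hne'
    exact absurd (hπ.odd_of_ker _ hker) (by rw [this]; decide)
  have e : (z : G) = midRot a σ := by
    rw [eq_inv_of_mul_eq_one_right hjz, Subgroup.coe_inv]
    exact inv_eq_of_mul_eq_one_right hJJ
  have hm : (z : G) ∈ zpowers (c : G) := by rw [Subgroup.coe_pow]; exact pow_mem (mem_zpowers _) _
  exact Eq.mp (congrArg (fun x => x ∈ zpowers (c : G)) e) hm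

/-- Conjugation between elements over non-trivial rotations happens in `C(t)`. -/
theorem Retr.mem_centralizer_of_conj (hπ : Retr P (midRot a σ) π) (h : DihHyp P a σ τ)
    {c d : centralizer ({midRot a σ} : Set G)} (hc : (π c : G) ∈ zpowers σ) (hc1 : π c ≠ 1)
    (hd : (π d : G) ∈ zpowers σ) (hd1 : π d ≠ 1) {g : G} (hg : g * c * g⁻¹ = d) :
    g ∈ centralizer ({midRot a σ} : Set G) := by
  obtain ⟨k, hk⟩ := mem_zpowers_iff.mp (hπ.mem_zpowers_of_rot h hc hc1)
  have h1 : g * (c : G) ^ k * g⁻¹ ∈ zpowers (d : G) := by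
    rw [← conj_zpow, hg]; exact zpow_mem (mem_zpowers _) k
  have h2 : g * midRot a σ * g⁻¹ ∈ zpowers (d : G) :=
    Eq.mp (congrArg (fun x => g * x * g⁻¹ ∈ zpowers (d : G)) hk) h1
  have h3 := S4482.eq_of_mem_zpowers h2 (hπ.mem_zpowers_of_rot h hd hd1)
    (by rw [SecondMain.orderOf_conj, h.data.orderOf_midRot]) h.data.orderOf_midRot
  exact mem_centralizer_singleton_iff.mpr (mul_inv_eq_iff_eq_mul.mp h3)

/-- The involutions of `C(t)`: `t` itself, or over a reflection. -/
theorem Retr.involution_trichotomy (hπ : Retr P (midRot a σ) π) (h : DihHyp P a σ τ)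
    {g : centralizer ({midRot a σ} : Set G)} (hg : g * g = 1) :
    g = 1 ∨ (g : G) = midRot a σ ∨ (π g : G) ∉ zpowers σ := by
  by_cases h1 : g = 1
  · exact Or.inl h1
  by_cases hR : (π g : G) ∈ zpowers σ
  swap
  · exact Or.inr (Or.inr hR)
  refine Or.inr (Or.inl ?_)
  have h2 : orderOf g = 2 := orderOf_eq_prime (by rw [sq]; exact hg) h1
  have hπ1 : π g ≠ 1 := fun e => absurd (hπ.odd_of_ker g e) (by rw [h2]; decide)
  exact (S4482.eq_of_mem_zpowers (hπ.mem_zpowers_of_rot h hR hπ1) (mem_zpowers _)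
    h.data.orderOf_midRot (by rw [Subgroup.orderOf_coe, h2])).symm

/-- A 2-element of `C(t)` is conjugate in `C(t)` into `P`. -/
theorem Retr.exists_conj_mem_P (hπ : Retr P (midRot a σ) π) {g : centralizer ({midRot a σ} : Set G)}
    {k : ℕ} (hg : orderOf g = 2 ^ k) :
    ∃ c : centralizer ({midRot a σ} : Set G), ((c * g * c⁻¹ : centralizer ({midRot a σ} : Set G)) : G)
      ∈ (P : Subgroup G) := by
  have := Fact.mk Nat.prime_two
  obtain ⟨S, hS⟩ := (IsPGroup.of_card (n := k) (p := 2) (G := zpowers g)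
    (by rw [Nat.card_zpowers, hg])).exists_le_sylow
  obtain ⟨c, rfl⟩ := MulAction.exists_smul_eq (centralizer ({midRot a σ} : Set G)) (P.subtype hπ.le) S
  refine ⟨c⁻¹, ?_⟩
  have := hS (mem_zpowers g)
  rwa [Sylow.coe_subgroup_smul, mem_pointwise_smul_iff_inv_smul_mem, ← map_inv,
    MulAut.smul_def, MulAut.conj_apply] at this

end Retr

end Cfsg.Agent.GWDihedral
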